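import Mathlib
import Cfsg.Prelude.Def_Classical

set_option autoImplicit false

namespace Cfsg.Agent.Lib.Helper39.Laws

open Function

/-- `w` is a law modulo the centre. -/
def CLaw (w : FreeGroup ℕ) (G : Type*) [Group G] : Prop :=
  ∀ f : ℕ → G, FreeGroup.lift f w ∈ Subgroup.center G

theorem lift_map {G H : Type*} [Group G] [Group H] (φ : G →* H) (f : ℕ → G) (w : FreeGroup ℕ) :
    FreeGroup.lift (fun i => φ (f i)) w = φ (FreeGroup.lift f w) := by
  have h1 : (FreeGroup.lift (fun i => φ (f i))) = φ.comp (FreeGroup.lift f) := by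
    ext i
    simp
  rw [h1]
  rfl

theorem CLaw.of_injective {w : FreeGroup ℕ} {G H : Type*} [Group G] [Group H] (φ : H →* G)
    (hφ : Injective φ) (h : CLaw w G) : CLaw w H := by
  intro f
  rw [Subgroup.mem_center_iff]
  intro x
  apply hφ
  have h1 := h (fun i => φ (f i))
  rw [lift_map, Subgroup.mem_center_iff] at h1
  rw [map_mul, map_mul]
  exact h1 (φ x)

theorem claw_of_law_quot {w : FreeGroup ℕ} {G H : Type*} [Group G] [Group H]
    (e : G ≃* H ⧸ Subgroup.center H) (h : ∀ f : ℕ → G, FreeGroup.lift f w = 1) : CLaw w H := by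
  intro f
  have h1 := h (fun i => e.symm (QuotientGroup.mk' _ (f i)))
  have h2 : FreeGroup.lift (fun i => e.symm (QuotientGroup.mk' _ (f i))) w =
      (e.symm.toMonoidHom.comp (QuotientGroup.mk' (Subgroup.center H))) (FreeGroup.lift f w) :=
    lift_map (e.symm.toMonoidHom.comp (QuotientGroup.mk' (Subgroup.center H))) f w
  rw [h2] at h1
  simp only [MonoidHom.coe_comp, MulEquiv.coe_toMonoidHom, comp_apply,
    EmbeddingLike.map_eq_one_iff] at h1
  exact (QuotientGroup.eq_one_iff _).mp h1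

theorem law_quot_of_claw {w : FreeGroup ℕ} {H : Type*} [Group H] (h : CLaw w H)
    (f : ℕ → H ⧸ Subgroup.center H) : FreeGroup.lift f w = 1 := by
  have hs : Surjective (QuotientGroup.mk' (Subgroup.center H)) := QuotientGroup.mk'_surjective _
  choose g hg using fun i => hs (f i)
  have : f = fun i => QuotientGroup.mk' (Subgroup.center H) (g i) := funext fun i => (hg i).symm
  rw [this, lift_map]
  exact (QuotientGroup.eq_one_iff _).mpr (h g)

theorem law_of_claw {w : FreeGroup ℕ} {H : Type*} [Group H] (h : CLaw w H)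
    (hc : Subgroup.center H = ⊥) (f : ℕ → H) : FreeGroup.lift f w = 1 := by
  have := h f
  rw [hc, Subgroup.mem_bot] at this
  exact this

theorem law_of_equiv {w : FreeGroup ℕ} {G H : Type*} [Group G] [Group H] (e : G ≃* H)
    (h : ∀ f : ℕ → G, FreeGroup.lift f w = 1) (f : ℕ → H) : FreeGroup.lift f w = 1 := by
  have h1 := h (fun i => e.symm (f i))
  have h2 := lift_map e.symm.toMonoidHom f w
  simp only [MulEquiv.coe_toMonoidHom] at h2
  rw [h2] at h1
  simpa using h1

open Function Matrix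

variable {F : Type*} [CommRing F]

/-- `A ↦ [A 0; 0 1]`. -/
def blockL (α β : Type*) [Fintype α] [DecidableEq α] [Fintype β] [DecidableEq β] :
    Matrix α α F →* Matrix (α ⊕ β) (α ⊕ β) F where
  toFun A := Matrix.fromBlocks A 0 0 1
  map_one' := Matrix.fromBlocks_one
  map_mul' A B := by simp [Matrix.fromBlocks_multiply]

theorem blockL_injective (α β : Type*) [Fintype α] [DecidableEq α] [Fintype β] [DecidableEq β] :
    Injective (blockL (F := F) α β) := by
  intro A B h
  have := congrArg Matrix.toBlocks₁₁ h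
  simpa [blockL] using this

theorem blockL_mulVec {α β : Type*} [Fintype α] [DecidableEq α] [Fintype β] [DecidableEq β]
    (A : Matrix α α F) (v : α ⊕ β → F) :
    blockL α β A *ᵥ v = Sum.elim (A *ᵥ (v ∘ Sum.inl)) (v ∘ Sum.inr) := by
  simp [blockL, Matrix.fromBlocks_mulVec]

/-- `A ↦ [1 0; 0 A]`. -/
def blockR (α β : Type*) [Fintype α] [DecidableEq α] [Fintype β] [DecidableEq β] :
    Matrix α α F →* Matrix (β ⊕ α) (β ⊕ α) F where
  toFun A := Matrix.fromBlocks 1 0 0 A
  map_one' := Matrix.fromBlocks_one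
  map_mul' A B := by simp [Matrix.fromBlocks_multiply]

theorem blockR_injective (α β : Type*) [Fintype α] [DecidableEq α] [Fintype β] [DecidableEq β] :
    Injective (blockR (F := F) α β) := by
  intro A B h
  have := congrArg Matrix.toBlocks₂₂ h
  simpa [blockR] using this

theorem blockR_mulVec {α β : Type*} [Fintype α] [DecidableEq α] [Fintype β] [DecidableEq β]
    (A : Matrix α α F) (v : β ⊕ α → F) :
    blockR α β A *ᵥ v = Sum.elim (v ∘ Sum.inl) (A *ᵥ (v ∘ Sum.inr)) := by
  simp [blockR, Matrix.fromBlocks_mulVec]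

theorem inv_mul_coe {n : Type*} [Fintype n] [DecidableEq n] (A : SpecialLinearGroup n F) :
    ((A⁻¹ : SpecialLinearGroup n F) : Matrix n n F) * (A : Matrix n n F) = 1 := by
  rw [← Matrix.SpecialLinearGroup.coe_mul, inv_mul_cancel, Matrix.SpecialLinearGroup.coe_one]

/-- block embedding `SL_k → SL_{k+r}`. -/
def blockSL (k r : ℕ) : SpecialLinearGroup (Fin k) F →* SpecialLinearGroup (Fin (k + r)) F where
  toFun A := ⟨(blockL (Fin k) (Fin r) (A : Matrix (Fin k) (Fin k) F)).submatrix
      finSumFinEquiv.symm finSumFinEquiv.symm, by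
    rw [Matrix.det_submatrix_equiv_self]
    simp [blockL]⟩
  map_one' := by
    apply Subtype.ext
    simp
  map_mul' A B := by
    apply Subtype.ext
    show _ = Matrix.submatrix _ _ _ * Matrix.submatrix _ _ _
    rw [Matrix.submatrix_mul_equiv, ← map_mul]
    rfl

theorem blockSL_coe (k r : ℕ) (A : SpecialLinearGroup (Fin k) F) :
    (blockSL k r A : Matrix (Fin (k + r)) (Fin (k + r)) F) =
      (blockL (Fin k) (Fin r) (A : Matrix (Fin k) (Fin k) F)).submatrix
        finSumFinEquiv.symm finSumFinEquiv.symm := rfl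

theorem blockSL_injective (k r : ℕ) : Injective (blockSL (F := F) k r) := by
  intro A B h
  have h1 := congrArg (fun M : SpecialLinearGroup (Fin (k + r)) F =>
    (M : Matrix (Fin (k + r)) (Fin (k + r)) F)) h
  simp only [blockSL_coe] at h1
  have h2 : blockL (F := F) (Fin k) (Fin r) (A : Matrix (Fin k) (Fin k) F) =
      blockL (Fin k) (Fin r) (B : Matrix (Fin k) (Fin k) F) := by
    ext i j
    have := congrFun (congrFun h1 (finSumFinEquiv i)) (finSumFinEquiv j)
    simpa using this
  exact Subtype.ext (blockL_injective _ _ h2)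

theorem blockSL_mulVec (k r : ℕ) (A : SpecialLinearGroup (Fin k) F) (v : Fin (k + r) → F) :
    (blockSL k r A : Matrix (Fin (k + r)) (Fin (k + r)) F) *ᵥ v =
      (Sum.elim ((A : Matrix (Fin k) (Fin k) F) *ᵥ (v ∘ Fin.castAdd r)) (v ∘ Fin.natAdd k)) ∘
        finSumFinEquiv.symm := by
  rw [blockSL_coe, Matrix.submatrix_mulVec_equiv, blockL_mulVec]
  congr 1

/-- even permutation matrices. -/
def permSL (n : ℕ) : alternatingGroup (Fin n) →* SpecialLinearGroup (Fin n) F where
  toFun σ := ⟨((σ : Equiv.Perm (Fin n))⁻¹).permMatrix F, by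
    have h := σ.2
    rw [Equiv.Perm.mem_alternatingGroup] at h
    rw [Matrix.det_permutation, map_inv, h]
    simp⟩
  map_one' := by
    apply Subtype.ext
    simp
  map_mul' A B := by
    apply Subtype.ext
    show _ = Equiv.Perm.permMatrix F _ * Equiv.Perm.permMatrix F _
    rw [← Matrix.permMatrix_mul]
    simp

theorem permSL_coe (n : ℕ) (σ : alternatingGroup (Fin n)) :
    (permSL (F := F) n σ : Matrix (Fin n) (Fin n) F) =
      ((σ : Equiv.Perm (Fin n))⁻¹).permMatrix F := rfl

theorem permSL_injective [Nontrivial F] (n : ℕ) : Injective (permSL (F := F) n) := by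
  intro σ τ h
  have h1 := congrArg (fun M : SpecialLinearGroup (Fin n) F => (M : Matrix (Fin n) (Fin n) F)) h
  simp only [permSL_coe] at h1
  have h2 := PEquiv.toMatrix_injective h1
  have h3 : (σ : Equiv.Perm (Fin n))⁻¹ = (τ : Equiv.Perm (Fin n))⁻¹ := by
    ext x
    have := congrArg (fun p : Fin n ≃. Fin n => p x) h2
    simp only [Equiv.toPEquiv_apply, Option.some.injEq] at this
    rw [this]
  apply Subtype.ext
  exact inv_injective h3

theorem permSL_mulVec (n : ℕ) (σ : alternatingGroup (Fin n)) (v : Fin n → F) :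
    (permSL (F := F) n σ : Matrix (Fin n) (Fin n) F) *ᵥ v = v ∘ ⇑((σ : Equiv.Perm (Fin n))⁻¹) := by
  rw [permSL_coe, Matrix.permMatrix_mulVec]

/-- `A ↦ [A 0; 0 A⁻ᵀ]`. -/
def hyp (m : ℕ) : SpecialLinearGroup (Fin m) F →* Matrix (Fin m ⊕ Fin m) (Fin m ⊕ Fin m) F where
  toFun A := Matrix.fromBlocks (A : Matrix (Fin m) (Fin m) F) 0 0
    ((A⁻¹ : SpecialLinearGroup (Fin m) F) : Matrix (Fin m) (Fin m) F)ᵀ
  map_one' := by simp [Matrix.fromBlocks_one]
  map_mul' A B := by
    simp [Matrix.fromBlocks_multiply, Matrix.transpose_mul]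

theorem hyp_apply (m : ℕ) (A : SpecialLinearGroup (Fin m) F) :
    hyp m A = Matrix.fromBlocks (A : Matrix (Fin m) (Fin m) F) 0 0
    ((A⁻¹ : SpecialLinearGroup (Fin m) F) : Matrix (Fin m) (Fin m) F)ᵀ := rfl

theorem hyp_injective (m : ℕ) : Injective (hyp (F := F) m) := by
  intro A B h
  have := congrArg Matrix.toBlocks₁₁ h
  simp only [hyp_apply, Matrix.toBlocks_fromBlocks₁₁] at this
  exact Subtype.ext this

theorem hyp_mulVec (m : ℕ) (A : SpecialLinearGroup (Fin m) F) (v : Fin m ⊕ Fin m → F) :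
    hyp m A *ᵥ v = Sum.elim ((A : Matrix (Fin m) (Fin m) F) *ᵥ (v ∘ Sum.inl))
      (((A⁻¹ : SpecialLinearGroup (Fin m) F) : Matrix (Fin m) (Fin m) F)ᵀ *ᵥ (v ∘ Sum.inr)) := by
  simp [hyp_apply, Matrix.fromBlocks_mulVec]

theorem hyp_dot (m : ℕ) (A : SpecialLinearGroup (Fin m) F) (x y : Fin m → F) :
    ((A : Matrix (Fin m) (Fin m) F) *ᵥ x) ⬝ᵥ
      (((A⁻¹ : SpecialLinearGroup (Fin m) F) : Matrix (Fin m) (Fin m) F)ᵀ *ᵥ y) = x ⬝ᵥ y := by
  rw [Matrix.dotProduct_mulVec, Matrix.vecMul_transpose, Matrix.mulVec_mulVec, inv_mul_coe]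
  simp


end Cfsg.Agent.Lib.Helper39.Laws
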