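import Mathlib
import Cfsg.Prelude.Def_Classical
import Cfsg.Agent.Lib.Helper39.Laws
import Cfsg.Agent.Lib.Helper39.SLPerfect

set_option autoImplicit false

namespace Cfsg.Agent.Lib.Helper39.Laws

open Function Matrix

section bounds

variable {w : FreeGroup ℕ} {N₁ N₂ : ℕ}

theorem alt_bound
    (hN₁ : ∀ n : ℕ, N₁ ≤ n → ∃ f : ℕ → alternatingGroup (Fin n), FreeGroup.lift f w ≠ 1)
    {n : ℕ} (h : CLaw w (alternatingGroup (Fin n))) : n < max N₁ 5 := by
  by_contra hcon
  push Not at hcon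
  have h5 : 5 ≤ n := le_trans (le_max_right _ _) hcon
  have hN : N₁ ≤ n := le_trans (le_max_left _ _) hcon
  obtain ⟨f, hf⟩ := hN₁ n hN
  apply hf
  apply law_of_claw h
  apply alternatingGroup.center_eq_bot
  simp only [Nat.card_eq_fintype_card, Fintype.card_fin]
  omega

theorem sl2_bound
    (hN₂ : ∀ (F : Type) [Field F] [Fintype F], N₂ ≤ Fintype.card F →
      ∃ f : ℕ → Matrix.ProjectiveSpecialLinearGroup (Fin 2) F, FreeGroup.lift f w ≠ 1)
    {F : Type} [Field F] [Fintype F] (h : CLaw w (SpecialLinearGroup (Fin 2) F)) :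
    Fintype.card F < N₂ := by
  by_contra hcon
  push Not at hcon
  obtain ⟨f, hf⟩ := hN₂ F hcon
  exact hf (law_quot_of_claw h f)

theorem sl_bound
    (hN₁ : ∀ n : ℕ, N₁ ≤ n → ∃ f : ℕ → alternatingGroup (Fin n), FreeGroup.lift f w ≠ 1)
    (hN₂ : ∀ (F : Type) [Field F] [Fintype F], N₂ ≤ Fintype.card F →
      ∃ f : ℕ → Matrix.ProjectiveSpecialLinearGroup (Fin 2) F, FreeGroup.lift f w ≠ 1)
    {F : Type} [Field F] [Fintype F] {k : ℕ} (hk : 2 ≤ k)
    (h : CLaw w (SpecialLinearGroup (Fin k) F)) :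
    k < max N₁ 5 ∧ Fintype.card F < N₂ := by
  constructor
  · exact alt_bound hN₁ (h.of_injective (permSL k) (permSL_injective k))
  · obtain ⟨r, rfl⟩ := Nat.exists_eq_add_of_le hk
    exact sl2_bound hN₂ (h.of_injective (blockSL 2 r) (blockSL_injective 2 r))

end bounds

theorem card_le_of_quot {H : Type*} [Group H] {ι F : Type*} [Fintype ι] [DecidableEq ι] [Fintype F]
    (j : H → Matrix ι ι F) (hj : Injective j) {G : Type*} [Group G]
    (e : G ≃* H ⧸ Subgroup.center H) :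
    Nat.card G ≤ Fintype.card F ^ (Fintype.card ι * Fintype.card ι) := by
  classical
  have : Finite H := Finite.of_injective j hj
  calc Nat.card G = Nat.card (H ⧸ Subgroup.center H) := Nat.card_congr e.toEquiv
    _ ≤ Nat.card H := Nat.card_le_card_of_surjective _ (QuotientGroup.mk'_surjective _)
    _ ≤ Nat.card (Matrix ι ι F) := Nat.card_le_card_of_injective j hj
    _ = Fintype.card F ^ (Fintype.card ι * Fintype.card ι) := by
      show Nat.card (ι → ι → F) = _
      rw [Nat.card_fun, Nat.card_fun, ← pow_mul, Nat.card_eq_fintype_card, Nat.card_eq_fintype_card]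

theorem pow_bound {a d B D : ℕ} (ha : a ≤ B) (hd : d ≤ D) (hB : 1 ≤ B) : a ^ (d * d) ≤ B ^ (D * D) :=
  (Nat.pow_le_pow_left ha _).trans (Nat.pow_le_pow_right hB (Nat.mul_le_mul hd hd))

theorem herm_field_facts {F : Type*} [Field F] [Fintype F] {q : ℕ}
    (hq : Fintype.card F = q ^ 2) :
    ∃ σ : F →+* F, (∀ x, σ x = x ^ q) ∧ (∀ x, σ (σ x) = x) ∧ (∃ β, β * σ β = -1) ∧
      (∃ x, σ x ≠ x) ∧ q ≤ Nat.card (σ.eqLocusField (RingHom.id F)) := by
  classical
  have hq2 : 2 ≤ q := by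
    have h1 : 1 < Fintype.card F := Fintype.one_lt_card
    rw [hq] at h1
    by_contra hcon
    have : q ≤ 1 := by omega
    have : q ^ 2 ≤ 1 ^ 2 := Nat.pow_le_pow_left this 2
    omega
  obtain ⟨p, hp, n, hpp, hn⟩ := FiniteField.card' F
  have : Fact p.Prime := ⟨hpp⟩
  obtain ⟨j, hj⟩ : ∃ j, q = p ^ j := by
    have hdvd : q ∣ p ^ (n : ℕ) := by
      rw [← hn, hq]
      exact Dvd.intro_left (q ^ 1) (by ring)
    obtain ⟨j, _, hj⟩ := (Nat.dvd_prime_pow hpp).1 hdvd
    exact ⟨j, hj⟩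
  let σ : F →+* F := iterateFrobenius F p j
  have hσ : ∀ x, σ x = x ^ q := fun x => by
    rw [hj]
    exact iterateFrobenius_def p j x
  have hσσ : ∀ x, σ (σ x) = x := fun x => by
    rw [hσ, hσ, ← pow_mul, ← sq, ← hq, FiniteField.pow_card]
  -- the counting argument
  set S : Finset F := Finset.univ.filter (fun x => σ x = x) with hS
  set Im : Finset F := Finset.univ.image (fun x => x * σ x) with hIm
  have hImS : Im ⊆ S := by
    intro y hy
    rw [hIm, Finset.mem_image] at hy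
    obtain ⟨x, _, rfl⟩ := hy
    rw [hS, Finset.mem_filter]
    refine ⟨Finset.mem_univ _, ?_⟩
    rw [map_mul, hσσ, mul_comm]
  have hScard : S.card ≤ q := by
    have hne : (Polynomial.X ^ q - Polynomial.X : Polynomial F) ≠ 0 := FiniteField.X_pow_card_sub_X_ne_zero F (by omega)
    have := Polynomial.card_le_degree_of_subset_roots (p := (Polynomial.X ^ q - Polynomial.X : Polynomial F)) (Z := S) (by
      intro x hx
      rw [Finset.mem_val, hS, Finset.mem_filter] at hx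
      rw [Polynomial.mem_roots hne]
      simp [← hσ, hx.2])
    rwa [FiniteField.X_pow_card_sub_X_natDegree_eq F (by omega)] at this
  have hfib : ∀ b ∈ (Finset.univ : Finset F).image (fun x => x * σ x),
      ((Finset.univ : Finset F).filter (fun a => a * σ a = b)).card ≤ q + 1 := by
    intro b _
    have hsub : (Finset.univ : Finset F).filter (fun a => a * σ a = b) ⊆
        (Polynomial.nthRoots (q + 1) b).toFinset := by
      intro a ha
      rw [Finset.mem_filter] at ha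
      rw [Multiset.mem_toFinset, Polynomial.mem_nthRoots (by omega)]
      rw [pow_succ', ← hσ]
      exact ha.2
    exact (Finset.card_le_card hsub).trans
      ((Multiset.toFinset_card_le _).trans (Polynomial.card_nthRoots _ _))
  have hcount := Finset.card_le_mul_card_image (f := fun x => x * σ x) (Finset.univ : Finset F)
    (q + 1) hfib
  rw [Finset.card_univ, hq, ← hIm] at hcount
  have hImle : Im.card ≤ S.card := Finset.card_le_card hImS
  have hImq : q ≤ Im.card := by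
    by_contra hcon
    have h1 : Im.card ≤ q - 1 := by omega
    have h2 : (q + 1) * Im.card ≤ (q + 1) * (q - 1) := Nat.mul_le_mul_left _ h1
    have h3 : (q + 1) * (q - 1) < q ^ 2 := by
      obtain ⟨t, rfl⟩ : ∃ t, q = t + 1 := ⟨q - 1, by omega⟩
      simp only [Nat.add_sub_cancel]
      ring_nf
      omega
    omega
  have hImeq : Im = S := Finset.eq_of_subset_of_card_le hImS (by omega)
  have hSq : S.card = q := by omega
  refine ⟨σ, hσ, hσσ, ?_, ?_, ?_⟩
  · have hm1 : (-1 : F) ∈ S := by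
      rw [hS, Finset.mem_filter]
      exact ⟨Finset.mem_univ _, by simp⟩
    rw [← hImeq, hIm, Finset.mem_image] at hm1
    obtain ⟨β, _, hβ⟩ := hm1
    exact ⟨β, hβ⟩
  · by_contra hcon
    push Not at hcon
    have : S = Finset.univ := by
      rw [hS]
      exact Finset.filter_true_of_mem (fun x _ => hcon x)
    rw [this, Finset.card_univ, hq] at hSq
    have : q * 2 ≤ q * q := Nat.mul_le_mul_left _ hq2
    nlinarith
  · have : Nat.card (σ.eqLocusField (RingHom.id F)) = S.card := by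
      rw [Nat.card_eq_fintype_card]
      exact Fintype.card_of_subtype S (fun x => by
        rw [hS, Finset.mem_filter]
        simp [RingHom.mem_eqLocusField])
    omega

section SUpart

variable {w : FreeGroup ℕ} {F : Type*} [Field F]

theorem mem_SU_iff {n q : ℕ} (A : SpecialLinearGroup (Fin n) F) :
    A ∈ Cfsg.SU n F q ↔ ∀ u v : Fin n → F,
      Cfsg.hermForm n F q ((A : Matrix (Fin n) (Fin n) F) *ᵥ u)
        ((A : Matrix (Fin n) (Fin n) F) *ᵥ v) = Cfsg.hermForm n F q u v := Iff.rfl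

theorem permSL_mem_SU (n q : ℕ) (σ : alternatingGroup (Fin n)) :
    permSL (F := F) n σ ∈ Cfsg.SU n F q := by
  rw [mem_SU_iff]
  intro u v
  rw [permSL_mulVec, permSL_mulVec]
  unfold Cfsg.hermForm
  exact Equiv.sum_comp ((σ : Equiv.Perm (Fin n))⁻¹) (fun i => u i * v i ^ q)

theorem hermForm_add (k r q : ℕ) (u v : Fin (k + r) → F) :
    Cfsg.hermForm (k + r) F q u v = Cfsg.hermForm k F q (u ∘ Fin.castAdd r) (v ∘ Fin.castAdd r) +
      Cfsg.hermForm r F q (u ∘ Fin.natAdd k) (v ∘ Fin.natAdd k) := by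
  unfold Cfsg.hermForm
  rw [Fin.sum_univ_add]
  rfl

theorem blockSL_mem_SU (k r q : ℕ) (A : SpecialLinearGroup (Fin k) F) (hA : A ∈ Cfsg.SU k F q) :
    blockSL k r A ∈ Cfsg.SU (k + r) F q := by
  rw [mem_SU_iff] at hA ⊢
  intro u v
  have h1 : ∀ x : Fin (k + r) → F,
      ((blockSL k r A : Matrix (Fin (k + r)) (Fin (k + r)) F) *ᵥ x) ∘ Fin.castAdd r =
        (A : Matrix (Fin k) (Fin k) F) *ᵥ (x ∘ Fin.castAdd r) := by
    intro x
    rw [blockSL_mulVec]
    ext i
    simp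
  have h2 : ∀ x : Fin (k + r) → F,
      ((blockSL k r A : Matrix (Fin (k + r)) (Fin (k + r)) F) *ᵥ x) ∘ Fin.natAdd k =
        x ∘ Fin.natAdd k := by
    intro x
    rw [blockSL_mulVec]
    ext i
    simp
  rw [hermForm_add, hermForm_add k r q u v, h1, h1, h2, h2, hA]

/-- conjugation by a unit. -/
def conjSL {n : Type*} [Fintype n] [DecidableEq n] (g : (Matrix n n F)ˣ) :
    SpecialLinearGroup n F →* SpecialLinearGroup n F where
  toFun M := ⟨(g : Matrix n n F) * (M : Matrix n n F) * ((g⁻¹ : (Matrix n n F)ˣ) : Matrix n n F), by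
    rw [Matrix.det_units_conj]
    exact M.2⟩
  map_one' := by
    apply Subtype.ext
    simp
  map_mul' A B := by
    apply Subtype.ext
    show _ = ((g : Matrix n n F) * (A : Matrix n n F) * ((g⁻¹ : (Matrix n n F)ˣ) : Matrix n n F)) *
      ((g : Matrix n n F) * (B : Matrix n n F) * ((g⁻¹ : (Matrix n n F)ˣ) : Matrix n n F))
    have h1 : ((g⁻¹ : (Matrix n n F)ˣ) : Matrix n n F) * (g : Matrix n n F) = 1 := by
      rw [← Units.val_mul, inv_mul_cancel, Units.val_one]
    calc _ = (g : Matrix n n F) * ((A : Matrix n n F) * (B : Matrix n n F)) *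
          ((g⁻¹ : (Matrix n n F)ˣ) : Matrix n n F) := rfl
      _ = (g : Matrix n n F) * ((A : Matrix n n F) * (((g⁻¹ : (Matrix n n F)ˣ) : Matrix n n F) *
          (g : Matrix n n F)) * (B : Matrix n n F)) *
          ((g⁻¹ : (Matrix n n F)ˣ) : Matrix n n F) := by rw [h1, Matrix.mul_one]
      _ = _ := by simp only [Matrix.mul_assoc]

theorem conjSL_coe {n : Type*} [Fintype n] [DecidableEq n] (g : (Matrix n n F)ˣ)
    (M : SpecialLinearGroup n F) : (conjSL g M : Matrix n n F) =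
      (g : Matrix n n F) * (M : Matrix n n F) * ((g⁻¹ : (Matrix n n F)ˣ) : Matrix n n F) := rfl

theorem conjSL_injective {n : Type*} [Fintype n] [DecidableEq n] (g : (Matrix n n F)ˣ) :
    Injective (conjSL g) := by
  intro A B h
  have h1 := congrArg (fun M : SpecialLinearGroup n F => (M : Matrix n n F)) h
  simp only [conjSL_coe] at h1
  apply Subtype.ext
  have h2 := congrArg (fun X => ((g⁻¹ : (Matrix n n F)ˣ) : Matrix n n F) * X * (g : Matrix n n F)) h1
  simp only [Matrix.mul_assoc, Units.inv_mul, Matrix.mul_one] at h2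
  simp only [← Matrix.mul_assoc, Units.inv_mul, Matrix.one_mul] at h2
  exact h2

theorem herm_g {q : ℕ} (σ : F →+* F) (hσ : ∀ x, σ x = x ^ q) (hσσ : ∀ x, σ (σ x) = x)
    (β x : F) (hβ : β * σ β = -1) (g : Matrix (Fin 2) (Fin 2) F)
    (hg : g = !![1, x; β, β * σ x]) (a b : Fin 2 → F) :
    Cfsg.hermForm 2 F q (g *ᵥ a) (g *ᵥ b) = (σ x - x) * (a 0 * σ (b 1) - a 1 * σ (b 0)) := by
  subst hg
  unfold Cfsg.hermForm
  simp only [Fin.sum_univ_two, Matrix.mulVec, dotProduct, ← hσ, Matrix.of_apply, Matrix.cons_val',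
    Matrix.cons_val_zero, Matrix.cons_val_one, Matrix.cons_val_fin_one, map_add, map_mul, map_one, hσσ,
    one_mul]
  linear_combination (a 0 * σ (b 0) + a 0 * σ (b 1) * x + a 1 * σ (b 0) * σ x +
    a 1 * σ (b 1) * x * σ x) * hβ

theorem bform_inv (σ : F →+* F) (M : Matrix (Fin 2) (Fin 2) F) (hM : ∀ i j, σ (M i j) = M i j)
    (hdet : M.det = 1) (a b : Fin 2 → F) :
    ((M *ᵥ a) 0 * σ ((M *ᵥ b) 1) - (M *ᵥ a) 1 * σ ((M *ᵥ b) 0)) =
      (a 0 * σ (b 1) - a 1 * σ (b 0)) := by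
  rw [Matrix.det_fin_two] at hdet
  simp only [Fin.sum_univ_two, Matrix.mulVec, dotProduct, map_add, map_mul, hM]
  linear_combination (a 0 * σ (b 1) - a 1 * σ (b 0)) * hdet


theorem su_rank_bound {N₁ : ℕ}
    (hN₁ : ∀ n : ℕ, N₁ ≤ n → ∃ f : ℕ → alternatingGroup (Fin n), FreeGroup.lift f w ≠ 1)
    {n q : ℕ} (h : CLaw w (Cfsg.SU n F q)) : n < max N₁ 5 := by
  refine alt_bound hN₁ (h.of_injective ((permSL n).codRestrict (Cfsg.SU n F q)
    (permSL_mem_SU n q)) ?_)
  intro a b hab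
  apply permSL_injective (F := F) n
  exact congrArg Subtype.val hab

end SUpart

theorem su_field_bound {w : FreeGroup ℕ} {N₂ : ℕ}
    (hN₂ : ∀ (F : Type) [Field F] [Fintype F], N₂ ≤ Fintype.card F →
      ∃ f : ℕ → Matrix.ProjectiveSpecialLinearGroup (Fin 2) F, FreeGroup.lift f w ≠ 1)
    {F : Type} [Field F] [Fintype F] {n q : ℕ} (hq : Fintype.card F = q ^ 2) (hn : 2 ≤ n)
    (h : CLaw w (Cfsg.SU n F q)) : q < N₂ := by
  classical
  obtain ⟨σ, hσ, hσσ, ⟨β, hβ⟩, ⟨x, hx⟩, hcard⟩ := herm_field_facts hq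
  obtain ⟨r, rfl⟩ := Nat.exists_eq_add_of_le hn
  set F₀ : Subfield F := σ.eqLocusField (RingHom.id F) with hF₀
  let gM : Matrix (Fin 2) (Fin 2) F := !![1, x; β, β * σ x]
  have hβ0 : β ≠ 0 := by
    rintro rfl
    simp at hβ
  have hdet : gM.det ≠ 0 := by
    rw [Matrix.det_fin_two_of]
    have : (1 : F) * (β * σ x) - x * β = β * (σ x - x) := by ring
    rw [this]
    exact mul_ne_zero hβ0 (sub_ne_zero.mpr hx)
  let g : (Matrix (Fin 2) (Fin 2) F)ˣ := Matrix.GeneralLinearGroup.mkOfDetNeZero gM hdet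
  have hgcoe : (g : Matrix (Fin 2) (Fin 2) F) = gM := rfl
  let φ₀ : SpecialLinearGroup (Fin 2) F₀ →* SpecialLinearGroup (Fin 2) F :=
    (conjSL g).comp (SpecialLinearGroup.map F₀.subtype)
  have hφ₀inj : Injective φ₀ := by
    refine (conjSL_injective g).comp ?_
    intro A B hAB
    apply Matrix.SpecialLinearGroup.ext
    intro i j
    have := congrArg (fun M : SpecialLinearGroup (Fin 2) F => M i j) hAB
    simp only [Matrix.SpecialLinearGroup.map_apply_coe, RingHom.mapMatrix_apply,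
      Matrix.map_apply] at this
    exact Subtype.ext this
  have hφ₀mem : ∀ M₀, φ₀ M₀ ∈ Cfsg.SU 2 F q := by
    intro M₀
    rw [mem_SU_iff]
    intro u v
    set M : SpecialLinearGroup (Fin 2) F := SpecialLinearGroup.map F₀.subtype M₀ with hMdef
    have hM : ∀ i j, σ ((M : Matrix (Fin 2) (Fin 2) F) i j) = (M : Matrix (Fin 2) (Fin 2) F) i j := by
      intro i j
      have h1 : (M : Matrix (Fin 2) (Fin 2) F) i j = ((M₀ i j : F₀) : F) := by
        simp [hMdef]
      rw [h1]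
      exact (M₀ i j).2
    have hcoe : (φ₀ M₀ : Matrix (Fin 2) (Fin 2) F) = gM * (M : Matrix (Fin 2) (Fin 2) F) *
        ((g⁻¹ : (Matrix (Fin 2) (Fin 2) F)ˣ) : Matrix (Fin 2) (Fin 2) F) := rfl
    have hginv : gM * ((g⁻¹ : (Matrix (Fin 2) (Fin 2) F)ˣ) : Matrix (Fin 2) (Fin 2) F) = 1 := by
      rw [← hgcoe, ← Units.val_mul, mul_inv_cancel, Units.val_one]
    have key : ∀ y : Fin 2 → F, (φ₀ M₀ : Matrix (Fin 2) (Fin 2) F) *ᵥ y =
        gM *ᵥ ((M : Matrix (Fin 2) (Fin 2) F) *ᵥ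
          (((g⁻¹ : (Matrix (Fin 2) (Fin 2) F)ˣ) : Matrix (Fin 2) (Fin 2) F) *ᵥ y)) := by
      intro y
      rw [hcoe, Matrix.mulVec_mulVec, Matrix.mulVec_mulVec]
    have key2 : ∀ y : Fin 2 → F, y =
        gM *ᵥ (((g⁻¹ : (Matrix (Fin 2) (Fin 2) F)ˣ) : Matrix (Fin 2) (Fin 2) F) *ᵥ y) := by
      intro y
      rw [Matrix.mulVec_mulVec, hginv, Matrix.one_mulVec]
    rw [key, key, herm_g σ hσ hσσ β x hβ gM rfl, bform_inv σ _ hM M.2,
      ← herm_g σ hσ hσσ β x hβ gM rfl, ← key2, ← key2]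
  let φ : SpecialLinearGroup (Fin 2) F₀ →* Cfsg.SU (2 + r) F q :=
    ((blockSL 2 r).comp φ₀).codRestrict (Cfsg.SU (2 + r) F q)
      (fun M₀ => blockSL_mem_SU 2 r q _ (hφ₀mem M₀))
  have hφinj : Injective φ := by
    intro A B hAB
    apply hφ₀inj
    apply blockSL_injective 2 r
    exact congrArg Subtype.val hAB
  have hclaw : CLaw w (SpecialLinearGroup (Fin 2) F₀) := h.of_injective φ hφinj
  let _ : Fintype F₀ := Fintype.ofFinite _
  have hb := sl2_bound hN₂ (F := F₀) hclaw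
  rw [Nat.card_eq_fintype_card] at hcard
  omega


section families

variable {w : FreeGroup ℕ} {F : Type*} [Field F]

theorem hyp_mem_symplectic (m : ℕ) (A : SpecialLinearGroup (Fin m) F) :
    hyp m A ∈ Matrix.symplecticGroup (Fin m) F := by
  rw [hyp_apply, SymplecticGroup.fromBlocks_mem_iff]
  refine ⟨by simp, by simp, ?_⟩
  rw [← Matrix.transpose_mul, inv_mul_coe]
  simp

/-- `SL_m → Sp_{2m}`. -/
def hypSp (m : ℕ) : SpecialLinearGroup (Fin m) F →* Matrix.symplecticGroup (Fin m) F where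
  toFun A := ⟨hyp m A, hyp_mem_symplectic m A⟩
  map_one' := Subtype.ext (map_one _)
  map_mul' A B := Subtype.ext (map_mul _ _ _)

theorem claw_SL_of_claw_Sp (m : ℕ) (h : CLaw w (Matrix.symplecticGroup (Fin m) F)) :
    CLaw w (SpecialLinearGroup (Fin m) F) := by
  refine h.of_injective (hypSp m) ?_
  intro A B hAB
  apply hyp_injective m
  exact congrArg Subtype.val hAB

theorem claw_SL_of_claw_Omega {ι : Type} [Fintype ι] [DecidableEq ι]
    (Q : (ι → F) → F) {k : ℕ} (hk : 3 ≤ k)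
    (Φ : SpecialLinearGroup (Fin k) F →* Matrix ι ι F) (hΦinj : Injective Φ)
    (hΦ : ∀ A u, Q (Φ A *ᵥ u) = Q u) (h : CLaw w (Cfsg.Omega F Q)) :
    CLaw w (SpecialLinearGroup (Fin k) F) := by
  let Φu : SpecialLinearGroup (Fin k) F →* Matrix.GeneralLinearGroup ι F := Φ.toHomUnits
  have hΦu : ∀ A, ((Φu A : Matrix.GeneralLinearGroup ι F) : Matrix ι ι F) = Φ A := fun A => rfl
  let Φi : SpecialLinearGroup (Fin k) F →* Cfsg.isometryGroup F Q :=
    Φu.codRestrict (Cfsg.isometryGroup F Q) (fun A u v => by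
      show Q ((Φu A : Matrix ι ι F) *ᵥ u) = Q u
      rw [hΦu]
      exact hΦ A u)
  have hΦi : ∀ A, ((Φi A : Matrix.GeneralLinearGroup ι F) : Matrix ι ι F) = Φ A := fun A => rfl
  have hcomm : ∀ A, Φi A ∈ commutator (Cfsg.isometryGroup F Q) := by
    intro A
    have hA : A ∈ commutator (SpecialLinearGroup (Fin k) F) := by
      rw [Cfsg.Agent.Lib.Helper39.SLPerfect.commutator_SL_eq_top (by simpa using hk)]
      trivial
    rw [commutator_def] at hA ⊢
    have h1 : Φi A ∈ Subgroup.map Φi ⁅(⊤ : Subgroup (SpecialLinearGroup (Fin k) F)), ⊤⁆ :=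
      Subgroup.mem_map_of_mem _ hA
    rw [Subgroup.map_commutator] at h1
    exact Subgroup.commutator_mono le_top le_top h1
  refine h.of_injective (Φi.codRestrict (Cfsg.Omega F Q) hcomm) ?_
  intro A B hAB
  apply hΦinj
  rw [← hΦi, ← hΦi]
  have := congrArg (fun x : Cfsg.Omega F Q => ((x : Cfsg.isometryGroup F Q) :
    Matrix.GeneralLinearGroup ι F)) hAB
  simp only [MonoidHom.codRestrict_apply] at this
  rw [this]

theorem quadFormPlus_eq (m : ℕ) (v : Fin m ⊕ Fin m → F) :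
    Cfsg.quadFormPlus m F v = (v ∘ Sum.inl) ⬝ᵥ (v ∘ Sum.inr) := rfl

theorem quadFormPlus_hyp (m : ℕ) (A : SpecialLinearGroup (Fin m) F) (v : Fin m ⊕ Fin m → F) :
    Cfsg.quadFormPlus m F (hyp m A *ᵥ v) = Cfsg.quadFormPlus m F v := by
  rw [quadFormPlus_eq, quadFormPlus_eq, hyp_mulVec]
  exact hyp_dot m A _ _

theorem quadFormOdd_eq (m : ℕ) (v : Unit ⊕ (Fin m ⊕ Fin m) → F) :
    Cfsg.quadFormOdd m F v = v (Sum.inl ()) ^ 2 + Cfsg.quadFormPlus m F (v ∘ Sum.inr) := rfl

theorem quadFormMinus_eq (m : ℕ) (a b : F) (v : (Fin m ⊕ Fin m) ⊕ Fin 2 → F) :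
    Cfsg.quadFormMinus m F a b v = Cfsg.quadFormPlus m F (v ∘ Sum.inl) +
      (v (Sum.inr 0) ^ 2 + a * v (Sum.inr 0) * v (Sum.inr 1) + b * v (Sum.inr 1) ^ 2) := rfl

theorem claw_SL_of_claw_plus (m : ℕ) (hm : 3 ≤ m)
    (h : CLaw w (Cfsg.Omega F (Cfsg.quadFormPlus m F))) :
    CLaw w (SpecialLinearGroup (Fin m) F) :=
  claw_SL_of_claw_Omega _ hm (hyp m) (hyp_injective m) (quadFormPlus_hyp m) h

theorem claw_SL_of_claw_odd (m : ℕ) (hm : 3 ≤ m)
    (h : CLaw w (Cfsg.Omega F (Cfsg.quadFormOdd m F))) :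
    CLaw w (SpecialLinearGroup (Fin m) F) := by
  refine claw_SL_of_claw_Omega _ hm ((blockR (Fin m ⊕ Fin m) Unit).comp (hyp m))
    ((blockR_injective _ _).comp (hyp_injective m)) ?_ h
  intro A u
  rw [quadFormOdd_eq, quadFormOdd_eq, MonoidHom.comp_apply, blockR_mulVec]
  simp only [Sum.elim_inl, Function.comp_apply]
  congr 1
  have : (Sum.elim (u ∘ Sum.inl) ((hyp m A) *ᵥ (u ∘ Sum.inr)) : Unit ⊕ (Fin m ⊕ Fin m) → F) ∘ Sum.inr
      = (hyp m A) *ᵥ (u ∘ Sum.inr) := by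
    ext i; simp
  rw [this, quadFormPlus_hyp]

theorem claw_SL_of_claw_minus (m : ℕ) (hm : 3 ≤ m) (a b : F)
    (h : CLaw w (Cfsg.Omega F (Cfsg.quadFormMinus m F a b))) :
    CLaw w (SpecialLinearGroup (Fin m) F) := by
  refine claw_SL_of_claw_Omega _ hm ((blockL (Fin m ⊕ Fin m) (Fin 2)).comp (hyp m))
    ((blockL_injective _ _).comp (hyp_injective m)) ?_ h
  intro A u
  rw [quadFormMinus_eq, quadFormMinus_eq, MonoidHom.comp_apply, blockL_mulVec]
  simp only [Sum.elim_inr, Function.comp_apply]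
  congr 1
  have : (Sum.elim ((hyp m A) *ᵥ (u ∘ Sum.inl)) (u ∘ Sum.inr) : (Fin m ⊕ Fin m) ⊕ Fin 2 → F) ∘ Sum.inl
      = (hyp m A) *ᵥ (u ∘ Sum.inl) := by
    ext i; simp
  rw [this, quadFormPlus_hyp]

end families


end Cfsg.Agent.Lib.Helper39.Laws
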