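import Mathlib
import Cfsg.Prelude.Def_Classical
import Cfsg.Prelude.Def_ClassicalGeometry
import Cfsg.Prelude.Def_LieExceptional

/-! # The (B,N)-pair of the full orthogonal group `O_{2m+1}(F)`: definitions (helper39, S2547 hive)

`OG F m` is the isometry group of `Cfsg.quadFormOdd m F = v₀² + Σ xᵢ yᵢ` on `F^(Unit ⊕ (Fin m ⊕ Fin m))`.
Index names: `e0 = inl ()`, `xi i = inr (inl i)`, `yi i = inr (inr i)`; the rank function
`rk : x₀ < x₁ < … < x_{m-1} < e₀ < y_{m-1} < … < y₀` orders the basis so that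

* `Bo F m`  : the isometries whose matrix is upper triangular w.r.t. `rk` (`Matrix.BlockTriangular _ rk`),
* `No F m`  : the monomial isometries (`IsMonoG`),
* `So F m`  : the `m` simple reflections, plain permutation matrices `permMat σ`, `σ = simpleA k k'`
  (`k + 1 = k'`) or `σ = simpleB k` (`k + 1 = m`),
* `XA k k'`, `XAm k k'`, `XB k`, `XBm k` : the positive / negative simple root subgroups (as sets). -/

set_option autoImplicit false
set_option linter.unusedSectionVars false
set_option linter.unusedVariables false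
set_option linter.style.haveILetI false

namespace Cfsg.Agent.Lib.Helper39.OoBN

open Matrix

/-- the index type -/
abbrev Idx (m : ℕ) : Type := Unit ⊕ (Fin m ⊕ Fin m)

/-- `O_{2m+1}(F)` as a type -/
abbrev OG (F : Type*) [Field F] (m : ℕ) : Type _ :=
  ↥(Cfsg.isometryGroup F (Cfsg.quadFormOdd m F))

variable {F : Type*} [Field F] {m : ℕ}

/-- the anisotropic basis index -/
def e0 : Idx m := Sum.inl ()
/-- the index of `x_i` -/
def xi (i : Fin m) : Idx m := Sum.inr (Sum.inl i)
/-- the index of `y_i` -/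
def yi (i : Fin m) : Idx m := Sum.inr (Sum.inr i)

/-- the ordering of the basis: `x₀ < … < x_{m-1} < e₀ < y_{m-1} < … < y₀` -/
def rk : Idx m → ℕ
  | Sum.inl _ => m
  | Sum.inr (Sum.inl i) => (i : ℕ)
  | Sum.inr (Sum.inr i) => 2 * m - (i : ℕ)

@[simp] theorem rk_e0 : rk (e0 : Idx m) = m := rfl
@[simp] theorem rk_xi (i : Fin m) : rk (xi i) = (i : ℕ) := rfl
@[simp] theorem rk_yi (i : Fin m) : rk (yi i) = 2 * m - (i : ℕ) := rfl

/-- the opposite index: `x_i ↔ y_i`, `e₀` fixed -/
def bar : Idx m → Idx m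
  | Sum.inl u => Sum.inl u
  | Sum.inr (Sum.inl i) => Sum.inr (Sum.inr i)
  | Sum.inr (Sum.inr i) => Sum.inr (Sum.inl i)

@[simp] theorem bar_e0 : bar (e0 : Idx m) = e0 := rfl
@[simp] theorem bar_xi (i : Fin m) : bar (xi i) = yi i := rfl
@[simp] theorem bar_yi (i : Fin m) : bar (yi i) = xi i := rfl
@[simp] theorem bar_bar (a : Idx m) : bar (bar a) = a := by
  rcases a with u | i | i <;> rfl

/-- the Gram weight: `2` at `e₀`, `1` elsewhere (`polar Q (e_a) (e_b) = wt a` if `b = bar a`, else `0`) -/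
def wt (F : Type*) [Field F] {m : ℕ} : Idx m → F
  | Sum.inl _ => 2
  | Sum.inr _ => 1

/-- the matrix of an element of `O_{2m+1}(F)` -/
def mat (g : OG F m) : Matrix (Idx m) (Idx m) F := ((g : GL (Idx m) F) : Matrix (Idx m) (Idx m) F)

@[simp] theorem mat_one : mat (1 : OG F m) = 1 := rfl

@[simp] theorem mat_mul (g h : OG F m) : mat (g * h) = mat g * mat h := rfl

theorem mat_inv_mul (g : OG F m) : mat g⁻¹ * mat g = 1 := by
  rw [← mat_mul, inv_mul_cancel, mat_one]

theorem mat_mul_inv (g : OG F m) : mat g * mat g⁻¹ = 1 := by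
  rw [← mat_mul, mul_inv_cancel, mat_one]

theorem mat_inv (g : OG F m) : mat g⁻¹ = (mat g)⁻¹ :=
  (Matrix.inv_eq_left_inv (mat_inv_mul g)).symm

theorem mat_injective : Function.Injective (mat : OG F m → Matrix (Idx m) (Idx m) F) :=
  fun _ _ h => Subtype.ext (Units.ext h)

theorem mat_ext {g h : OG F m} (H : mat g = mat h) : g = h := mat_injective H

theorem mat_preserves (g : OG F m) (v : Idx m → F) :
    Cfsg.quadFormOdd m F (mat g *ᵥ v) = Cfsg.quadFormOdd m F v := g.2 v 0

/-- build an element of `O_{2m+1}(F)` from a matrix, a two-sided inverse and the isometry property -/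
def mkOG (M M' : Matrix (Idx m) (Idx m) F) (h1 : M * M' = 1) (h2 : M' * M = 1)
    (hQ : ∀ v, Cfsg.quadFormOdd m F (M *ᵥ v) = Cfsg.quadFormOdd m F v) : OG F m :=
  ⟨⟨M, M', h1, h2⟩, fun u _ => hQ u⟩

@[simp] theorem mat_mkOG (M M' : Matrix (Idx m) (Idx m) F) (h1 : M * M' = 1) (h2 : M' * M = 1)
    (hQ : ∀ v, Cfsg.quadFormOdd m F (M *ᵥ v) = Cfsg.quadFormOdd m F v) :
    mat (mkOG M M' h1 h2 hQ) = M := rfl

/-! ## The Borel subgroup -/

variable (F m)

/-- the Borel subgroup: upper triangular isometries (w.r.t. the ordering `rk`) -/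
def Bo : Subgroup (OG F m) where
  carrier := {g | (mat g).BlockTriangular rk}
  one_mem' := by
    show (mat (1 : OG F m)).BlockTriangular rk
    rw [mat_one]
    exact Matrix.blockTriangular_one
  mul_mem' := by
    intro a b ha hb
    show (mat (a * b)).BlockTriangular rk
    rw [mat_mul]
    exact Matrix.BlockTriangular.mul ha hb
  inv_mem' := by
    intro a ha
    show (mat a⁻¹).BlockTriangular rk
    rw [mat_inv]
    letI : Invertible (mat a) := ⟨mat a⁻¹, mat_inv_mul a, mat_mul_inv a⟩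
    exact Matrix.blockTriangular_inv_of_blockTriangular ha

variable {F m}

theorem mem_Bo_iff (g : OG F m) :
    g ∈ Bo F m ↔ ∀ a b : Idx m, rk b < rk a → mat g a b = 0 :=
  ⟨fun h a b hab => h hab, fun h a b hab => h a b hab⟩

/-! ## Monomial matrices -/

/-- `g` is monomial with permutation `π` and coefficients `d`: `g e_s = d s • e_{π s}` -/
def IsMonoG {ι : Type} [DecidableEq ι] (g : Matrix ι ι F) (π : Equiv.Perm ι) (d : ι → F) : Prop :=
  ∀ a s, g a s = if a = π s then d s else 0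

section mono

variable {ι : Type} [Fintype ι] [DecidableEq ι]

theorem IsMonoG.mulVec_single {g : Matrix ι ι F} {π : Equiv.Perm ι} {d : ι → F}
    (h : IsMonoG g π d) (s : ι) : g *ᵥ Pi.single s 1 = d s • Pi.single (π s) 1 := by
  ext a
  rw [Matrix.mulVec_single_one, Matrix.col_apply, h a s]
  simp [Pi.single_apply]

theorem isMonoG_of_mulVec_single {g : Matrix ι ι F} {π : Equiv.Perm ι} {d : ι → F}
    (h : ∀ s, g *ᵥ Pi.single s 1 = d s • Pi.single (π s) 1) : IsMonoG g π d := by
  intro a s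
  have := congrFun (h s) a
  rw [Matrix.mulVec_single_one, Matrix.col_apply] at this
  rw [this]
  simp [Pi.single_apply]

theorem isMonoG_one : IsMonoG (1 : Matrix ι ι F) 1 (fun _ => 1) := by
  intro a s
  rw [Matrix.one_apply, Equiv.Perm.one_apply]

theorem isMonoG_mul {g h : Matrix ι ι F} {π ρ : Equiv.Perm ι} {d e : ι → F}
    (hg : IsMonoG g π d) (hh : IsMonoG h ρ e) :
    IsMonoG (g * h) (π * ρ) (fun s => e s * d (ρ s)) := by
  apply isMonoG_of_mulVec_single
  intro s
  rw [← Matrix.mulVec_mulVec, hh.mulVec_single, Matrix.mulVec_smul, hg.mulVec_single, smul_smul,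
    Equiv.Perm.mul_apply]

/-- the coefficients of an invertible monomial matrix do not vanish -/
theorem IsMonoG.ne_zero {g g' : Matrix ι ι F} (hinv : g' * g = 1) {π : Equiv.Perm ι} {d : ι → F}
    (h : IsMonoG g π d) (s : ι) : d s ≠ 0 := by
  intro h0
  have h1 := h.mulVec_single s
  rw [h0, zero_smul] at h1
  have h2 : g' *ᵥ (g *ᵥ Pi.single s 1) = Pi.single s 1 := by
    rw [Matrix.mulVec_mulVec, hinv, Matrix.one_mulVec]
  rw [h1, Matrix.mulVec_zero] at h2
  have := congrFun h2 s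
  simp at this

/-- the inverse of an invertible monomial matrix is monomial -/
theorem isMonoG_inv {g g' : Matrix ι ι F} (hinv : g' * g = 1) {π : Equiv.Perm ι} {d : ι → F}
    (h : IsMonoG g π d) : IsMonoG g' π.symm (fun s => (d (π.symm s))⁻¹) := by
  have hd : ∀ s, d s ≠ 0 := fun s => h.ne_zero hinv s
  apply isMonoG_of_mulVec_single
  intro s
  have h1 : (Pi.single s 1 : ι → F) = g *ᵥ ((d (π.symm s))⁻¹ • Pi.single (π.symm s) 1) := by
    rw [Matrix.mulVec_smul, h.mulVec_single, smul_smul, inv_mul_cancel₀ (hd _), one_smul,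
      Equiv.apply_symm_apply]
  nth_rewrite 1 [h1]
  rw [Matrix.mulVec_mulVec, hinv, Matrix.one_mulVec]

end mono

variable (F m)

/-- the monomial subgroup `N` of `O_{2m+1}(F)` -/
def No : Subgroup (OG F m) where
  carrier := {g | ∃ (π : Equiv.Perm (Idx m)) (d : Idx m → F), IsMonoG (mat g) π d}
  one_mem' := ⟨1, fun _ => 1, isMonoG_one⟩
  mul_mem' := by
    rintro a b ⟨π, d, ha⟩ ⟨ρ, e, hb⟩
    exact ⟨π * ρ, _, isMonoG_mul ha hb⟩
  inv_mem' := by
    rintro a ⟨π, d, ha⟩
    exact ⟨π.symm, _, isMonoG_inv (mat_inv_mul a) ha⟩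

variable {F m}

theorem mem_No_iff (g : OG F m) :
    g ∈ No F m ↔ ∃ (π : Equiv.Perm (Idx m)) (d : Idx m → F), IsMonoG (mat g) π d := Iff.rfl

/-! ## The simple reflections -/

/-- `(x_k x_k')(y_k y_k')` -/
def simpleA (k k' : Fin m) : Equiv.Perm (Idx m) :=
  Equiv.swap (xi k) (xi k') * Equiv.swap (yi k) (yi k')

/-- `(x_k y_k)` -/
def simpleB (k : Fin m) : Equiv.Perm (Idx m) := Equiv.swap (xi k) (yi k)

/-- the simple generators of the Weyl group of type `B_m` inside `Perm (Idx m)` -/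
def IsSimpleGen (σ : Equiv.Perm (Idx m)) : Prop :=
  (∃ k k' : Fin m, (k : ℕ) + 1 = (k' : ℕ) ∧ σ = simpleA k k') ∨
    (∃ k : Fin m, (k : ℕ) + 1 = m ∧ σ = simpleB k)

/-- the longest element: `x_i ↔ y_i` for all `i` -/
def w0perm (m : ℕ) : Equiv.Perm (Idx m) where
  toFun := bar
  invFun := bar
  left_inv := bar_bar
  right_inv := bar_bar

@[simp] theorem w0perm_apply (a : Idx m) : w0perm m a = bar a := rfl

variable (F) in
/-- the permutation matrix of `σ`: `e_s ↦ e_{σ s}` -/
def permMat (σ : Equiv.Perm (Idx m)) : Matrix (Idx m) (Idx m) F :=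
  Matrix.of fun a s => if a = σ s then 1 else 0

theorem permMat_apply (σ : Equiv.Perm (Idx m)) (a s : Idx m) :
    permMat F σ a s = if a = σ s then 1 else 0 := rfl

theorem permMat_isMonoG (σ : Equiv.Perm (Idx m)) : IsMonoG (permMat F σ) σ (fun _ => 1) :=
  fun _ _ => rfl

variable (F m)

/-- the representatives in `N` of the simple reflections: plain permutation matrices -/
def So : Set (OG F m) := {g | ∃ σ : Equiv.Perm (Idx m), IsSimpleGen σ ∧ mat g = permMat F σ}

/-! ## The simple root subgroups (as sets) -/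

/-- long root `ε_k - ε_k'`: `1 + t E_{x_k,x_k'} - t E_{y_k',y_k}` -/
def XA (k k' : Fin m) : Set (OG F m) :=
  {g | ∃ t : F, mat g = 1 + t • Matrix.single (xi k) (xi k') (1 : F)
      - t • Matrix.single (yi k') (yi k) (1 : F)}

/-- long root `ε_k' - ε_k`: `1 + t E_{x_k',x_k} - t E_{y_k,y_k'}` -/
def XAm (k k' : Fin m) : Set (OG F m) :=
  {g | ∃ t : F, mat g = 1 + t • Matrix.single (xi k') (xi k) (1 : F)
      - t • Matrix.single (yi k) (yi k') (1 : F)}

/-- short root `ε_k`: `1 + 2t E_{x_k,e₀} - t E_{e₀,y_k} - t² E_{x_k,y_k}` -/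
def XB (k : Fin m) : Set (OG F m) :=
  {g | ∃ t : F, mat g = 1 + (2 * t) • Matrix.single (xi k) e0 (1 : F)
      - t • Matrix.single e0 (yi k) (1 : F) - (t ^ 2) • Matrix.single (xi k) (yi k) (1 : F)}

/-- short root `-ε_k`: `1 + 2t E_{y_k,e₀} - t E_{e₀,x_k} - t² E_{y_k,x_k}` -/
def XBm (k : Fin m) : Set (OG F m) :=
  {g | ∃ t : F, mat g = 1 + (2 * t) • Matrix.single (yi k) e0 (1 : F)
      - t • Matrix.single e0 (xi k) (1 : F) - (t ^ 2) • Matrix.single (yi k) (xi k) (1 : F)}

end Cfsg.Agent.Lib.Helper39.OoBN
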