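import Mathlib
import Cfsg.Agent.Lib.Helper39.OoDefs

/-! # S2547 hive (helper39), leaves OO-POLAR, OO-INVF, OO-BMEM: the polar form in coordinates, the inverse of an
isometry in terms of its entries, and the flag criterion for membership in the Borel subgroup. -/

set_option autoImplicit false
set_option linter.unusedVariables false
set_option linter.unusedSectionVars false
set_option linter.style.haveILetI false

namespace Cfsg.Agent.Lib.Helper39.OoBN

open Matrix Cfsg

variable {F : Type*} [Field F] {m : ℕ}

/-- LEAF POLAR: the polar form in coordinates. -/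
theorem polar_eq (u v : Idx m → F) :
    Cfsg.quadFormOdd m F (u + v) - Cfsg.quadFormOdd m F u - Cfsg.quadFormOdd m F v =
      ∑ a : Idx m, wt F a * u a * v (bar a) := by
  unfold Cfsg.quadFormOdd
  have h1 : ∑ i : Fin m, (u + v) (Sum.inr (Sum.inl i)) * (u + v) (Sum.inr (Sum.inr i)) =
      ∑ i : Fin m, u (Sum.inr (Sum.inl i)) * u (Sum.inr (Sum.inr i)) +
        ∑ i : Fin m, v (Sum.inr (Sum.inl i)) * v (Sum.inr (Sum.inr i)) +
        ∑ i : Fin m, u (Sum.inr (Sum.inl i)) * v (Sum.inr (Sum.inr i)) +
        ∑ i : Fin m, u (Sum.inr (Sum.inr i)) * v (Sum.inr (Sum.inl i)) := by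
    simp only [Pi.add_apply, ← Finset.sum_add_distrib]
    apply Finset.sum_congr rfl
    intro i _
    ring
  rw [h1, Fintype.sum_sum_type, Fintype.sum_sum_type]
  simp only [Pi.add_apply, wt, bar, Finset.univ_unique, Finset.sum_singleton, one_mul]
  ring

theorem wt_bar (a : Idx m) : wt F (bar a) = wt F a := by
  rcases a with u | i | i <;> rfl

theorem wt_ne_zero (h2 : (2 : F) ≠ 0) (a : Idx m) : wt F a ≠ 0 := by
  rcases a with u | i | i
  · exact h2
  · exact one_ne_zero
  · exact one_ne_zero

/-- the polar form as a sum -/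
def invf_pol (u v : Idx m → F) : F := ∑ a : Idx m, wt F a * u a * v (bar a)

theorem invf_pol_pres (g : OG F m) (u v : Idx m → F) :
    invf_pol (mat g *ᵥ u) (mat g *ᵥ v) = invf_pol u v := by
  unfold invf_pol
  rw [← polar_eq, ← polar_eq, ← Matrix.mulVec_add, mat_preserves, mat_preserves, mat_preserves]

theorem invf_pol_single_left (c : Idx m) (w : Idx m → F) :
    invf_pol (Pi.single c 1) w = wt F c * w (bar c) := by
  unfold invf_pol
  rw [Finset.sum_eq_single c]
  · rw [Pi.single_eq_same, mul_one]
  · intro a _ ha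
    rw [Pi.single_eq_of_ne ha, mul_zero, zero_mul]
  · intro h
    exact absurd (Finset.mem_univ c) h

theorem invf_pol_single_right (u : Idx m → F) (b : Idx m) :
    invf_pol u (Pi.single b 1) = wt F b * u (bar b) := by
  unfold invf_pol
  rw [Finset.sum_eq_single (bar b)]
  · rw [bar_bar, Pi.single_eq_same, mul_one, wt_bar]
  · intro a _ ha
    have : bar a ≠ b := by
      intro h
      apply ha
      rw [← h, bar_bar]
    rw [Pi.single_eq_of_ne this, mul_zero]
  · intro h
    exact absurd (Finset.mem_univ _) h

/-- LEAF INVF: the inverse of an isometry in terms of its entries. -/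
theorem mat_inv_apply (h2 : (2 : F) ≠ 0) (g : OG F m) (a b : Idx m) :
    mat g⁻¹ a b = (wt F a)⁻¹ * wt F b * mat g (bar b) (bar a) := by
  have h := invf_pol_pres g (Pi.single (bar a) 1) (mat g⁻¹ *ᵥ Pi.single b 1)
  rw [Matrix.mulVec_mulVec, mat_mul_inv, Matrix.one_mulVec, invf_pol_single_right,
    invf_pol_single_left, bar_bar, wt_bar, Matrix.mulVec_single_one, Matrix.mulVec_single_one,
    Matrix.col_apply, Matrix.col_apply] at h
  have hw := wt_ne_zero h2 a
  field_simp
  rw [mul_comm]
  exact h.symm

/-- the coarse rank function: only the `x`-coordinates are ordered -/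
def bmem_rk : Idx m → ℕ
  | Sum.inl _ => m
  | Sum.inr (Sum.inl i) => (i : ℕ)
  | Sum.inr (Sum.inr _) => m

/-- LEAF BMEM: flag criterion for membership in the Borel subgroup. -/
theorem mem_Bo_of_flag (h2 : (2 : F) ≠ 0) (g : OG F m)
    (h : ∀ (a : Idx m) (j : Fin m), (j : ℕ) < rk a → mat g a (xi j) = 0) : g ∈ Bo F m := by
  have hbt : (mat g).BlockTriangular bmem_rk := by
    intro a b hab
    rcases b with u | j | j
    · exfalso
      have : bmem_rk a ≤ m := by
        rcases a with u' | i | i
        · exact le_refl _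
        · exact i.2.le
        · exact le_refl _
      have h' : bmem_rk (Sum.inl u : Idx m) = m := rfl
      omega
    · apply h a j
      have h' : bmem_rk (Sum.inr (Sum.inl j) : Idx m) = (j : ℕ) := rfl
      rw [h'] at hab
      rcases a with u' | i | i
      · exact hab
      · exact hab
      · have h'' : bmem_rk (Sum.inr (Sum.inr i) : Idx m) = m := rfl
        rw [h''] at hab
        show (j : ℕ) < 2 * m - (i : ℕ)
        have := i.2
        omega
    · exfalso
      have : bmem_rk a ≤ m := by
        rcases a with u' | i | i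
        · exact le_refl _
        · exact i.2.le
        · exact le_refl _
      have h' : bmem_rk (Sum.inr (Sum.inr j) : Idx m) = m := rfl
      omega
  have hbt' : (mat g⁻¹).BlockTriangular bmem_rk := by
    rw [mat_inv]
    letI : Invertible (mat g) := ⟨mat g⁻¹, mat_inv_mul g, mat_mul_inv g⟩
    exact Matrix.blockTriangular_inv_of_blockTriangular hbt
  -- zeros in the rows `y_j`
  have hy : ∀ (j : Fin m) (c : Idx m), (j : ℕ) < bmem_rk (bar c) → mat g (yi j) c = 0 := by
    intro j c hc
    have h1 : mat g⁻¹ (bar c) (xi j) = 0 := hbt' (show bmem_rk (xi j) < bmem_rk (bar c) from hc)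
    rw [mat_inv_apply h2, bar_bar, bar_xi] at h1
    have hw1 := wt_ne_zero h2 (bar c)
    have hw2 : wt F (xi j : Idx m) ≠ 0 := wt_ne_zero h2 _
    rcases mul_eq_zero.mp h1 with h3 | h3
    · rcases mul_eq_zero.mp h3 with h4 | h4
      · exact absurd (inv_eq_zero.mp h4) hw1
      · exact absurd h4 hw2
    · exact h3
  rw [mem_Bo_iff]
  intro a b hab
  rcases a with u | i | j
  · -- row `e₀`
    rcases b with u' | j | j
    · exact absurd hab (lt_irrefl _)
    · exact h _ j hab
    · exfalso
      have h1 : rk (Sum.inr (Sum.inr j) : Idx m) = 2 * m - (j : ℕ) := rfl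
      have h2' : rk (Sum.inl u : Idx m) = m := rfl
      have := j.2
      omega
  · -- row `x_i`
    rcases b with u' | j | j
    · exfalso
      have h1 : rk (Sum.inr (Sum.inl i) : Idx m) = (i : ℕ) := rfl
      have h2' : rk (Sum.inl u' : Idx m) = m := rfl
      have := i.2
      omega
    · exact h _ j hab
    · exfalso
      have h1 : rk (Sum.inr (Sum.inl i) : Idx m) = (i : ℕ) := rfl
      have h2' : rk (Sum.inr (Sum.inr j) : Idx m) = 2 * m - (j : ℕ) := rfl
      have := i.2
      have := j.2
      omega
  · -- row `y_j`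
    rcases b with u' | i | i
    · apply hy j
      show (j : ℕ) < m
      exact j.2
    · exact h _ i hab
    · apply hy j
      show (j : ℕ) < (i : ℕ)
      have h1 : rk (Sum.inr (Sum.inr j) : Idx m) = 2 * m - (j : ℕ) := rfl
      have h2' : rk (Sum.inr (Sum.inr i) : Idx m) = 2 * m - (i : ℕ) := rfl
      have := i.2
      have := j.2
      omega

end Cfsg.Agent.Lib.Helper39.OoBN
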