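import Mathlib
import Cfsg.Prelude.Def_Transfer
import Cfsg.Agent.Lib.Helper15.CycSylDefs
import Cfsg.Agent.Lib.Helper30.CyclicSylow

set_option autoImplicit false

/-!
# S4016 hive, leaf W3: `|N(P) : C(P)|` for a cyclic Sylow `p`-subgroup
-/

namespace Cfsg.Agent.Lib.Helper15.CycSyl

open Subgroup

variable {G : Type*} [Group G] [Finite G] {p : ℕ} [Fact p.Prime]

/-- A cyclic subgroup lies in its centralizer. -/
theorem w3_le_centralizer (Q : Subgroup G) (hcyc : IsCyclic Q) :
    Q ≤ centralizer (Q : Set G) := by
  intro a ha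
  rw [mem_centralizer_iff]
  intro b hb
  obtain ⟨g, hg⟩ := hcyc.exists_generator
  obtain ⟨m, hm⟩ := Subgroup.mem_zpowers_iff.1 (hg ⟨a, ha⟩)
  obtain ⟨n, hn⟩ := Subgroup.mem_zpowers_iff.1 (hg ⟨b, hb⟩)
  have h1 : a = ((g : G)) ^ m := by
    have := congrArg (Subtype.val) hm
    simpa using this.symm
  have h2 : b = ((g : G)) ^ n := by
    have := congrArg (Subtype.val) hn
    simpa using this.symm
  rw [h1, h2, ← zpow_add, ← zpow_add, add_comm]

/-- `|N(Q)| = |image in Aut Q| * |C(Q)|`. -/
theorem w3_card_normalizer (Q : Subgroup G) :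
    Nat.card (normalizer (Q : Set G)) =
      Nat.card (Q.normalizerMonoidHom.range) * Nat.card (centralizer (Q : Set G)) := by
  have h1 := Subgroup.card_mul_index (Q.normalizerMonoidHom.ker)
  rw [Subgroup.index_ker, normalizerMonoidHom_ker] at h1
  have h2 : Nat.card ((centralizer (Q : Set G)).subgroupOf (normalizer (Q : Set G))) =
      Nat.card (centralizer (Q : Set G)) :=
    Nat.card_congr (Subgroup.subgroupOfEquivOfLe (centralizer_le_normalizer (Q : Set G))).toEquiv
  rw [h2, mul_comm] at h1
  exact h1.symm

theorem card_normalizer_eq (P : Sylow p G) (hcyc : IsCyclic (P : Subgroup G))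
    (hnc : ¬ normalizer ((P : Subgroup G) : Set G) ≤ centralizer ((P : Subgroup G) : Set G)) :
    ∃ e : ℕ, Nat.card (normalizer ((P : Subgroup G) : Set G)) =
        e * Nat.card (centralizer ((P : Subgroup G) : Set G)) ∧ e ∣ p - 1 ∧ 2 ≤ e := by
  classical
  have hp : p.Prime := Fact.out
  have hcard := w3_card_normalizer (P : Subgroup G)
  have hPC : (P : Subgroup G) ≤ centralizer ((P : Subgroup G) : Set G) :=
    w3_le_centralizer _ hcyc
  have hCN : centralizer ((P : Subgroup G) : Set G) ≤ normalizer ((P : Subgroup G) : Set G) :=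
    centralizer_le_normalizer _
  -- the order of `P`
  obtain ⟨k, hk⟩ := IsPGroup.iff_card.mp P.2
  have hk1 : 1 ≤ k := by
    rcases Nat.eq_zero_or_pos k with h0 | h0
    · exfalso
      apply hnc
      rw [h0, pow_zero] at hk
      have hbot : (P : Subgroup G) = ⊥ := (Subgroup.card_eq_one).1 hk
      intro x _
      rw [hbot, mem_centralizer_iff]
      intro b hb
      have hb1 : b = 1 := by simpa using hb
      rw [hb1, mul_one, one_mul]
    · exact h0
  -- the image is a `p'`-group
  have hcop : (Nat.card ((P : Subgroup G).normalizerMonoidHom.range)).Coprime p := by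
    rw [Nat.coprime_comm, hp.coprime_iff_not_dvd]
    intro hdvd
    apply P.not_dvd_index
    -- index P = relindex P C * index C, |N| * index N = |G|
    have e1 : (P : Subgroup G).index =
        (P : Subgroup G).relIndex (centralizer ((P : Subgroup G) : Set G)) *
          (centralizer ((P : Subgroup G) : Set G)).index := (relIndex_mul_index hPC).symm
    have e2 : (centralizer ((P : Subgroup G) : Set G)).index =
        (centralizer ((P : Subgroup G) : Set G)).relIndex (normalizer ((P : Subgroup G) : Set G)) *
          (normalizer ((P : Subgroup G) : Set G)).index := (relIndex_mul_index hCN).symm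
    have e3 : (centralizer ((P : Subgroup G) : Set G)).relIndex
        (normalizer ((P : Subgroup G) : Set G)) =
        Nat.card ((P : Subgroup G).normalizerMonoidHom.range) := by
      rw [relIndex, ← normalizerMonoidHom_ker, Subgroup.index_ker]
    rw [e1, e2, e3]
    exact Dvd.dvd.mul_left (Dvd.dvd.mul_right hdvd _) _
  have hH := Cfsg.Agent.Lib.Helper30.isCyclic_and_card_dvd_of_coprime_subgroup_mulAut
    (C := (P : Subgroup G)) (p := p) (k := k) hk1 hk
    ((P : Subgroup G).normalizerMonoidHom.range) hcop
  refine ⟨Nat.card ((P : Subgroup G).normalizerMonoidHom.range), hcard, hH.2, ?_⟩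
  have hpos : 0 < Nat.card ((P : Subgroup G).normalizerMonoidHom.range) := Nat.card_pos
  by_contra hlt
  have h1 : Nat.card ((P : Subgroup G).normalizerMonoidHom.range) = 1 := by omega
  rw [h1, one_mul] at hcard
  apply hnc
  intro x hx
  have : centralizer ((P : Subgroup G) : Set G) = normalizer ((P : Subgroup G) : Set G) :=
    Subgroup.eq_of_le_of_card_ge hCN hcard.le
  rw [this]; exact hx

end Cfsg.Agent.Lib.Helper15.CycSyl
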