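import Mathlib
import Cfsg.Prelude.Def_Transfer
import Cfsg.Agent.Lib.Helper15.CycSylDefs

set_option autoImplicit false
set_option linter.unusedSectionVars false
set_option linter.unusedVariables false

/-!
# S4016 hive, leaf C1: a `p'`-automorphism of a cyclic `p`-group fixing a nontrivial element is trivial
-/

namespace Cfsg.Agent.Lib.Helper15.CycSyl

open Subgroup

variable {G : Type*} [Group G] [Finite G] {p : ℕ} [Fact p.Prime]

/-- an automorphism of a cyclic group is a power map -/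
lemma c1_exists_pow {C : Type*} [Group C] [Finite C] [IsCyclic C] (φ : MulAut C) :
    ∃ k : ℕ, ∀ x : C, φ x = x ^ k := by
  obtain ⟨g, hg⟩ := IsCyclic.exists_generator (α := C)
  obtain ⟨k, hk⟩ : ∃ k : ℕ, g ^ k = φ g := by
    have h1 : φ g ∈ (Subgroup.zpowers g : Set C) := hg _
    rw [← powers_eq_zpowers] at h1
    exact (Submonoid.mem_powers_iff _ _).1 h1
  refine ⟨k, fun x => ?_⟩
  obtain ⟨j, rfl⟩ : ∃ j : ℕ, g ^ j = x := by
    have h1 : x ∈ (Subgroup.zpowers g : Set C) := hg _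
    rw [← powers_eq_zpowers] at h1
    exact (Submonoid.mem_powers_iff _ _).1 h1
  rw [map_pow, ← hk, ← pow_mul, ← pow_mul, mul_comm]

lemma c1_pow_apply {C : Type*} [Group C] (φ : MulAut C) (k : ℕ) (h : ∀ x : C, φ x = x ^ k)
    (i : ℕ) (x : C) : (φ ^ i) x = x ^ (k ^ i) := by
  induction i with
  | zero => simp
  | succ i ih =>
    rw [pow_succ', MulAut.mul_apply, ih, h, ← pow_mul, pow_succ]

/-- a `p'`-automorphism of a cyclic `p`-group fixing a nontrivial element is trivial -/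
theorem c1_aut {C : Type*} [Group C] [Finite C] [IsCyclic C] {n : ℕ} (hC : Nat.card C = p ^ n)
    (φ : MulAut C) (hφ : (orderOf φ).Coprime p) (a : C) (ha : a ≠ 1) (hfix : φ a = a) :
    φ = 1 := by
  have hp : p.Prime := Fact.out
  obtain ⟨k, hk⟩ := c1_exists_pow φ
  -- `n ≥ 1`
  have hn : 1 ≤ n := by
    rcases Nat.eq_zero_or_pos n with h0 | h0
    · exfalso
      rw [h0, pow_zero] at hC
      have : Subsingleton C := (Nat.card_eq_one_iff_unique.1 hC).1
      exact ha (Subsingleton.elim _ _)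
    · exact h0
  -- `k ≡ 1 mod p`
  have hk1 : k ≡ 1 [MOD p] := by
    have h1 : a ^ k = a ^ 1 := by rw [← hk, hfix, pow_one]
    rw [pow_eq_pow_iff_modEq] at h1
    have h2 : orderOf a ∣ p ^ n := by rw [← hC]; exact orderOf_dvd_natCard a
    obtain ⟨j, -, hj⟩ := (Nat.dvd_prime_pow hp).1 h2
    have hj1 : j ≠ 0 := by
      rintro rfl
      rw [pow_zero, orderOf_eq_one_iff] at hj
      exact ha hj
    exact h1.of_dvd (by rw [hj]; exact dvd_pow_self p hj1)
  -- `k ^ p ^ (n - 1) ≡ 1 mod p ^ n`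
  have hk2 : k ^ p ^ (n - 1) ≡ 1 [MOD p ^ n] := by
    have h1 : ((p : ℕ) : ℤ) ∣ (k : ℤ) - 1 := by
      have := (Nat.modEq_iff_dvd.1 hk1.symm)
      simpa using this
    have h2 := dvd_sub_pow_of_dvd_sub h1 (n - 1)
    rw [Nat.sub_add_cancel hn, one_pow] at h2
    apply Nat.ModEq.symm
    rw [Nat.modEq_iff_dvd]
    push_cast
    exact h2
  -- `φ ^ p ^ (n - 1) = 1`
  have h3 : φ ^ p ^ (n - 1) = 1 := by
    ext x
    rw [c1_pow_apply φ k hk, MulAut.one_apply]
    have h4 : orderOf x ∣ p ^ n := by rw [← hC]; exact orderOf_dvd_natCard x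
    have h5 : x ^ k ^ p ^ (n - 1) = x ^ 1 := by
      rw [pow_eq_pow_iff_modEq]
      exact hk2.of_dvd h4
    rw [h5, pow_one]
  have h6 : orderOf φ ∣ p ^ (n - 1) := orderOf_dvd_of_pow_eq_one h3
  have h7 : orderOf φ = 1 := Nat.Coprime.eq_one_of_dvd (hφ.pow_right (n - 1)) h6
  exact orderOf_eq_one_iff.1 h7

/-- [C1] -/
theorem cyc_fpf (Q : Subgroup G) (hcyc : IsCyclic Q) (hQ : IsPGroup p Q) {l : G}
    (hl : l ∈ normalizer (Q : Set G)) (hlo : (orderOf l).Coprime p)
    (hlc : l ∉ centralizer (Q : Set G)) :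
    ∀ a ∈ Q, a ≠ 1 → l * a * l⁻¹ ≠ a := by
  intro a haQ ha1 hfix
  apply hlc
  obtain ⟨n, hn⟩ := IsPGroup.exists_card_eq hQ
  obtain ⟨φ, hφdef⟩ : ∃ φ : MulAut Q, φ = Q.normalizerMonoidHom ⟨l, hl⟩ := ⟨_, rfl⟩
  have hφapply : ∀ x : Q, ((φ x : Q) : G) = l * x.1 * l⁻¹ := by
    intro x
    rw [hφdef]
    rfl
  have hφo : (orderOf φ).Coprime p := by
    have h1 : orderOf φ ∣ orderOf (⟨l, hl⟩ : normalizer (Q : Set G)) := by
      rw [hφdef]; exact orderOf_map_dvd _ _
    rw [Subgroup.orderOf_mk] at h1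
    exact Nat.Coprime.coprime_dvd_left h1 hlo
  have h2 : φ = 1 := by
    refine c1_aut hn φ hφo ⟨a, haQ⟩ ?_ ?_
    · intro h
      exact ha1 (congrArg Subtype.val h)
    · apply Subtype.ext
      rw [hφapply]
      exact hfix
  rw [mem_centralizer_iff]
  intro x hx
  have h3 := hφapply ⟨x, hx⟩
  rw [h2, MulAut.one_apply] at h3
  have h4 : x = l * x * l⁻¹ := h3
  calc x * l = (l * x * l⁻¹) * l := by rw [← h4]
    _ = l * x := by group

end Cfsg.Agent.Lib.Helper15.CycSyl
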