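import Cfsg.Agent.Lib.Helper37.D4O8Defs

/-! # Do hive (S1082, helper37), sub-hive Do-RED (skeleton tools/helper13/DoRedSkel.lean.txt), leaf DO-RED-S1A:
`EE F` moves every non-zero singular vector of `Q8` to a non-zero multiple of `e₁`. -/

set_option autoImplicit false
set_option linter.unusedSectionVars false
set_option linter.unusedVariables false

namespace Cfsg.Agent.Lib.Helper37.D4O8

open Matrix Module QuadraticMap
open Cfsg.Agent.Lib.Helper8 Cfsg.Agent.Lib.Helper13 Cfsg.Agent.Lib.Helper37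

variable {F : Type*} [Field F]

/-- step (i): make the `e₁`-coordinate non-zero. -/
theorem s1a_step1 (x : I8 → F) (hx : x ≠ 0) :
    ∃ h ∈ EE F, ca1 (act (Q8 F) h x) ≠ 0 := by
  by_cases h1 : ca1 x = 0
  · by_cases h2 : ca2 x = 0
    · by_cases h3 : ca3 x = 0
      · by_cases h4 : ca4 x = 0
        · by_cases k2 : cb2 x = 0
          · by_cases k3 : cb3 x = 0
            · by_cases k4 : cb4 x = 0
              · have hb : cb1 x ≠ 0 := by
                  intro k1
                  apply hx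
                  apply ext8 <;> simp [h1, h2, h3, h4, k1, k2, k3, k4]
                refine ⟨X 23 1 * X 18 1, mul_mem (X_mem_EE _ _) (X_mem_EE _ _), ?_⟩
                rw [act_mul, act_X23, act_X18]
                simp [h1, h2, k2, hb]
              · refine ⟨X 20 1, X_mem_EE _ _, ?_⟩
                rw [act_X20]
                simp [h1, k4]
            · refine ⟨X 22 1, X_mem_EE _ _, ?_⟩
              rw [act_X22]
              simp [h1, k3]
          · refine ⟨X 23 1, X_mem_EE _ _, ?_⟩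
            rw [act_X23]
            simp [h1, k2]
        · refine ⟨X 21 1, X_mem_EE _ _, ?_⟩
          rw [act_X21]
          simp [h1, h4]
      · refine ⟨X 19 1, X_mem_EE _ _, ?_⟩
        rw [act_X19]
        simp [h1, h3]
    · refine ⟨X 18 1, X_mem_EE _ _, ?_⟩
      rw [act_X18]
      simp [h1, h2]
  · exact ⟨1, one_mem _, by rw [act_one]; exact h1⟩

/-- step (ii): with `ca1 x ≠ 0`, clear everything else. -/
theorem s1a_step2 (x : I8 → F) (ha : ca1 x ≠ 0) (hQ : Q8 F x = 0) :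
    ∃ h ∈ EE F, act (Q8 F) h x = ca1 x • ve1 := by
  refine ⟨X 3 (-(cb4 x) / ca1 x) * (X 1 (-(cb3 x) / ca1 x) * (X 0 (-(cb2 x) / ca1 x) *
      (X 2 (-(ca4 x) / ca1 x) * (X 4 (ca3 x / ca1 x) * X 5 (-(ca2 x) / ca1 x))))),
    mul_mem (X_mem_EE _ _) (mul_mem (X_mem_EE _ _) (mul_mem (X_mem_EE _ _)
      (mul_mem (X_mem_EE _ _) (mul_mem (X_mem_EE _ _) (X_mem_EE _ _))))), ?_⟩
  have hq := hQ
  rw [Q8_apply] at hq
  have hb1 : cb1 x = -(ca2 x * cb2 x + ca3 x * cb3 x + ca4 x * cb4 x) / ca1 x := by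
    field_simp
    linear_combination hq
  simp only [act_mul, act_X0, act_X1, act_X2, act_X3, act_X4, act_X5, ca1_mk8, ca2_mk8, ca3_mk8, ca4_mk8,
    cb1_mk8, cb2_mk8, cb3_mk8, cb4_mk8]
  apply ext8 <;> simp only [ca1_mk8, ca2_mk8, ca3_mk8, ca4_mk8, cb1_mk8, cb2_mk8, cb3_mk8, cb4_mk8,
    ca1_smul, ca2_smul, ca3_smul, ca4_smul, cb1_smul, cb2_smul, cb3_smul, cb4_smul, ve1]
  · ring
  · field_simp; ring
  · field_simp; ring
  · field_simp; ring
  · rw [hb1]; field_simp; ring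
  · field_simp; ring
  · field_simp; ring
  · field_simp; ring

/-- DO-RED-S1A. -/
theorem red_s1a (x : I8 → F) (hx : x ≠ 0) (hQ : Q8 F x = 0) :
    ∃ h ∈ EE F, ∃ c : F, c ≠ 0 ∧ act (Q8 F) h x = c • ve1 := by
  obtain ⟨h1, hh1, e1⟩ := s1a_step1 x hx
  have hQ1 : Q8 F (act (Q8 F) h1 x) = 0 := by rw [Q_act]; exact hQ
  obtain ⟨h2, hh2, e2⟩ := s1a_step2 _ e1 hQ1
  refine ⟨h2 * h1, mul_mem hh2 hh1, _, e1, ?_⟩
  rw [act_mul, e2]

end Cfsg.Agent.Lib.Helper37.D4O8
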