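import Mathlib
import Cfsg.Agent.Lib.Helper43.WittClass

set_option autoImplicit false
set_option linter.unusedSimpArgs false
set_option linter.unusedVariables false
set_option linter.unnecessarySeqFocus false
set_option linter.unusedSectionVars false
set_option linter.style.haveILetI false

/-!
# Number of vectors of given nonzero norm in an odd-dimensional quadratic space
-/

namespace Cfsg.Agent.Lib.Helper39.Spec

open Module QuadraticMap Cfsg.Agent.Lib.Helper43

universe u

/-- zero count of a nondegenerate quadratic space over a finite field -/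
theorem card_zeros_cases {F : Type*} [Field F] [Fintype F] (Y : Type u) [AddCommGroup Y]
    [Module F Y] [FiniteDimensional F Y] (Q : QuadraticForm F Y)
    (hQ : (polarBilin Q).Nondegenerate) :
    ∃ k n₁ : ℕ, n₁ ≤ 2 ∧ finrank F Y = 2 * k + n₁ ∧
      Nat.card {v : Y // Q v = 0} = ZZ (Fintype.card F) n₁ 1 k := by
  obtain ⟨k, e, f, A, H, hA2, haniso, hnd⟩ := witt_family Y Q hQ
  obtain ⟨h1, h2, -⟩ := card_OG_family (Q.comp A.subtype) hnd k Y Q A.subtype e f H
  refine ⟨k, finrank F A, hA2, h1, ?_⟩
  rw [h2, card_zeros_aniso _ haniso]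

theorem card_zeros_odd {F : Type*} [Field F] [Fintype F] (Y : Type u) [AddCommGroup Y]
    [Module F Y] [FiniteDimensional F Y] (Q : QuadraticForm F Y)
    (hQ : (polarBilin Q).Nondegenerate) (j : ℕ) (hdim : finrank F Y = 2 * j + 1) :
    Nat.card {v : Y // Q v = 0} = Fintype.card F ^ (2 * j) := by
  obtain ⟨k, n₁, hn, hd, hc⟩ := card_zeros_cases Y Q hQ
  have hn1 : n₁ = 1 := by omega
  have hk : k = j := by omega
  rw [hc, hn1, hk]
  exact ZZ_odd _ Fintype.card_pos j

theorem card_zeros_even {F : Type*} [Field F] [Fintype F] (Y : Type u) [AddCommGroup Y]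
    [Module F Y] [FiniteDimensional F Y] (Q : QuadraticForm F Y)
    (hQ : (polarBilin Q).Nondegenerate) (j : ℕ) (hdim : finrank F Y = 2 * j + 2) :
    Nat.card {v : Y // Q v = 0} =
        (Fintype.card F ^ (j + 1) - 1) * (Fintype.card F ^ j + 1) + 1 ∨
      Nat.card {v : Y // Q v = 0} =
        (Fintype.card F ^ (j + 1) + 1) * (Fintype.card F ^ j - 1) + 1 := by
  obtain ⟨k, n₁, hn, hd, hc⟩ := card_zeros_cases Y Q hQ
  have hcases : (n₁ = 0 ∧ k = j + 1) ∨ (n₁ = 2 ∧ k = j) := by omega
  rcases hcases with ⟨hn0, hk⟩ | ⟨hn2, hk⟩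
  · left
    rw [hc, hn0, hk]
    exact ZZ_plus _ Fintype.card_pos j
  · right
    rw [hc, hn2, hk]
    exact ZZ_minus _ Fintype.card_pos j

section level

variable {F : Type*} [Field F] [Fintype F] {Y : Type u} [AddCommGroup Y] [Module F Y]
  [FiniteDimensional F Y]

/-- the auxiliary form `Q(y) - c t²` on `Y × F` -/
noncomputable def auxQ (Q : QuadraticForm F Y) (c : F) : QuadraticForm F (Y × F) :=
  Q.prod ((-c) • (QuadraticMap.sq : QuadraticForm F F))

lemma auxQ_apply (Q : QuadraticForm F Y) (c : F) (v : Y × F) :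
    auxQ Q c v = Q v.1 - c * (v.2 * v.2) := by
  unfold auxQ
  rw [QuadraticMap.prod_apply, smul_apply, QuadraticMap.sq_apply]
  simp only [smul_eq_mul]
  ring

lemma polar_auxQ (Q : QuadraticForm F Y) (c : F) (v w : Y × F) :
    polar (auxQ Q c) v w = polar Q v.1 w.1 - 2 * c * (v.2 * w.2) := by
  unfold QuadraticMap.polar
  rw [auxQ_apply, auxQ_apply, auxQ_apply]
  simp only [Prod.fst_add, Prod.snd_add]
  ring

lemma auxQ_nondegenerate (h2 : (2 : F) ≠ 0) (Q : QuadraticForm F Y)
    (hQ : (polarBilin Q).Nondegenerate) (c : F) (hc : c ≠ 0) :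
    (polarBilin (auxQ Q c)).Nondegenerate := by
  have key : ∀ v : Y × F, (∀ w, polar (auxQ Q c) v w = 0) → v = 0 := by
    rintro ⟨a, s⟩ hv
    have ha : a = 0 := by
      apply hQ.1 a
      intro b
      have := hv (b, 0)
      rw [polar_auxQ] at this
      simpa using this
    have hs : s = 0 := by
      have := hv (0, 1)
      rw [polar_auxQ] at this
      simp only [mul_one] at this
      rw [ha] at this
      simp only [polar, zero_add, map_zero, sub_self, zero_sub, neg_eq_zero, mul_eq_zero] at this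
      rcases this with (h | h) | h
      · exact absurd h h2
      · exact absurd h hc
      · exact h
    rw [ha, hs]; rfl
  constructor
  · intro v hv
    exact key v hv
  · intro v hv
    apply key v
    intro w
    rw [polar_comm]
    exact hv w

lemma card_level_smul [DecidableEq F] [Fintype Y] (Q : QuadraticForm F Y) (c t : F)
    (ht : t ≠ 0) :
    (Finset.univ.filter (fun y : Y => Q y = c * (t * t))).card =
      (Finset.univ.filter (fun y : Y => Q y = c)).card := by
  apply Finset.card_nbij' (fun y => t⁻¹ • y) (fun y => t • y)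
  · intro y hy
    simp only [Finset.coe_filter, Finset.mem_univ, true_and, Set.mem_ofPred_eq] at hy ⊢
    rw [QuadraticMap.map_smul, hy]
    simp only [smul_eq_mul]
    field_simp
  · intro y hy
    simp only [Finset.coe_filter, Finset.mem_univ, true_and, Set.mem_ofPred_eq] at hy ⊢
    rw [QuadraticMap.map_smul, hy]
    simp only [smul_eq_mul]
    ring
  · intro y _
    simp only [smul_smul, mul_inv_cancel₀ ht, one_smul]
  · intro y _
    simp only [smul_smul, inv_mul_cancel₀ ht, one_smul]

lemma card_zeros_auxQ (Q : QuadraticForm F Y) (c : F) :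
    Nat.card {v : Y × F // auxQ Q c v = 0} =
      Nat.card {y : Y // Q y = 0} + (Fintype.card F - 1) * Nat.card {y : Y // Q y = c} := by
  classical
  haveI : Finite Y := Module.finite_of_finite F
  haveI : Fintype Y := Fintype.ofFinite Y
  rw [Nat.card_eq_fintype_card, Nat.card_eq_fintype_card, Nat.card_eq_fintype_card,
    Fintype.card_subtype, Fintype.card_subtype, Fintype.card_subtype]
  have h1 : (Finset.univ.filter (fun v : Y × F => auxQ Q c v = 0)).card =
      ∑ t : F, (Finset.univ.filter (fun y : Y => Q y = c * (t * t))).card := by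
    rw [Finset.card_filter, Fintype.sum_prod_type_right]
    apply Finset.sum_congr rfl
    intro t _
    rw [Finset.card_filter]
    apply Finset.sum_congr rfl
    intro y _
    rw [auxQ_apply]
    simp only [sub_eq_zero]
  rw [h1, ← Finset.sum_filter_add_sum_filter_not Finset.univ (fun t : F => t = 0)]
  congr 1
  · rw [Finset.filter_eq' Finset.univ (0 : F), if_pos (Finset.mem_univ _), Finset.sum_singleton]
    simp
  · have : ∀ t ∈ Finset.univ.filter (fun t : F => ¬ t = 0),
        (Finset.univ.filter (fun y : Y => Q y = c * (t * t))).card =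
          (Finset.univ.filter (fun y : Y => Q y = c)).card := by
      intro t ht
      simp only [Finset.mem_filter, Finset.mem_univ, true_and] at ht
      exact card_level_smul Q c t ht
    rw [Finset.sum_congr rfl this, Finset.sum_const, smul_eq_mul]
    congr 1
    rw [Finset.filter_not, Finset.filter_eq' Finset.univ (0 : F), if_pos (Finset.mem_univ _),
      Finset.card_sdiff_of_subset (by simp), Finset.card_univ, Finset.card_singleton]

/-- the number of vectors of norm `c ≠ 0` in a nondegenerate space of dimension `2j+1` -/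
theorem card_level_odd (h2 : (2 : F) ≠ 0) (Q : QuadraticForm F Y)
    (hQ : (polarBilin Q).Nondegenerate) (j : ℕ) (hdim : finrank F Y = 2 * j + 1) (c : F)
    (hc : c ≠ 0) :
    Nat.card {y : Y // Q y = c} = Fintype.card F ^ (2 * j) + Fintype.card F ^ j ∨
      Nat.card {y : Y // Q y = c} + Fintype.card F ^ j = Fintype.card F ^ (2 * j) := by
  have hq : 2 ≤ Fintype.card F := Fintype.one_lt_card
  have h0 := card_zeros_odd Y Q hQ j hdim
  have hd' : finrank F (Y × F) = 2 * j + 2 := by
    rw [Module.finrank_prod, hdim, Module.finrank_self]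
  have h1 := card_zeros_auxQ Q c
  rw [h0] at h1
  set q := Fintype.card F with hqdef
  set N := Nat.card {y : Y // Q y = c} with hN
  have hqj : 1 ≤ q ^ j := Nat.one_le_pow _ _ (by omega)
  have hqj1 : 1 ≤ q ^ (j + 1) := Nat.one_le_pow _ _ (by omega)
  have hq1 : (1 : ℤ) ≤ (q : ℤ) := by exact_mod_cast (by omega : 1 ≤ q)
  have hqne : ((q : ℤ) - 1) ≠ 0 := by
    have : (2 : ℤ) ≤ (q : ℤ) := by exact_mod_cast hq
    omega
  rcases card_zeros_even (Y × F) (auxQ Q c) (auxQ_nondegenerate h2 Q hQ c hc) j hd' with h | h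
  · left
    rw [h] at h1
    have h1' : (((q ^ (j + 1) - 1) * (q ^ j + 1) + 1 : ℕ) : ℤ) =
        ((q ^ (2 * j) + (q - 1) * N : ℕ) : ℤ) := by exact_mod_cast h1
    push_cast [Nat.cast_sub hqj1, Nat.cast_sub (by omega : 1 ≤ q)] at h1'
    have h3 : ((q : ℤ) - 1) * (N : ℤ) = ((q : ℤ) - 1) * ((q : ℤ) ^ (2 * j) + (q : ℤ) ^ j) := by
      have e1 : (q : ℤ) ^ (2 * j) = ((q : ℤ) ^ j) ^ 2 := by rw [← pow_mul, mul_comm]
      have e2 : (q : ℤ) ^ (j + 1) = (q : ℤ) ^ j * q := pow_succ _ _
      rw [e1, e2] at h1'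
      rw [e1]
      linear_combination -h1'
    have h4 := mul_left_cancel₀ hqne h3
    exact_mod_cast h4
  · right
    rw [h] at h1
    have h1' : (((q ^ (j + 1) + 1) * (q ^ j - 1) + 1 : ℕ) : ℤ) =
        ((q ^ (2 * j) + (q - 1) * N : ℕ) : ℤ) := by exact_mod_cast h1
    push_cast [Nat.cast_sub hqj, Nat.cast_sub (by omega : 1 ≤ q)] at h1'
    have h3 : ((q : ℤ) - 1) * ((N : ℤ) + (q : ℤ) ^ j) = ((q : ℤ) - 1) * ((q : ℤ) ^ (2 * j)) := by
      have e1 : (q : ℤ) ^ (2 * j) = ((q : ℤ) ^ j) ^ 2 := by rw [← pow_mul, mul_comm]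
      have e2 : (q : ℤ) ^ (j + 1) = (q : ℤ) ^ j * q := pow_succ _ _
      rw [e1, e2] at h1'
      rw [e1]
      linear_combination -h1'
    have h4 := mul_left_cancel₀ hqne h3
    exact_mod_cast h4

end level

end Cfsg.Agent.Lib.Helper39.Spec
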