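import Cfsg.Agent.Lib.Helper10.Solvable
import Mathlib.GroupTheory.Sylow

/-!
# Solvable groups of order dividing 60 have a normal Sylow 5-subgroup
-/

set_option autoImplicit false

universe u

namespace Cfsg.Agent.Lib.Helper39

section SixtySolv

/-- A permutation of a set with at most four elements whose fifth power is trivial is trivial. -/
theorem perm_eq_one_of_pow_five {α : Type*} [Finite α] (hα : Nat.card α ≤ 4) (σ : Equiv.Perm α)
    (h5 : σ ^ 5 = 1) : σ = 1 := by
  classical
  have : Fintype α := Fintype.ofFinite α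
  have h1 : orderOf σ ∣ 5 := orderOf_dvd_of_pow_eq_one h5
  have h2 : orderOf σ ∣ Nat.card (Equiv.Perm α) := orderOf_dvd_natCard σ
  have h3 : Nat.card (Equiv.Perm α) = (Nat.card α).factorial := by
    rw [Nat.card_eq_fintype_card, Fintype.card_perm, Nat.card_eq_fintype_card]
  have h4 : (Nat.card α).factorial ∣ Nat.factorial 4 := Nat.factorial_dvd_factorial hα
  have h5' : orderOf σ ∣ 24 := by
    rw [h3] at h2
    exact h2.trans h4
  have h6 : orderOf σ ∣ Nat.gcd 5 24 := Nat.dvd_gcd h1 h5'
  have h7 : orderOf σ = 1 := by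
    have : Nat.gcd 5 24 = 1 := by norm_num
    rw [this] at h6
    exact Nat.dvd_one.mp h6
  exact orderOf_eq_one_iff.mp h7

theorem sylow_five_normal_of_solvable [Fact (Nat.Prime 5)] :
    ∀ (n : ℕ) (G : Type u) [Group G] [Finite G], Nat.card G = n → n ∣ 60 → Group.IsSolvable G →
      ∀ P : Sylow 5 G, (P : Subgroup G).Normal := by
  intro n
  induction n using Nat.strong_induction_on with
  | _ n ih =>
  intro G _ _ hcard hdvd hsolv P
  -- the order of `P`
  obtain ⟨j, hj⟩ := (IsPGroup.iff_card).mp P.2
  have hPdvd : Nat.card (P : Subgroup G) ∣ 60 := by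
    have := Subgroup.card_subgroup_dvd_card (P : Subgroup G)
    rw [hcard] at this
    exact this.trans hdvd
  have hj1 : j ≤ 1 := by
    by_contra hcon
    have h2 : 2 ≤ j := by omega
    have : 5 ^ 2 ∣ 60 := (pow_dvd_pow 5 h2).trans (hj ▸ hPdvd)
    norm_num at this
  have hP5 : Nat.card (P : Subgroup G) ∣ 5 := by
    rw [hj]
    interval_cases j <;> norm_num
  have hpow5 : ∀ x ∈ (P : Subgroup G), x ^ 5 = 1 := by
    intro x hx
    have h1 : orderOf (⟨x, hx⟩ : (P : Subgroup G)) ∣ 5 := (orderOf_dvd_natCard _).trans hP5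
    rw [Subgroup.orderOf_mk] at h1
    exact orderOf_dvd_iff_pow_eq_one.mp h1
  by_cases h5 : 5 ∣ n
  swap
  · -- `P` is trivial
    have hj0 : j = 0 := by
      by_contra hcon
      apply h5
      have : 5 ∣ Nat.card (P : Subgroup G) := by
        rw [hj]; exact dvd_pow_self 5 hcon
      have h2 := Subgroup.card_subgroup_dvd_card (P : Subgroup G)
      rw [hcard] at h2
      exact this.trans h2
    have : (P : Subgroup G) = ⊥ := by
      apply Subgroup.eq_bot_of_card_eq
      rw [hj, hj0, pow_zero]
    rw [this]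
    infer_instance
  have hnt : Nontrivial G := by
    rw [← Finite.one_lt_card_iff_nontrivial, hcard]
    have : 5 ≤ n := Nat.le_of_dvd (Nat.pos_of_ne_zero (by rintro rfl; simp at hdvd)) h5
    omega
  have := hsolv
  obtain ⟨q, N, hq, hNn, hNbot, hNp, _, hqn⟩ :=
    Cfsg.Agent.Lib.Helper10.exists_normal_pgroup_of_solvable (G := G)
  have := hNn
  have := Fact.mk hq
  obtain ⟨k, hk⟩ := (IsPGroup.iff_card).mp hNp
  have hk0 : k ≠ 0 := by
    rintro rfl
    rw [pow_zero] at hk
    exact hNbot (Subgroup.eq_bot_of_card_eq N hk)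
  have hNdvd : Nat.card N ∣ 60 := by
    have := Subgroup.card_subgroup_dvd_card N
    rw [hcard] at this
    exact this.trans hdvd
  by_cases hq5 : q = 5
  · -- `N` is a normal `5`-subgroup, equal to `P`
    subst hq5
    have hNP : N ≤ (P : Subgroup G) := by
      obtain ⟨Q, hQ⟩ := hNp.exists_le_sylow
      obtain ⟨g, rfl⟩ := MulAction.exists_smul_eq G Q P
      intro x hx
      show x ∈ ((g • Q : Sylow 5 G) : Subgroup G)
      rw [Sylow.coe_subgroup_smul, Subgroup.mem_pointwise_smul_iff_inv_smul_mem]
      apply hQ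
      have := hNn.conj_mem x hx g⁻¹
      simpa [MulAut.smul_def] using this
    have hcardle : Nat.card N ≤ Nat.card (P : Subgroup G) :=
      Nat.le_of_dvd Nat.card_pos (Subgroup.card_dvd_of_le hNP)
    have hN5 : 5 ≤ Nat.card N := by
      rw [hk]
      calc 5 = 5 ^ 1 := by norm_num
        _ ≤ 5 ^ k := Nat.pow_le_pow_right (by norm_num) (Nat.one_le_iff_ne_zero.mpr hk0)
    have hPle : Nat.card (P : Subgroup G) ≤ 5 := Nat.le_of_dvd (by norm_num) hP5
    have : N = (P : Subgroup G) :=
      Subgroup.eq_of_le_of_card_ge hNP (by omega)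
    rw [← this]
    exact hNn
  · -- `N` is a small normal `q`-subgroup with `q ≠ 5`
    have hNle : Nat.card N ≤ 4 := by
      have hq60 : q ∣ 60 := (dvd_pow_self q hk0).trans (hk ▸ hNdvd)
      have hq23 : q = 2 ∨ q = 3 := by
        have h60 : q ∣ 2 * 2 * 3 * 5 := by norm_num; exact hq60
        rcases (Nat.Prime.dvd_mul hq).mp h60 with h | h
        · rcases (Nat.Prime.dvd_mul hq).mp h with h | h
          · rcases (Nat.Prime.dvd_mul hq).mp h with h | h
            · left; exact (Nat.prime_dvd_prime_iff_eq hq Nat.prime_two).mp h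
            · left; exact (Nat.prime_dvd_prime_iff_eq hq Nat.prime_two).mp h
          · right; exact (Nat.prime_dvd_prime_iff_eq hq Nat.prime_three).mp h
        · exact absurd ((Nat.prime_dvd_prime_iff_eq hq Nat.prime_five).mp h) hq5
      rcases hq23 with rfl | rfl
      · have hk2 : k ≤ 2 := by
          by_contra hcon
          have h3 : 3 ≤ k := by omega
          have : 2 ^ 3 ∣ 60 := (pow_dvd_pow 2 h3).trans (hk ▸ hNdvd)
          norm_num at this
        rw [hk]
        interval_cases k <;> norm_num
      · have hk2 : k ≤ 1 := by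
          by_contra hcon
          have h3 : 2 ≤ k := by omega
          have : 3 ^ 2 ∣ 60 := (pow_dvd_pow 3 h3).trans (hk ▸ hNdvd)
          norm_num at this
        rw [hk]
        interval_cases k <;> norm_num
    have hNcop : Nat.Coprime (Nat.card N) 5 := by
      rw [hk]
      apply Nat.Coprime.pow_left
      exact (Nat.coprime_primes hq (by norm_num)).mpr hq5
    -- `P` centralizes `N`
    have hcent : ∀ x ∈ (P : Subgroup G), ∀ y ∈ N, x * y * x⁻¹ = y := by
      intro x hx y hy
      have h1 : (MulAut.conjNormal x : MulAut N) ^ 5 = 1 := by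
        rw [← map_pow, hpow5 x hx, map_one]
      have h2 : (MulAut.toPerm N (MulAut.conjNormal x)) ^ 5 = 1 := by
        rw [← map_pow, h1, map_one]
      have h3 := perm_eq_one_of_pow_five hNle _ h2
      have h4 : (MulAut.conjNormal x : MulAut N) ⟨y, hy⟩ = ⟨y, hy⟩ := by
        have := congrArg (fun σ : Equiv.Perm N => σ ⟨y, hy⟩) h3
        exact this
      have h5 := congrArg Subtype.val h4
      rw [MulAut.conjNormal_apply] at h5
      exact h5
    -- the quotient
    have hlt : Nat.card (G ⧸ N) < n := by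
      have h1 := Subgroup.card_eq_card_quotient_mul_card_subgroup N
      rw [hcard] at h1
      have h2 : 2 ≤ Nat.card N := by
        rw [hk]
        calc 2 ≤ q := hq.two_le
          _ = q ^ 1 := (pow_one q).symm
          _ ≤ q ^ k := Nat.pow_le_pow_right hq.pos (Nat.one_le_iff_ne_zero.mpr hk0)
      have h3 : 0 < Nat.card (G ⧸ N) := Nat.card_pos
      rw [h1]
      exact (Nat.lt_mul_iff_one_lt_right h3).mpr h2
    have hqdvd : Nat.card (G ⧸ N) ∣ 60 := by
      have h1 := Subgroup.card_eq_card_quotient_mul_card_subgroup N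
      rw [hcard] at h1
      exact (Dvd.intro _ h1.symm).trans hdvd
    have hPbar : IsPGroup 5 ((P : Subgroup G).map (QuotientGroup.mk' N)) := P.2.map _
    have hidx : ¬ 5 ∣ ((P : Subgroup G).map (QuotientGroup.mk' N)).index := by
      intro hcon
      exact P.not_dvd_index (hcon.trans
        (Subgroup.index_map_dvd (P : Subgroup G) (QuotientGroup.mk'_surjective N)))
    have hnormal := ih (Nat.card (G ⧸ N)) hlt (G ⧸ N) rfl hqdvd inferInstance
      (hPbar.toSylow hidx)
    rw [IsPGroup.toSylow_coe] at hnormal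
    -- `P` is normal
    constructor
    intro x hx g
    have hmem : QuotientGroup.mk' N (g * x * g⁻¹) ∈
        (P : Subgroup G).map (QuotientGroup.mk' N) := by
      have := hnormal.conj_mem (QuotientGroup.mk' N x) (Subgroup.mem_map_of_mem _ hx)
        (QuotientGroup.mk' N g)
      simpa using this
    obtain ⟨x', hx', hxx'⟩ := hmem
    -- `g x g⁻¹ = x' y` with `y ∈ N`
    have hy : x'⁻¹ * (g * x * g⁻¹) ∈ N := by
      rw [← QuotientGroup.eq_one_iff, ← QuotientGroup.mk'_apply, map_mul, map_inv, hxx']
      group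
    set y := x'⁻¹ * (g * x * g⁻¹) with hydef
    have hz : g * x * g⁻¹ = x' * y := by rw [hydef]; group
    have hcomm : Commute x' y := by
      have := hcent x' hx' y hy
      unfold Commute SemiconjBy
      calc x' * y = x' * y * x'⁻¹ * x' := by group
        _ = y * x' := by rw [this]
    have hz5 : (g * x * g⁻¹) ^ 5 = 1 := by
      rw [conj_pow, hpow5 x hx]; group
    have hy5 : y ^ 5 = 1 := by
      rw [hz, hcomm.mul_pow, hpow5 x' hx', one_mul] at hz5
      exact hz5
    have hy1 : y = 1 := by
      have h1 : orderOf y ∣ 5 := orderOf_dvd_of_pow_eq_one hy5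
      have h2 : orderOf y ∣ Nat.card N := by
        have := orderOf_dvd_natCard (⟨y, hy⟩ : N)
        rwa [Subgroup.orderOf_mk] at this
      have h3 : orderOf y ∣ Nat.gcd (Nat.card N) 5 := Nat.dvd_gcd h2 h1
      rw [hNcop] at h3
      exact orderOf_eq_one_iff.mp (Nat.dvd_one.mp h3)
    rw [hz, hy1, mul_one]
    exact hx'

end SixtySolv

end Cfsg.Agent.Lib.Helper39
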