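import Mathlib
import Cfsg.Prelude.Def_ClassicalGeometry
import Cfsg.Prelude.Def_GeometricClasses
import Cfsg.Agent.Lib.Helper5.HyDefs

/-! # Definitions for the generic even-dimensional orthogonal layer (helper39)

Shared by the hives Hq (S5974, helper15), Qe (S5988, helper65), Qm (S5990, helper14):
`Ω^±_{2d}(q)`, ALL `q`, acting on nondegenerate `m`-spaces of a given type.
Everything is stated for a `QuadraticForm` `Q` (characteristic free); the polar form is
`pol Q = QuadraticMap.polarBilin Q`.  For `2 ≠ 0` the bridges below reduce every statement to the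
`Cfsg.Agent.Lib.Helper5.Hy` vocabulary (`Nd`, `Plus`, `Isom`, `Orth`). -/

set_option autoImplicit false

namespace Cfsg.Agent.Lib.Helper39.Eq

open Module
open Cfsg.Agent.Lib.Helper2.BG Cfsg.Agent.Lib.Helper99 Cfsg.Agent.Lib.Helper48.Ti
open Cfsg.Agent.Lib.Helper5.Hy

section defs

variable {F V : Type*} [Field F] [AddCommGroup V] [Module F V]

/-- the polar form of `Q` as a bilinear map -/
abbrev pol (Q : QuadraticForm F V) : V →ₗ[F] V →ₗ[F] F := QuadraticMap.polarBilin Q

/-- `W` is nondegenerate for the polar form of `Q` -/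
def NdQ (Q : QuadraticForm F V) (W : Submodule F V) : Prop := Nd (pol Q) W

/-- `U` is totally singular: `Q` vanishes on `U` -/
def TS (Q : QuadraticForm F V) (U : Submodule F V) : Prop := ∀ u ∈ U, Q u = 0

/-- `W` is of plus type for `Q`: it contains a totally singular subspace of half its dimension -/
def PlusQ (Q : QuadraticForm F V) (W : Submodule F V) : Prop :=
  ∃ U : Submodule F V, U ≤ W ∧ TS Q U ∧ 2 * finrank F U = finrank F W

/-- `W₁` and `W₂` are orthogonal for the polar form -/
def OrthQ (Q : QuadraticForm F V) (W₁ W₂ : Submodule F V) : Prop := Orth (pol Q) W₁ W₂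

/-- `f` is an isometry of `Q` -/
def IsoQ (Q : QuadraticForm F V) (f : Module.End F V) : Prop := ∀ v, Q (f v) = Q v

/-- there is an `f`-invariant nondegenerate subspace of dimension `m` whose type is `b`
(`b = True`: plus type / hyperbolic, `b = False`: minus type / elliptic) -/
def FixesQ (Q : QuadraticForm F V) (f : Module.End F V) (m : ℕ) (b : Prop) : Prop :=
  ∃ W : Submodule F V, Inv f W ∧ NdQ Q W ∧ finrank F W = m ∧ (PlusQ Q W ↔ b)

/-- the type of an orthogonal sum of `j` minimal blocks (`i` = order of `q` mod `r`) is plus -/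
def tpl (i j : ℕ) : Prop := Odd i ∨ Even j

theorem pol_apply (Q : QuadraticForm F V) (u v : V) : pol Q u v = QuadraticMap.polar Q u v := rfl

theorem pol_symm (Q : QuadraticForm F V) (u v : V) : pol Q u v = pol Q v u := by
  rw [pol_apply, pol_apply, QuadraticMap.polar_comm]

theorem pol_self (Q : QuadraticForm F V) (u : V) : pol Q u u = 2 * Q u := by
  rw [pol_apply, QuadraticMap.polar_self]; simp [two_smul, two_mul]

theorem IsoQ.isom {Q : QuadraticForm F V} {f : Module.End F V} (h : IsoQ Q f) :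
    Isom (pol Q) f := by
  intro u v
  rw [pol_apply, pol_apply, QuadraticMap.polar, QuadraticMap.polar, ← map_add, h, h, h]

theorem isoQ_of_isom (h2 : (2 : F) ≠ 0) {Q : QuadraticForm F V} {f : Module.End F V}
    (h : Isom (pol Q) f) : IsoQ Q f := by
  intro v
  have h1 := h v v
  rw [pol_self, pol_self] at h1
  exact mul_left_cancel₀ h2 h1

theorem ts_iff_ti (h2 : (2 : F) ≠ 0) (Q : QuadraticForm F V) (U : Submodule F V) :
    TS Q U ↔ TI (pol Q) U := by
  constructor
  · intro h u hu v hv
    rw [pol_apply, QuadraticMap.polar, h u hu, h v hv, h (u + v) (U.add_mem hu hv)]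
    simp
  · intro h u hu
    have h1 := h u hu u hu
    rw [pol_self] at h1
    rcases mul_eq_zero.1 h1 with h3 | h3
    · exact absurd h3 h2
    · exact h3

theorem plusQ_iff_plus (h2 : (2 : F) ≠ 0) (Q : QuadraticForm F V) (W : Submodule F V) :
    PlusQ Q W ↔ Plus (pol Q) W := by
  constructor
  · rintro ⟨U, hU, hts, hd⟩
    exact ⟨U, hU, (ts_iff_ti h2 Q U).1 hts, hd⟩
  · rintro ⟨U, hU, hti, hd⟩
    exact ⟨U, hU, (ts_iff_ti h2 Q U).2 hti, hd⟩

theorem fixesQ_iff_fixes (h2 : (2 : F) ≠ 0) (Q : QuadraticForm F V) (f : Module.End F V) (m : ℕ)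
    (b : Prop) : FixesQ Q f m b ↔ Fixes (pol Q) f m b := by
  constructor
  · rintro ⟨W, h1, h3, h4, h5⟩
    exact ⟨W, h1, h3, h4, by rw [← plusQ_iff_plus h2]; exact h5⟩
  · rintro ⟨W, h1, h3, h4, h5⟩
    exact ⟨W, h1, h3, h4, by rw [plusQ_iff_plus h2]; exact h5⟩

theorem plusQ_bot (Q : QuadraticForm F V) : PlusQ Q ⊥ :=
  ⟨⊥, le_refl _, fun u hu => by rw [(Submodule.mem_bot F).1 hu, map_zero], by simp⟩

theorem tpl_zero (i : ℕ) : tpl i 0 := Or.inr Even.zero

end defs

end Cfsg.Agent.Lib.Helper39.Eq
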