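import Cfsg.Agent.Lib.Helper39.SchurBoundC
import Cfsg.Agent.Lib.Helper80.ClassConst

/-!
# Schur's bound, part D: the divisibility and the arithmetic
-/

set_option autoImplicit false

namespace Cfsg.Agent.Lib.Helper39

open Cfsg Polynomial

section SchurBoundD

theorem dvd_sum_eval {ι : Type*} (s : Finset ι) (z : ι → ℤ) (c : ℤ)
    (h : ∀ m : ℕ, c ∣ ∑ x ∈ s, z x ^ m) (Q : Polynomial ℤ) : c ∣ ∑ x ∈ s, Q.eval (z x) := by
  have : ∑ x ∈ s, Q.eval (z x) =
      ∑ m ∈ Finset.range (Q.natDegree + 1), Q.coeff m * ∑ x ∈ s, z x ^ m := by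
    simp_rw [Polynomial.eval_eq_sum_range, Finset.mul_sum]
    rw [Finset.sum_comm]
  rw [this]
  exact Finset.dvd_sum fun m _ => Dvd.dvd.mul_left (h m) _

theorem factorization_le_of_pow_dvd (p : ℕ) (hp : p.Prime) (n a : ℕ)
    (h : p ^ a ∣ p ^ (n / (p - 1)) * (n / (p - 1)).factorial) :
    a ≤ ∑ i ∈ Finset.range (n + 1), n / ((p - 1) * p ^ i) := by
  have := Fact.mk hp
  set R := n / (p - 1) with hR
  have hne : p ^ R * R.factorial ≠ 0 :=
    Nat.mul_ne_zero (pow_ne_zero _ hp.ne_zero) (Nat.factorial_ne_zero _)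
  have h1 : a ≤ (p ^ R * R.factorial).factorization p :=
    (hp.pow_dvd_iff_le_factorization hne).mp h
  have h2 : (p ^ R * R.factorial).factorization p = R + padicValNat p R.factorial := by
    rw [Nat.factorization_mul (pow_ne_zero _ hp.ne_zero) (Nat.factorial_ne_zero _),
      Finsupp.add_apply, Nat.Prime.factorization_pow hp, Finsupp.single_eq_same,
      Nat.factorization_def _ hp]
  have hlog : Nat.log p R < n + 1 :=
    lt_of_le_of_lt ((Nat.log_le_self p R).trans (Nat.div_le_self n (p - 1))) (Nat.lt_succ_self n)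
  rw [h2, padicValNat_factorial hlog] at h1
  have h3 : ∑ i ∈ Finset.range (n + 1), n / ((p - 1) * p ^ i) =
      ∑ i ∈ Finset.range (n + 1), R / p ^ i :=
    Finset.sum_congr rfl fun i _ => by rw [hR, Nat.div_div_eq_div_mul]
  rw [h3, Finset.range_eq_Ico, Finset.sum_eq_sum_Ico_succ_bot (Nat.succ_pos n), pow_zero,
    Nat.div_one]
  exact h1

variable {G : Type*} [Group G] [Finite G]

omit [Finite G] in
theorem isCharacter_pow_fun {χ : G → ℂ} (hχ : IsCharacter G χ) (m : ℕ) :
    IsCharacter G (fun g => χ g ^ m) := by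
  induction m with
  | zero => simpa using Cfsg.Agent.Lib.Helper3.IsCharacter.one (G := G)
  | succ m ih =>
    have := Cfsg.Agent.Lib.Helper3.IsCharacter.mul ih hχ
    convert this using 1
    ext g; simp [pow_succ]

/-- **Schur**: the order of a Sylow `p`-subgroup of a group with a faithful `p`-rational
character of degree `n` divides `p ^ R * R!`, where `R = ⌊n / (p - 1)⌋`. -/
theorem schur_pow_dvd (p : ℕ) (hp : p.Prime) (χ : G → ℂ) (hχ : IsCharacter G χ)
    (hfaith : ∀ g : G, χ g = χ 1 → g = 1) {r : ℕ} (hr : 0 < r) (hpr : ¬ p ∣ r)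
    (hrat : ∀ g : G, χ g ∈ IntermediateField.adjoin ℚ
      ({Complex.exp (2 * Real.pi * Complex.I / r)} : Set ℂ))
    (n : ℕ) (hn : χ 1 = (n : ℂ)) :
    p ^ (Nat.card G).factorization p ∣ p ^ (n / (p - 1)) * (n / (p - 1)).factorial := by
  classical
  have := Fact.mk hp
  set a := (Nat.card G).factorization p with ha
  let P : Sylow p G := default
  have hPcard : Nat.card P = p ^ a := P.card_eq_multiplicity
  have : Fintype P := Fintype.ofFinite P
  have hxP : ∀ x : P, (x : G) ^ p ^ a = 1 := by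
    intro x
    have h : x ^ p ^ a = 1 := by rw [← hPcard]; exact pow_card_eq_one'
    have h2 := congrArg (fun t : P => (t : G)) h
    simpa using h2
  choose z hz using fun x : P => char_int_of_prat hp hχ hr hpr hrat (hxP x)
  set d : ℤ := (n : ℤ) with hd
  have hdχ : (d : ℂ) = χ 1 := by rw [hn, hd]; simp
  set R := n / (p - 1) with hR
  have hp1 : 0 < p - 1 := Nat.sub_pos_of_lt hp.one_lt
  have hpZ : (0 : ℤ) < p := by exact_mod_cast hp.pos
  set Q : Polynomial ℤ := ∏ j ∈ Finset.range R, (X - C (d - ((j : ℤ) + 1) * p)) with hQ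
  have hQeval : ∀ t : ℤ, Q.eval t = ∏ j ∈ Finset.range R, (t - (d - ((j : ℤ) + 1) * p)) := by
    intro t
    rw [hQ, Polynomial.eval_prod]
    exact Finset.prod_congr rfl fun j _ => by simp
  -- vanishing off the identity
  have hvanish : ∀ x : P, x ≠ 1 → Q.eval (z x) = 0 := by
    intro x hx1
    have hxG : (x : G) ≠ 1 := fun h => hx1 (Subtype.ext h)
    obtain ⟨hle, heq⟩ := char_int_le_degree hχ (x : G) (z x) d (hz x) hdχ
    have hne : z x ≠ d := fun h => hxG (hfaith _ (heq h))
    have hlt : z x < d := lt_of_le_of_ne hle hne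
    obtain ⟨t, ht⟩ := int_dvd_char_sub_degree hp hχ hr hpr hrat a (x : G) (hxP x) (z x) d
      (hz x) hdχ
    have hlow := char_lower_bound hp hχ hr hpr hrat (hxP x) (z x) d (hz x) hdχ
    -- z x = d + p * t with t < 0
    have ht0 : t < 0 := by
      by_contra hcon
      have : 0 ≤ t := not_lt.mp hcon
      nlinarith
    have hzx : z x = d + p * t := by linarith
    -- bound: (p - 1) * (-t) ≤ d
    have hbound : ((p : ℤ) - 1) * (-t) ≤ d := by
      rw [hzx] at hlow
      have h1 : 0 ≤ (p : ℤ) * (d - ((p : ℤ) - 1) * (-t)) := by nlinarith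
      have h2 := nonneg_of_mul_nonneg_right h1 hpZ
      linarith
    -- natural number index
    obtain ⟨s, hs⟩ := Int.eq_ofNat_of_zero_le (show 0 ≤ -t - 1 by linarith)
    have hsR : s < R := by
      rw [hR, Nat.lt_iff_add_one_le, Nat.le_div_iff_mul_le hp1]
      have h1 : ((s + 1 : ℕ) : ℤ) = -t := by push_cast; linarith
      have h2 : (((s + 1) * (p - 1) : ℕ) : ℤ) ≤ (n : ℤ) := by
        rw [Nat.cast_mul, h1, Nat.cast_sub hp.one_lt.le]
        push_cast
        rw [mul_comm]; exact hbound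
      exact_mod_cast h2
    rw [hQeval]
    apply Finset.prod_eq_zero (Finset.mem_range.mpr hsR)
    rw [hzx]
    have : (s : ℤ) = -t - 1 := hs.symm
    rw [this]; ring
  -- value at the identity
  have hz1 : z 1 = d := by
    have : (z 1 : ℂ) = (d : ℂ) := by rw [hz 1, hdχ]; simp
    exact_mod_cast this
  have hone : Q.eval (z 1) = ((p ^ R * R.factorial : ℕ) : ℤ) := by
    rw [hz1, hQeval]
    have h1 : ∀ j ∈ Finset.range R, (d - (d - ((j : ℤ) + 1) * p)) = ((j + 1 : ℕ) : ℤ) * (p : ℤ) :=
      fun j _ => by push_cast; ring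
    rw [Finset.prod_congr rfl h1, Finset.prod_mul_distrib, Finset.prod_const, Finset.card_range,
      ← Nat.cast_prod, Finset.prod_range_add_one_eq_factorial]
    push_cast; ring
  have hsum : ∑ x : P, Q.eval (z x) = ((p ^ R * R.factorial : ℕ) : ℤ) := by
    have h1 := Finset.sum_eq_single (s := Finset.univ) (f := fun x : P => Q.eval (z x)) (1 : P)
      (fun x _ hx => hvanish x hx) (fun h => absurd (Finset.mem_univ _) h)
    exact h1.trans hone
  -- divisibility
  have hdiv : ((Nat.card P : ℕ) : ℤ) ∣ ∑ x : P, Q.eval (z x) := by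
    apply dvd_sum_eval
    intro m
    obtain ⟨k, hk⟩ := Cfsg.Agent.Lib.Helper80.exists_sum_subgroup_eq (isCharacter_pow_fun hχ m)
      (P : Subgroup G)
    refine ⟨(k : ℤ), ?_⟩
    have : ((∑ x : P, z x ^ m : ℤ) : ℂ) = (((Nat.card P : ℕ) : ℤ) * (k : ℤ) : ℤ) := by
      push_cast
      rw [← hk]
      exact Finset.sum_congr rfl fun x _ => by rw [hz x]
    exact_mod_cast this
  rw [hsum, hPcard] at hdiv
  exact_mod_cast hdiv

end SchurBoundD

end Cfsg.Agent.Lib.Helper39
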