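import Mathlib
import Cfsg.Agent.Lib.Helper16.PSLDefs
import Cfsg.Agent.Lib.Helper39.SchurBoundD

/-!
# S4472 hive (helper16), leaf PSL-S1 (helper39): Schur's bound with the `p`-rationality hypothesis
replaced by invariance at `p`-elements under the power maps prime to `p`.
(Copy of `Helper39/SchurBoundA` (second half), `C`, `D` with `hpe` in place of `hrat`.)
-/

set_option autoImplicit false
set_option linter.unusedVariables false

namespace Cfsg.Agent.Lib.Helper16.PSL

open Cfsg Polynomial Cfsg.Agent.Lib.Helper39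

universe u

section S1

variable {G : Type*} [Group G] [Finite G]

/-- A `p`-rational character takes rational integer values at `p`-elements. -/
theorem s1_char_int {p : ℕ} (hp : p.Prime) {χ : G → ℂ} (hχ : IsCharacter G χ)
    (hpe : ∀ (x : G) (a j : ℕ), x ^ p ^ a = 1 → j.Coprime p → χ (x ^ j) = χ x)
    {x : G} {a : ℕ} (hx : x ^ p ^ a = 1) : ∃ z : ℤ, (z : ℂ) = χ x := by
  apply Cfsg.Agent.Lib.Helper75.exists_int_eq_of_forall_ringEquiv_eq (χ x)
    (Cfsg.Agent.Lib.Helper3.IsCharacter.isIntegral hχ x)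
  intro τ
  have hx' : x ^ p ^ (a + 1) = 1 := by rw [pow_succ, pow_mul, hx, one_pow]
  obtain ⟨j, hjN, hτ⟩ := Cfsg.Agent.Lib.Helper75.exists_pow_of_ringEquiv τ (p ^ (a + 1))
    (pow_pos hp.pos _)
  have hjp : Nat.Coprime j p := (Nat.coprime_pow_right_iff (Nat.succ_pos a) j p).mp hjN
  have h1 := hpe _ _ _ hx hjp
  obtain ⟨n, ρ, rfl⟩ := hχ
  rw [Cfsg.Agent.Lib.Helper75.ringEquiv_character_eq_pow ρ τ (p ^ (a + 1)) j hτ x hx', h1]

/-- The value of a `p`-rational character at a `p`-element is congruent to the degree modulo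
`p`. -/
theorem s1_int_dvd_char_sub_degree {p : ℕ} (hp : p.Prime) {χ : G → ℂ} (hχ : IsCharacter G χ)
    (hpe : ∀ (x : G) (a j : ℕ), x ^ p ^ a = 1 → j.Coprime p → χ (x ^ j) = χ x) :
    ∀ (a : ℕ) (x : G), x ^ p ^ a = 1 → ∀ z d : ℤ, (z : ℂ) = χ x → (d : ℂ) = χ 1 →
      (p : ℤ) ∣ z - d := by
  intro a
  induction a with
  | zero =>
    intro x hx z d hz hd
    rw [pow_zero, pow_one] at hx
    subst hx
    have : z = d := by
      have : (z : ℂ) = (d : ℂ) := by rw [hz, hd]
      exact_mod_cast this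
    rw [this, sub_self]; exact dvd_zero _
  | succ a ih =>
    intro x hx z d hz hd
    have hx' : (x ^ p) ^ p ^ a = 1 := by rw [← pow_mul, ← pow_succ']; exact hx
    obtain ⟨z₂, hz₂⟩ := s1_char_int hp hχ hpe hx'
    have h1 := ih (x ^ p) hx' z₂ d hz₂ hd
    have h2 := int_dvd_sub_of_char hp hχ x z z₂ hz hz₂
    have : z - d = (z - z₂) + (z₂ - d) := by ring
    rw [this]; exact dvd_add h2 h1

/-- Lower bound: `(p - 1) χ(x) + χ(1) ≥ 0` for a `p`-element `x`. -/
theorem s1_char_lower_bound {p : ℕ} (hp : p.Prime) {χ : G → ℂ} (hχ : IsCharacter G χ)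
    (hpe : ∀ (x : G) (a j : ℕ), x ^ p ^ a = 1 → j.Coprime p → χ (x ^ j) = χ x)
    {x : G} {a : ℕ} (hx : x ^ p ^ a = 1) (z d : ℤ) (hz : (z : ℂ) = χ x) (hd : (d : ℂ) = χ 1) :
    0 ≤ ((p : ℤ) - 1) * z + d := by
  classical
  have hp1 : (1 : ℤ) ≤ p := by exact_mod_cast hp.one_lt.le
  have hd0 : 0 ≤ d := by
    obtain ⟨m, ρ, rfl⟩ := hχ
    have h1 : ρ.character 1 = (m : ℂ) := by
      rw [Representation.char_one]; simp
    rw [h1] at hd
    have : d = (m : ℤ) := by exact_mod_cast hd
    rw [this]; positivity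
  by_cases hx1 : x = 1
  · subst hx1
    have : z = d := by
      have : (z : ℂ) = (d : ℂ) := by rw [hz, hd]
      exact_mod_cast this
    rw [this]
    nlinarith
  -- order of x
  obtain ⟨k, hka, hk⟩ := (Nat.dvd_prime_pow hp).mp (orderOf_dvd_of_pow_eq_one hx)
  have hk0 : k ≠ 0 := by
    rintro rfl
    rw [pow_zero, orderOf_eq_one_iff] at hk
    exact hx1 hk
  obtain ⟨k', rfl⟩ := Nat.exists_eq_succ_of_ne_zero hk0
  set M := p ^ k' with hM
  have hN : orderOf x = p * M := by rw [hk, pow_succ']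
  have hMpos : 0 < M := pow_pos hp.pos _
  -- integer values on powers
  have hex : ∀ j : ℕ, ∃ w : ℤ, (w : ℂ) = χ (x ^ j) := fun j =>
    s1_char_int hp hχ hpe
      (show (x ^ j) ^ p ^ a = 1 by rw [← pow_mul, mul_comm, pow_mul, hx, one_pow])
  choose w hw using hex
  have hwle : ∀ j, w j ≤ d := fun j => (char_int_le_degree hχ (x ^ j) (w j) d (hw j) hd).1
  have hwcop : ∀ j, ¬ p ∣ j → w j = z := by
    intro j hj
    have hjp : Nat.Coprime j p :=
      Nat.Coprime.symm ((Nat.Prime.coprime_iff_not_dvd hp).mpr hj)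
    have := hpe _ _ _ hx hjp
    have h2 : (w j : ℂ) = (z : ℂ) := by rw [hw j, this, hz]
    exact_mod_cast h2
  -- the sum over the cyclic group is non-negative
  obtain ⟨n, α, hα, hval⟩ := exists_eigenvalues hχ x
  have hsum : ∃ c : ℕ, ∑ j ∈ Finset.range (p * M), w j = (c : ℤ) := by
    refine ⟨(Finset.univ.filter (fun i => α i = 1)).card * (p * M), ?_⟩
    have : ((∑ j ∈ Finset.range (p * M), w j : ℤ) : ℂ) =
        (((Finset.univ.filter (fun i => α i = 1)).card * (p * M) : ℕ) : ℂ) := by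
      push_cast
      have h1 : ∀ j ∈ Finset.range (p * M), (w j : ℂ) = ∑ i, α i ^ j := fun j _ => by
        rw [hw j, hval j]
      rw [Finset.sum_congr rfl h1, Finset.sum_comm]
      have h2 : ∀ i ∈ (Finset.univ : Finset (Fin n)), ∑ j ∈ Finset.range (p * M), α i ^ j =
          if α i = 1 then ((p * M : ℕ) : ℂ) else 0 := fun i _ => by
        apply sum_range_pow_of_pow_eq_one
        rw [← hN]; exact hα i
      rw [Finset.sum_congr rfl h2, Finset.sum_ite, Finset.sum_const, Finset.sum_const_zero,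
        add_zero, nsmul_eq_mul]
      push_cast; ring
    exact_mod_cast this
  obtain ⟨c, hc⟩ := hsum
  rw [sum_range_mul_split p M hp.pos w] at hc
  have h1 : ∑ q ∈ Finset.range M, w (p * q) ≤ M * d := by
    have := Finset.sum_le_card_nsmul (Finset.range M) (fun q => w (p * q)) d
      (fun q _ => hwle _)
    rw [Finset.card_range, nsmul_eq_mul] at this
    exact this
  have h2 : ∑ j ∈ (Finset.range (p * M)).filter (fun j => ¬ p ∣ j), w j =
      ((p : ℤ) * M - M) * z := by
    rw [Finset.sum_congr rfl (fun j hj => hwcop j (Finset.mem_filter.mp hj).2),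
      Finset.sum_const, nsmul_eq_mul, card_filter_not_dvd p M hp.pos]
  rw [h2] at hc
  have h3 : 0 ≤ (M : ℤ) * (((p : ℤ) - 1) * z + d) := by
    have : (0 : ℤ) ≤ c := by positivity
    nlinarith
  have hMpos' : (0 : ℤ) < M := by exact_mod_cast hMpos
  exact nonneg_of_mul_nonneg_right h3 hMpos'

/-- **Schur**: the order of a Sylow `p`-subgroup of a group with a faithful `p`-rational
character of degree `n` divides `p ^ R * R!`, where `R = ⌊n / (p - 1)⌋`. -/
theorem s1_schur_pow_dvd (p : ℕ) (hp : p.Prime) (χ : G → ℂ) (hχ : IsCharacter G χ)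
    (hfaith : ∀ g : G, χ g = χ 1 → g = 1) (hpe : ∀ (x : G) (a j : ℕ), x ^ p ^ a = 1 → j.Coprime p → χ (x ^ j) = χ x)
    (n : ℕ) (hn : χ 1 = (n : ℂ)) :
    p ^ (Nat.card G).factorization p ∣ p ^ (n / (p - 1)) * (n / (p - 1)).factorial := by
  classical
  have := Fact.mk hp
  set a := (Nat.card G).factorization p with ha
  let P : Sylow p G := default
  have hPcard : Nat.card P = p ^ a := P.card_eq_multiplicity
  have : Fintype P := Fintype.ofFinite P
  have hxP : ∀ x : P, (x : G) ^ p ^ a = 1 := by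
    intro x
    have h : x ^ p ^ a = 1 := by rw [← hPcard]; exact pow_card_eq_one'
    have h2 := congrArg (fun t : P => (t : G)) h
    simpa using h2
  choose z hz using fun x : P => s1_char_int hp hχ hpe (hxP x)
  set d : ℤ := (n : ℤ) with hd
  have hdχ : (d : ℂ) = χ 1 := by rw [hn, hd]; simp
  set R := n / (p - 1) with hR
  have hp1 : 0 < p - 1 := Nat.sub_pos_of_lt hp.one_lt
  have hpZ : (0 : ℤ) < p := by exact_mod_cast hp.pos
  set Q : Polynomial ℤ := ∏ j ∈ Finset.range R, (X - C (d - ((j : ℤ) + 1) * p)) with hQ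
  have hQeval : ∀ t : ℤ, Q.eval t = ∏ j ∈ Finset.range R, (t - (d - ((j : ℤ) + 1) * p)) := by
    intro t
    rw [hQ, Polynomial.eval_prod]
    exact Finset.prod_congr rfl fun j _ => by simp
  -- vanishing off the identity
  have hvanish : ∀ x : P, x ≠ 1 → Q.eval (z x) = 0 := by
    intro x hx1
    have hxG : (x : G) ≠ 1 := fun h => hx1 (Subtype.ext h)
    obtain ⟨hle, heq⟩ := char_int_le_degree hχ (x : G) (z x) d (hz x) hdχ
    have hne : z x ≠ d := fun h => hxG (hfaith _ (heq h))
    have hlt : z x < d := lt_of_le_of_ne hle hne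
    obtain ⟨t, ht⟩ := s1_int_dvd_char_sub_degree hp hχ hpe a (x : G) (hxP x) (z x) d
      (hz x) hdχ
    have hlow := s1_char_lower_bound hp hχ hpe (hxP x) (z x) d (hz x) hdχ
    -- z x = d + p * t with t < 0
    have ht0 : t < 0 := by
      by_contra hcon
      have : 0 ≤ t := not_lt.mp hcon
      nlinarith
    have hzx : z x = d + p * t := by linarith
    -- bound: (p - 1) * (-t) ≤ d
    have hbound : ((p : ℤ) - 1) * (-t) ≤ d := by
      rw [hzx] at hlow
      have h1 : 0 ≤ (p : ℤ) * (d - ((p : ℤ) - 1) * (-t)) := by nlinarith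
      have h2 := nonneg_of_mul_nonneg_right h1 hpZ
      linarith
    -- natural number index
    obtain ⟨s, hs⟩ := Int.eq_ofNat_of_zero_le (show 0 ≤ -t - 1 by linarith)
    have hsR : s < R := by
      rw [hR, Nat.lt_iff_add_one_le, Nat.le_div_iff_mul_le hp1]
      have h1 : ((s + 1 : ℕ) : ℤ) = -t := by push_cast; linarith
      have h2 : (((s + 1) * (p - 1) : ℕ) : ℤ) ≤ (n : ℤ) := by
        rw [Nat.cast_mul, h1, Nat.cast_sub hp.one_lt.le]
        push_cast
        rw [mul_comm]; exact hbound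
      exact_mod_cast h2
    rw [hQeval]
    apply Finset.prod_eq_zero (Finset.mem_range.mpr hsR)
    rw [hzx]
    have : (s : ℤ) = -t - 1 := hs.symm
    rw [this]; ring
  -- value at the identity
  have hz1 : z 1 = d := by
    have : (z 1 : ℂ) = (d : ℂ) := by rw [hz 1, hdχ]; simp
    exact_mod_cast this
  have hone : Q.eval (z 1) = ((p ^ R * R.factorial : ℕ) : ℤ) := by
    rw [hz1, hQeval]
    have h1 : ∀ j ∈ Finset.range R, (d - (d - ((j : ℤ) + 1) * p)) = ((j + 1 : ℕ) : ℤ) * (p : ℤ) :=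
      fun j _ => by push_cast; ring
    rw [Finset.prod_congr rfl h1, Finset.prod_mul_distrib, Finset.prod_const, Finset.card_range,
      ← Nat.cast_prod, Finset.prod_range_add_one_eq_factorial]
    push_cast; ring
  have hsum : ∑ x : P, Q.eval (z x) = ((p ^ R * R.factorial : ℕ) : ℤ) := by
    have h1 := Finset.sum_eq_single (s := Finset.univ) (f := fun x : P => Q.eval (z x)) (1 : P)
      (fun x _ hx => hvanish x hx) (fun h => absurd (Finset.mem_univ _) h)
    exact h1.trans hone
  -- divisibility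
  have hdiv : ((Nat.card P : ℕ) : ℤ) ∣ ∑ x : P, Q.eval (z x) := by
    apply dvd_sum_eval
    intro m
    obtain ⟨k, hk⟩ := Cfsg.Agent.Lib.Helper80.exists_sum_subgroup_eq (isCharacter_pow_fun hχ m)
      (P : Subgroup G)
    refine ⟨(k : ℤ), ?_⟩
    have : ((∑ x : P, z x ^ m : ℤ) : ℂ) = (((Nat.card P : ℕ) : ℤ) * (k : ℤ) : ℤ) := by
      push_cast
      rw [← hk]
      exact Finset.sum_congr rfl fun x _ => by rw [hz x]
    exact_mod_cast this
  rw [hsum, hPcard] at hdiv
  exact_mod_cast hdiv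


end S1

/-- LEAF S1. -/
theorem schur_pe {G : Type u} [Group G] [Finite G] (p : ℕ) (hp : p.Prime) (χ : G → ℂ)
    (hχ : IsCharacter G χ) (hfaith : ∀ g : G, χ g = χ 1 → g = 1)
    (hpe : ∀ (x : G) (a j : ℕ), x ^ p ^ a = 1 → j.Coprime p → χ (x ^ j) = χ x)
    (n : ℕ) (hn : charDegree χ = n) :
    (Nat.card G).factorization p ≤ lam p n := by
  have h1 : χ 1 = (n : ℂ) := char_one_natCast hχ n hn
  exact factorization_le_of_pow_dvd p hp n _ (s1_schur_pow_dvd p hp χ hχ hfaith hpe n h1)

end Cfsg.Agent.Lib.Helper16.PSL
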