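import Mathlib
import Cfsg.Agent.Lib.Helper20.SuBNDefs

set_option autoImplicit false

/-!
# S2546 hive (helper20), leaf SuBN-R1: the reflections `rr i` as explicit maps on values
-/

namespace Cfsg.Agent.Lib.Helper20.SuBN

variable {n : ℕ}

theorem r1_fa_val (i : Fin (n / 2)) : ((fa i : Fin n) : ℕ) = i := rfl

theorem r1_fb_val_short (i : Fin (n / 2)) (h : (i : ℕ) + 1 < n / 2) :
    ((fb i : Fin n) : ℕ) = i + 1 := by
  unfold fb; rw [dif_pos h]

theorem r1_fb_long (i : Fin (n / 2)) (h : ¬ (i : ℕ) + 1 < n / 2) :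
    (fb i : Fin n) = Fin.rev (fa i) := by
  unfold fb; rw [dif_neg h]

theorem r1_rev_val (x : Fin n) : ((Fin.rev x : Fin n) : ℕ) = n - 1 - x := by
  rw [Fin.val_rev]; omega

theorem r1_rr_short (i : Fin (n / 2)) (h : (i : ℕ) + 1 < n / 2) (x : Fin n) :
    ((rr i x : Fin n) : ℕ) = if (x : ℕ) = i then (i : ℕ) + 1 else if (x : ℕ) = i + 1 then (i : ℕ)
      else if (x : ℕ) = n - 2 - i then n - 1 - i else if (x : ℕ) = n - 1 - i then n - 2 - i
      else (x : ℕ) := by
  have ha := r1_fa_val i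
  have hb := r1_fb_val_short i h
  have hra := r1_rev_val (fa i)
  have hrb := r1_rev_val (fb i)
  have hx := x.2
  unfold rr
  rw [if_pos h, Equiv.Perm.mul_apply, Equiv.swap_apply_def, Equiv.swap_apply_def]
  simp only [Fin.ext_iff]
  split_ifs <;> omega

theorem r1_rr_long (i : Fin (n / 2)) (h : ¬ (i : ℕ) + 1 < n / 2) (x : Fin n) :
    ((rr i x : Fin n) : ℕ) = if (x : ℕ) = i then n - 1 - i else if (x : ℕ) = n - 1 - i then (i : ℕ)
      else (x : ℕ) := by
  have ha := r1_fa_val i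
  have hra := r1_rev_val (fa i)
  have hx := x.2
  unfold rr
  rw [if_neg h, Equiv.swap_apply_def]
  simp only [Fin.ext_iff]
  split_ifs <;> omega


/-- SuBN-R1 -/
theorem rr_rev (i : Fin (n / 2)) (x : Fin n) : rr i (Fin.rev x) = Fin.rev (rr i x) := by
  apply Fin.ext
  have hi := i.2
  have hx := x.2
  have h1 := r1_rev_val x
  have h2 := r1_rev_val (rr i x)
  by_cases h : (i : ℕ) + 1 < n / 2
  · have h3 := r1_rr_short i h x
    have h4 := r1_rr_short i h (Fin.rev x)
    rw [h2, h4, h3, h1]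
    split_ifs <;> omega
  · have h3 := r1_rr_long i h x
    have h4 := r1_rr_long i h (Fin.rev x)
    rw [h2, h4, h3, h1]
    split_ifs <;> omega

/-- SuBN-R1 -/
theorem rr_mul_self (i : Fin (n / 2)) : rr i * rr i = (1 : Equiv.Perm (Fin n)) := by
  ext x
  rw [Equiv.Perm.mul_apply, Equiv.Perm.one_apply]
  have hi := i.2
  have hx := x.2
  by_cases h : (i : ℕ) + 1 < n / 2
  · have h3 := r1_rr_short i h x
    have h4 := r1_rr_short i h (rr i x)
    rw [h4, h3]
    split_ifs <;> omega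
  · have h3 := r1_rr_long i h x
    have h4 := r1_rr_long i h (rr i x)
    rw [h4, h3]
    split_ifs <;> omega

theorem r1_moved (j : Fin (n / 2)) (x : Fin n) (hx : (x : ℕ) < n / 2)
    (hm : ((rr j x : Fin n) : ℕ) ≠ x) : (x : ℕ) = j ∨ (x : ℕ) = j + 1 := by
  have hj := j.2
  by_cases h : (j : ℕ) + 1 < n / 2
  · rw [r1_rr_short j h x] at hm
    split_ifs at hm <;> omega
  · rw [r1_rr_long j h x] at hm
    split_ifs at hm <;> omega

theorem r1_rr_fa_ne (i : Fin (n / 2)) : ((rr i (fa i) : Fin n) : ℕ) ≠ (fa i : Fin n) := by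
  have hi := i.2
  have hai := r1_fa_val (n := n) i
  by_cases h : (i : ℕ) + 1 < n / 2
  · rw [r1_rr_short i h (fa i), hai]
    split_ifs <;> omega
  · rw [r1_rr_long i h (fa i), hai]
    split_ifs <;> omega

/-- SuBN-R1 -/
theorem rr_injective : Function.Injective (rr : Fin (n / 2) → Equiv.Perm (Fin n)) := by
  intro i j hij
  apply Fin.ext
  have hi := i.2
  have hj := j.2
  have hai := r1_fa_val (n := n) i
  have haj := r1_fa_val (n := n) j
  have e1 : ((rr j (fa i) : Fin n) : ℕ) ≠ (fa i : Fin n) := by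
    rw [← hij]; exact r1_rr_fa_ne i
  have e2 : ((rr i (fa j) : Fin n) : ℕ) ≠ (fa j : Fin n) := by
    rw [hij]; exact r1_rr_fa_ne j
  have h1 := r1_moved j (fa i) (by rw [hai]; exact hi) e1
  have h2 := r1_moved i (fa j) (by rw [haj]; exact hj) e2
  rw [hai] at h1
  rw [haj] at h2
  omega

end Cfsg.Agent.Lib.Helper20.SuBN
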