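import Mathlib
import Cfsg.Agent.Lib.Helper20.SuBNDefs
import Cfsg.Agent.Lib.Helper39.SuBNR1

set_option autoImplicit false

/-!
# S2546 hive (helper20), leaf SuBN-P1: the inversion set of `rr i` is a single class
-/

namespace Cfsg.Agent.Lib.Helper20.SuBN

variable {n : ℕ}

/-- the inversions of a short reflection -/
theorem p1_inv_short (i : Fin (n / 2)) (hs : (i : ℕ) + 1 < n / 2) {a b : Fin n} (hab : a < b)
    (h : rr i b < rr i a) :
    (a = fa i ∧ b = fb i) ∨ (a = Fin.rev (fb i) ∧ b = Fin.rev (fa i)) := by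
  have hi := i.2
  have ha := a.2
  have hb := b.2
  have hab' : (a : ℕ) < b := hab
  have h' : ((rr i b : Fin n) : ℕ) < (rr i a : Fin n) := h
  rw [r1_rr_short i hs a, r1_rr_short i hs b] at h'
  have hav := r1_fa_val (n := n) i
  have hbv := r1_fb_val_short i hs
  have key : ((a : ℕ) = i ∧ (b : ℕ) = i + 1) ∨ ((a : ℕ) = n - 2 - i ∧ (b : ℕ) = n - 1 - i) := by
    split_ifs at h' <;> omega
  rcases key with ⟨h1, h2⟩ | ⟨h1, h2⟩
  · left
    exact ⟨Fin.ext (by rw [h1, hav]), Fin.ext (by rw [h2, hbv])⟩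
  · right
    refine ⟨Fin.ext (by rw [h1, r1_rev_val, hbv]; omega), Fin.ext (by rw [h2, r1_rev_val, hav])⟩

theorem p1_rr_fa_short (i : Fin (n / 2)) (hs : (i : ℕ) + 1 < n / 2) : rr i (fa i) = (fb i : Fin n) := by
  apply Fin.ext
  rw [r1_rr_short i hs (fa i), r1_fb_val_short i hs, r1_fa_val]
  simp

theorem p1_rr_fb_short (i : Fin (n / 2)) (hs : (i : ℕ) + 1 < n / 2) : rr i (fb i) = (fa i : Fin n) := by
  apply Fin.ext
  rw [r1_rr_short i hs (fb i), r1_fb_val_short i hs, r1_fa_val]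
  simp

/-- SuBN-P1: the inversion set of `rr i` is a single class under permutations commuting with `rev`. -/
theorem rr_dichotomy (i : Fin (n / 2)) (π : Equiv.Perm (Fin n))
    (hπ : ∀ x, π (Fin.rev x) = Fin.rev (π x)) :
    (∀ a b : Fin n, a < b → rr i b < rr i a → π⁻¹ a < π⁻¹ b) ∨
      (∀ a b : Fin n, a < b → rr i b < rr i a → π⁻¹ (rr i a) < π⁻¹ (rr i b)) := by
  have hi := i.2
  have hav := r1_fa_val (n := n) i
  -- `π⁻¹` commutes with `rev`
  have hρ : ∀ x, π⁻¹ (Fin.rev x) = Fin.rev (π⁻¹ x) := by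
    intro x
    rw [Equiv.Perm.inv_eq_iff_eq, hπ, Equiv.Perm.inv_def, Equiv.apply_symm_apply]
  have hρv : ∀ x : Fin n, ((π⁻¹ (Fin.rev x) : Fin n) : ℕ) = n - 1 - ((π⁻¹ x : Fin n) : ℕ) := by
    intro x
    rw [hρ, r1_rev_val]
  by_cases hs : (i : ℕ) + 1 < n / 2
  · have hne : (fa i : Fin n) ≠ fb i := by
      intro hc
      have := congrArg (fun z : Fin n => (z : ℕ)) hc
      simp only [hav, r1_fb_val_short i hs] at this
      omega
    rcases lt_or_gt_of_ne (fun hc => hne ((π⁻¹).injective hc)) with hc | hc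
    · left
      intro a b hab hinv
      rcases p1_inv_short i hs hab hinv with ⟨rfl, rfl⟩ | ⟨rfl, rfl⟩
      · exact hc
      · rw [hρ, hρ]
        exact Fin.rev_lt_rev.mpr hc
    · right
      intro a b hab hinv
      rcases p1_inv_short i hs hab hinv with ⟨rfl, rfl⟩ | ⟨rfl, rfl⟩
      · rw [p1_rr_fa_short i hs, p1_rr_fb_short i hs]
        exact hc
      · rw [rr_rev, rr_rev, p1_rr_fa_short i hs, p1_rr_fb_short i hs, hρ, hρ]
        exact Fin.rev_lt_rev.mpr hc
  · -- the long reflection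
    have hmid : ∀ x : Fin n, Fin.rev x = x → ((π⁻¹ x : Fin n) : ℕ) = x := by
      intro x hx
      have h1 := hρv x
      rw [hx] at h1
      have h2 := congrArg (fun z : Fin n => (z : ℕ)) hx
      simp only [r1_rev_val] at h2
      have h3 := (π⁻¹ x).2
      have h4 := x.2
      omega
    have hu := hρv (fa i)
    have hu2 := (π⁻¹ (fa i)).2
    have hne : ((π⁻¹ (fa i) : Fin n) : ℕ) ≠ n - 1 - ((π⁻¹ (fa i) : Fin n) : ℕ) := by
      intro hc
      have h1 : π⁻¹ (Fin.rev (fa i)) = π⁻¹ (fa i) := Fin.ext (by rw [hu]; exact hc.symm)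
      have h2 := congrArg (fun z : Fin n => (z : ℕ)) ((π⁻¹).injective h1)
      simp only [r1_rev_val, hav] at h2
      omega
    -- description of an inversion
    have hinvd : ∀ a b : Fin n, a < b → rr i b < rr i a →
        (i : ℕ) ≤ (a : ℕ) ∧ (a : ℕ) < (b : ℕ) ∧ (b : ℕ) ≤ n - 1 - i := by
      intro a b hab hinv
      have hab' : (a : ℕ) < b := hab
      have h' : ((rr i b : Fin n) : ℕ) < (rr i a : Fin n) := hinv
      have ha := a.2
      have hb := b.2
      rw [r1_rr_long i hs a, r1_rr_long i hs b] at h'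
      split_ifs at h' <;> omega
    -- values of `π⁻¹` and of `π⁻¹ ∘ rr i` on the block
    have hval : ∀ x : Fin n, (i : ℕ) ≤ (x : ℕ) → (x : ℕ) ≤ n - 1 - i →
        (((x : ℕ) = i ∧ ((π⁻¹ x : Fin n) : ℕ) = ((π⁻¹ (fa i) : Fin n) : ℕ) ∧
            ((π⁻¹ (rr i x) : Fin n) : ℕ) = n - 1 - ((π⁻¹ (fa i) : Fin n) : ℕ)) ∨
          ((x : ℕ) = n - 1 - i ∧ ((π⁻¹ x : Fin n) : ℕ) = n - 1 - ((π⁻¹ (fa i) : Fin n) : ℕ) ∧
            ((π⁻¹ (rr i x) : Fin n) : ℕ) = ((π⁻¹ (fa i) : Fin n) : ℕ)) ∨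
          ((x : ℕ) = i + 1 ∧ n = 2 * i + 3 ∧ ((π⁻¹ x : Fin n) : ℕ) = i + 1 ∧
            ((π⁻¹ (rr i x) : Fin n) : ℕ) = i + 1)) := by
      intro x hx1 hx2
      have hx := x.2
      by_cases c1 : (x : ℕ) = i
      · left
        have e1 : x = fa i := Fin.ext (by rw [c1, hav])
        have e2 : rr i x = Fin.rev (fa i) := by
          apply Fin.ext
          rw [r1_rr_long i hs x, r1_rev_val, hav, if_pos c1]
        refine ⟨c1, by rw [e1], ?_⟩
        rw [e2, hu]
      · by_cases c2 : (x : ℕ) = n - 1 - i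
        · right; left
          have e1 : x = Fin.rev (fa i) := Fin.ext (by rw [c2, r1_rev_val, hav])
          have e2 : rr i x = fa i := by
            apply Fin.ext
            rw [r1_rr_long i hs x, hav, if_neg c1, if_pos c2]
          refine ⟨c2, by rw [e1, hu], ?_⟩
          rw [e2]
        · right; right
          have e1 : Fin.rev x = x := Fin.ext (by rw [r1_rev_val]; omega)
          have e2 : rr i x = x := by
            apply Fin.ext
            rw [r1_rr_long i hs x, if_neg c1, if_neg c2]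
          have := hmid x e1
          refine ⟨by omega, by omega, by omega, ?_⟩
          rw [e2]; omega
    rcases lt_or_gt_of_ne hne with hc | hc
    · left
      intro a b hab hinv
      obtain ⟨h1, h2, h3⟩ := hinvd a b hab hinv
      have ha := hval a h1 (by omega)
      have hb := hval b (by omega) h3
      show ((π⁻¹ a : Fin n) : ℕ) < ((π⁻¹ b : Fin n) : ℕ)
      omega
    · right
      intro a b hab hinv
      obtain ⟨h1, h2, h3⟩ := hinvd a b hab hinv
      have ha := hval a h1 (by omega)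
      have hb := hval b (by omega) h3
      show ((π⁻¹ (rr i a) : Fin n) : ℕ) < ((π⁻¹ (rr i b) : Fin n) : ℕ)
      omega

end Cfsg.Agent.Lib.Helper20.SuBN
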