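import Mathlib
import Cfsg.Agent.Lib.Helper20.SuBNDefs
import Cfsg.Agent.Lib.Helper39.SuBNR1

set_option autoImplicit false

/-!
# S2546 hive (helper20), leaf SuBN-P3: the block function `bk i`
-/

namespace Cfsg.Agent.Lib.Helper20.SuBN

variable {n : ℕ}

theorem p3_bk_short (i : Fin (n / 2)) (h : (i : ℕ) + 1 < n / 2) (x : Fin n) :
    bk i x = if (x : ℕ) = i + 1 then (i : ℕ) else if (x : ℕ) = n - 1 - i then n - 2 - i
      else (x : ℕ) := by
  have ha := r1_fa_val (n := n) i
  have hb := r1_fb_val_short i h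
  have hra := r1_rev_val (fa i)
  have hrb := r1_rev_val (fb i)
  have hx := x.2
  unfold bk
  rw [if_pos h]
  simp only [Fin.ext_iff]
  split_ifs <;> omega

theorem p3_bk_long (i : Fin (n / 2)) (h : ¬ (i : ℕ) + 1 < n / 2) (x : Fin n) :
    bk i x = if (i : ℕ) ≤ (x : ℕ) ∧ (x : ℕ) ≤ n - 1 - i then (i : ℕ) else (x : ℕ) := by
  have ha := r1_fa_val (n := n) i
  have hra := r1_rev_val (fa i)
  have hx := x.2
  unfold bk
  rw [if_neg h]
  simp only [Fin.le_def]
  split_ifs <;> omega

/-- SuBN-P3 (1/3) -/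
theorem bk_monotone (i : Fin (n / 2)) : Monotone (bk i : Fin n → ℕ) := by
  intro x y hxy
  have hi := i.2
  have hx := x.2
  have hy := y.2
  have hxy' : (x : ℕ) ≤ y := hxy
  by_cases h : (i : ℕ) + 1 < n / 2
  · rw [p3_bk_short i h x, p3_bk_short i h y]
    split_ifs <;> omega
  · rw [p3_bk_long i h x, p3_bk_long i h y]
    split_ifs <;> omega

/-- `rr i` preserves the blocks. -/
theorem p3_bk_rr (i : Fin (n / 2)) (x : Fin n) : bk i (rr i x) = bk i x := by
  have hi := i.2
  have hx := x.2
  by_cases h : (i : ℕ) + 1 < n / 2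
  · have h1 := r1_rr_short i h x
    rw [p3_bk_short i h x, p3_bk_short i h (rr i x)]
    split_ifs at h1 <;> split_ifs <;> omega
  · have h1 := r1_rr_long i h x
    rw [p3_bk_long i h x, p3_bk_long i h (rr i x)]
    split_ifs at h1 <;> split_ifs <;> omega

/-- an inversion of `rr i` lies inside a block -/
theorem p3_inversion (i : Fin (n / 2)) {a b : Fin n} (hab : a < b) (h : rr i b < rr i a) :
    bk i a = bk i b := by
  have hi := i.2
  have ha := a.2
  have hb := b.2
  have hab' : (a : ℕ) < b := hab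
  have h' : ((rr i b : Fin n) : ℕ) < (rr i a : Fin n) := h
  by_cases hs : (i : ℕ) + 1 < n / 2
  · rw [r1_rr_short i hs a, r1_rr_short i hs b] at h'
    rw [p3_bk_short i hs a, p3_bk_short i hs b]
    split_ifs at h' <;> split_ifs <;> omega
  · rw [r1_rr_long i hs a, r1_rr_long i hs b] at h'
    rw [p3_bk_long i hs a, p3_bk_long i hs b]
    split_ifs at h' <;> split_ifs <;> omega

/-- SuBN-P3 (2/3): inversions of `rr i` lie inside a block, and `rr i` preserves the blocks -/
theorem bk_of_inversion (i : Fin (n / 2)) {a b : Fin n} (hab : a < b) (h : rr i b < rr i a) :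
    bk i (rr i a) = bk i (rr i b) := by
  rw [p3_bk_rr, p3_bk_rr]
  exact p3_inversion i hab h


/-- a block preserving permutation commuting with `rev` and fixing `fa i` is trivial -/
theorem p3_eq_one (i : Fin (n / 2)) (π : Equiv.Perm (Fin n))
    (hπ : ∀ x, π (Fin.rev x) = Fin.rev (π x)) (hb : ∀ j, bk i (π j) = bk i j)
    (h0 : π (fa i) = fa i) : π = 1 := by
  have hi := i.2
  have hav := r1_fa_val (n := n) i
  -- `fa i` and `rev (fa i)` are fixed
  have f1 : ∀ x : Fin n, (x : ℕ) = i → ((π x : Fin n) : ℕ) = i := by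
    intro x hx
    have : x = fa i := Fin.ext (by rw [hx, hav])
    rw [this, h0, hav]
  have f3 : ∀ x : Fin n, (x : ℕ) = n - 1 - i → ((π x : Fin n) : ℕ) = n - 1 - i := by
    intro x hx
    have : x = Fin.rev (fa i) := Fin.ext (by rw [hx, r1_rev_val, hav])
    rw [this, hπ, h0, r1_rev_val, hav]
  ext x
  rw [Equiv.Perm.one_apply]
  have hx := x.2
  have hpx := (π x).2
  have hbx := hb x
  by_cases hs : (i : ℕ) + 1 < n / 2
  · have f2 : ∀ y : Fin n, (y : ℕ) = i + 1 → ((π y : Fin n) : ℕ) = i + 1 := by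
      intro y hy
      have hby := hb y
      have hpy := (π y).2
      rw [p3_bk_short i hs y, p3_bk_short i hs (π y)] at hby
      have hne : ((π y : Fin n) : ℕ) ≠ i := by
        intro hc
        have h1 : π y = π (fa i) := by
          rw [h0]; exact Fin.ext (by rw [hc, hav])
        have h2 := congrArg (fun z : Fin n => (z : ℕ)) (π.injective h1)
        simp only [hav] at h2
        omega
      split_ifs at hby <;> omega
    have f4 : ∀ y : Fin n, (y : ℕ) = n - 2 - i → ((π y : Fin n) : ℕ) = n - 2 - i := by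
      intro y hy
      have hy2 := y.2
      have : y = Fin.rev (Fin.rev y) := (Fin.rev_rev y).symm
      rw [this, hπ, r1_rev_val, f2 (Fin.rev y) (by rw [r1_rev_val]; omega)]
      omega
    rw [p3_bk_short i hs x, p3_bk_short i hs (π x)] at hbx
    by_cases c1 : (x : ℕ) = i
    · rw [f1 x c1, c1]
    by_cases c2 : (x : ℕ) = i + 1
    · rw [f2 x c2, c2]
    by_cases c3 : (x : ℕ) = n - 1 - i
    · rw [f3 x c3, c3]
    by_cases c4 : (x : ℕ) = n - 2 - i
    · rw [f4 x c4, c4]
    -- the images of the four special points are the special points, so `π x` is not special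
    have g1 : ((π x : Fin n) : ℕ) ≠ i + 1 := by
      intro hc
      obtain ⟨y, hy⟩ : ∃ y : Fin n, (y : ℕ) = i + 1 := ⟨⟨i + 1, by omega⟩, rfl⟩
      have h1 : π x = π y := Fin.ext (by rw [hc, f2 y hy])
      have h2 := congrArg (fun z : Fin n => (z : ℕ)) (π.injective h1)
      omega
    have g2 : ((π x : Fin n) : ℕ) ≠ n - 1 - i := by
      intro hc
      obtain ⟨y, hy⟩ : ∃ y : Fin n, (y : ℕ) = n - 1 - i := ⟨⟨n - 1 - i, by omega⟩, rfl⟩
      have h1 : π x = π y := Fin.ext (by rw [hc, f3 y hy])
      have h2 := congrArg (fun z : Fin n => (z : ℕ)) (π.injective h1)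
      omega
    split_ifs at hbx <;> omega
  · rw [p3_bk_long i hs x, p3_bk_long i hs (π x)] at hbx
    by_cases c1 : (x : ℕ) = i
    · rw [f1 x c1, c1]
    by_cases c3 : (x : ℕ) = n - 1 - i
    · rw [f3 x c3, c3]
    by_cases c2 : (i : ℕ) ≤ (x : ℕ) ∧ (x : ℕ) ≤ n - 1 - i
    · -- the middle point
      have hmid : Fin.rev x = x := Fin.ext (by rw [r1_rev_val]; omega)
      have h1 := hπ x
      rw [hmid] at h1
      have h2 := congrArg (fun z : Fin n => (z : ℕ)) h1
      simp only [r1_rev_val] at h2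
      omega
    · have g : ¬ ((i : ℕ) ≤ ((π x : Fin n) : ℕ) ∧ ((π x : Fin n) : ℕ) ≤ n - 1 - i) := by
        intro hc
        rw [if_pos hc, if_neg c2] at hbx
        omega
      rw [if_neg g, if_neg c2] at hbx
      exact hbx

/-- SuBN-P3 (3/3): a block preserving permutation commuting with `rev` is `1` or `rr i`. -/
theorem perm_of_bk (i : Fin (n / 2)) (π : Equiv.Perm (Fin n))
    (hπ : ∀ x, π (Fin.rev x) = Fin.rev (π x)) (hb : ∀ j, bk i (π j) = bk i j) :
    π = 1 ∨ π = rr i := by
  by_cases h0 : π (fa i) = fa i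
  · exact Or.inl (p3_eq_one i π hπ hb h0)
  · right
    have hi := i.2
    have hav := r1_fa_val (n := n) i
    have h0' : ((π (fa i) : Fin n) : ℕ) ≠ i := fun hc => h0 (Fin.ext (by rw [hc, hav]))
    have hpa := (π (fa i)).2
    -- `π (fa i) = rr i (fa i)`
    have key : rr i (π (fa i)) = fa i := by
      have hba := hb (fa i)
      apply Fin.ext
      by_cases hs : (i : ℕ) + 1 < n / 2
      · rw [p3_bk_short i hs (fa i), p3_bk_short i hs (π (fa i)), hav] at hba
        rw [r1_rr_short i hs (π (fa i)), hav]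
        split_ifs at hba <;> split_ifs <;> omega
      · rw [p3_bk_long i hs (fa i), p3_bk_long i hs (π (fa i)), hav] at hba
        rw [r1_rr_long i hs (π (fa i)), hav]
        -- exclude the middle point
        have hmid : ((π (fa i) : Fin n) : ℕ) ≠ n - 1 - ((π (fa i) : Fin n) : ℕ) := by
          intro hc
          have h1 : Fin.rev (π (fa i)) = π (fa i) := Fin.ext (by rw [r1_rev_val]; omega)
          rw [← hπ] at h1
          have h2 := congrArg (fun z : Fin n => (z : ℕ)) (π.injective h1)
          simp only [r1_rev_val, hav] at h2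
          omega
        split_ifs at hba <;> split_ifs <;> omega
    have h1 : rr i * π = 1 := by
      apply p3_eq_one i (rr i * π)
      · intro x
        rw [Equiv.Perm.mul_apply, Equiv.Perm.mul_apply, hπ, rr_rev]
      · intro j
        rw [Equiv.Perm.mul_apply, p3_bk_rr, hb]
      · rw [Equiv.Perm.mul_apply, key]
    have h2 : rr i * π = rr i * rr i := by rw [h1, rr_mul_self]
    exact mul_left_cancel h2

end Cfsg.Agent.Lib.Helper20.SuBN
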