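import Mathlib
import Cfsg.Agent.Lib.Helper8.CartanDieudonne2

/-! # Squares of isometries lie in `Ω = [O, O]` (helper39; tool for the Og hive S2413-S2415)

`O(Q)` is generated by reflections (helper8 Cartan-Dieudonne, all characteristics), which are involutions,
so `O / [O, O]` is an elementary abelian 2-group and every square lies in the commutator subgroup. -/

set_option autoImplicit false

namespace Cfsg.Agent.Lib.Helper39.OgSq

open Matrix Module

/-- In a group generated by involutions, every square lies in the commutator subgroup. -/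
theorem sq_mem_commutator_of_closure {G : Type*} [Group G] (S : Set G)
    (hS : Subgroup.closure S = ⊤) (hinv : ∀ s ∈ S, s * s = 1) (g : G) :
    g * g ∈ commutator G := by
  have hg : g ∈ Subgroup.closure S := by rw [hS]; trivial
  induction hg using Subgroup.closure_induction with
  | mem x hx => rw [hinv x hx]; exact Subgroup.one_mem _
  | one => rw [mul_one]; exact Subgroup.one_mem _
  | mul x y _ _ hx hy =>
    have hc : x⁻¹ * y * x * y⁻¹ ∈ commutator G := by
      have h := Subgroup.commutator_mem_commutator (Subgroup.mem_top (x⁻¹)) (Subgroup.mem_top y)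
      rw [commutatorElement_def, inv_inv] at h
      exact h
    have e : x * y * (x * y) = (x * x) * (x⁻¹ * y * x * y⁻¹) * (y * y) := by group
    rw [e]
    exact Subgroup.mul_mem _ (Subgroup.mul_mem _ hx hc) hy
  | inv x _ hx =>
    have e : x⁻¹ * x⁻¹ = (x * x)⁻¹ := by group
    rw [e]
    exact Subgroup.inv_mem _ hx

variable {ι : Type} [Fintype ι] [DecidableEq ι] {F : Type*} [Field F]

/-- Every square of an isometry of a nondegenerate quadratic form over a finite field lies in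
`Ω(Q) = [O(Q), O(Q)]` (dimension four over the field of two elements excluded). -/
theorem sq_mem_omega [Fintype F] (Q : QuadraticForm F (ι → F))
    (hQ : (QuadraticMap.polarBilin Q).Nondegenerate)
    (hcard : Fintype.card F ≠ 2 ∨ finrank F (ι → F) ≠ 4)
    (g : ↥(Cfsg.isometryGroup F ⇑Q)) : g * g ∈ Cfsg.Omega F ⇑Q :=
  sq_mem_commutator_of_closure (Cfsg.Agent.Lib.Helper8.reflSet Q)
    (Cfsg.Agent.Lib.Helper8.closure_reflSet_eq_top' Q hQ hcard)
    (fun s hs => by
      have h := Cfsg.Agent.Lib.Helper8.inv_mem_reflSet Q s hs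
      calc s * s = s * s⁻¹ := by rw [h]
        _ = 1 := mul_inv_cancel s) g

/-- power version: `g ^ 2 ∈ Ω` -/
theorem pow_two_mem_omega [Fintype F] (Q : QuadraticForm F (ι → F))
    (hQ : (QuadraticMap.polarBilin Q).Nondegenerate)
    (hcard : Fintype.card F ≠ 2 ∨ finrank F (ι → F) ≠ 4)
    (g : ↥(Cfsg.isometryGroup F ⇑Q)) : g ^ 2 ∈ Cfsg.Omega F ⇑Q := by
  rw [pow_two]
  exact sq_mem_omega Q hQ hcard g

/-- an isometry of odd order lies in `Ω` -/
theorem mem_omega_of_odd_order [Fintype F] (Q : QuadraticForm F (ι → F))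
    (hQ : (QuadraticMap.polarBilin Q).Nondegenerate)
    (hcard : Fintype.card F ≠ 2 ∨ finrank F (ι → F) ≠ 4)
    (g : ↥(Cfsg.isometryGroup F ⇑Q)) (n : ℕ) (hn : Odd n) (hg : g ^ n = 1) :
    g ∈ Cfsg.Omega F ⇑Q := by
  obtain ⟨k, rfl⟩ := hn
  have h : g = (g ^ 2)⁻¹ ^ k := by
    have h1 : g ^ (2 * k) * g = 1 := by rw [← pow_succ]; exact hg
    have h2 : g = (g ^ (2 * k))⁻¹ := eq_inv_of_mul_eq_one_right h1
    rw [inv_pow, ← pow_mul]
    exact h2
  rw [h]
  exact Subgroup.pow_mem _ (Subgroup.inv_mem _ (pow_two_mem_omega Q hQ hcard g)) k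

/-- two generators of a group give two generators of every quotient -/
theorem exists_two_gen_quotient {G : Type*} [Group G] (N : Subgroup G) [N.Normal] (x y : G)
    (h : Subgroup.closure ({x, y} : Set G) = ⊤) :
    ∃ a b : G ⧸ N, Subgroup.closure ({a, b} : Set (G ⧸ N)) = ⊤ := by
  refine ⟨QuotientGroup.mk x, QuotientGroup.mk y, ?_⟩
  have h1 := Subgroup.map_top_of_surjective (QuotientGroup.mk' N) (QuotientGroup.mk'_surjective _)
  rw [← h, MonoidHom.map_closure] at h1
  rw [← h1]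
  congr 1
  simp [Set.image_pair]

/-- `PΩ(Q)` is 2-generated as soon as `Ω(Q)` is -/
theorem pomega_two_gen (Q : (ι → F) → F) (x y : ↥(Cfsg.Omega F Q))
    (h : Subgroup.closure ({x, y} : Set ↥(Cfsg.Omega F Q)) = ⊤) :
    ∃ a b : Cfsg.POmega F Q, Subgroup.closure ({a, b} : Set (Cfsg.POmega F Q)) = ⊤ :=
  exists_two_gen_quotient _ x y h

/-- if `x y ∈ Ω` (as elements of `O`) and `Ω ≤ closure {x, y}` then `PΩ` is 2-generated -/
theorem pomega_two_gen_of_le (Q : (ι → F) → F) (x y : ↥(Cfsg.isometryGroup F Q))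
    (hx : x ∈ Cfsg.Omega F Q) (hy : y ∈ Cfsg.Omega F Q)
    (h : Cfsg.Omega F Q ≤ Subgroup.closure ({x, y} : Set ↥(Cfsg.isometryGroup F Q))) :
    ∃ a b : Cfsg.POmega F Q, Subgroup.closure ({a, b} : Set (Cfsg.POmega F Q)) = ⊤ := by
  refine pomega_two_gen Q ⟨x, hx⟩ ⟨y, hy⟩ ?_
  rw [eq_top_iff]
  rintro ⟨g, hg⟩ -
  have hg' := h hg
  have key : ∀ z ∈ Subgroup.closure ({x, y} : Set ↥(Cfsg.isometryGroup F Q)),
      ∃ hz : z ∈ Cfsg.Omega F Q, (⟨z, hz⟩ : ↥(Cfsg.Omega F Q)) ∈
        Subgroup.closure ({⟨x, hx⟩, ⟨y, hy⟩} : Set ↥(Cfsg.Omega F Q)) := by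
    intro z hz
    induction hz using Subgroup.closure_induction with
    | mem w hw =>
      rcases hw with rfl | rfl
      · exact ⟨hx, Subgroup.subset_closure (by simp)⟩
      · exact ⟨hy, Subgroup.subset_closure (by simp)⟩
    | one => exact ⟨Subgroup.one_mem _, Subgroup.one_mem _⟩
    | mul a b _ _ ha hb =>
      obtain ⟨ha1, ha2⟩ := ha
      obtain ⟨hb1, hb2⟩ := hb
      exact ⟨Subgroup.mul_mem _ ha1 hb1, Subgroup.mul_mem _ ha2 hb2⟩
    | inv a _ ha =>
      obtain ⟨ha1, ha2⟩ := ha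
      exact ⟨Subgroup.inv_mem _ ha1, Subgroup.inv_mem _ ha2⟩
  obtain ⟨_, h2⟩ := key g hg'
  exact h2

end Cfsg.Agent.Lib.Helper39.OgSq
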