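import Cfsg.Agent.Lib.Helper39.SmDefs
import Cfsg.Agent.Lib.Helper80.Stn_BASIC
import Cfsg.Agent.Lib.Helper24.Sm_GCM

/-! # Sm hive (S2086, owner helper39), leaf N-GADD: `g(t,u) = cm (xx a b t) (xx b c u)` is biadditive. -/

set_option autoImplicit false

namespace Cfsg.Agent.Lib.Helper39.Sm

open Cfsg.Agent.Lib.Helper41.Stn
open scoped commutatorElement

variable {K : Type*} [Field K] {n : ℕ} {Y : Type*} [Group Y] (φ : Y →* St K n)
  (hφ : Function.Surjective φ)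

/-- `cm (xx a b s) (xx b c t)` lifts `xx a c (s * t)` -/
theorem ngadd_map_cm {a b c : Fin n} (hab : a ≠ b) (hbc : b ≠ c) (hac : a ≠ c) (s t : K) :
    φ (cm φ hφ (xx a b s) (xx b c t)) = xx a c (s * t) := by
  rw [map_cm, commutatorElement_def, xx_comm3 hab hbc hac]

theorem gcm_add_left (hc : φ.ker ≤ Subgroup.center Y) (hLA : LA φ) {a b c : Fin n} (hab : a ≠ b)
    (hbc : b ≠ c) (hac : a ≠ c) (t t' u : K) : cm φ hφ (xx a b (t + t')) (xx b c u) =
      cm φ hφ (xx a b t) (xx b c u) * cm φ hφ (xx a b t') (xx b c u) := by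
  rw [add_comm t t', ← xx_add a b t' t,
    cm_mul_left φ hφ hc (xx a b t') (xx a b t) (xx b c u) (map_lft φ hφ (xx a b t'))]
  have h1 : φ (cm φ hφ (xx a b t) (xx b c u)) = xx a c (t * u) := ngadd_map_cm φ hφ hab hbc hac t u
  have h2 : Commute (lft φ hφ (xx a b t')) (cm φ hφ (xx a b t) (xx b c u)) :=
    hLA hab hac hac hab.symm t' (t * u) (map_lft φ hφ (xx a b t')) h1
  rw [h2.eq, mul_inv_cancel_right]

theorem gcm_add_right (hc : φ.ker ≤ Subgroup.center Y) (hLA : LA φ) {a b c : Fin n} (hab : a ≠ b)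
    (hbc : b ≠ c) (hac : a ≠ c) (t u u' : K) : cm φ hφ (xx a b t) (xx b c (u + u')) =
      cm φ hφ (xx a b t) (xx b c u) * cm φ hφ (xx a b t) (xx b c u') := by
  rw [← xx_add b c u u',
    cm_mul_right φ hφ hc (xx a b t) (xx b c u) (xx b c u') (map_lft φ hφ (xx b c u))]
  have h1 : φ (cm φ hφ (xx a b t) (xx b c u')) = xx a c (t * u') := ngadd_map_cm φ hφ hab hbc hac t u'
  have h2 : Commute (lft φ hφ (xx b c u)) (cm φ hφ (xx a b t) (xx b c u')) :=
    hLA hbc hac hbc hac.symm u (t * u') (map_lft φ hφ (xx b c u)) h1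
  rw [h2.eq, mul_inv_cancel_right]

end Cfsg.Agent.Lib.Helper39.Sm
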