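import Mathlib

/-! # Counting factorisations in a finite group (tool for the Hecke relations, FH-B1/B2/B3) -/

set_option autoImplicit false
set_option linter.unusedSectionVars false

namespace Cfsg.Agent.Lib.Helper6.FH

section Fact

variable {G : Type*} [Group G] [Fintype G] [DecidableEq G]

/-- the number of factorisations `k = g * h` with `g ∈ C₁`, `h ∈ C₂` -/
def b2_r (C₁ C₂ : Finset G) (k : G) : ℕ := (C₁.filter (fun g => g⁻¹ * k ∈ C₂)).card

/-- a double sum over a product set is a sum weighted by the numbers of factorisations -/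
theorem b2_sum_sum {M : Type*} [AddCommMonoid M] (C₁ C₂ : Finset G) (f : G → M) :
    ∑ g ∈ C₁, ∑ h ∈ C₂, f (g * h) = ∑ k : G, b2_r C₁ C₂ k • f k := by
  have h1 : ∀ g ∈ C₁, ∑ h ∈ C₂, f (g * h) = ∑ k : G, if g⁻¹ * k ∈ C₂ then f k else 0 := by
    intro g _
    rw [← Finset.sum_filter]
    refine Finset.sum_nbij' (fun h => g * h) (fun k => g⁻¹ * k) ?_ ?_ ?_ ?_ ?_
    · intro h hh
      rw [Finset.mem_filter]
      refine ⟨Finset.mem_univ _, ?_⟩
      rw [inv_mul_cancel_left]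
      exact hh
    · intro k hk
      rw [Finset.mem_filter] at hk
      exact hk.2
    · intro h _
      rw [inv_mul_cancel_left]
    · intro k _
      rw [mul_inv_cancel_left]
    · intro h _
      rfl
  rw [Finset.sum_congr rfl h1, Finset.sum_comm]
  apply Finset.sum_congr rfl
  intro k _
  rw [← Finset.sum_filter, Finset.sum_const]
  rfl

theorem b2_sum_r (C₁ C₂ : Finset G) : ∑ k : G, b2_r C₁ C₂ k = C₁.card * C₂.card := by
  have h := b2_sum_sum C₁ C₂ (fun _ : G => (1 : ℕ))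
  simp only [Finset.sum_const, smul_eq_mul, mul_one] at h
  rw [← h]

theorem b2_r_eq_zero {C₁ C₂ : Finset G} {k : G} (h : ∀ g ∈ C₁, ∀ h ∈ C₂, g * h ≠ k) :
    b2_r C₁ C₂ k = 0 := by
  unfold b2_r
  rw [Finset.card_eq_zero, Finset.filter_eq_empty_iff]
  intro g hg hk
  exact h g hg _ hk (mul_inv_cancel_left g k)

theorem b2_r_mul_right (B : Subgroup G) {C₁ C₂ : Finset G}
    (h₂ : ∀ b ∈ B, ∀ g, g * b ∈ C₂ ↔ g ∈ C₂) {b : G} (hb : b ∈ B) (k : G) :
    b2_r C₁ C₂ (k * b) = b2_r C₁ C₂ k := by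
  unfold b2_r
  congr 1
  apply Finset.filter_congr
  intro g _
  rw [← mul_assoc, h₂ b hb]

theorem b2_r_mul_left (B : Subgroup G) {C₁ C₂ : Finset G}
    (h₁ : ∀ b ∈ B, ∀ g, b * g ∈ C₁ ↔ g ∈ C₁) {b : G} (hb : b ∈ B) (k : G) :
    b2_r C₁ C₂ (b * k) = b2_r C₁ C₂ k := by
  unfold b2_r
  symm
  refine Finset.card_nbij' (fun g => b * g) (fun g => b⁻¹ * g) ?_ ?_ ?_ ?_
  · intro g hg
    rw [Finset.mem_coe, Finset.mem_filter] at hg ⊢
    refine ⟨(h₁ b hb g).2 hg.1, ?_⟩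
    have : (b * g)⁻¹ * (b * k) = g⁻¹ * k := by group
    rw [this]
    exact hg.2
  · intro g hg
    rw [Finset.mem_coe, Finset.mem_filter] at hg ⊢
    refine ⟨(h₁ b⁻¹ (B.inv_mem hb) g).2 hg.1, ?_⟩
    have : (b⁻¹ * g)⁻¹ * k = g⁻¹ * (b * k) := by group
    rw [this]
    exact hg.2
  · intro g _
    exact inv_mul_cancel_left b g
  · intro g _
    exact mul_inv_cancel_left b g

/-- if all products land in `C₃`, `r` is constant `r₀` on `C₃`, then the double sum is `r₀ • ∑_{C₃}` -/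
theorem b2_sum_sum_const {M : Type*} [AddCommMonoid M] (C₁ C₂ C₃ : Finset G) (f : G → M) (r₀ : ℕ)
    (hsub : ∀ g ∈ C₁, ∀ h ∈ C₂, g * h ∈ C₃) (hr : ∀ k ∈ C₃, b2_r C₁ C₂ k = r₀) :
    ∑ g ∈ C₁, ∑ h ∈ C₂, f (g * h) = r₀ • ∑ k ∈ C₃, f k := by
  rw [b2_sum_sum, Finset.smul_sum, ← Finset.sum_subset (Finset.subset_univ C₃)]
  · apply Finset.sum_congr rfl
    intro k hk
    rw [hr k hk]
  · intro k _ hk
    rw [b2_r_eq_zero, zero_smul]
    intro g hg h hh e
    exact hk (e ▸ hsub g hg h hh)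

end Fact

end Cfsg.Agent.Lib.Helper6.FH
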