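import Cfsg.Agent.Lib.Helper6.FH.BDefs
import Cfsg.Agent.Lib.Helper39.FH_Fact

/-! # Feit–Higman hive, leaf FH-B2: `T_s T_w = T_{sw}` when `ℓ(sw) > ℓ(w)` -/

set_option autoImplicit false
set_option linter.unusedSectionVars false
set_option linter.unusedVariables false

namespace Cfsg.Agent.Lib.Helper6.FH

open Cfsg Cfsg.Agent.Lib.Helper6 Cfsg.Agent.Lib.Helper6.St Cfsg.Agent.S0320 Cfsg.Agent.Lib.Helper6.Exch

section B2

variable {G : Type*} [Group G] [Fintype G] (P : Cfsg.BNPair G)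

open Classical in
/-- the cell `B w B` as a finset -/
noncomputable def b2_cell (w : Wg P) : Finset G := Finset.univ.filter (fun g => g ∈ Cw P w)

lemma b2_mem_cell {w : Wg P} {g : G} : g ∈ b2_cell P w ↔ g ∈ Cw P w := by
  classical
  unfold b2_cell
  rw [Finset.mem_filter]
  exact ⟨fun h => h.2, fun h => ⟨Finset.mem_univ _, h⟩⟩

lemma b2_card_cell (w : Wg P) : (b2_cell P w).card = qidx P w * Nat.card P.B := by
  classical
  rw [← card_Cw, Nat.card_eq_fintype_card, Fintype.card_subtype]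
  rfl

lemma b2_cell_nonempty (w : Wg P) : (b2_cell P w).Nonempty :=
  ⟨_, (b2_mem_cell P).2 (self_mem_C P _)⟩

lemma b2_cell_mul_left (w : Wg P) : ∀ b ∈ P.B, ∀ g, b * g ∈ b2_cell P w ↔ g ∈ b2_cell P w := by
  intro b hb g
  rw [b2_mem_cell, b2_mem_cell]
  constructor
  · intro h
    have := mul_mem_C_left P (P.B.inv_mem hb) h
    rwa [inv_mul_cancel_left] at this
  · intro h
    exact mul_mem_C_left P hb h

lemma b2_cell_mul_right (w : Wg P) : ∀ b ∈ P.B, ∀ g, g * b ∈ b2_cell P w ↔ g ∈ b2_cell P w := by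
  intro b hb g
  rw [b2_mem_cell, b2_mem_cell]
  constructor
  · intro h
    have := mul_mem_C_right P (P.B.inv_mem hb) h
    rwa [mul_inv_cancel_right] at this
  · intro h
    exact mul_mem_C_right P hb h

open Classical in
/-- the number of factorisations is constant on each cell -/
lemma b2_r_const (w₁ w₂ w₃ : Wg P) {k k' : G} (hk : k ∈ Cw P w₃) (hk' : k' ∈ Cw P w₃) :
    b2_r (b2_cell P w₁) (b2_cell P w₂) k = b2_r (b2_cell P w₁) (b2_cell P w₂) k' := by
  have key : ∀ k ∈ Cw P w₃, b2_r (b2_cell P w₁) (b2_cell P w₂) k =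
      b2_r (b2_cell P w₁) (b2_cell P w₂) ((Quotient.out w₃ : P.N) : G) := by
    intro k hk
    obtain ⟨x, hx, y, hy, rfl⟩ := (mem_C P).1 hk
    rw [b2_r_mul_right P.B (b2_cell_mul_right P w₂) hy,
      b2_r_mul_left P.B (b2_cell_mul_left P w₁) hx]
  rw [key k hk, key k' hk']

lemma b2_hop_eq {V : Type*} [AddCommGroup V] [Module ℂ V] (ρ : Representation ℂ G V) (w : Wg P) :
    hop P ρ w = (Nat.card P.B : ℂ)⁻¹ • ∑ g ∈ b2_cell P w, ρ g := by
  classical
  unfold hop b2_cell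
  rw [Finset.sum_filter]

lemma b2_cardB_ne_zero : (Nat.card P.B : ℂ) ≠ 0 := by
  have : 0 < Nat.card P.B := Nat.card_pos
  exact_mod_cast this.ne'

/-- product of two cell sums in terms of the numbers of factorisations -/
lemma b2_hop_mul {V : Type*} [AddCommGroup V] [Module ℂ V] (ρ : Representation ℂ G V)
    (w₁ w₂ : Wg P) :
    hop P ρ w₁ * hop P ρ w₂ = ((Nat.card P.B : ℂ)⁻¹ * (Nat.card P.B : ℂ)⁻¹) •
      ∑ g ∈ b2_cell P w₁, ∑ h ∈ b2_cell P w₂, ρ (g * h) := by
  rw [b2_hop_eq, b2_hop_eq, smul_mul_smul_comm, Finset.sum_mul_sum]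
  congr 1
  apply Finset.sum_congr rfl
  intro g _
  apply Finset.sum_congr rfl
  intro h _
  rw [map_mul]

variable {V : Type*} [AddCommGroup V] [Module ℂ V] (ρ : Representation ℂ G V)

/-- FH-B2 -/
theorem hop_sig_mul (s : P.S) (w : Wg P) (hlt : ell (sig P) w < ell (sig P) (sig P s * w)) :
    hop P ρ (sig P s) * hop P ρ w = hop P ρ (sig P s * w) := by
  classical
  have hsub : ∀ g ∈ b2_cell P (sig P s), ∀ h ∈ b2_cell P w, g * h ∈ b2_cell P (sig P s * w) := by
    intro g hg h hh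
    rw [b2_mem_cell] at hg hh ⊢
    exact Cw_mul_of_lt P s w hlt hg hh
  obtain ⟨n₀, hn₀⟩ := b2_cell_nonempty P (sig P s * w)
  obtain ⟨r₀, hr₀⟩ : ∃ r₀, r₀ = b2_r (b2_cell P (sig P s)) (b2_cell P w) n₀ := ⟨_, rfl⟩
  have hr : ∀ k ∈ b2_cell P (sig P s * w), b2_r (b2_cell P (sig P s)) (b2_cell P w) k = r₀ := by
    intro k hk
    rw [hr₀]
    exact b2_r_const P _ _ (sig P s * w) ((b2_mem_cell P).1 hk) ((b2_mem_cell P).1 hn₀)
  have hB : 0 < Nat.card P.B := Nat.card_pos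
  -- the value of `r₀`
  have hr₀B : r₀ = Nat.card P.B := by
    have h1 := b2_sum_sum_const (b2_cell P (sig P s)) (b2_cell P w) (b2_cell P (sig P s * w))
      (fun _ : G => (1 : ℕ)) r₀ hsub hr
    simp only [Finset.sum_const, smul_eq_mul, mul_one] at h1
    rw [b2_card_cell, b2_card_cell, b2_card_cell, qidx_sig_mul P s w hlt] at h1
    have hq1 := qidx_pos P (sig P s)
    have hq2 := qidx_pos P w
    have h2 : (qidx P (sig P s) * qidx P w * Nat.card P.B) * Nat.card P.B =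
        (qidx P (sig P s) * qidx P w * Nat.card P.B) * r₀ := by
      rw [mul_comm _ r₀, ← h1]
      ring
    exact (Nat.eq_of_mul_eq_mul_left (by positivity) h2).symm
  rw [b2_hop_mul, b2_sum_sum_const _ _ _ _ r₀ hsub hr, b2_hop_eq, hr₀B, ← Nat.cast_smul_eq_nsmul ℂ,
    smul_smul]
  congr 1
  have := b2_cardB_ne_zero P
  field_simp

end B2

end Cfsg.Agent.Lib.Helper6.FH
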