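import Mathlib

set_option autoImplicit false

namespace Cfsg.Agent.Lib.Helper39

open Matrix

variable {F : Type*} [Field F]

/-- companion matrix of `X^2 - t X + d` -/
def comp2 (t d : F) : Matrix (Fin 2) (Fin 2) F := !![0, -d; 1, t]

@[simp] theorem comp2_det (t d : F) : (comp2 t d).det = d := by
  simp [comp2, Matrix.det_fin_two]

@[simp] theorem comp2_trace (t d : F) : (comp2 t d).trace = t := by
  simp [comp2, Matrix.trace_fin_two]

/-- a 2x2 matrix is scalar -/
def IsScalar2 (M : Matrix (Fin 2) (Fin 2) F) : Prop := M 0 1 = 0 ∧ M 1 0 = 0 ∧ M 0 0 = M 1 1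

theorem isScalar2_iff (M : Matrix (Fin 2) (Fin 2) F) :
    IsScalar2 M ↔ ∃ a : F, M = Matrix.scalar (Fin 2) a := by
  constructor
  · rintro ⟨h1, h2, h3⟩
    refine ⟨M 0 0, ?_⟩
    ext i j
    fin_cases i <;> fin_cases j <;> simp [h1, h2, h3]
  · rintro ⟨a, rfl⟩
    simp [IsScalar2]

theorem exists_conj_comp2 (M : Matrix (Fin 2) (Fin 2) F) (hM : ¬ IsScalar2 M) :
    ∃ P : Matrix (Fin 2) (Fin 2) F, P.det ≠ 0 ∧ M * P = P * comp2 M.trace M.det := by
  by_cases hc : M 1 0 = 0
  · by_cases hb : M 0 1 = 0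
    · have had : M 0 0 ≠ M 1 1 := fun h => hM ⟨hb, hc, h⟩
      refine ⟨!![1, M 0 0; 1, M 1 1], ?_, ?_⟩
      · simp [Matrix.det_fin_two]
        intro h
        apply had
        linear_combination -h
      · ext i j
        fin_cases i <;> fin_cases j <;>
          simp [comp2, Matrix.mul_apply, Fin.sum_univ_two, Matrix.trace_fin_two, Matrix.det_fin_two, hb, hc] <;> ring
    · refine ⟨!![0, M 0 1; 1, M 1 1], ?_, ?_⟩
      · simp [Matrix.det_fin_two, hb]
      · ext i j
        fin_cases i <;> fin_cases j <;>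
          simp [comp2, Matrix.mul_apply, Fin.sum_univ_two, Matrix.trace_fin_two, Matrix.det_fin_two, hc] <;> ring
  · refine ⟨!![1, M 0 0; 0, M 1 0], ?_, ?_⟩
    · simp [Matrix.det_fin_two, hc]
    · ext i j
      fin_cases i <;> fin_cases j <;>
        simp [comp2, Matrix.mul_apply, Fin.sum_univ_two, Matrix.trace_fin_two, Matrix.det_fin_two] <;> ring

/-- companion matrix in GL -/
noncomputable def compGL (t : F) (d : Fˣ) : GL (Fin 2) F :=
  Matrix.GeneralLinearGroup.mkOfDetNeZero (comp2 t (d : F)) (by simp)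

@[simp] theorem compGL_coe (t : F) (d : Fˣ) :
    ((compGL t d : GL (Fin 2) F) : Matrix (Fin 2) (Fin 2) F) = comp2 t (d : F) := rfl

theorem not_isScalar2_comp2 (t d : F) : ¬ IsScalar2 (comp2 t d) := by
  rintro ⟨_, h, _⟩
  simp [comp2] at h

theorem isConj_compGL (g : GL (Fin 2) F) (hg : ¬ IsScalar2 (g : Matrix (Fin 2) (Fin 2) F)) :
    IsConj (compGL (g : Matrix (Fin 2) (Fin 2) F).trace (Matrix.GeneralLinearGroup.det g)) g := by
  obtain ⟨P, hP, h⟩ := exists_conj_comp2 (g : Matrix (Fin 2) (Fin 2) F) hg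
  rw [isConj_iff]
  refine ⟨Matrix.GeneralLinearGroup.mkOfDetNeZero P hP, ?_⟩
  rw [mul_inv_eq_iff_eq_mul]
  apply Units.ext
  simpa [Matrix.GeneralLinearGroup.mkOfDetNeZero] using h.symm

theorem isScalar2_conj (g P : GL (Fin 2) F) (hg : IsScalar2 (g : Matrix (Fin 2) (Fin 2) F)) :
    P * g * P⁻¹ = g := by
  obtain ⟨a, ha⟩ := (isScalar2_iff _).mp hg
  have hc : P * g = g * P := by
    apply Units.ext
    simp only [Units.val_mul, ha]
    exact (Matrix.scalar_comm _ (fun _ => Commute.all _ _) _).symm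
  rw [hc, mul_assoc, mul_inv_cancel, mul_one]

/-- the class map -/
noncomputable def classMapGL (F : Type*) [Field F] :
    Fˣ ⊕ (F × Fˣ) → ConjClasses (GL (Fin 2) F)
  | Sum.inl a => ConjClasses.mk (Matrix.GeneralLinearGroup.scalar (Fin 2) a)
  | Sum.inr (t, d) => ConjClasses.mk (compGL t d)

theorem classMapGL_surjective : Function.Surjective (classMapGL F) := by
  intro c
  obtain ⟨g, rfl⟩ := ConjClasses.exists_rep c
  by_cases hg : IsScalar2 (g : Matrix (Fin 2) (Fin 2) F)
  · obtain ⟨a, ha⟩ := (isScalar2_iff _).mp hg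
    have ha0 : a ≠ 0 := by
      intro h0
      have := g.det_ne_zero
      rw [ha, h0] at this
      simp at this
    refine ⟨Sum.inl (Units.mk0 a ha0), ?_⟩
    simp only [classMapGL]
    congr 1
    apply Units.ext
    simp [ha]
  · refine ⟨Sum.inr ((g : Matrix (Fin 2) (Fin 2) F).trace, Matrix.GeneralLinearGroup.det g), ?_⟩
    simp only [classMapGL]
    exact ConjClasses.mk_eq_mk_iff_isConj.mpr (isConj_compGL g hg)

theorem classMapGL_injective : Function.Injective (classMapGL F) := by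
  intro x y hxy
  rcases x with a | ⟨t, d⟩ <;> rcases y with a' | ⟨t', d'⟩
  · simp only [classMapGL] at hxy
    rw [ConjClasses.mk_eq_mk_iff_isConj, isConj_iff] at hxy
    obtain ⟨P, hP⟩ := hxy
    rw [isScalar2_conj _ _ (by simp [IsScalar2])] at hP
    have := congrArg (fun x : GL (Fin 2) F => (x : Matrix (Fin 2) (Fin 2) F) 0 0) hP
    simp at this
    congr 1
    exact Units.ext this
  · exfalso
    simp only [classMapGL] at hxy
    rw [ConjClasses.mk_eq_mk_iff_isConj, isConj_iff] at hxy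
    obtain ⟨P, hP⟩ := hxy
    rw [isScalar2_conj _ _ (by simp [IsScalar2])] at hP
    have := congrArg (fun x : GL (Fin 2) F => (x : Matrix (Fin 2) (Fin 2) F) 1 0) hP
    simp [comp2] at this
  · exfalso
    simp only [classMapGL] at hxy
    rw [ConjClasses.mk_eq_mk_iff_isConj, isConj_comm, isConj_iff] at hxy
    obtain ⟨P, hP⟩ := hxy
    rw [isScalar2_conj _ _ (by simp [IsScalar2])] at hP
    have := congrArg (fun x : GL (Fin 2) F => (x : Matrix (Fin 2) (Fin 2) F) 1 0) hP
    simp [comp2] at this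
  · simp only [classMapGL] at hxy
    rw [ConjClasses.mk_eq_mk_iff_isConj, isConj_iff] at hxy
    obtain ⟨P, hP⟩ := hxy
    have h1 := congrArg (fun x : GL (Fin 2) F => (x : Matrix (Fin 2) (Fin 2) F).trace) hP
    have h2 := congrArg (fun x : GL (Fin 2) F => (x : Matrix (Fin 2) (Fin 2) F).det) hP
    simp only [Units.val_mul, compGL_coe, Matrix.coe_units_inv] at h1 h2
    rw [Matrix.trace_mul_cycle, ← Matrix.coe_units_inv, Units.inv_mul, Matrix.one_mul] at h1 
    rw [Matrix.det_mul, Matrix.det_mul, mul_right_comm, ← Matrix.det_mul, ← Matrix.coe_units_inv,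
      Units.mul_inv, Matrix.det_one, one_mul] at h2
    simp at h1 h2
    rw [h1, Units.ext h2]

theorem card_conjClasses_GL2 (F : Type*) [Field F] [Fintype F] :
    Nat.card (ConjClasses (GL (Fin 2) F)) = Fintype.card F ^ 2 - 1 := by
  have e := Equiv.ofBijective (classMapGL F) ⟨classMapGL_injective, classMapGL_surjective⟩
  rw [← Nat.card_congr e, Nat.card_sum, Nat.card_prod, Nat.card_units, Nat.card_eq_fintype_card]
  have h1 : 1 ≤ Fintype.card F := Fintype.card_pos
  obtain ⟨k, hk⟩ := Nat.exists_eq_add_of_le h1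
  rw [hk]
  have : (1 + k) ^ 2 = (k + (1 + k) * k) + 1 := by ring
  rw [this]
  simp

end Cfsg.Agent.Lib.Helper39
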