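import Mathlib
import Cfsg.Agent.Lib.Helper39.GL2Conj

set_option autoImplicit false

namespace Cfsg.Agent.Lib.Helper39

open Matrix

variable {F : Type*} [Field F]

/-- companion matrix in SL -/
def compSL (t : F) : Matrix.SpecialLinearGroup (Fin 2) F :=
  ⟨comp2 t 1, by simp⟩

@[simp] theorem compSL_coe (t : F) :
    ((compSL t : Matrix.SpecialLinearGroup (Fin 2) F) : Matrix (Fin 2) (Fin 2) F) = comp2 t 1 := rfl

theorem isConj_SL_of_matrix (g h : Matrix.SpecialLinearGroup (Fin 2) F)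
    (P : Matrix (Fin 2) (Fin 2) F) (hP : P.det = 1)
    (hgh : (g : Matrix (Fin 2) (Fin 2) F) * P = P * (h : Matrix (Fin 2) (Fin 2) F)) :
    IsConj h g := by
  rw [isConj_iff]
  obtain ⟨Q, hQ⟩ : ∃ Q : Matrix.SpecialLinearGroup (Fin 2) F,
      (Q : Matrix (Fin 2) (Fin 2) F) = P := ⟨⟨P, hP⟩, rfl⟩
  refine ⟨Q, ?_⟩
  rw [mul_inv_eq_iff_eq_mul]
  apply Subtype.ext
  simp only [Matrix.SpecialLinearGroup.coe_mul, hQ]
  exact hgh.symm

theorem trace_eq_of_isConj_SL {g h : Matrix.SpecialLinearGroup (Fin 2) F} (hgh : IsConj g h) :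
    (g : Matrix (Fin 2) (Fin 2) F).trace = (h : Matrix (Fin 2) (Fin 2) F).trace := by
  rw [isConj_iff] at hgh
  obtain ⟨P, hP⟩ := hgh
  have h1 : P * g = h * P := by rw [← hP]; group
  have h2 := congrArg (fun x : Matrix.SpecialLinearGroup (Fin 2) F =>
    (x : Matrix (Fin 2) (Fin 2) F)) h1
  simp only [Matrix.SpecialLinearGroup.coe_mul] at h2
  have h3 : (g : Matrix (Fin 2) (Fin 2) F) =
      (P⁻¹ : Matrix.SpecialLinearGroup (Fin 2) F) * ((h : Matrix (Fin 2) (Fin 2) F) * P) := by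
    rw [← h2, ← Matrix.mul_assoc, ← Matrix.SpecialLinearGroup.coe_mul, inv_mul_cancel]
    simp
  rw [h3, Matrix.trace_mul_comm, Matrix.mul_assoc, ← Matrix.SpecialLinearGroup.coe_mul,
    mul_inv_cancel]
  simp

end Cfsg.Agent.Lib.Helper39
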