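import Mathlib
import Cfsg.Agent.Lib.Helper39.SL2Conj

set_option autoImplicit false

namespace Cfsg.Agent.Lib.Helper39

open Matrix

variable {F : Type*} [Field F]

/-- twisted companion matrix in SL -/
def compSLd (t : F) (δ : Fˣ) : Matrix.SpecialLinearGroup (Fin 2) F :=
  ⟨!![0, -(δ : F); (δ : F)⁻¹, t], by simp [Matrix.det_fin_two]⟩

@[simp] theorem compSLd_coe (t : F) (δ : Fˣ) :
    ((compSLd t δ : Matrix.SpecialLinearGroup (Fin 2) F) : Matrix (Fin 2) (Fin 2) F) =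
      !![0, -(δ : F); (δ : F)⁻¹, t] := rfl

theorem compSLd_trace (t : F) (δ : Fˣ) :
    ((compSLd t δ : Matrix.SpecialLinearGroup (Fin 2) F) : Matrix (Fin 2) (Fin 2) F).trace = t := by
  simp [Matrix.trace_fin_two]

theorem not_isScalar2_compSLd (t : F) (δ : Fˣ) :
    ¬ IsScalar2 ((compSLd t δ : Matrix.SpecialLinearGroup (Fin 2) F) : Matrix (Fin 2) (Fin 2) F) := by
  rintro ⟨h, _, _⟩
  simp at h

/-- Claim A -/
theorem exists_isConj_compSLd (g : Matrix.SpecialLinearGroup (Fin 2) F)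
    (hg : ¬ IsScalar2 (g : Matrix (Fin 2) (Fin 2) F)) :
    ∃ δ : Fˣ, IsConj (compSLd (g : Matrix (Fin 2) (Fin 2) F).trace δ) g := by
  obtain ⟨P, hP, h⟩ := exists_conj_comp2 (g : Matrix (Fin 2) (Fin 2) F) hg
  rw [g.det_coe] at h
  refine ⟨Units.mk0 P.det hP, ?_⟩
  apply isConj_SL_of_matrix g _ (P * !![(P.det)⁻¹, 0; 0, 1])
  · rw [Matrix.det_mul]
    have : ∀ e : F, Matrix.det !![e⁻¹, 0; 0, 1] = e⁻¹ := fun e => by simp [Matrix.det_fin_two]
    rw [this, mul_inv_cancel₀ hP]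
  · rw [← Matrix.mul_assoc, h, Matrix.mul_assoc, Matrix.mul_assoc]
    congr 1
    ext i j
    fin_cases i <;> fin_cases j <;> simp [comp2, Matrix.mul_apply, Fin.sum_univ_two, hP]

/-- Claim B -/
theorem isConj_compSLd_sq (t : F) (δ s : Fˣ) :
    IsConj (compSLd t δ) (compSLd t (δ * s ^ 2)) := by
  apply isConj_SL_of_matrix _ _ !![(s : F), 0; 0, (s : F)⁻¹]
  · simp [Matrix.det_fin_two]
  · ext i j
    fin_cases i <;> fin_cases j <;> simp [Matrix.mul_apply, Fin.sum_univ_two] <;> field_simp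

/-- Claim C -/
theorem isConj_compSLd_of_norm (t : F) (δ : Fˣ) (x y : F)
    (h : x ^ 2 + t * x * y + y ^ 2 = (δ : F)⁻¹) :
    IsConj (compSLd t 1) (compSLd t δ) := by
  apply isConj_SL_of_matrix _ _ !![(δ : F) * x, -(δ : F) * y; y, x + t * y]
  · rw [Matrix.det_fin_two]
    simp only [Matrix.of_apply, Matrix.cons_val', Matrix.cons_val_zero, Matrix.cons_val_one,
      Matrix.cons_val_fin_one]
    have hδ : (δ : F) ≠ 0 := δ.ne_zero
    have : (δ : F) * (x ^ 2 + t * x * y + y ^ 2) = 1 := by rw [h, mul_inv_cancel₀ hδ]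
    linear_combination this
  · have hδ : (δ : F) ≠ 0 := δ.ne_zero
    ext i j
    fin_cases i <;> fin_cases j <;> simp [Matrix.mul_apply, Fin.sum_univ_two] <;> field_simp <;> ring

/-- Claim D -/
theorem norm_of_isConj_compSLd (t : F) (δ δ' : Fˣ) (h : IsConj (compSLd t δ) (compSLd t δ')) :
    ∃ x y : F, x ^ 2 + t * x * y + y ^ 2 = (δ : F) * (δ' : F)⁻¹ := by
  rw [isConj_iff] at h
  obtain ⟨A, hA⟩ := h
  have h1 : A * compSLd t δ = compSLd t δ' * A := by rw [← hA]; group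
  have h2 := congrArg (fun x : Matrix.SpecialLinearGroup (Fin 2) F =>
    (x : Matrix (Fin 2) (Fin 2) F)) h1
  simp only [Matrix.SpecialLinearGroup.coe_mul, compSLd_coe] at h2
  have e00 := congrFun (congrFun h2 0) 0
  have e10 := congrFun (congrFun h2 1) 0
  simp [Matrix.mul_apply, Fin.sum_univ_two] at e00 e10
  have hdet := A.det_coe
  rw [Matrix.det_fin_two] at hdet
  have hδ : (δ : F) ≠ 0 := δ.ne_zero
  have hδ' : (δ' : F) ≠ 0 := δ'.ne_zero
  set a := (A : Matrix (Fin 2) (Fin 2) F) 0 0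
  set b := (A : Matrix (Fin 2) (Fin 2) F) 0 1
  set c := (A : Matrix (Fin 2) (Fin 2) F) 1 0
  set d := (A : Matrix (Fin 2) (Fin 2) F) 1 1
  have hb : b = -(δ : F) * (δ' : F) * c := by
    field_simp at e00
    linear_combination e00
  have hd : d = (δ : F) * (δ' : F)⁻¹ * a + (δ : F) * t * c := by
    field_simp at e10 ⊢
    linear_combination e10
  refine ⟨(δ' : F)⁻¹ * a * (δ : F), c * (δ : F), ?_⟩
  rw [hb, hd] at hdet
  field_simp at hdet ⊢
  linear_combination hdet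

end Cfsg.Agent.Lib.Helper39
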