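import Cfsg.Agent.Lib.Helper38.StnBruDefs
import Cfsg.Agent.Lib.Helper69.Stn_HXXcore
import Cfsg.Agent.Lib.Helper95.Stn_WALL

/-! # Stn hive (S2401), sub-hive BRU (helper38), leaf BRU-HX (helper39):
`H` normalises the root groups and `U`; `B = U H` as a set; `H ≤ N`. -/

set_option autoImplicit false

namespace Cfsg.Agent.Lib.Helper41.Stn

open Matrix

variable {K : Type*} [Field K] {n : ℕ}

theorem bruhx_dd_ne_zero (i j : Fin n) {t : K} (ht : t ≠ 0) (a : Fin n) : dd i j t a ≠ 0 := by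
  unfold dd
  split_ifs
  · exact ht
  · exact inv_ne_zero ht
  · exact one_ne_zero

/-- own copy of Layer A `hh_conj_xx` (helper69's core + helper95's `ww_conj_xx`), under a private
name so that this file does not have to wait for (or clash with) `Stn_HXX`. -/
theorem bruhx_hh_conj_xx (hn : 3 ≤ n) {i j : Fin n} (hij : i ≠ j) {t : K} (ht : t ≠ 0) {k l : Fin n}
    (hkl : k ≠ l) (u : K) :
    hh i j t * xx k l u * (hh i j t)⁻¹ = xx k l (dd i j t k / dd i j t l * u) :=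
  hxx_core hij (fun ht' _ _ hkl' u' => ww_conj_xx hn hij ht' hkl' u') ht hkl u

theorem HH_conj_xx (hn : 3 ≤ n) {h : St K n} (hh' : h ∈ HH K n) :
    ∃ m : Fin n → K, (∀ a, m a ≠ 0) ∧
      ∀ k l : Fin n, k ≠ l → ∀ u : K, h * xx k l u * h⁻¹ = xx k l (m k / m l * u) := by
  unfold HH at hh'
  induction hh' using Subgroup.closure_induction with
  | mem g hg =>
    obtain ⟨i, j, t, hij, ht, rfl⟩ := hg
    exact ⟨dd i j t, bruhx_dd_ne_zero i j ht, fun k l hkl u => bruhx_hh_conj_xx hn hij ht hkl u⟩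
  | one =>
    refine ⟨fun _ => 1, fun _ => one_ne_zero, fun k l _ u => ?_⟩
    simp
  | mul a b _ _ iha ihb =>
    obtain ⟨ma, hma, ha⟩ := iha
    obtain ⟨mb, hmb, hb⟩ := ihb
    refine ⟨fun a => ma a * mb a, fun a => mul_ne_zero (hma a) (hmb a), fun k l hkl u => ?_⟩
    have : a * b * xx k l u * (a * b)⁻¹ = a * (b * xx k l u * b⁻¹) * a⁻¹ := by group
    rw [this, hb k l hkl u, ha k l hkl]
    congr 1
    have := hma l
    have := hmb l
    field_simp
  | inv a _ iha =>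
    obtain ⟨ma, hma, ha⟩ := iha
    refine ⟨fun a => (ma a)⁻¹, fun a => inv_ne_zero (hma a), fun k l hkl u => ?_⟩
    have h1 := ha k l hkl ((ma k)⁻¹ / (ma l)⁻¹ * u)
    have h2 : ma k / ma l * ((ma k)⁻¹ / (ma l)⁻¹ * u) = u := by
      have := hma l
      have := hma k
      field_simp
    rw [h2] at h1
    rw [← h1]
    group

theorem HH_conj_UU (hn : 3 ≤ n) {h y : St K n} (hh : h ∈ HH K n) (hy : y ∈ UU K n) :
    h * y * h⁻¹ ∈ UU K n := by
  obtain ⟨m, _, hm⟩ := HH_conj_xx hn hh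
  unfold UU at hy ⊢
  induction hy using Subgroup.closure_induction with
  | mem g hg =>
    obtain ⟨i, j, t, hij, rfl⟩ := hg
    rw [hm i j (ne_of_lt hij)]
    exact Subgroup.subset_closure ⟨i, j, _, hij, rfl⟩
  | one => simp
  | mul a b _ _ iha ihb =>
    have : h * (a * b) * h⁻¹ = (h * a * h⁻¹) * (h * b * h⁻¹) := by group
    rw [this]
    exact mul_mem iha ihb
  | inv a _ iha =>
    have : h * a⁻¹ * h⁻¹ = (h * a * h⁻¹)⁻¹ := by group
    rw [this]
    exact inv_mem iha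

theorem BB_eq (hn : 3 ≤ n) {b : St K n} (hb : b ∈ BB K n) :
    ∃ u ∈ UU K n, ∃ h ∈ HH K n, b = u * h := by
  let S : Subgroup (St K n) :=
    { carrier := {b | ∃ y ∈ UU K n, ∃ h ∈ HH K n, b = y * h}
      one_mem' := ⟨1, one_mem _, 1, one_mem _, by simp⟩
      mul_mem' := by
        rintro _ _ ⟨y, hy, h, hh, rfl⟩ ⟨y', hy', h', hh', rfl⟩
        refine ⟨y * (h * y' * h⁻¹), mul_mem hy (HH_conj_UU hn hh hy'), h * h', mul_mem hh hh', ?_⟩
        group
      inv_mem' := by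
        rintro _ ⟨y, hy, h, hh, rfl⟩
        refine ⟨h⁻¹ * y⁻¹ * h⁻¹⁻¹, HH_conj_UU hn (inv_mem hh) (inv_mem hy), h⁻¹, inv_mem hh, ?_⟩
        group }
  have hU : UU K n ≤ S := fun y hy => ⟨y, hy, 1, one_mem _, by simp⟩
  have hH : HH K n ≤ S := fun h hh => ⟨1, one_mem _, h, hh, by simp⟩
  have hBS : BB K n ≤ S := sup_le hU hH
  exact hBS hb

/-- the old name of the skeleton (both directions) -/
theorem mem_BB_iff (hn : 3 ≤ n) (b : St K n) :
    b ∈ BB K n ↔ ∃ y ∈ UU K n, ∃ h ∈ HH K n, b = y * h := by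
  constructor
  · exact fun hb => BB_eq hn hb
  · rintro ⟨y, hy, h, hh, rfl⟩
    exact mul_mem ((le_sup_left : UU K n ≤ BB K n) hy) ((le_sup_right : HH K n ≤ BB K n) hh)

/-- `hh i j t = ww i j t * ww i j (-1)` -/
theorem HH_le_NN : HH K n ≤ NN K n := by
  unfold HH
  rw [Subgroup.closure_le]
  rintro g ⟨i, j, t, hij, ht, rfl⟩
  unfold hh
  refine mul_mem (Subgroup.subset_closure ⟨i, j, t, hij, ht, rfl⟩)
    (Subgroup.subset_closure ⟨i, j, -1, hij, by simp, rfl⟩)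

end Cfsg.Agent.Lib.Helper41.Stn
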