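import Cfsg.Agent.Lib.Helper39.TwoTransChar
import Cfsg.Agent.Lib.Helper96.FrobeniusThm

/-!
# Orbit counting and inner products of permutation characters
-/

set_option autoImplicit false
set_option linter.style.haveILetI false

namespace Cfsg.Agent.Lib.Helper39.AltChar

open Cfsg MulAction
open scoped ComplexConjugate

variable {G : Type*} [Group G]

/-- The number of orbits, from a complete invariant. -/
theorem card_orbits_eq_card {Z T : Type*} [MulAction G Z] [Fintype T]
    [Fintype (Quotient (orbitRel G Z))]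
    (ty : Z → T) (hinv : ∀ (g : G) (z : Z), ty (g • z) = ty z)
    (htr : ∀ z z' : Z, ty z = ty z' → ∃ g : G, g • z = z')
    (hsurj : Function.Surjective ty) :
    Fintype.card (Quotient (orbitRel G Z)) = Fintype.card T := by
  let f : Quotient (orbitRel G Z) → T :=
    Quotient.lift ty (by
      rintro x y hxy
      obtain ⟨g, rfl⟩ := hxy
      exact hinv g y)
  have hbij : Function.Bijective f := by
    constructor
    · intro x y
      induction x using Quotient.inductionOn with | _ x => ?_
      induction y using Quotient.inductionOn with | _ y => ?_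
      intro hxy
      apply Quotient.sound
      obtain ⟨g, hg⟩ := htr y x hxy.symm
      exact ⟨g, hg⟩
    · intro t
      obtain ⟨z, hz⟩ := hsurj t
      exact ⟨Quotient.mk _ z, hz⟩
  exact Fintype.card_congr (Equiv.ofBijective f hbij)

/-- Fixed points on a product. -/
theorem card_fixedBy_prod' {X Y : Type*} [MulAction G X] [MulAction G Y] [Fintype X] [Fintype Y]
    [DecidableEq X] [DecidableEq Y] (g : G) :
    Fintype.card (fixedBy (X × Y) g) = Fintype.card (fixedBy X g) * Fintype.card (fixedBy Y g) := by
  classical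
  rw [← Fintype.card_prod]
  apply Fintype.card_congr
  refine
    { toFun := fun x => (⟨x.1.1, ?_⟩, ⟨x.1.2, ?_⟩)
      invFun := fun y => ⟨(y.1.1, y.2.1), ?_⟩
      left_inv := fun x => by ext <;> rfl
      right_inv := fun y => by ext <;> rfl }
  · have := x.2
    rw [MulAction.mem_fixedBy] at this ⊢
    exact congrArg Prod.fst this
  · have := x.2
    rw [MulAction.mem_fixedBy] at this ⊢
    exact congrArg Prod.snd this
  · rw [MulAction.mem_fixedBy]
    have h1 := y.1.2
    have h2 := y.2.2
    rw [MulAction.mem_fixedBy] at h1 h2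
    exact Prod.ext h1 h2

theorem permCharFun_prod {X Y : Type*} [MulAction G X] [MulAction G Y] [Fintype X] [Fintype Y]
    [DecidableEq X] [DecidableEq Y] (g : G) :
    permCharFun G (X × Y) g = permCharFun G X g * permCharFun G Y g := by
  unfold permCharFun
  rw [card_fixedBy_prod']
  push_cast
  ring

theorem conj_permCharFun {X : Type*} [MulAction G X] [Fintype X] [DecidableEq X] (g : G) :
    conj (permCharFun G X g) = permCharFun G X g := by
  unfold permCharFun
  rw [Complex.conj_natCast]

/-- The inner product of two permutation characters is the number of orbits on the product. -/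
theorem classInner_permCharFun [Fintype G] (X Y : Type*) [MulAction G X] [MulAction G Y]
    [Fintype X] [Fintype Y] [DecidableEq X] [DecidableEq Y]
    [Fintype (Quotient (orbitRel G (X × Y)))] :
    classInner (permCharFun G X) (permCharFun G Y) =
      (Fintype.card (Quotient (orbitRel G (X × Y))) : ℂ) := by
  have hG : (Nat.card G : ℂ) ≠ 0 := by exact_mod_cast Nat.card_pos.ne'
  have hGc : (Nat.card G : ℂ) = (Fintype.card G : ℂ) := by rw [Nat.card_eq_fintype_card]
  unfold classInner
  have h1 : ∀ g : G, permCharFun G X g * conj (permCharFun G Y g) = permCharFun G (X × Y) g := by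
    intro g
    rw [conj_permCharFun, permCharFun_prod]
  rw [Finset.sum_congr rfl (fun g _ => h1 g), sum_permCharFun_eq, ← hGc]
  field_simp

/-- The multiplicity of the trivial character is the number of orbits. -/
theorem classInner_permCharFun_one [Fintype G] (X : Type*) [MulAction G X]
    [Fintype X] [DecidableEq X] [Fintype (Quotient (orbitRel G X))] :
    classInner (permCharFun G X) (fun _ => (1 : ℂ)) =
      (Fintype.card (Quotient (orbitRel G X)) : ℂ) := by
  have hG : (Nat.card G : ℂ) ≠ 0 := by exact_mod_cast Nat.card_pos.ne'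
  have hGc : (Nat.card G : ℂ) = (Fintype.card G : ℂ) := by rw [Nat.card_eq_fintype_card]
  unfold classInner
  simp only [map_one, mul_one]
  rw [sum_permCharFun_eq, ← hGc]
  field_simp

theorem classInner_one_permCharFun [Fintype G] (X : Type*) [MulAction G X]
    [Fintype X] [DecidableEq X] [Fintype (Quotient (orbitRel G X))] :
    classInner (fun _ => (1 : ℂ)) (permCharFun G X) =
      (Fintype.card (Quotient (orbitRel G X)) : ℂ) := by
  have hG : (Nat.card G : ℂ) ≠ 0 := by exact_mod_cast Nat.card_pos.ne'
  have hGc : (Nat.card G : ℂ) = (Fintype.card G : ℂ) := by rw [Nat.card_eq_fintype_card]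
  unfold classInner
  simp only [one_mul, conj_permCharFun]
  rw [sum_permCharFun_eq, ← hGc]
  field_simp

theorem classInner_permCharFun_comm [Fintype G] (X Y : Type*) [MulAction G X] [MulAction G Y]
    [Fintype X] [Fintype Y] [DecidableEq X] [DecidableEq Y] :
    classInner (permCharFun G X) (permCharFun G Y) =
      classInner (permCharFun G Y) (permCharFun G X) := by
  unfold classInner
  congr 1
  apply Finset.sum_congr rfl
  intro g _
  rw [conj_permCharFun, conj_permCharFun, mul_comm]

variable {Ω : Type*} [MulAction G Ω]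

/-- Transitivity on injective `k`-tuples for all `k ≤ 4`. -/
def FourTrans (G : Type*) [Group G] (Ω : Type*) [MulAction G Ω] : Prop :=
  ∀ k : ℕ, k ≤ 4 → ∀ u v : Fin k ↪ Ω, ∃ g : G, ∀ i, g • u i = v i

/-- Under `FourTrans`, two tuples of length at most four with the same kernel are in one orbit. -/
theorem FourTrans.exists_smul_eq (h : FourTrans G Ω) {ι : Type*} [Fintype ι]
    (hι : Fintype.card ι ≤ 4) (u v : ι → Ω) (huv : ∀ i j, u i = u j ↔ v i = v j) :
    ∃ g : G, ∀ i, g • u i = v i := by
  classical
  set S : Finset Ω := Finset.univ.image u with hS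
  have hm : S.card ≤ 4 := (Finset.card_image_le).trans (by rw [Finset.card_univ]; exact hι)
  let e : S ≃ Fin S.card := S.equivFin
  have hex : ∀ j : Fin S.card, ∃ i : ι, u i = (e.symm j : Ω) := by
    intro j
    have h1 : (e.symm j : Ω) ∈ Finset.univ.image u := (e.symm j).2
    rw [Finset.mem_image] at h1
    obtain ⟨i, -, hi⟩ := h1
    exact ⟨i, hi⟩
  choose idx hidx using hex
  let U : Fin S.card ↪ Ω := ⟨fun j => (e.symm j : Ω), fun j j' hjj' => by
    have : e.symm j = e.symm j' := Subtype.ext hjj'
    exact e.symm.injective this⟩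
  let V : Fin S.card ↪ Ω := ⟨fun j => v (idx j), fun j j' hjj' => by
    have h1 : u (idx j) = u (idx j') := (huv _ _).2 hjj'
    rw [hidx, hidx] at h1
    have : e.symm j = e.symm j' := Subtype.ext h1
    exact e.symm.injective this⟩
  obtain ⟨g, hg⟩ := h S.card hm U V
  refine ⟨g, fun i => ?_⟩
  have hmem : u i ∈ S := by rw [hS]; exact Finset.mem_image_of_mem u (Finset.mem_univ i)
  set j := e ⟨u i, hmem⟩ with hj
  have h1 : (e.symm j : Ω) = u i := by rw [hj, Equiv.symm_apply_apply]
  have h2 : u (idx j) = u i := by rw [hidx, h1]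
  have h3 : v (idx j) = v i := (huv _ _).1 h2
  have h4 := hg j
  change g • (e.symm j : Ω) = v (idx j) at h4
  rw [h1, h3] at h4
  exact h4

theorem kernel4 {a b c d a' b' c' d' : Ω} (hab : a = b ↔ a' = b') (hac : a = c ↔ a' = c')
    (had : a = d ↔ a' = d') (hbc : b = c ↔ b' = c') (hbd : b = d ↔ b' = d')
    (hcd : c = d ↔ c' = d') :
    ∀ i j : Fin 4, ![a, b, c, d] i = ![a, b, c, d] j ↔ ![a', b', c', d'] i = ![a', b', c', d'] j := by
  have hba : b = a ↔ b' = a' := by rw [eq_comm, hab, eq_comm]
  have hca : c = a ↔ c' = a' := by rw [eq_comm, hac, eq_comm]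
  have hda : d = a ↔ d' = a' := by rw [eq_comm, had, eq_comm]
  have hcb : c = b ↔ c' = b' := by rw [eq_comm, hbc, eq_comm]
  have hdb : d = b ↔ d' = b' := by rw [eq_comm, hbd, eq_comm]
  have hdc : d = c ↔ d' = c' := by rw [eq_comm, hcd, eq_comm]
  intro i j
  fin_cases i <;> fin_cases j <;> simp <;> assumption

/-- The four point form of `FourTrans.exists_smul_eq`. -/
theorem FourTrans.exists4 (h : FourTrans G Ω) {a b c d a' b' c' d' : Ω}
    (hab : a = b ↔ a' = b') (hac : a = c ↔ a' = c')
    (had : a = d ↔ a' = d') (hbc : b = c ↔ b' = c') (hbd : b = d ↔ b' = d')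
    (hcd : c = d ↔ c' = d') :
    ∃ g : G, g • a = a' ∧ g • b = b' ∧ g • c = c' ∧ g • d = d' := by
  obtain ⟨g, hg⟩ := h.exists_smul_eq (ι := Fin 4) (by simp) ![a, b, c, d] ![a', b', c', d']
    (kernel4 hab hac had hbc hbd hcd)
  refine ⟨g, ?_, ?_, ?_, ?_⟩
  · simpa using hg 0
  · simpa using hg 1
  · simpa using hg 2
  · simpa using hg 3

/-- Three points. -/
theorem FourTrans.exists3 (h : FourTrans G Ω) {a b c a' b' c' : Ω}
    (hab : a = b ↔ a' = b') (hac : a = c ↔ a' = c') (hbc : b = c ↔ b' = c') :
    ∃ g : G, g • a = a' ∧ g • b = b' ∧ g • c = c' := by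
  obtain ⟨g, h1, h2, h3, -⟩ := h.exists4 (d := c) (d' := c') hab hac hac hbc hbc
    (by simp)
  exact ⟨g, h1, h2, h3⟩

/-- Two points. -/
theorem FourTrans.exists2 (h : FourTrans G Ω) {a b a' b' : Ω}
    (hab : a = b ↔ a' = b') :
    ∃ g : G, g • a = a' ∧ g • b = b' := by
  obtain ⟨g, h1, h2, -⟩ := h.exists3 (c := b) (c' := b') hab hab (by simp)
  exact ⟨g, h1, h2⟩

/-- One point. -/
theorem FourTrans.exists1 (h : FourTrans G Ω) (a a' : Ω) : ∃ g : G, g • a = a' := by
  obtain ⟨g, h1, -⟩ := h.exists2 (a := a) (b := a) (a' := a') (b' := a') (by simp)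
  exact ⟨g, h1⟩

end Cfsg.Agent.Lib.Helper39.AltChar
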