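import Cfsg.Agent.Lib.Helper39.AltCharA

/-!
# Orbits of a four-fold transitive group on pairs of points, ordered pairs and two-subsets
-/

set_option autoImplicit false
set_option linter.style.haveILetI false

namespace Cfsg.Agent.Lib.Helper39.AltChar

open Cfsg MulAction
open scoped Pointwise

variable (G : Type*) [Group G] (Ω : Type*) [MulAction G Ω]

/-- Ordered pairs of distinct points. -/
def x2Sub : SubMulAction G (Ω × Ω) where
  carrier := {p | p.1 ≠ p.2}
  smul_mem' g p hp := by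
    intro h
    apply hp
    exact MulAction.injective g h

/-- Ordered pairs of distinct points, as a type. -/
abbrev X2 : Type _ := x2Sub G Ω

noncomputable instance instFintypeX2 [Finite Ω] : Fintype (X2 G Ω) := Fintype.ofFinite _

noncomputable instance instDecEqX2 : DecidableEq (X2 G Ω) := Classical.decEq _

variable {G Ω}

theorem X2.ne (x : X2 G Ω) : x.1.1 ≠ x.1.2 := x.2

/-- Constructor. -/
def X2.mk {a b : Ω} (hab : a ≠ b) : X2 G Ω := ⟨(a, b), hab⟩

theorem X2.smul_eq {x y : X2 G Ω} {g : G} (h1 : g • x.1.1 = y.1.1) (h2 : g • x.1.2 = y.1.2) :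
    g • x = y := by
  apply Subtype.ext
  apply Prod.ext
  · exact h1
  · exact h2

variable [DecidableEq Ω]

/-- Two-subsets. -/
abbrev S2 (Ω : Type*) : Type _ := Set.powersetCard Ω 2

noncomputable instance instDecEqS2 : DecidableEq (S2 Ω) := Classical.decEq _

theorem S2.exists_pair (s : S2 Ω) : ∃ a b : Ω, a ≠ b ∧ (s : Finset Ω) = {a, b} :=
  Finset.card_eq_two.1 s.2

theorem S2.exists_pair_of_mem (s : S2 Ω) {c : Ω} (hc : c ∈ (s : Finset Ω)) :
    ∃ b : Ω, c ≠ b ∧ (s : Finset Ω) = {c, b} := by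
  obtain ⟨a, b, hab, hs⟩ := S2.exists_pair s
  rw [hs, Finset.mem_insert, Finset.mem_singleton] at hc
  rcases hc with rfl | rfl
  · exact ⟨b, hab, hs⟩
  · exact ⟨a, hab.symm, by rw [hs, Finset.pair_comm]⟩

/-- Constructor. -/
def S2.mk {a b : Ω} (hab : a ≠ b) : S2 Ω := ⟨{a, b}, Finset.card_pair hab⟩

theorem S2.coe_mk {a b : Ω} (hab : a ≠ b) : ((S2.mk hab : S2 Ω) : Finset Ω) = {a, b} := rfl

theorem smul_pair (g : G) (a b : Ω) : g • ({a, b} : Finset Ω) = {g • a, g • b} := by
  rw [Finset.smul_finset_insert, Finset.smul_finset_singleton]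

theorem S2.smul_eq {s s' : S2 Ω} {g : G} {a b a' b' : Ω} (hs : (s : Finset Ω) = {a, b})
    (hs' : (s' : Finset Ω) = {a', b'}) (ha : g • a = a') (hb : g • b = b') : g • s = s' := by
  apply Subtype.ext
  rw [Set.powersetCard.coe_smul, hs, hs', smul_pair, ha, hb]

theorem S2.mem_smul_iff (g : G) (s : S2 Ω) (c : Ω) :
    g • c ∈ ((g • s : S2 Ω) : Finset Ω) ↔ c ∈ (s : Finset Ω) := by
  rw [Set.powersetCard.coe_smul, Finset.smul_mem_smul_finset_iff]

/-- The position of a point relative to an ordered pair. -/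
def pos (a b c : Ω) : Fin 3 := if c = a then 0 else if c = b then 1 else 2

theorem pos_smul (g : G) (a b c : Ω) : pos (g • a) (g • b) (g • c) = pos a b c := by
  unfold pos
  simp only [smul_left_cancel_iff]

theorem pos_eq_zero {a b c : Ω} : pos a b c = 0 ↔ c = a := by
  unfold pos
  split_ifs with h1 h2
  · simp [h1]
  · simp [h1]
  · simp [h1]

theorem pos_eq_one {a b c : Ω} (hab : a ≠ b) : pos a b c = 1 ↔ c = b := by
  unfold pos
  split_ifs with h1 h2
  · subst h1
    simp [hab]
  · simp [h2]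
  · simp [h2]

theorem pos_eq_two {a b c : Ω} : pos a b c = 2 ↔ c ≠ a ∧ c ≠ b := by
  unfold pos
  split_ifs with h1 h2
  · simp [h1]
  · simp [h2]
  · simp [h1, h2]

theorem pos_eq_pos {a b c a' b' c' : Ω} (hab : a ≠ b) (hab' : a' ≠ b')
    (h : pos a b c = pos a' b' c') : (a = c ↔ a' = c') ∧ (b = c ↔ b' = c') := by
  constructor
  · rw [eq_comm, ← pos_eq_zero (b := b), h, pos_eq_zero, eq_comm]
  · rw [eq_comm, ← pos_eq_one hab, h, pos_eq_one hab', eq_comm]

end Cfsg.Agent.Lib.Helper39.AltChar
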