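import Cfsg.Agent.Lib.Helper39.AltCharB

/-!
# Orbit counts for a four-fold transitive group
-/

set_option autoImplicit false
set_option linter.style.haveILetI false

namespace Cfsg.Agent.Lib.Helper39.AltChar

open Cfsg MulAction
open scoped Pointwise

variable {G : Type*} [Group G] {Ω : Type*} [MulAction G Ω]

theorem exists_four [Fintype Ω] (h4 : 4 ≤ Fintype.card Ω) :
    ∃ p0 p1 p2 p3 : Ω, p0 ≠ p1 ∧ p0 ≠ p2 ∧ p0 ≠ p3 ∧ p1 ≠ p2 ∧ p1 ≠ p3 ∧ p2 ≠ p3 := by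
  have : Nonempty (Fin 4 ↪ Ω) := Function.Embedding.nonempty_of_card_le (by simpa using h4)
  obtain ⟨f⟩ := this
  refine ⟨f 0, f 1, f 2, f 3, ?_, ?_, ?_, ?_, ?_, ?_⟩ <;>
  · intro h
    have := f.injective h
    revert this
    decide

variable [Fintype Ω]

theorem orbits_pt (hF : FourTrans G Ω) (h4 : 4 ≤ Fintype.card Ω)
    [Fintype (Quotient (orbitRel G Ω))] :
    Fintype.card (Quotient (orbitRel G Ω)) = 1 := by
  obtain ⟨p0, p1, p2, p3, h01, h02, h03, h12, h13, h23⟩ := exists_four h4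
  rw [card_orbits_eq_card (T := Unit) (fun _ => ()) (fun _ _ => rfl) ?_ ?_, Fintype.card_unit]
  · intro x y _
    exact hF.exists1 x y
  · intro u
    exact ⟨p0, rfl⟩

theorem orbits_X2 (hF : FourTrans G Ω) (h4 : 4 ≤ Fintype.card Ω)
    [Fintype (Quotient (orbitRel G (X2 G Ω)))] :
    Fintype.card (Quotient (orbitRel G (X2 G Ω))) = 1 := by
  obtain ⟨p0, p1, p2, p3, h01, h02, h03, h12, h13, h23⟩ := exists_four h4
  rw [card_orbits_eq_card (T := Unit) (fun _ => ()) (fun _ _ => rfl) ?_ ?_, Fintype.card_unit]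
  · intro x y _
    obtain ⟨g, h1, h2⟩ := hF.exists2 (iff_of_false x.ne y.ne)
    exact ⟨g, X2.smul_eq h1 h2⟩
  · intro u
    exact ⟨X2.mk h01, rfl⟩

variable [DecidableEq Ω]

theorem orbits_pt_pt (hF : FourTrans G Ω) (h4 : 4 ≤ Fintype.card Ω)
    [Fintype (Quotient (orbitRel G (Ω × Ω)))] :
    Fintype.card (Quotient (orbitRel G (Ω × Ω))) = 2 := by
  apply card_orbits_prod_of_two_transitive _ (by omega)
  intro a b c d hab hcd
  exact hF.exists2 (iff_of_false hab hcd)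

theorem orbits_X2_pt (hF : FourTrans G Ω) (h4 : 4 ≤ Fintype.card Ω)
    [Fintype (Quotient (orbitRel G (X2 G Ω × Ω)))] :
    Fintype.card (Quotient (orbitRel G (X2 G Ω × Ω))) = 3 := by
  obtain ⟨p0, p1, p2, p3, h01, h02, h03, h12, h13, h23⟩ := exists_four h4
  rw [card_orbits_eq_card (T := Fin 3) (fun z => pos z.1.1.1 z.1.1.2 z.2) ?_ ?_ ?_, Fintype.card_fin]
  · intro g z
    exact pos_smul g _ _ _
  · rintro ⟨x, c⟩ ⟨x', c'⟩ h
    obtain ⟨hac, hbc⟩ := pos_eq_pos x.ne x'.ne h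
    obtain ⟨g, h1, h2, h3⟩ := hF.exists3 (iff_of_false x.ne x'.ne) hac hbc
    exact ⟨g, Prod.ext (X2.smul_eq h1 h2) h3⟩
  · intro t
    fin_cases t
    · exact ⟨(X2.mk h01, p0), pos_eq_zero.2 rfl⟩
    · exact ⟨(X2.mk h01, p1), (pos_eq_one h01).2 rfl⟩
    · exact ⟨(X2.mk h01, p2), pos_eq_two.2 ⟨h02.symm, h12.symm⟩⟩

/-- The seven types of pairs of ordered pairs. -/
abbrev T7 : Type := {p : Fin 3 × Fin 3 // p ≠ (0, 0) ∧ p ≠ (1, 1)}

theorem card_T7 : Fintype.card T7 = 7 := by decide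

theorem orbits_X2_X2 (hF : FourTrans G Ω) (h4 : 4 ≤ Fintype.card Ω)
    [Fintype (Quotient (orbitRel G (X2 G Ω × X2 G Ω)))] :
    Fintype.card (Quotient (orbitRel G (X2 G Ω × X2 G Ω))) = 7 := by
  obtain ⟨p0, p1, p2, p3, h01, h02, h03, h12, h13, h23⟩ := exists_four h4
  have hty : ∀ z : X2 G Ω × X2 G Ω,
      (pos z.1.1.1 z.1.1.2 z.2.1.1, pos z.1.1.1 z.1.1.2 z.2.1.2) ≠ ((0, 0) : Fin 3 × Fin 3) ∧
      (pos z.1.1.1 z.1.1.2 z.2.1.1, pos z.1.1.1 z.1.1.2 z.2.1.2) ≠ ((1, 1) : Fin 3 × Fin 3) := by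
    intro z
    constructor
    · intro h
      rw [Prod.ext_iff] at h
      obtain ⟨h1, h2⟩ := h
      simp only at h1 h2
      rw [pos_eq_zero] at h1 h2
      exact z.2.ne (h1.trans h2.symm)
    · intro h
      rw [Prod.ext_iff] at h
      obtain ⟨h1, h2⟩ := h
      simp only at h1 h2
      rw [pos_eq_one z.1.ne] at h1 h2
      exact z.2.ne (h1.trans h2.symm)
  rw [card_orbits_eq_card (T := T7)
    (fun z => ⟨(pos z.1.1.1 z.1.1.2 z.2.1.1, pos z.1.1.1 z.1.1.2 z.2.1.2), hty z⟩) ?_ ?_ ?_, card_T7]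
  · intro g z
    apply Subtype.ext
    apply Prod.ext
    · exact pos_smul g _ _ _
    · exact pos_smul g _ _ _
  · rintro ⟨x, y⟩ ⟨x', y'⟩ h
    rw [Subtype.ext_iff, Prod.ext_iff] at h
    obtain ⟨h1, h2⟩ := h
    simp only at h1 h2
    obtain ⟨hac, hbc⟩ := pos_eq_pos x.ne x'.ne h1
    obtain ⟨had, hbd⟩ := pos_eq_pos x.ne x'.ne h2
    obtain ⟨g, k1, k2, k3, k4⟩ := hF.exists4 (iff_of_false x.ne x'.ne) hac had hbc hbd
      (iff_of_false y.ne y'.ne)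
    exact ⟨g, Prod.ext (X2.smul_eq k1 k2) (X2.smul_eq k3 k4)⟩
  · rintro ⟨⟨i, j⟩, hne1, hne2⟩
    fin_cases i <;> fin_cases j
    · exact absurd rfl hne1
    · exact ⟨(X2.mk h01, X2.mk h01), Subtype.ext (Prod.ext (pos_eq_zero.2 rfl)
        ((pos_eq_one h01).2 rfl))⟩
    · exact ⟨(X2.mk h01, X2.mk h02), Subtype.ext (Prod.ext (pos_eq_zero.2 rfl)
        (pos_eq_two.2 ⟨h02.symm, h12.symm⟩))⟩
    · exact ⟨(X2.mk h01, X2.mk h01.symm), Subtype.ext (Prod.ext ((pos_eq_one h01).2 rfl)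
        (pos_eq_zero.2 rfl))⟩
    · exact absurd rfl hne2
    · exact ⟨(X2.mk h01, X2.mk h12), Subtype.ext (Prod.ext ((pos_eq_one h01).2 rfl)
        (pos_eq_two.2 ⟨h02.symm, h12.symm⟩))⟩
    · exact ⟨(X2.mk h01, X2.mk h02.symm), Subtype.ext (Prod.ext
        (pos_eq_two.2 ⟨h02.symm, h12.symm⟩) (pos_eq_zero.2 rfl))⟩
    · exact ⟨(X2.mk h01, X2.mk h12.symm), Subtype.ext (Prod.ext
        (pos_eq_two.2 ⟨h02.symm, h12.symm⟩) ((pos_eq_one h01).2 rfl))⟩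
    · exact ⟨(X2.mk h01, X2.mk h23), Subtype.ext (Prod.ext
        (pos_eq_two.2 ⟨h02.symm, h12.symm⟩) (pos_eq_two.2 ⟨h03.symm, h13.symm⟩))⟩

end Cfsg.Agent.Lib.Helper39.AltChar
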