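import Cfsg.Agent.Lib.Helper39.AltCharC

/-!
# Orbit counts involving two-subsets
-/

set_option autoImplicit false
set_option linter.style.haveILetI false

namespace Cfsg.Agent.Lib.Helper39.AltChar

open Cfsg MulAction
open scoped Pointwise

variable {G : Type*} [Group G] {Ω : Type*} [MulAction G Ω] [Fintype Ω] [DecidableEq Ω]

omit [Fintype Ω] in
theorem S2.eq_pair_of_mem (s : S2 Ω) {c d : Ω} (hcd : c ≠ d) (hc : c ∈ (s : Finset Ω))
    (hd : d ∈ (s : Finset Ω)) : (s : Finset Ω) = {c, d} := by
  symm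
  apply Finset.eq_of_subset_of_card_le
  · intro x hx
    rw [Finset.mem_insert, Finset.mem_singleton] at hx
    rcases hx with rfl | rfl
    · exact hc
    · exact hd
  · rw [Finset.card_pair hcd]
    exact le_of_eq s.2

theorem orbits_S2 (hF : FourTrans G Ω) (h4 : 4 ≤ Fintype.card Ω)
    [Fintype (Quotient (orbitRel G (S2 Ω)))] :
    Fintype.card (Quotient (orbitRel G (S2 Ω))) = 1 := by
  obtain ⟨p0, p1, p2, p3, h01, h02, h03, h12, h13, h23⟩ := exists_four h4
  rw [card_orbits_eq_card (T := Unit) (fun _ => ()) (fun _ _ => rfl) ?_ ?_, Fintype.card_unit]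
  · intro s s' _
    obtain ⟨a, b, hab, hs⟩ := S2.exists_pair s
    obtain ⟨a', b', hab', hs'⟩ := S2.exists_pair s'
    obtain ⟨g, h1, h2⟩ := hF.exists2 (iff_of_false hab hab')
    exact ⟨g, S2.smul_eq hs hs' h1 h2⟩
  · intro u
    exact ⟨S2.mk h01, rfl⟩

theorem orbits_S2_pt (hF : FourTrans G Ω) (h4 : 4 ≤ Fintype.card Ω)
    [Fintype (Quotient (orbitRel G (S2 Ω × Ω)))] :
    Fintype.card (Quotient (orbitRel G (S2 Ω × Ω))) = 2 := by
  obtain ⟨p0, p1, p2, p3, h01, h02, h03, h12, h13, h23⟩ := exists_four h4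
  rw [card_orbits_eq_card (T := Bool) (fun z => decide (z.2 ∈ (z.1 : Finset Ω))) ?_ ?_ ?_,
    Fintype.card_bool]
  · intro g z
    rw [decide_eq_decide]
    exact S2.mem_smul_iff g z.1 z.2
  · rintro ⟨s, c⟩ ⟨s', c'⟩ h
    rw [decide_eq_decide] at h
    simp only at h
    by_cases hc : c ∈ (s : Finset Ω)
    · have hc' := h.1 hc
      obtain ⟨b, hcb, hs⟩ := S2.exists_pair_of_mem s hc
      obtain ⟨b', hcb', hs'⟩ := S2.exists_pair_of_mem s' hc'
      obtain ⟨g, h1, h2⟩ := hF.exists2 (iff_of_false hcb hcb')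
      exact ⟨g, Prod.ext (S2.smul_eq hs hs' h1 h2) h1⟩
    · have hc' : c' ∉ (s' : Finset Ω) := fun h' => hc (h.2 h')
      obtain ⟨a, b, hab, hs⟩ := S2.exists_pair s
      obtain ⟨a', b', hab', hs'⟩ := S2.exists_pair s'
      rw [hs, Finset.mem_insert, Finset.mem_singleton, not_or] at hc
      rw [hs', Finset.mem_insert, Finset.mem_singleton, not_or] at hc'
      obtain ⟨g, h1, h2, h3⟩ := hF.exists3 (iff_of_false hab hab')
        (iff_of_false (Ne.symm hc.1) (Ne.symm hc'.1)) (iff_of_false (Ne.symm hc.2) (Ne.symm hc'.2))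
      exact ⟨g, Prod.ext (S2.smul_eq hs hs' h1 h2) h3⟩
  · intro t
    cases t
    · refine ⟨(S2.mk h01, p2), ?_⟩
      simp [S2.coe_mk, h02.symm, h12.symm]
    · refine ⟨(S2.mk h01, p0), ?_⟩
      simp [S2.coe_mk]

theorem orbits_S2_X2 (hF : FourTrans G Ω) (h4 : 4 ≤ Fintype.card Ω)
    [Fintype (Quotient (orbitRel G (S2 Ω × X2 G Ω)))] :
    Fintype.card (Quotient (orbitRel G (S2 Ω × X2 G Ω))) = 4 := by
  obtain ⟨p0, p1, p2, p3, h01, h02, h03, h12, h13, h23⟩ := exists_four h4
  rw [card_orbits_eq_card (T := Bool × Bool)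
    (fun z => (decide (z.2.1.1 ∈ (z.1 : Finset Ω)), decide (z.2.1.2 ∈ (z.1 : Finset Ω)))) ?_ ?_ ?_,
    Fintype.card_prod, Fintype.card_bool]
  · intro g z
    apply Prod.ext
    · simp only
      rw [decide_eq_decide]
      exact S2.mem_smul_iff g z.1 z.2.1.1
    · simp only
      rw [decide_eq_decide]
      exact S2.mem_smul_iff g z.1 z.2.1.2
  · rintro ⟨s, y⟩ ⟨s', y'⟩ h
    rw [Prod.ext_iff] at h
    obtain ⟨h1, h2⟩ := h
    simp only at h1 h2
    rw [decide_eq_decide] at h1 h2
    by_cases hc : y.1.1 ∈ (s : Finset Ω)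
    · have hc' := h1.1 hc
      by_cases hd : y.1.2 ∈ (s : Finset Ω)
      · have hd' := h2.1 hd
        have hs := S2.eq_pair_of_mem s y.ne hc hd
        have hs' := S2.eq_pair_of_mem s' y'.ne hc' hd'
        obtain ⟨g, k1, k2⟩ := hF.exists2 (iff_of_false y.ne y'.ne)
        exact ⟨g, Prod.ext (S2.smul_eq hs hs' k1 k2) (X2.smul_eq k1 k2)⟩
      · have hd' : y'.1.2 ∉ (s' : Finset Ω) := fun h' => hd (h2.2 h')
        obtain ⟨b, hcb, hs⟩ := S2.exists_pair_of_mem s hc
        obtain ⟨b', hcb', hs'⟩ := S2.exists_pair_of_mem s' hc'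
        rw [hs, Finset.mem_insert, Finset.mem_singleton, not_or] at hd
        rw [hs', Finset.mem_insert, Finset.mem_singleton, not_or] at hd'
        obtain ⟨g, k1, k2, k3⟩ := hF.exists3 (iff_of_false hcb hcb')
          (iff_of_false y.ne y'.ne) (iff_of_false (Ne.symm hd.2) (Ne.symm hd'.2))
        exact ⟨g, Prod.ext (S2.smul_eq hs hs' k1 k2) (X2.smul_eq k1 k3)⟩
    · have hc' : y'.1.1 ∉ (s' : Finset Ω) := fun h' => hc (h1.2 h')
      by_cases hd : y.1.2 ∈ (s : Finset Ω)
      · have hd' := h2.1 hd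
        obtain ⟨b, hdb, hs⟩ := S2.exists_pair_of_mem s hd
        obtain ⟨b', hdb', hs'⟩ := S2.exists_pair_of_mem s' hd'
        rw [hs, Finset.mem_insert, Finset.mem_singleton, not_or] at hc
        rw [hs', Finset.mem_insert, Finset.mem_singleton, not_or] at hc'
        obtain ⟨g, k1, k2, k3⟩ := hF.exists3 (iff_of_false hdb hdb')
          (iff_of_false (Ne.symm y.ne) (Ne.symm y'.ne)) (iff_of_false (Ne.symm hc.2) (Ne.symm hc'.2))
        exact ⟨g, Prod.ext (S2.smul_eq hs hs' k1 k2) (X2.smul_eq k3 k1)⟩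
      · have hd' : y'.1.2 ∉ (s' : Finset Ω) := fun h' => hd (h2.2 h')
        obtain ⟨a, b, hab, hs⟩ := S2.exists_pair s
        obtain ⟨a', b', hab', hs'⟩ := S2.exists_pair s'
        rw [hs, Finset.mem_insert, Finset.mem_singleton, not_or] at hc hd
        rw [hs', Finset.mem_insert, Finset.mem_singleton, not_or] at hc' hd'
        obtain ⟨g, k1, k2, k3, k4⟩ := hF.exists4 (iff_of_false hab hab')
          (iff_of_false (Ne.symm hc.1) (Ne.symm hc'.1)) (iff_of_false (Ne.symm hd.1) (Ne.symm hd'.1))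
          (iff_of_false (Ne.symm hc.2) (Ne.symm hc'.2)) (iff_of_false (Ne.symm hd.2) (Ne.symm hd'.2))
          (iff_of_false y.ne y'.ne)
        exact ⟨g, Prod.ext (S2.smul_eq hs hs' k1 k2) (X2.smul_eq k3 k4)⟩
  · rintro ⟨t1, t2⟩
    cases t1 <;> cases t2
    · refine ⟨(S2.mk h01, X2.mk h23), ?_⟩
      simp [S2.coe_mk, X2.mk, h02.symm, h12.symm, h03.symm, h13.symm]
    · refine ⟨(S2.mk h01, X2.mk h02.symm), ?_⟩
      simp [S2.coe_mk, X2.mk, h02.symm, h12.symm]
    · refine ⟨(S2.mk h01, X2.mk h02), ?_⟩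
      simp [S2.coe_mk, X2.mk, h02.symm, h12.symm]
    · refine ⟨(S2.mk h01, X2.mk h01), ?_⟩
      simp [S2.coe_mk, X2.mk]

theorem orbits_S2_S2 (hF : FourTrans G Ω) (h4 : 4 ≤ Fintype.card Ω)
    [Fintype (Quotient (orbitRel G (S2 Ω × S2 Ω)))] :
    Fintype.card (Quotient (orbitRel G (S2 Ω × S2 Ω))) = 3 := by
  obtain ⟨p0, p1, p2, p3, h01, h02, h03, h12, h13, h23⟩ := exists_four h4
  have hlt : ∀ z : S2 Ω × S2 Ω, ((z.1 : Finset Ω) ∩ (z.2 : Finset Ω)).card < 3 := by
    intro z
    have h1 : ((z.1 : Finset Ω) ∩ (z.2 : Finset Ω)).card ≤ (z.1 : Finset Ω).card :=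
      Finset.card_le_card Finset.inter_subset_left
    have h2 : (z.1 : Finset Ω).card = 2 := z.1.2
    omega
  rw [card_orbits_eq_card (T := Fin 3)
    (fun z => ⟨((z.1 : Finset Ω) ∩ (z.2 : Finset Ω)).card, hlt z⟩) ?_ ?_ ?_, Fintype.card_fin]
  · intro g z
    apply Fin.ext
    show (((g • z.1 : S2 Ω) : Finset Ω) ∩ ((g • z.2 : S2 Ω) : Finset Ω)).card = _
    rw [Set.powersetCard.coe_smul, Set.powersetCard.coe_smul, ← Finset.smul_finset_inter,
      Finset.card_smul_finset]
  · rintro ⟨s, t⟩ ⟨s', t'⟩ h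
    rw [Fin.ext_iff] at h
    simp only at h
    obtain ⟨a, b, hab, hs⟩ := S2.exists_pair s
    obtain ⟨a', b', hab', hs'⟩ := S2.exists_pair s'
    -- membership of a, b in t
    by_cases ha : a ∈ (t : Finset Ω)
    · by_cases hb : b ∈ (t : Finset Ω)
      · -- s = t
        have ht := S2.eq_pair_of_mem t hab ha hb
        have hk : ((s : Finset Ω) ∩ (t : Finset Ω)).card = 2 := by
          rw [hs, ht, Finset.inter_self, Finset.card_pair hab]
        rw [hk] at h
        have hsub : (s' : Finset Ω) ∩ (t' : Finset Ω) = (s' : Finset Ω) := by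
          apply Finset.eq_of_subset_of_card_le Finset.inter_subset_left
          rw [← h]
          exact le_of_eq s'.2
        have hst' : (s' : Finset Ω) ⊆ (t' : Finset Ω) := by
          rw [← hsub]; exact Finset.inter_subset_right
        have ha' : a' ∈ (t' : Finset Ω) := hst' (by rw [hs']; simp)
        have hb' : b' ∈ (t' : Finset Ω) := hst' (by rw [hs']; simp)
        have ht' := S2.eq_pair_of_mem t' hab' ha' hb'
        obtain ⟨g, k1, k2⟩ := hF.exists2 (iff_of_false hab hab')
        exact ⟨g, Prod.ext (S2.smul_eq hs hs' k1 k2) (S2.smul_eq ht ht' k1 k2)⟩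
      · -- s ∩ t = {a}
        obtain ⟨c, hac, ht⟩ := S2.exists_pair_of_mem t ha
        have hbc : b ≠ c := by
          intro hbc
          apply hb
          rw [ht, hbc]
          simp
        have hk : ((s : Finset Ω) ∩ (t : Finset Ω)) = {a} := by
          ext x
          rw [hs, ht]
          simp only [Finset.mem_inter, Finset.mem_insert, Finset.mem_singleton]
          constructor
          · rintro ⟨h1 | h1, h2 | h2⟩
            · exact h1
            · exact h1
            · exact h2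
            · exact absurd (h1.symm.trans h2) hbc
          · intro h1
            exact ⟨Or.inl h1, Or.inl h1⟩
        rw [hk, Finset.card_singleton] at h
        obtain ⟨x, hx⟩ := Finset.card_eq_one.1 h.symm
        have hx1 : x ∈ (s' : Finset Ω) ∩ (t' : Finset Ω) := by rw [hx]; simp
        rw [Finset.mem_inter] at hx1
        obtain ⟨y, hxy, hs''⟩ := S2.exists_pair_of_mem s' hx1.1
        obtain ⟨w, hxw, ht''⟩ := S2.exists_pair_of_mem t' hx1.2
        have hyw : y ≠ w := by
          intro hyw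
          have : y ∈ (s' : Finset Ω) ∩ (t' : Finset Ω) := by
            rw [Finset.mem_inter, hs'', ht'', hyw]
            simp
          rw [hx, Finset.mem_singleton] at this
          exact hxy this.symm
        obtain ⟨g, k1, k2, k3⟩ := hF.exists3 (iff_of_false hab hxy) (iff_of_false hac hxw)
          (iff_of_false hbc hyw)
        exact ⟨g, Prod.ext (S2.smul_eq hs hs'' k1 k2) (S2.smul_eq ht ht'' k1 k3)⟩
    · by_cases hb : b ∈ (t : Finset Ω)
      · -- s ∩ t = {b}
        obtain ⟨c, hbc', ht⟩ := S2.exists_pair_of_mem t hb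
        have hac : a ≠ c := by
          intro hac
          apply ha
          rw [ht, hac]
          simp
        have hk : ((s : Finset Ω) ∩ (t : Finset Ω)) = {b} := by
          ext x
          rw [hs, ht]
          simp only [Finset.mem_inter, Finset.mem_insert, Finset.mem_singleton]
          constructor
          · rintro ⟨h1 | h1, h2 | h2⟩
            · exact h2
            · exact absurd (h1.symm.trans h2) hac
            · exact h1
            · exact h1
          · intro h1
            exact ⟨Or.inr h1, Or.inl h1⟩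
        rw [hk, Finset.card_singleton] at h
        obtain ⟨x, hx⟩ := Finset.card_eq_one.1 h.symm
        have hx1 : x ∈ (s' : Finset Ω) ∩ (t' : Finset Ω) := by rw [hx]; simp
        rw [Finset.mem_inter] at hx1
        obtain ⟨y, hxy, hs''⟩ := S2.exists_pair_of_mem s' hx1.1
        obtain ⟨w, hxw, ht''⟩ := S2.exists_pair_of_mem t' hx1.2
        have hyw : y ≠ w := by
          intro hyw
          have : y ∈ (s' : Finset Ω) ∩ (t' : Finset Ω) := by
            rw [Finset.mem_inter, hs'', ht'', hyw]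
            simp
          rw [hx, Finset.mem_singleton] at this
          exact hxy this.symm
        have hs2 : (s : Finset Ω) = {b, a} := by rw [hs, Finset.pair_comm]
        obtain ⟨g, k1, k2, k3⟩ := hF.exists3 (iff_of_false hab.symm hxy) (iff_of_false hbc' hxw)
          (iff_of_false hac hyw)
        exact ⟨g, Prod.ext (S2.smul_eq hs2 hs'' k1 k2) (S2.smul_eq ht ht'' k1 k3)⟩
      · -- disjoint
        obtain ⟨c, d, hcd, ht⟩ := S2.exists_pair t
        obtain ⟨c', d', hcd', ht'⟩ := S2.exists_pair t'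
        have hk : ((s : Finset Ω) ∩ (t : Finset Ω)) = ∅ := by
          rw [Finset.eq_empty_iff_forall_notMem]
          intro x hx
          rw [Finset.mem_inter, hs, Finset.mem_insert, Finset.mem_singleton] at hx
          rcases hx.1 with rfl | rfl
          · exact ha hx.2
          · exact hb hx.2
        rw [hk, Finset.card_empty] at h
        have hk' : ((s' : Finset Ω) ∩ (t' : Finset Ω)) = ∅ := Finset.card_eq_zero.1 h.symm
        have hmem : ∀ x, x ∈ (s' : Finset Ω) → x ∉ (t' : Finset Ω) := by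
          intro x hx1 hx2
          have : x ∈ (s' : Finset Ω) ∩ (t' : Finset Ω) := Finset.mem_inter.2 ⟨hx1, hx2⟩
          rw [hk'] at this
          simp at this
        have ha' := hmem a' (by rw [hs']; simp)
        have hb' := hmem b' (by rw [hs']; simp)
        rw [ht, Finset.mem_insert, Finset.mem_singleton, not_or] at ha hb
        rw [ht', Finset.mem_insert, Finset.mem_singleton, not_or] at ha' hb'
        obtain ⟨g, k1, k2, k3, k4⟩ := hF.exists4 (iff_of_false hab hab')
          (iff_of_false ha.1 ha'.1) (iff_of_false ha.2 ha'.2)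
          (iff_of_false hb.1 hb'.1) (iff_of_false hb.2 hb'.2)
          (iff_of_false hcd hcd')
        exact ⟨g, Prod.ext (S2.smul_eq hs hs' k1 k2) (S2.smul_eq ht ht' k3 k4)⟩
  · intro k
    fin_cases k
    · refine ⟨(S2.mk h01, S2.mk h23), ?_⟩
      apply Fin.ext
      show (({p0, p1} : Finset Ω) ∩ {p2, p3}).card = 0
      rw [Finset.card_eq_zero, Finset.eq_empty_iff_forall_notMem]
      intro x hx
      simp only [Finset.mem_inter, Finset.mem_insert, Finset.mem_singleton] at hx
      rcases hx with ⟨rfl | rfl, h | h⟩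
      · exact h02 h
      · exact h03 h
      · exact h12 h
      · exact h13 h
    · refine ⟨(S2.mk h01, S2.mk h02), ?_⟩
      apply Fin.ext
      show (({p0, p1} : Finset Ω) ∩ {p0, p2}).card = 1
      rw [Finset.card_eq_one]
      refine ⟨p0, ?_⟩
      ext x
      simp only [Finset.mem_inter, Finset.mem_insert, Finset.mem_singleton]
      constructor
      · rintro ⟨h1 | h1, h2 | h2⟩
        · exact h1
        · exact h1
        · exact h2
        · exact absurd (h1.symm.trans h2) h12
      · intro h1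
        exact ⟨Or.inl h1, Or.inl h1⟩
    · refine ⟨(S2.mk h01, S2.mk h01), ?_⟩
      apply Fin.ext
      show (({p0, p1} : Finset Ω) ∩ {p0, p1}).card = 2
      rw [Finset.inter_self, Finset.card_pair h01]

end Cfsg.Agent.Lib.Helper39.AltChar
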