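import Cfsg.Agent.Lib.Helper39.AltCharD

/-!
# Three irreducible characters of a four-fold transitive group
-/

set_option autoImplicit false
set_option linter.style.haveILetI false

namespace Cfsg.Agent.Lib.Helper39.AltChar

open Cfsg MulAction
open Cfsg.Agent.Lib.Helper3
open scoped Pointwise

variable (G : Type*) [Group G] (Ω : Type*) [MulAction G Ω] [Fintype Ω] [DecidableEq Ω]

/-- The character of degree `n - 1`. -/
noncomputable def chi1 : G → ℂ := permCharFun G Ω - fun _ => (1 : ℂ)

/-- The character of degree `n (n - 3) / 2`. -/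
noncomputable def chi2 : G → ℂ := permCharFun G (S2 Ω) - permCharFun G Ω

/-- The character of degree `(n - 1) (n - 2) / 2`. -/
noncomputable def chi3 : G → ℂ :=
  (permCharFun G (X2 G Ω) + fun _ => (1 : ℂ)) - (permCharFun G (S2 Ω) + permCharFun G Ω)

variable {G Ω}

theorem permCharFun_one' (X : Type*) [MulAction G X] [Fintype X] [DecidableEq X] :
    permCharFun G X 1 = (Fintype.card X : ℂ) := by
  unfold permCharFun
  congr 1
  rw [← Fintype.card_congr (Equiv.Set.univ X)]
  apply Fintype.card_congr
  exact Equiv.setCongr (by ext x; simp)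

omit [DecidableEq Ω] in
theorem card_S2 : Fintype.card (S2 Ω) = (Fintype.card Ω).choose 2 := by
  rw [← Nat.card_eq_fintype_card, Set.powersetCard.card, Nat.card_eq_fintype_card]

omit [DecidableEq Ω] in
theorem card_X2 : Fintype.card (X2 G Ω) = Fintype.card Ω * (Fintype.card Ω - 1) := by
  classical
  have h1 : Fintype.card (X2 G Ω) = (Finset.univ : Finset Ω).offDiag.card := by
    apply Fintype.card_of_subtype
    intro x
    rw [Finset.mem_offDiag]
    constructor
    · rintro ⟨-, -, h⟩
      exact h
    · intro h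
      exact ⟨Finset.mem_univ _, Finset.mem_univ _, h⟩
  rw [h1, Finset.offDiag_card, Finset.card_univ, Nat.mul_sub_one]

theorem two_mul_choose_two (n : ℕ) : 2 * n.choose 2 = n * (n - 1) := by
  rw [Nat.choose_two_right, Nat.two_mul_div_two_of_even (Nat.even_mul_pred_self n)]

variable [Fintype G]

theorem isIrr_chi1 (hF : FourTrans G Ω) (h4 : 4 ≤ Fintype.card Ω) :
    IsIrrCharacter G (chi1 G Ω) := by
  classical
  haveI : Fintype (Quotient (orbitRel G (Ω × Ω))) := Fintype.ofFinite _
  haveI : Fintype (Quotient (orbitRel G Ω)) := Fintype.ofFinite _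
  have hR : IsCharacter G (permCharFun G Ω) := isCharacter_permCharFun
  have hnorm : classInner (permCharFun G Ω) (permCharFun G Ω) = 2 := by
    rw [classInner_permCharFun, orbits_pt_pt hF h4]
    norm_num
  have hRL : classInner (permCharFun G Ω) (fun _ => (1 : ℂ)) = 1 := by
    rw [classInner_permCharFun_one, orbits_pt hF h4]
    norm_num
  exact Cfsg.Agent.Lib.Helper38.isIrr_sub_of_norm_two hR hnorm isIrrCharacter_one hRL

theorem isIrr_chi2 (hF : FourTrans G Ω) (h4 : 4 ≤ Fintype.card Ω) :
    IsIrrCharacter G (chi2 G Ω) := by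
  classical
  haveI : Fintype (Quotient (orbitRel G (Ω × Ω))) := Fintype.ofFinite _
  haveI : Fintype (Quotient (orbitRel G (S2 Ω × Ω))) := Fintype.ofFinite _
  haveI : Fintype (Quotient (orbitRel G (S2 Ω × S2 Ω))) := Fintype.ofFinite _
  have h1 : classInner (permCharFun G Ω) (permCharFun G Ω) = 2 := by
    rw [classInner_permCharFun, orbits_pt_pt hF h4]
    norm_num
  have h2 : classInner (permCharFun G (S2 Ω)) (permCharFun G Ω) = 2 := by
    rw [classInner_permCharFun, orbits_S2_pt hF h4]
    norm_num
  have h2' : classInner (permCharFun G Ω) (permCharFun G (S2 Ω)) = 2 := by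
    rw [classInner_permCharFun_comm, h2]
  have h3 : classInner (permCharFun G (S2 Ω)) (permCharFun G (S2 Ω)) = 3 := by
    rw [classInner_permCharFun, orbits_S2_S2 hF h4]
    norm_num
  have hnorm : classInner (chi2 G Ω) (chi2 G Ω) = 1 := by
    unfold chi2
    rw [classInner_sub_left, classInner_sub_right, classInner_sub_right, h1, h2, h2', h3]
    norm_num
  set n := Fintype.card Ω with hn
  have hd : n + 1 ≤ n.choose 2 := by
    have h5 := two_mul_choose_two n
    obtain ⟨k, hk⟩ : ∃ k, n = k + 1 := ⟨n - 1, by omega⟩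
    rw [hk] at h5 ⊢
    simp only [Nat.add_sub_cancel] at h5
    have hk3 : 3 ≤ k := by omega
    nlinarith
  apply Cfsg.Agent.Lib.Helper96.isIrrCharacter_of_sub isCharacter_permCharFun
    isCharacter_permCharFun hnorm (d := n.choose 2 - n) (by omega)
  rw [Pi.sub_apply, permCharFun_one', permCharFun_one', card_S2, Nat.cast_sub (by omega)]

theorem isIrr_chi3 (hF : FourTrans G Ω) (h4 : 4 ≤ Fintype.card Ω) :
    IsIrrCharacter G (chi3 G Ω) := by
  classical
  haveI : Fintype (Quotient (orbitRel G Ω)) := Fintype.ofFinite _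
  haveI : Fintype (Quotient (orbitRel G (S2 Ω))) := Fintype.ofFinite _
  haveI : Fintype (Quotient (orbitRel G (X2 G Ω))) := Fintype.ofFinite _
  haveI : Fintype (Quotient (orbitRel G (Ω × Ω))) := Fintype.ofFinite _
  haveI : Fintype (Quotient (orbitRel G (S2 Ω × Ω))) := Fintype.ofFinite _
  haveI : Fintype (Quotient (orbitRel G (S2 Ω × S2 Ω))) := Fintype.ofFinite _
  haveI : Fintype (Quotient (orbitRel G (S2 Ω × X2 G Ω))) := Fintype.ofFinite _
  haveI : Fintype (Quotient (orbitRel G (X2 G Ω × Ω))) := Fintype.ofFinite _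
  haveI : Fintype (Quotient (orbitRel G (X2 G Ω × X2 G Ω))) := Fintype.ofFinite _
  have pp : classInner (permCharFun G Ω) (permCharFun G Ω) = 2 := by
    rw [classInner_permCharFun, orbits_pt_pt hF h4]
    norm_num
  have sp : classInner (permCharFun G (S2 Ω)) (permCharFun G Ω) = 2 := by
    rw [classInner_permCharFun, orbits_S2_pt hF h4]
    norm_num
  have ps : classInner (permCharFun G Ω) (permCharFun G (S2 Ω)) = 2 := by
    rw [classInner_permCharFun_comm, sp]
  have ss : classInner (permCharFun G (S2 Ω)) (permCharFun G (S2 Ω)) = 3 := by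
    rw [classInner_permCharFun, orbits_S2_S2 hF h4]
    norm_num
  have sx : classInner (permCharFun G (S2 Ω)) (permCharFun G (X2 G Ω)) = 4 := by
    rw [classInner_permCharFun, orbits_S2_X2 hF h4]
    norm_num
  have xs : classInner (permCharFun G (X2 G Ω)) (permCharFun G (S2 Ω)) = 4 := by
    rw [classInner_permCharFun_comm, sx]
  have xp : classInner (permCharFun G (X2 G Ω)) (permCharFun G Ω) = 3 := by
    rw [classInner_permCharFun, orbits_X2_pt hF h4]
    norm_num
  have px : classInner (permCharFun G Ω) (permCharFun G (X2 G Ω)) = 3 := by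
    rw [classInner_permCharFun_comm, xp]
  have xx : classInner (permCharFun G (X2 G Ω)) (permCharFun G (X2 G Ω)) = 7 := by
    rw [classInner_permCharFun, orbits_X2_X2 hF h4]
    norm_num
  have p1 : classInner (permCharFun G Ω) (fun _ => (1 : ℂ)) = 1 := by
    rw [classInner_permCharFun_one, orbits_pt hF h4]
    norm_num
  have op : classInner (fun _ => (1 : ℂ)) (permCharFun G Ω) = 1 := by
    rw [classInner_one_permCharFun, orbits_pt hF h4]
    norm_num
  have s1 : classInner (permCharFun G (S2 Ω)) (fun _ => (1 : ℂ)) = 1 := by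
    rw [classInner_permCharFun_one, orbits_S2 hF h4]
    norm_num
  have os : classInner (fun _ => (1 : ℂ)) (permCharFun G (S2 Ω)) = 1 := by
    rw [classInner_one_permCharFun, orbits_S2 hF h4]
    norm_num
  have x1 : classInner (permCharFun G (X2 G Ω)) (fun _ => (1 : ℂ)) = 1 := by
    rw [classInner_permCharFun_one, orbits_X2 hF h4]
    norm_num
  have ox : classInner (fun _ => (1 : ℂ)) (permCharFun G (X2 G Ω)) = 1 := by
    rw [classInner_one_permCharFun, orbits_X2 hF h4]
    norm_num
  have oo : classInner (fun _ : G => (1 : ℂ)) (fun _ => (1 : ℂ)) = 1 := by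
    have := classInner_irr (G := G) isIrrCharacter_one isIrrCharacter_one
    rw [if_pos rfl] at this
    exact this
  have hnorm : classInner (chi3 G Ω) (chi3 G Ω) = 1 := by
    unfold chi3
    simp only [classInner_sub_left, classInner_sub_right, classInner_add_left,
      classInner_add_right, pp, sp, ps, ss, sx, xs, xp, px, xx, p1, op, s1, os, x1, ox, oo]
    norm_num
  set n := Fintype.card Ω with hn
  have hid : n * (n - 1) + 1 = n.choose 2 + n + (n - 1).choose 2 := by
    obtain ⟨k, hk⟩ : ∃ k, n = k + 1 := ⟨n - 1, by omega⟩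
    have h5 := two_mul_choose_two n
    have h6 : n.choose 2 = k + k.choose 2 := by
      rw [hk, Nat.choose_succ_succ, Nat.choose_one_right]
    rw [hk] at h5 ⊢
    simp only [Nat.add_sub_cancel] at h5 ⊢
    rw [hk] at h6
    omega
  have hdpos : 0 < (n - 1).choose 2 := Nat.choose_pos (by omega)
  apply Cfsg.Agent.Lib.Helper96.isIrrCharacter_of_sub
    (IsCharacter.add isCharacter_permCharFun IsCharacter.one)
    (IsCharacter.add isCharacter_permCharFun isCharacter_permCharFun) hnorm (d := (n - 1).choose 2) hdpos
  rw [Pi.sub_apply, Pi.add_apply, Pi.add_apply, permCharFun_one', permCharFun_one',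
    permCharFun_one', card_S2, card_X2]
  have := congrArg (Nat.cast (R := ℂ)) hid
  push_cast at this ⊢
  linear_combination this

end Cfsg.Agent.Lib.Helper39.AltChar
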