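import Cfsg.Agent.Lib.Helper39.AltCharE

/-!
# Values of the three characters
-/

set_option autoImplicit false
set_option linter.style.haveILetI false

namespace Cfsg.Agent.Lib.Helper39.AltChar

open Cfsg MulAction
open scoped Pointwise

variable {G : Type*} [Group G] {Ω : Type*} [MulAction G Ω] [Fintype Ω] [DecidableEq Ω]

/-- The fixed points as a finset. -/
def fixF (g : G) : Finset Ω := Finset.univ.filter (fun a => g • a = a)

theorem mem_fixF {g : G} {a : Ω} : a ∈ fixF g ↔ g • a = a := by
  unfold fixF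
  simp

theorem card_fixF (g : G) : (fixF g : Finset Ω).card = Fintype.card (fixedBy Ω g) := by
  symm
  apply Fintype.card_of_subtype
  intro x
  rw [mem_fixF, mem_fixedBy]

theorem card_fixedBy_X2 (g : G) :
    Fintype.card (fixedBy (X2 G Ω) g) =
      Fintype.card (fixedBy Ω g) * (Fintype.card (fixedBy Ω g) - 1) := by
  classical
  rw [← card_fixF (Ω := Ω) g, Nat.mul_sub_one, ← Finset.offDiag_card, ← Fintype.card_coe]
  apply Fintype.card_congr
  refine
    { toFun := fun x => ⟨x.1.1, ?_⟩
      invFun := fun p => ⟨⟨p.1, ?_⟩, ?_⟩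
      left_inv := fun x => by ext <;> rfl
      right_inv := fun y => by ext <;> rfl }
  · have h1 := x.2
    rw [mem_fixedBy] at h1
    have h2 : g • x.1.1 = x.1.1 := congrArg Subtype.val h1
    rw [Finset.mem_offDiag, mem_fixF, mem_fixF]
    exact ⟨congrArg Prod.fst h2, congrArg Prod.snd h2, x.1.2⟩
  · have := p.2
    rw [Finset.mem_offDiag] at this
    exact this.2.2
  · have := p.2
    rw [Finset.mem_offDiag, mem_fixF, mem_fixF] at this
    rw [mem_fixedBy]
    apply Subtype.ext
    exact Prod.ext this.1 this.2.1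

theorem card_fixedBy_S2 (g : G) (h2 : ∀ a : Ω, g • (g • a) = a → g • a = a) :
    Fintype.card (fixedBy (S2 Ω) g) = (Fintype.card (fixedBy Ω g)).choose 2 := by
  classical
  rw [← card_fixF (Ω := Ω) g, ← Finset.card_powersetCard, ← Fintype.card_coe]
  apply Fintype.card_congr
  refine
    { toFun := fun s => ⟨(s.1 : Finset Ω), ?_⟩
      invFun := fun t => ⟨⟨t.1, ?_⟩, ?_⟩
      left_inv := fun x => by ext <;> rfl
      right_inv := fun y => by ext <;> rfl }
  · have h1 := s.2
    rw [mem_fixedBy] at h1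
    have h3 : g • (s.1 : Finset Ω) = (s.1 : Finset Ω) := by
      rw [← Set.powersetCard.coe_smul, h1]
    rw [Finset.mem_powersetCard]
    refine ⟨?_, s.1.2⟩
    obtain ⟨a, b, hab, hs⟩ := S2.exists_pair s.1
    have key : ∀ x y : Ω, x ≠ y → g • ({x, y} : Finset Ω) = {x, y} → g • x = x := by
      intro x y hxy hfix
      rw [smul_pair] at hfix
      have hx : g • x ∈ ({x, y} : Finset Ω) := by rw [← hfix]; simp
      have hy : g • y ∈ ({x, y} : Finset Ω) := by rw [← hfix]; simp
      rw [Finset.mem_insert, Finset.mem_singleton] at hx hy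
      rcases hx with hx | hx
      · exact hx
      · rcases hy with hy | hy
        · apply h2
          rw [hx, hy]
        · exfalso
          apply hxy
          have : g • x = g • y := by rw [hx, hy]
          exact MulAction.injective g this
    intro x hx
    rw [hs, Finset.mem_insert, Finset.mem_singleton] at hx
    rw [mem_fixF]
    rcases hx with rfl | rfl
    · exact key x b hab (by rw [← hs]; exact h3)
    · exact key x a hab.symm (by rw [Finset.pair_comm, ← hs]; exact h3)
  · have := t.2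
    rw [Finset.mem_powersetCard] at this
    exact this.2
  · have := t.2
    rw [Finset.mem_powersetCard] at this
    rw [mem_fixedBy]
    apply Subtype.ext
    rw [Set.powersetCard.coe_smul]
    show g • (t.1 : Finset Ω) = t.1
    ext x
    constructor
    · intro hx
      rw [Finset.mem_smul_finset] at hx
      obtain ⟨y, hy, rfl⟩ := hx
      have := mem_fixF.1 (this.1 hy)
      rw [this]
      exact hy
    · intro hx
      rw [Finset.mem_smul_finset]
      exact ⟨x, hx, mem_fixF.1 (this.1 hx)⟩

theorem chi1_apply (g : G) : chi1 G Ω g = (Fintype.card (fixedBy Ω g) : ℂ) - 1 := rfl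

theorem chi2_apply (g : G) (h2 : ∀ a : Ω, g • (g • a) = a → g • a = a) :
    chi2 G Ω g = ((Fintype.card (fixedBy Ω g)).choose 2 : ℂ) - (Fintype.card (fixedBy Ω g) : ℂ) := by
  unfold chi2 permCharFun
  rw [Pi.sub_apply, card_fixedBy_S2 g h2]

theorem chi3_apply (g : G) (h2 : ∀ a : Ω, g • (g • a) = a → g • a = a) :
    chi3 G Ω g = ((Fintype.card (fixedBy Ω g) * (Fintype.card (fixedBy Ω g) - 1) : ℕ) : ℂ) + 1 -
      (((Fintype.card (fixedBy Ω g)).choose 2 : ℂ) + (Fintype.card (fixedBy Ω g) : ℂ)) := by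
  unfold chi3 permCharFun
  rw [Pi.sub_apply, Pi.add_apply, Pi.add_apply, card_fixedBy_S2 g h2, card_fixedBy_X2]

theorem chi1_eq_zero (g : G) (h1 : Fintype.card (fixedBy Ω g) = 1) : chi1 G Ω g = 0 := by
  rw [chi1_apply, h1]
  norm_num

theorem chi2_eq_zero (g : G) (h2 : ∀ a : Ω, g • (g • a) = a → g • a = a)
    (h1 : Fintype.card (fixedBy Ω g) = 0 ∨ Fintype.card (fixedBy Ω g) = 3) :
    chi2 G Ω g = 0 := by
  rw [chi2_apply g h2]
  rcases h1 with h1 | h1
  · rw [h1]
    norm_num [Nat.choose]
  · rw [h1]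
    norm_num [Nat.choose]

theorem chi3_eq_zero (g : G) (h2 : ∀ a : Ω, g • (g • a) = a → g • a = a)
    (h1 : Fintype.card (fixedBy Ω g) = 2) : chi3 G Ω g = 0 := by
  rw [chi3_apply g h2, h1]
  norm_num [Nat.choose]

/-! ### Restriction to a subgroup -/

theorem card_fixedBy_subgroup (H : Subgroup G) (h : H) :
    Fintype.card (fixedBy Ω h) = Fintype.card (fixedBy Ω (h : G)) := by
  apply Fintype.card_congr
  exact Equiv.setCongr (by ext x; rfl)

/-- The permutation character on two-subsets. -/
noncomputable def pi2 (G : Type*) [Group G] (Ω : Type*) [MulAction G Ω] [Fintype Ω]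
    [DecidableEq Ω] : G → ℂ := permCharFun G (S2 Ω)

theorem chi2_eq : chi2 G Ω = pi2 G Ω - permCharFun G Ω := rfl

theorem chi3_eq : chi3 G Ω =
    (permCharFun G (X2 G Ω) + fun _ => (1 : ℂ)) - (pi2 G Ω + permCharFun G Ω) := rfl

theorem pi2_subgroup (H : Subgroup G) (h : H) : pi2 G Ω (h : G) = pi2 H Ω h := by
  unfold pi2 permCharFun
  congr 1

theorem chi1_subgroup (H : Subgroup G) (h : H) : chi1 G Ω (h : G) = chi1 H Ω h := by
  rw [chi1_apply, chi1_apply, card_fixedBy_subgroup]

theorem chi2_subgroup (H : Subgroup G) (h : H) : chi2 G Ω (h : G) = chi2 H Ω h := by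
  rw [chi2_eq, chi2_eq, Pi.sub_apply, Pi.sub_apply, pi2_subgroup]
  unfold permCharFun
  rw [card_fixedBy_subgroup]

theorem chi3_subgroup (H : Subgroup G) (h : H) : chi3 G Ω (h : G) = chi3 H Ω h := by
  rw [chi3_eq, chi3_eq]
  simp only [Pi.sub_apply, Pi.add_apply]
  rw [pi2_subgroup]
  unfold permCharFun
  rw [card_fixedBy_X2, card_fixedBy_X2, card_fixedBy_subgroup]

end Cfsg.Agent.Lib.Helper39.AltChar
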