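import Cfsg.Agent.Lib.Helper39.AltCharF

/-!
# Permutations made of blocks of two kinds of cycles
-/

set_option autoImplicit false
set_option linter.style.haveILetI false

namespace Cfsg.Agent.Lib.Helper39.AltChar

open Cfsg MulAction Equiv

section Model

variable {A B : Type} [Fintype A] [Fintype B] [DecidableEq A] [DecidableEq B]

/-- The model type: `k` blocks of type `A`, `l` blocks of type `B` and `r` further points. -/
abbrev Blk (A B : Type) (k l r : ℕ) : Type := (A × Fin k) ⊕ ((B × Fin l) ⊕ Fin r)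

/-- The block permutation. -/
def blkPerm (ρa : Perm A) (ρb : Perm B) (k l r : ℕ) : Perm (Blk A B k l r) :=
  Perm.sumCongr (prodCongrLeft fun _ => ρa) (Perm.sumCongr (prodCongrLeft fun _ => ρb) (Equiv.refl _))

variable (ρa : Perm A) (ρb : Perm B) (k l r : ℕ)

omit [Fintype A] [Fintype B] [DecidableEq A] [DecidableEq B] in
theorem blkPerm_inl (a : A) (i : Fin k) :
    blkPerm ρa ρb k l r (Sum.inl (a, i)) = Sum.inl (ρa a, i) := rfl

omit [Fintype A] [Fintype B] [DecidableEq A] [DecidableEq B] in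
theorem blkPerm_inr_inl (b : B) (i : Fin l) :
    blkPerm ρa ρb k l r (Sum.inr (Sum.inl (b, i))) = Sum.inr (Sum.inl (ρb b, i)) := rfl

omit [Fintype A] [Fintype B] [DecidableEq A] [DecidableEq B] in
theorem blkPerm_inr_inr (t : Fin r) :
    blkPerm ρa ρb k l r (Sum.inr (Sum.inr t)) = Sum.inr (Sum.inr t) := rfl

theorem sign_blkPerm : Perm.sign (blkPerm ρa ρb k l r) = Perm.sign ρa ^ k * Perm.sign ρb ^ l := by
  unfold blkPerm
  rw [Perm.sign_sumCongr, Perm.sign_sumCongr, Perm.sign_prodCongrLeft, Perm.sign_prodCongrLeft,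
    Perm.sign_refl, mul_one, Finset.prod_const, Finset.prod_const, Finset.card_univ,
    Fintype.card_fin, Finset.card_univ, Fintype.card_fin]

omit [Fintype A] [Fintype B] [DecidableEq A] [DecidableEq B] in
theorem blkPerm_pow_inl (j : ℕ) (a : A) (i : Fin k) :
    (blkPerm ρa ρb k l r ^ j) (Sum.inl (a, i)) = Sum.inl ((ρa ^ j) a, i) := by
  induction j with
  | zero => rfl
  | succ j ih => rw [pow_succ', Perm.mul_apply, ih, blkPerm_inl, pow_succ', Perm.mul_apply]

omit [Fintype A] [Fintype B] [DecidableEq A] [DecidableEq B] in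
theorem blkPerm_pow_inr_inl (j : ℕ) (b : B) (i : Fin l) :
    (blkPerm ρa ρb k l r ^ j) (Sum.inr (Sum.inl (b, i))) = Sum.inr (Sum.inl ((ρb ^ j) b, i)) := by
  induction j with
  | zero => rfl
  | succ j ih => rw [pow_succ', Perm.mul_apply, ih, blkPerm_inr_inl, pow_succ', Perm.mul_apply]

omit [Fintype A] [Fintype B] [DecidableEq A] [DecidableEq B] in
theorem blkPerm_pow_inr_inr (j : ℕ) (t : Fin r) :
    (blkPerm ρa ρb k l r ^ j) (Sum.inr (Sum.inr t)) = Sum.inr (Sum.inr t) := by
  induction j with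
  | zero => rfl
  | succ j ih => rw [pow_succ', Perm.mul_apply, ih, blkPerm_inr_inr]

omit [Fintype A] [Fintype B] [DecidableEq A] [DecidableEq B] in
theorem blkPerm_pow_eq_one (N : ℕ) (ha : ρa ^ N = 1) (hb : ρb ^ N = 1) :
    blkPerm ρa ρb k l r ^ N = 1 := by
  ext m
  rcases m with ⟨a, i⟩ | ⟨b, i⟩ | t
  · rw [blkPerm_pow_inl, ha]; rfl
  · rw [blkPerm_pow_inr_inl, hb]; rfl
  · rw [blkPerm_pow_inr_inr]; rfl

theorem card_fixed_blkPerm (hfa : ∀ a, ρa a ≠ a) (hfb : ∀ b, ρb b ≠ b) :
    Fintype.card {m : Blk A B k l r // blkPerm ρa ρb k l r m = m} = r := by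
  refine Eq.trans ?_ (Fintype.card_fin r)
  symm
  apply Fintype.card_congr
  refine Equiv.ofBijective (fun t => ⟨Sum.inr (Sum.inr t), blkPerm_inr_inr ρa ρb k l r t⟩) ⟨?_, ?_⟩
  · intro t t' h
    have h1 := congrArg Subtype.val h
    exact Sum.inr_injective (Sum.inr_injective h1)
  · rintro ⟨m, hm⟩
    rcases m with ⟨a, i⟩ | ⟨b, i⟩ | t
    · exfalso
      rw [blkPerm_inl] at hm
      have h1 := Sum.inl_injective hm
      exact hfa a (congrArg Prod.fst h1)
    · exfalso
      rw [blkPerm_inr_inl] at hm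
      have h1 := Sum.inl_injective (Sum.inr_injective hm)
      exact hfb b (congrArg Prod.fst h1)
    · exact ⟨t, rfl⟩

omit [Fintype A] [Fintype B] [DecidableEq A] [DecidableEq B] in
theorem blkPerm_no_two_cycle (h2a : ∀ a, ρa (ρa a) ≠ a) (h2b : ∀ b, ρb (ρb b) ≠ b)
    (m : Blk A B k l r) (hm : blkPerm ρa ρb k l r (blkPerm ρa ρb k l r m) = m) :
    blkPerm ρa ρb k l r m = m := by
  rcases m with ⟨a, i⟩ | ⟨b, i⟩ | t
  · exfalso
    rw [blkPerm_inl, blkPerm_inl] at hm
    have h1 := Sum.inl_injective hm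
    exact h2a a (congrArg Prod.fst h1)
  · exfalso
    rw [blkPerm_inr_inl, blkPerm_inr_inl] at hm
    have h1 := Sum.inl_injective (Sum.inr_injective hm)
    exact h2b b (congrArg Prod.fst h1)
  · rfl

omit [DecidableEq A] [DecidableEq B] in
theorem card_Blk : Fintype.card (Blk A B k l r) = Fintype.card A * k + (Fintype.card B * l + r) := by
  simp [Fintype.card_sum, Fintype.card_prod]

end Model

/-- Existence of a permutation of `Fin n` with blocks of cycles of two kinds. -/
theorem exists_block_perm (n a b k l r : ℕ) (hn : a * k + (b * l + r) = n)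
    (ρa : Perm (Fin a)) (ρb : Perm (Fin b)) (hfa : ∀ i, ρa i ≠ i) (hfb : ∀ i, ρb i ≠ i) :
    ∃ x : Perm (Fin n), Perm.sign x = Perm.sign ρa ^ k * Perm.sign ρb ^ l ∧
      (∀ N : ℕ, ρa ^ N = 1 → ρb ^ N = 1 → x ^ N = 1) ∧
      Fintype.card (fixedBy (Fin n) x) = r ∧
      ((∀ i, ρa (ρa i) ≠ i) → (∀ i, ρb (ρb i) ≠ i) → ∀ i : Fin n, x (x i) = i → x i = i) := by
  have hcard : Fintype.card (Blk (Fin a) (Fin b) k l r) = n := by
    rw [card_Blk, Fintype.card_fin, Fintype.card_fin, hn]
  let e : Blk (Fin a) (Fin b) k l r ≃ Fin n := Fintype.equivFinOfCardEq hcard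
  set σ := blkPerm ρa ρb k l r with hσ
  have happ : ∀ j : Fin n, (e.permCongrHom σ) j = e (σ (e.symm j)) := by
    intro j
    rw [Equiv.permCongrHom_coe, Equiv.permCongr_apply]
  refine ⟨e.permCongrHom σ, ?_, ?_, ?_, ?_⟩
  · rw [Equiv.permCongrHom_coe, Perm.sign_permCongr, hσ, sign_blkPerm]
  · intro N ha hb
    rw [← map_pow, hσ, blkPerm_pow_eq_one ρa ρb k l r N ha hb, map_one]
  · refine Eq.trans ?_ (card_fixed_blkPerm ρa ρb k l r hfa hfb)
    apply Fintype.card_congr
    refine
      { toFun := fun i => ⟨e.symm i.1, ?_⟩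
        invFun := fun m => ⟨e m.1, ?_⟩
        left_inv := fun i => Subtype.ext (by simp)
        right_inv := fun m => Subtype.ext (by simp) }
    · have h1 : (e.permCongrHom σ) i.1 = i.1 := i.2
      rw [happ] at h1
      have h2 := congrArg e.symm h1
      rw [Equiv.symm_apply_apply] at h2
      exact h2
    · show (e.permCongrHom σ) (e m.1) = e m.1
      rw [happ, Equiv.symm_apply_apply]
      exact congrArg e m.2
  · intro h2a h2b i hi
    rw [happ, happ, Equiv.symm_apply_apply] at hi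
    have h1 := congrArg e.symm hi
    rw [Equiv.symm_apply_apply] at h1
    have h3 := blkPerm_no_two_cycle ρa ρb k l r h2a h2b (e.symm i) h1
    rw [happ]
    change e (blkPerm ρa ρb k l r (e.symm i)) = i
    rw [h3, Equiv.apply_symm_apply]

theorem fourTrans_perm (α : Type*) [Fintype α] [DecidableEq α] : FourTrans (Perm α) α := by
  intro k _ u v
  haveI := Equiv.Perm.isMultiplyPretransitive α k
  obtain ⟨g, hg⟩ := MulAction.exists_smul_eq (Perm α) u v
  exact ⟨g, fun i => by rw [← hg]; rfl⟩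

theorem fourTrans_alt (α : Type*) [Fintype α] [DecidableEq α] (h6 : 6 ≤ Fintype.card α) :
    FourTrans (alternatingGroup α) α := by
  intro k hk u v
  haveI := alternatingGroup.isMultiplyPretransitive α
  have hc : Nat.card α = Fintype.card α := Nat.card_eq_fintype_card
  haveI : IsMultiplyPretransitive (alternatingGroup α) α k :=
    MulAction.isMultiplyPretransitive_of_le (n := Nat.card α - 2) (by omega) (by omega)
  obtain ⟨g, hg⟩ := MulAction.exists_smul_eq (alternatingGroup α) u v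
  exact ⟨g, fun i => by rw [← hg]; rfl⟩

end Cfsg.Agent.Lib.Helper39.AltChar
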