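import Mathlib

set_option autoImplicit false
set_option linter.unusedSimpArgs false
set_option linter.unusedVariables false
set_option linter.unnecessarySeqFocus false
set_option linter.unusedSectionVars false
set_option linter.style.haveILetI false

/-!
# Involutions preserving an alternating form: eigenspace decomposition

Basic linear algebra for an involutory linear automorphism `g` of a space with a nondegenerate
alternating form (characteristic not two): the fixed spaces of `g` and `-g` are complementary,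
orthogonal, nondegenerate; restriction homomorphisms of the centraliser.
-/

namespace Cfsg.Agent.Lib.Helper39.TwoRk

open Module Matrix

variable {F : Type*} {V : Type*} [Field F] [AddCommGroup V] [Module F V]

/-- negation, as a linear automorphism -/
abbrev negE (F : Type*) (V : Type*) [Field F] [AddCommGroup V] [Module F V] : V ≃ₗ[F] V :=
  LinearEquiv.neg F

@[simp] lemma negE_apply (x : V) : negE F V x = -x := rfl

lemma negE_mul_apply (g : V ≃ₗ[F] V) (x : V) : (negE F V * g) x = -(g x) := rfl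

lemma negE_mul_negE : negE F V * negE F V = 1 := by
  ext x
  simp [LinearEquiv.mul_apply]

lemma negE_mul_negE_mul (g : V ≃ₗ[F] V) : negE F V * (negE F V * g) = g := by
  rw [← mul_assoc, negE_mul_negE, one_mul]

lemma negE_comm (g : V ≃ₗ[F] V) : negE F V * g = g * negE F V := by
  ext x
  simp [LinearEquiv.mul_apply]

lemma negE_ne_one [Nontrivial V] (h2 : (2 : F) ≠ 0) : negE F V ≠ 1 := by
  intro h
  obtain ⟨x, hx⟩ := exists_ne (0 : V)
  have h1 : negE F V x = (1 : V ≃ₗ[F] V) x := by rw [h]
  simp only [negE_apply, LinearEquiv.coe_one, id_eq] at h1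
  have h3 : (2 : F) • x = 0 := by
    rw [two_smul]
    nth_rewrite 1 [← h1]
    simp
  rcases smul_eq_zero.mp h3 with h | h
  · exact h2 h
  · exact hx h

/-- the fixed space of a linear automorphism -/
def fixS (g : V ≃ₗ[F] V) : Submodule F V where
  carrier := {x | g x = x}
  add_mem' := by
    intro a b ha hb
    simp only [Set.mem_ofPred_eq] at ha hb ⊢
    rw [map_add, ha, hb]
  zero_mem' := by simp
  smul_mem' := by
    intro c x hx
    simp only [Set.mem_ofPred_eq] at hx ⊢
    rw [map_smul, hx]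

lemma mem_fixS {g : V ≃ₗ[F] V} {x : V} : x ∈ fixS g ↔ g x = x := Iff.rfl

lemma mem_fixS_neg {g : V ≃ₗ[F] V} {x : V} : x ∈ fixS (negE F V * g) ↔ g x = -x := by
  rw [mem_fixS, negE_mul_apply, neg_eq_iff_eq_neg]

lemma sq_apply {g : V ≃ₗ[F] V} (hg : g * g = 1) (x : V) : g (g x) = x := by
  have := congrArg (fun e : V ≃ₗ[F] V => e x) hg
  simpa [LinearEquiv.mul_apply] using this

lemma neg_mul_sq {g : V ≃ₗ[F] V} (hg : g * g = 1) :
    (negE F V * g) * (negE F V * g) = 1 := by
  ext x
  simp [LinearEquiv.mul_apply, sq_apply hg]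

lemma disjoint_fix (h2 : (2 : F) ≠ 0) (g : V ≃ₗ[F] V) :
    Disjoint (fixS g) (fixS (negE F V * g)) := by
  rw [Submodule.disjoint_def]
  intro x h1 h3
  rw [mem_fixS] at h1
  rw [mem_fixS_neg] at h3
  have h4 : (2 : F) • x = 0 := by
    rw [two_smul]
    have : x = -x := by rw [← h3, h1]
    nth_rewrite 1 [this]
    simp
  rcases smul_eq_zero.mp h4 with h | h
  · exact absurd h h2
  · exact h

lemma codisjoint_fix (h2 : (2 : F) ≠ 0) {g : V ≃ₗ[F] V} (hg : g * g = 1) :
    Codisjoint (fixS g) (fixS (negE F V * g)) := by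
  rw [codisjoint_iff, eq_top_iff]
  intro v _
  rw [Submodule.mem_sup]
  refine ⟨(2 : F)⁻¹ • (v + g v), ?_, (2 : F)⁻¹ • (v - g v), ?_, ?_⟩
  · apply Submodule.smul_mem
    rw [mem_fixS, map_add, sq_apply hg]
    abel
  · apply Submodule.smul_mem
    rw [mem_fixS_neg, map_sub, sq_apply hg]
    abel
  · rw [← smul_add]
    have : v + g v + (v - g v) = (2 : F) • v := by
      rw [two_smul]; abel
    rw [this, smul_smul, inv_mul_cancel₀ h2, one_smul]

lemma isCompl_fix (h2 : (2 : F) ≠ 0) {g : V ≃ₗ[F] V} (hg : g * g = 1) :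
    IsCompl (fixS g) (fixS (negE F V * g)) :=
  ⟨disjoint_fix h2 g, codisjoint_fix h2 hg⟩

lemma finrank_fix_add [Module.Finite F V] (h2 : (2 : F) ≠ 0) {g : V ≃ₗ[F] V} (hg : g * g = 1) :
    finrank F (fixS g) + finrank F (fixS (negE F V * g)) = finrank F V :=
  Submodule.finrank_add_eq_of_isCompl (isCompl_fix h2 hg)

lemma eq_one_of_fix_neg_eq_bot (h2 : (2 : F) ≠ 0) {g : V ≃ₗ[F] V} (hg : g * g = 1)
    (h : fixS (negE F V * g) = ⊥) : g = 1 := by
  have hc := (isCompl_fix h2 hg).sup_eq_top
  rw [h, sup_bot_eq] at hc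
  ext x
  have : x ∈ fixS g := by rw [hc]; trivial
  exact this

lemma fix_neg_ne_bot (h2 : (2 : F) ≠ 0) {g : V ≃ₗ[F] V} (hg : g * g = 1) (h1 : g ≠ 1) :
    fixS (negE F V * g) ≠ ⊥ := fun h => h1 (eq_one_of_fix_neg_eq_bot h2 hg h)

lemma fix_ne_bot (h2 : (2 : F) ≠ 0) {g : V ≃ₗ[F] V} (hg : g * g = 1) (h1 : g ≠ negE F V) :
    fixS g ≠ ⊥ := by
  intro h
  have h3 := eq_one_of_fix_neg_eq_bot (g := negE F V * g) h2 (neg_mul_sq hg)
    (by rw [negE_mul_negE_mul]; exact h)
  apply h1
  have : negE F V * (negE F V * g) = negE F V * 1 := by rw [h3]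
  rw [negE_mul_negE_mul, mul_one] at this
  exact this

/-- two automorphisms agreeing on both eigenspaces agree -/
lemma eq_of_eq_on_fix (h2 : (2 : F) ≠ 0) {g : V ≃ₗ[F] V} (hg : g * g = 1) {a b : V ≃ₗ[F] V}
    (hp : ∀ x ∈ fixS g, a x = b x) (hm : ∀ x ∈ fixS (negE F V * g), a x = b x) : a = b := by
  ext v
  have hv : v ∈ fixS g ⊔ fixS (negE F V * g) := by
    rw [(isCompl_fix h2 hg).sup_eq_top]; trivial
  obtain ⟨x, hx, y, hy, rfl⟩ := Submodule.mem_sup.mp hv
  rw [map_add, map_add, hp x hx, hm y hy]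

section Form

variable (B : LinearMap.BilinForm F V)

/-- `g` preserves the form -/
def Pres (g : V ≃ₗ[F] V) : Prop := ∀ x y, B (g x) (g y) = B x y

lemma Pres.mul {g h : V ≃ₗ[F] V} (hg : Pres B g) (hh : Pres B h) : Pres B (g * h) := by
  intro x y
  rw [LinearEquiv.mul_apply, LinearEquiv.mul_apply, hg, hh]

lemma pres_negE : Pres B (negE F V) := by
  intro x y
  simp

lemma pres_one : Pres B (1 : V ≃ₗ[F] V) := by
  intro x y
  simp

lemma orth_fix (h2 : (2 : F) ≠ 0) {g : V ≃ₗ[F] V} (hB : Pres B g) {x y : V} (hx : x ∈ fixS g)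
    (hy : y ∈ fixS (negE F V * g)) : B x y = 0 := by
  rw [mem_fixS] at hx
  rw [mem_fixS_neg] at hy
  have h := hB x y
  rw [hx, hy, map_neg] at h
  have h4 : (2 : F) * B x y = 0 := by
    rw [two_mul]
    nth_rewrite 1 [← h]
    ring
  rcases mul_eq_zero.mp h4 with h | h
  · exact absurd h h2
  · exact h

lemma orth_fix' (h2 : (2 : F) ≠ 0) {g : V ≃ₗ[F] V} (hB : Pres B g) {x y : V} (hx : x ∈ fixS g)
    (hy : y ∈ fixS (negE F V * g)) : B y x = 0 := by
  rw [mem_fixS] at hx
  rw [mem_fixS_neg] at hy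
  have h := hB y x
  rw [hx, hy, map_neg, LinearMap.neg_apply] at h
  have h4 : (2 : F) * B y x = 0 := by
    rw [two_mul]
    nth_rewrite 1 [← h]
    ring
  rcases mul_eq_zero.mp h4 with h | h
  · exact absurd h h2
  · exact h

/-- the form is alternating and (left) nondegenerate -/
structure IsSymp : Prop where
  alt : ∀ x, B x x = 0
  nd : ∀ x, (∀ y, B x y = 0) → x = 0

variable {B}

lemma IsSymp.skew (hB : IsSymp B) (x y : V) : B x y = -B y x := by
  have h := hB.alt (x + y)
  simp only [map_add, LinearMap.add_apply, hB.alt, zero_add, add_zero] at h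
  linear_combination h

lemma IsSymp.nd' (hB : IsSymp B) (y : V) (h : ∀ x, B x y = 0) : y = 0 := by
  apply hB.nd
  intro x
  rw [hB.skew, h, neg_zero]

/-- restriction of a symplectic form to the fixed space of an involutory isometry -/
lemma IsSymp.restrict_fix (hB : IsSymp B) (h2 : (2 : F) ≠ 0) {g : V ≃ₗ[F] V} (hg : g * g = 1)
    (hp : Pres B g) : IsSymp (B.restrict (fixS g)) where
  alt := by
    intro x
    rw [LinearMap.BilinForm.restrict_apply]
    exact hB.alt _
  nd := by
    intro x hx
    have : (x : V) = 0 := by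
      apply hB.nd
      intro v
      have hv : v ∈ fixS g ⊔ fixS (negE F V * g) := by
        rw [(isCompl_fix h2 hg).sup_eq_top]; trivial
      obtain ⟨a, ha, b, hb, rfl⟩ := Submodule.mem_sup.mp hv
      rw [map_add, orth_fix B h2 hp x.2 hb, add_zero]
      have := hx ⟨a, ha⟩
      rw [LinearMap.BilinForm.restrict_apply] at this
      exact this
    exact Subtype.ext this

lemma pres_neg_mul {g : V ≃ₗ[F] V} (hp : Pres B g) : Pres B (negE F V * g) :=
  (pres_negE B).mul B hp

/-- a space with a symplectic form has even dimension (characteristic not two) -/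
lemma IsSymp.even_finrank [Module.Finite F V] (hB : IsSymp B) (h2 : (2 : F) ≠ 0) :
    Even (finrank F V) := by
  classical
  let b := Module.finBasis F V
  set M := LinearMap.BilinForm.toMatrix b B with hM
  have hnd : B.Nondegenerate := ⟨hB.nd, hB.nd'⟩
  have hdet : M.det ≠ 0 := (LinearMap.BilinForm.nondegenerate_iff_det_ne_zero b).mp hnd
  have hT : Mᵀ = -M := by
    ext i j
    simp only [Matrix.transpose_apply, Matrix.neg_apply, hM, LinearMap.BilinForm.toMatrix_apply]
    exact hB.skew _ _
  have h3 : M.det = (-1) ^ (finrank F V) * M.det := by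
    have := Matrix.det_transpose M
    rw [hT, Matrix.det_neg, Fintype.card_fin] at this
    exact this.symm
  have h4 : ((-1 : F)) ^ (finrank F V) = 1 := by
    have : ((-1 : F) ^ (finrank F V) - 1) * M.det = 0 := by
      rw [sub_mul, one_mul, ← h3, sub_self]
    rcases mul_eq_zero.mp this with h | h
    · exact sub_eq_zero.mp h
    · exact absurd h hdet
  by_contra hodd
  rw [Nat.not_even_iff_odd] at hodd
  rw [hodd.neg_one_pow] at h4
  have : (2 : F) = 0 := by
    have h5 : (1 : F) + 1 = 0 := by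
      nth_rewrite 1 [← h4]; ring
    rw [← h5]; norm_num
  exact h2 this

lemma IsSymp.two_le_finrank [Module.Finite F V] (hB : IsSymp B) (h2 : (2 : F) ≠ 0)
    (h0 : finrank F V ≠ 0) : 2 ≤ finrank F V := by
  obtain ⟨k, hk⟩ := hB.even_finrank h2
  omega

end Form

/-- finiteness of the automorphism group of a finite module -/
instance finite_aut [Finite F] [Module.Finite F V] : Finite (V ≃ₗ[F] V) := by
  haveI : Finite V := Module.finite_of_finite F
  exact Finite.of_injective (fun e : V ≃ₗ[F] V => (e : V → V)) DFunLike.coe_injective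

lemma card_aut_of_finrank_zero [Module.Finite F V] (h0 : finrank F V = 0)
    (S : Subgroup (V ≃ₗ[F] V)) : Nat.card S = 1 := by
  haveI : Subsingleton V := Module.finrank_zero_iff.mp h0
  haveI : Subsingleton (V ≃ₗ[F] V) := ⟨fun a b => by ext x; exact Subsingleton.elim _ _⟩
  exact Nat.card_unique

end Cfsg.Agent.Lib.Helper39.TwoRk
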