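import Mathlib
import Cfsg.Agent.Lib.Helper39.TwoRkA

set_option autoImplicit false
set_option linter.unusedSimpArgs false
set_option linter.unusedVariables false
set_option linter.unnecessarySeqFocus false
set_option linter.unusedSectionVars false
set_option linter.style.haveILetI false

/-!
# Restriction of a centraliser to an eigenspace, and the counting decomposition
-/

namespace Cfsg.Agent.Lib.Helper39.TwoRk

open Module Matrix

variable {F : Type*} {V : Type*} [Field F] [AddCommGroup V] [Module F V]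

lemma commute_apply {g h : V ≃ₗ[F] V} (hc : h * g = g * h) (x : V) : h (g x) = g (h x) := by
  have := congrArg (fun e : V ≃ₗ[F] V => e x) hc
  simpa [LinearEquiv.mul_apply] using this

lemma commute_inv {g h : V ≃ₗ[F] V} (hc : h * g = g * h) : h⁻¹ * g = g * h⁻¹ := by
  have : g = h⁻¹ * (g * h) := by rw [← hc, ← mul_assoc, inv_mul_cancel, one_mul]
  calc h⁻¹ * g = h⁻¹ * (g * h) * h⁻¹ := by
        rw [mul_assoc, mul_assoc, mul_inv_cancel, mul_one]
    _ = g * h⁻¹ := by rw [← this]

lemma map_mem_fix {g h : V ≃ₗ[F] V} (hc : h * g = g * h) {x : V} (hx : x ∈ fixS g) :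
    h x ∈ fixS g := by
  rw [mem_fixS] at hx ⊢
  rw [← commute_apply hc, hx]

/-- restriction to the fixed space of `g` of an automorphism commuting with `g` -/
def resEquiv (g h : V ≃ₗ[F] V) (hc : h * g = g * h) : fixS g ≃ₗ[F] fixS g :=
  LinearEquiv.ofLinearMap
    ((h : V →ₗ[F] V).restrict (p := fixS g) (q := fixS g) (fun x hx => map_mem_fix hc hx))
    (((h⁻¹ : V ≃ₗ[F] V) : V →ₗ[F] V).restrict (p := fixS g) (q := fixS g)
      (fun x hx => map_mem_fix (commute_inv hc) hx))
    (by
      ext x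
      simp [LinearMap.restrict_apply])
    (by
      ext x
      simp [LinearMap.restrict_apply])

@[simp] lemma resEquiv_apply (g h : V ≃ₗ[F] V) (hc : h * g = g * h) (x : fixS g) :
    ((resEquiv g h hc x : fixS g) : V) = h x := rfl

/-- the restriction homomorphism of the centraliser of `g` -/
def resHom (g : V ≃ₗ[F] V) :
    Subgroup.centralizer ({g} : Set (V ≃ₗ[F] V)) →* (fixS g ≃ₗ[F] fixS g) where
  toFun h := resEquiv g h.1 (Subgroup.mem_centralizer_singleton_iff.mp h.2)
  map_one' := by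
    ext x
    simp
  map_mul' := by
    intro a b
    ext x
    simp [LinearEquiv.mul_apply]

/-- the restriction homomorphism on a subgroup centralising `g` -/
def resT (g : V ≃ₗ[F] V) (T : Subgroup (V ≃ₗ[F] V))
    (hT : T ≤ Subgroup.centralizer ({g} : Set (V ≃ₗ[F] V))) : T →* (fixS g ≃ₗ[F] fixS g) :=
  (resHom g).comp (Subgroup.inclusion hT)

@[simp] lemma resT_apply (g : V ≃ₗ[F] V) (T : Subgroup (V ≃ₗ[F] V))
    (hT : T ≤ Subgroup.centralizer ({g} : Set (V ≃ₗ[F] V))) (h : T) (x : fixS g) :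
    ((resT g T hT h x : fixS g) : V) = (h : V ≃ₗ[F] V) x := rfl

lemma resT_negE (g : V ≃ₗ[F] V) (T : Subgroup (V ≃ₗ[F] V))
    (hT : T ≤ Subgroup.centralizer ({g} : Set (V ≃ₗ[F] V))) (hn : negE F V ∈ T) :
    resT g T hT ⟨negE F V, hn⟩ = negE F (fixS g) := by
  ext x
  simp

/-- pointwise stabiliser of a subspace -/
def ptFix (W : Submodule F V) : Subgroup (V ≃ₗ[F] V) where
  carrier := {h | ∀ x ∈ W, h x = x}
  mul_mem' := by
    intro a b ha hb x hx
    rw [LinearEquiv.mul_apply, hb x hx, ha x hx]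
  one_mem' := by
    intro x _
    rfl
  inv_mem' := by
    intro a ha x hx
    have := ha x hx
    calc a⁻¹ x = a⁻¹ (a x) := by rw [this]
      _ = (a⁻¹ * a) x := rfl
      _ = x := by rw [inv_mul_cancel]; rfl

lemma mem_ptFix {W : Submodule F V} {h : V ≃ₗ[F] V} : h ∈ ptFix W ↔ ∀ x ∈ W, h x = x := Iff.rfl

lemma mem_ker_resT (g : V ≃ₗ[F] V) (T : Subgroup (V ≃ₗ[F] V))
    (hT : T ≤ Subgroup.centralizer ({g} : Set (V ≃ₗ[F] V))) (h : T) :
    h ∈ (resT g T hT).ker ↔ (h : V ≃ₗ[F] V) ∈ ptFix (fixS g) := by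
  rw [MonoidHom.mem_ker, mem_ptFix]
  constructor
  · intro hh x hx
    have := congrArg (fun e : fixS g ≃ₗ[F] fixS g => ((e ⟨x, hx⟩ : fixS g) : V)) hh
    simpa using this
  · intro hh
    ext x
    simp only [resT_apply, LinearEquiv.coe_one, id_eq]
    exact hh x x.2

/-- counting: a subgroup centralising `g` is the product of its restriction to the fixed space
and the pointwise stabiliser of the fixed space -/
lemma card_eq_range_mul_ptFix [Finite F] [Module.Finite F V] (g : V ≃ₗ[F] V)
    (T : Subgroup (V ≃ₗ[F] V))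
    (hT : T ≤ Subgroup.centralizer ({g} : Set (V ≃ₗ[F] V))) :
    Nat.card T = Nat.card (resT g T hT).range * Nat.card (T ⊓ ptFix (fixS g) : Subgroup _) := by
  have h1 := Subgroup.card_eq_card_quotient_mul_card_subgroup (resT g T hT).ker
  have h2 : Nat.card (T ⧸ (resT g T hT).ker) = Nat.card (resT g T hT).range :=
    Nat.card_congr (QuotientGroup.quotientKerEquivRange (resT g T hT)).toEquiv
  have h3 : Nat.card (resT g T hT).ker = Nat.card (T ⊓ ptFix (fixS g) : Subgroup _) := by
    apply Nat.card_congr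
    refine ⟨fun h => ⟨h.1.1, h.1.2, (mem_ker_resT g T hT h.1).mp h.2⟩,
      fun h => ⟨⟨h.1, h.2.1⟩, (mem_ker_resT g T hT ⟨h.1, h.2.1⟩).mpr h.2.2⟩, ?_, ?_⟩
    · intro h; rfl
    · intro h; rfl
  rw [h1, h2, h3]

lemma centralizer_neg (g : V ≃ₗ[F] V) :
    Subgroup.centralizer ({negE F V * g} : Set (V ≃ₗ[F] V)) = Subgroup.centralizer {g} := by
  ext h
  rw [Subgroup.mem_centralizer_singleton_iff, Subgroup.mem_centralizer_singleton_iff]
  constructor
  · intro hh
    have : negE F V * (h * (negE F V * g)) = negE F V * ((negE F V * g) * h) := by rw [hh]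
    rw [← mul_assoc h, ← negE_comm h, mul_assoc (negE F V) h g, ← mul_assoc, negE_mul_negE,
      one_mul, mul_assoc (negE F V) g h, ← mul_assoc, negE_mul_negE, one_mul] at this
    exact this
  · intro hh
    rw [← mul_assoc, ← negE_comm h, mul_assoc, hh, mul_assoc]

/-- the pointwise stabiliser of the fixed space acts faithfully on the other eigenspace -/
lemma card_ptFix_eq_range [Finite F] [Module.Finite F V] (h2 : (2 : F) ≠ 0) {g : V ≃ₗ[F] V}
    (hg : g * g = 1) (K : Subgroup (V ≃ₗ[F] V)) (hK1 : K ≤ ptFix (fixS g))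
    (hK : K ≤ Subgroup.centralizer ({negE F V * g} : Set (V ≃ₗ[F] V))) :
    Nat.card K = Nat.card (resT (negE F V * g) K hK).range := by
  have hinj : Function.Injective (resT (negE F V * g) K hK) := by
    rw [injective_iff_map_eq_one]
    intro a ha
    have h3 : (a : V ≃ₗ[F] V) ∈ ptFix (fixS (negE F V * g)) :=
      (mem_ker_resT (negE F V * g) K hK a).mp ha
    have : (a : V ≃ₗ[F] V) = 1 := by
      apply eq_of_eq_on_fix h2 hg
      · intro x hx
        exact hK1 a.2 x hx
      · intro x hx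
        exact h3 x hx
    exact Subtype.ext this
  exact Nat.card_congr (MonoidHom.ofInjective hinj).toEquiv

end Cfsg.Agent.Lib.Helper39.TwoRk
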