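import Mathlib
import Cfsg.Agent.Lib.Helper39.TwoRkB

set_option autoImplicit false
set_option linter.unusedSimpArgs false
set_option linter.unusedVariables false
set_option linter.unnecessarySeqFocus false
set_option linter.unusedSectionVars false
set_option linter.style.haveILetI false

/-!
# Groups of commuting involutions preserving a symplectic form

A group of pairwise commuting involutory isometries of a symplectic space of dimension `d`
(characteristic not two) has order at most `2 ^ (d / 2)`.
-/

namespace Cfsg.Agent.Lib.Helper39.TwoRk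

open Module Matrix

universe u v

variable {F : Type u} {V : Type v} [Field F] [AddCommGroup V] [Module F V]

lemma card_le_of_forall_mem {G : Type*} [Group G] (S : Subgroup G) (t : Finset G)
    (h : ∀ x ∈ S, x ∈ t) : Nat.card S ≤ t.card := by
  classical
  have h1 : Nat.card S ≤ Nat.card t :=
    Nat.card_le_card_of_injective (fun x : S => (⟨x.1, h x.1 x.2⟩ : t))
      (fun a b hab => Subtype.ext (by simpa using congrArg Subtype.val hab))
  have h3 : Nat.card t = t.card := by
    rw [Nat.card_eq_fintype_card, Fintype.card_coe]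
  rw [h3] at h1
  exact h1

/-- a group of commuting involutory isometries -/
structure InvGrp (B : LinearMap.BilinForm F V) (L : Subgroup (V ≃ₗ[F] V)) : Prop where
  pres : ∀ g ∈ L, Pres B g
  sq : ∀ g ∈ L, g * g = 1
  comm : ∀ g ∈ L, ∀ h ∈ L, g * h = h * g

lemma InvGrp.mono {B : LinearMap.BilinForm F V} {L L' : Subgroup (V ≃ₗ[F] V)} (h : InvGrp B L)
    (hle : L' ≤ L) : InvGrp B L' :=
  ⟨fun g hg => h.pres g (hle hg), fun g hg => h.sq g (hle hg),
    fun g hg k hk => h.comm g (hle hg) k (hle hk)⟩

lemma InvGrp.le_centralizer {B : LinearMap.BilinForm F V} {L : Subgroup (V ≃ₗ[F] V)}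
    (h : InvGrp B L) {g : V ≃ₗ[F] V} (hg : g ∈ L) :
    L ≤ Subgroup.centralizer ({g} : Set (V ≃ₗ[F] V)) := by
  intro k hk
  rw [Subgroup.mem_centralizer_singleton_iff]
  exact h.comm k hk g hg

/-- the restriction of a group of commuting involutory isometries is again one -/
lemma InvGrp.range_resT {B : LinearMap.BilinForm F V} {L : Subgroup (V ≃ₗ[F] V)}
    (h : InvGrp B L) (g : V ≃ₗ[F] V)
    (hT : L ≤ Subgroup.centralizer ({g} : Set (V ≃ₗ[F] V))) :
    InvGrp (B.restrict (fixS g)) (resT g L hT).range where
  pres := by
    rintro _ ⟨k, rfl⟩ x y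
    rw [LinearMap.BilinForm.restrict_apply, LinearMap.BilinForm.restrict_apply]
    simp only [resT_apply]
    exact h.pres k.1 k.2 x y
  sq := by
    rintro _ ⟨k, rfl⟩
    rw [← map_mul]
    have : k * k = 1 := Subtype.ext (h.sq k.1 k.2)
    rw [this, map_one]
  comm := by
    rintro _ ⟨k, rfl⟩ _ ⟨l, rfl⟩
    rw [← map_mul, ← map_mul]
    have : k * l = l * k := Subtype.ext (h.comm k.1 k.2 l.1 l.2)
    rw [this]

theorem card_invGrp_le [Finite F] (h2 : (2 : F) ≠ 0) :
    ∀ (d : ℕ) (V : Type v) [AddCommGroup V] [Module F V] [Module.Finite F V]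
      (B : LinearMap.BilinForm F V) (_ : IsSymp B) (L : Subgroup (V ≃ₗ[F] V)) (_ : InvGrp B L),
      finrank F V = d → Nat.card L ≤ 2 ^ (d / 2) := by
  intro d
  induction d using Nat.strong_induction_on with
  | _ d ih =>
    intro V _ _ _ B hB L hL hd
    classical
    by_cases hsc : ∀ g ∈ L, g = 1 ∨ g = negE F V
    · -- scalar case
      by_cases h0 : d = 0
      · subst h0
        rw [card_aut_of_finrank_zero hd L]
        simp
      · have hd2 : 2 ≤ d := by
          rw [← hd] at h0 ⊢
          exact hB.two_le_finrank h2 h0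
        have h1 : Nat.card L ≤ ({1, negE F V} : Finset (V ≃ₗ[F] V)).card := by
          apply card_le_of_forall_mem
          intro x hx
          rcases hsc x hx with h | h
          · simp [h]
          · simp [h]
        have h3 : ({1, negE F V} : Finset (V ≃ₗ[F] V)).card ≤ 2 := Finset.card_le_two
        have h4 : 2 ^ 1 ≤ 2 ^ (d / 2) := Nat.pow_le_pow_right (by norm_num) (by omega)
        omega
    · push Not at hsc
      obtain ⟨g, hgL, hg1, hgn⟩ := hsc
      have hgg := hL.sq g hgL
      have hpg := hL.pres g hgL
      have hT := hL.le_centralizer hgL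
      have hsum := finrank_fix_add h2 hgg
      have hp0 : fixS g ≠ ⊥ := fix_ne_bot h2 hgg hgn
      have hm0 : fixS (negE F V * g) ≠ ⊥ := fix_neg_ne_bot h2 hgg hg1
      have hp1 : 0 < finrank F (fixS g) := by
        rw [Module.finrank_pos_iff]
        exact Submodule.nontrivial_iff_ne_bot.mpr hp0
      have hm1 : 0 < finrank F (fixS (negE F V * g)) := by
        rw [Module.finrank_pos_iff]
        exact Submodule.nontrivial_iff_ne_bot.mpr hm0
      have hcount := card_eq_range_mul_ptFix g L hT
      -- first factor
      have hA : Nat.card (resT g L hT).range ≤ 2 ^ (finrank F (fixS g) / 2) :=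
        ih (finrank F (fixS g)) (by omega) (fixS g) (B.restrict (fixS g))
          (hB.restrict_fix h2 hgg hpg) _ (hL.range_resT g hT) rfl
      -- second factor
      set K : Subgroup (V ≃ₗ[F] V) := L ⊓ ptFix (fixS g) with hK
      have hKL : K ≤ L := inf_le_left
      have hKI : InvGrp B K := hL.mono hKL
      have hKc : K ≤ Subgroup.centralizer ({negE F V * g} : Set (V ≃ₗ[F] V)) := by
        rw [centralizer_neg]
        exact hKL.trans hT
      have hKcard := card_ptFix_eq_range h2 hgg K inf_le_right hKc
      have hB' : Nat.card (resT (negE F V * g) K hKc).range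
          ≤ 2 ^ (finrank F (fixS (negE F V * g)) / 2) :=
        ih (finrank F (fixS (negE F V * g))) (by omega) (fixS (negE F V * g))
          (B.restrict (fixS (negE F V * g)))
          (hB.restrict_fix h2 (neg_mul_sq hgg) (pres_neg_mul hpg)) _
          (hKI.range_resT (negE F V * g) hKc) rfl
      rw [hcount, hKcard]
      calc Nat.card (resT g L hT).range * Nat.card (resT (negE F V * g) K hKc).range
          ≤ 2 ^ (finrank F (fixS g) / 2) * 2 ^ (finrank F (fixS (negE F V * g)) / 2) :=
            Nat.mul_le_mul hA hB'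
        _ = 2 ^ (finrank F (fixS g) / 2 + finrank F (fixS (negE F V * g)) / 2) := by
            rw [pow_add]
        _ ≤ 2 ^ (d / 2) := Nat.pow_le_pow_right (by norm_num) (by omega)

end Cfsg.Agent.Lib.Helper39.TwoRk
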