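import Mathlib
import Cfsg.Agent.Lib.Helper39.TwoRkC

set_option autoImplicit false
set_option linter.unusedSimpArgs false
set_option linter.unusedVariables false
set_option linter.unnecessarySeqFocus false
set_option linter.unusedSectionVars false
set_option linter.style.haveILetI false

/-!
# Groups of isometries that are elementary abelian modulo `±1`: the scalar-free case
-/

namespace Cfsg.Agent.Lib.Helper39.TwoRk

open Module Matrix

universe u v

variable {F : Type u} {V : Type v} [Field F] [AddCommGroup V] [Module F V]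

/-- a group of isometries containing `-1` in which squares and commutators are `±1` -/
structure Good (B : LinearMap.BilinForm F V) (S : Subgroup (V ≃ₗ[F] V)) : Prop where
  pres : ∀ g ∈ S, Pres B g
  sq : ∀ g ∈ S, g * g = 1 ∨ g * g = negE F V
  comm : ∀ g ∈ S, ∀ h ∈ S, g * h = h * g ∨ g * h = negE F V * (h * g)
  neg_mem : negE F V ∈ S

lemma negE_mem_centralizer (g : V ≃ₗ[F] V) :
    negE F V ∈ Subgroup.centralizer ({g} : Set (V ≃ₗ[F] V)) := by
  rw [Subgroup.mem_centralizer_singleton_iff]
  exact negE_comm g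

lemma Good.inf_centralizer {B : LinearMap.BilinForm F V} {S : Subgroup (V ≃ₗ[F] V)}
    (h : Good B S) (g : V ≃ₗ[F] V) :
    Good B (S ⊓ Subgroup.centralizer ({g} : Set (V ≃ₗ[F] V))) where
  pres := fun k hk => h.pres k hk.1
  sq := fun k hk => h.sq k hk.1
  comm := fun k hk l hl => h.comm k hk.1 l hl.1
  neg_mem := ⟨h.neg_mem, negE_mem_centralizer g⟩

lemma Good.range_resT {B : LinearMap.BilinForm F V} {T : Subgroup (V ≃ₗ[F] V)}
    (h : Good B T) (g : V ≃ₗ[F] V)
    (hT : T ≤ Subgroup.centralizer ({g} : Set (V ≃ₗ[F] V))) :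
    Good (B.restrict (fixS g)) (resT g T hT).range where
  pres := by
    rintro _ ⟨k, rfl⟩ x y
    rw [LinearMap.BilinForm.restrict_apply, LinearMap.BilinForm.restrict_apply]
    simp only [resT_apply]
    exact h.pres k.1 k.2 x y
  sq := by
    rintro _ ⟨k, rfl⟩
    rw [← map_mul]
    rcases h.sq k.1 k.2 with h1 | h1
    · left
      have : k * k = 1 := Subtype.ext h1
      rw [this, map_one]
    · right
      have : k * k = ⟨negE F V, h.neg_mem⟩ := Subtype.ext h1
      rw [this, resT_negE]
  comm := by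
    rintro _ ⟨k, rfl⟩ _ ⟨l, rfl⟩
    rw [← map_mul, ← map_mul]
    rcases h.comm k.1 k.2 l.1 l.2 with h1 | h1
    · left
      have : k * l = l * k := Subtype.ext h1
      rw [this]
    · right
      have : k * l = ⟨negE F V, h.neg_mem⟩ * (l * k) := Subtype.ext h1
      rw [this, map_mul, resT_negE]
  neg_mem := ⟨⟨negE F V, h.neg_mem⟩, resT_negE g T hT h.neg_mem⟩

section ScalarFree

variable {B : LinearMap.BilinForm F V} {S : Subgroup (V ≃ₗ[F] V)}

lemma inv_eq_neg_mul {x : V ≃ₗ[F] V} (hxx : x * x = negE F V) : x⁻¹ = negE F V * x := by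
  apply inv_eq_of_mul_eq_one_right
  rw [← mul_assoc, ← negE_comm x, mul_assoc, hxx, negE_mul_negE]

lemma eq_of_mul_eq_one {x y : V ≃ₗ[F] V} (hxx : x * x = negE F V) (h : x * y = 1) :
    y = negE F V * x := by
  rw [← inv_eq_neg_mul hxx]
  exact eq_inv_of_mul_eq_one_right h

lemma eq_of_mul_eq_neg {x y : V ≃ₗ[F] V} (hxx : x * x = negE F V) (h : x * y = negE F V) :
    y = x := by
  have h1 : y = x⁻¹ * negE F V := eq_inv_mul_of_mul_eq h
  rw [h1, inv_eq_neg_mul hxx, mul_assoc, ← negE_comm x, ← mul_assoc, negE_mul_negE, one_mul]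

/-- in the scalar-free case, non-scalar elements square to `-1` -/
lemma sq_eq_neg (hS : Good B S) (hsc : ∀ g ∈ S, g * g = 1 → g = 1 ∨ g = negE F V)
    {x : V ≃ₗ[F] V} (hx : x ∈ S) (h1 : x ≠ 1) (hn : x ≠ negE F V) : x * x = negE F V := by
  rcases hS.sq x hx with h | h
  · rcases hsc x hx h with h' | h'
    · exact absurd h' h1
    · exact absurd h' hn
  · exact h

/-- in the scalar-free case, independent non-scalar elements anticommute -/
lemma anticomm (hn1 : negE F V ≠ 1) (hS : Good B S)
    (hsc : ∀ g ∈ S, g * g = 1 → g = 1 ∨ g = negE F V)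
    {x y : V ≃ₗ[F] V} (hx : x ∈ S) (hy : y ∈ S) (hx1 : x ≠ 1) (hxn : x ≠ negE F V)
    (hy1 : y ≠ 1) (hyn : y ≠ negE F V)
    (hyx : y ≠ x) (hynx : y ≠ negE F V * x) :
    x * y = negE F V * (y * x) ∧ x * y ≠ 1 ∧ x * y ≠ negE F V := by
  have hxx := sq_eq_neg hS hsc hx hx1 hxn
  have hyy := sq_eq_neg hS hsc hy hy1 hyn
  have h1 : x * y ≠ 1 := fun h => hynx (eq_of_mul_eq_one hxx h)
  have h3 : x * y ≠ negE F V := fun h => hyx (eq_of_mul_eq_neg hxx h)
  refine ⟨?_, h1, h3⟩
  have hxy := sq_eq_neg hS hsc (S.mul_mem hx hy) h1 h3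
  rcases hS.comm x hx y hy with h | h
  · exfalso
    apply hn1
    rw [← hxy]
    nth_rewrite 2 [h]
    calc x * y * (y * x) = x * (y * y) * x := by simp only [mul_assoc]
      _ = x * negE F V * x := by rw [hyy]
      _ = negE F V * (x * x) := by rw [← negE_comm x, mul_assoc]
      _ = 1 := by rw [hxx, negE_mul_negE]
  · exact h

lemma anticomm_apply {x y : V ≃ₗ[F] V} (h : x * y = negE F V * (y * x)) (v : V) :
    x (y v) = -(y (x v)) := by
  have := congrArg (fun e : V ≃ₗ[F] V => e v) h
  simpa [LinearEquiv.mul_apply] using this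

/-- in the scalar-free case the group has at most eight elements -/
lemma card_le_eight (h2 : (2 : F) ≠ 0) (hn1 : negE F V ≠ 1) (hS : Good B S)
    (hsc : ∀ g ∈ S, g * g = 1 → g = 1 ∨ g = negE F V) : Nat.card S ≤ 8 := by
  classical
  by_cases hA : ∀ x ∈ S, x = 1 ∨ x = negE F V
  · have h1 : Nat.card S ≤ ({1, negE F V} : Finset (V ≃ₗ[F] V)).card := by
      apply card_le_of_forall_mem
      intro x hx
      rcases hA x hx with h | h
      · simp [h]
      · simp [h]
    have h3 : ({1, negE F V} : Finset (V ≃ₗ[F] V)).card ≤ 2 := Finset.card_le_two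
    omega
  push Not at hA
  obtain ⟨a, ha, ha1, han⟩ := hA
  by_cases hB : ∀ x ∈ S, x = 1 ∨ x = negE F V ∨ x = a ∨ x = negE F V * a
  · have h1 : Nat.card S ≤ ({1, negE F V, a, negE F V * a} : Finset (V ≃ₗ[F] V)).card := by
      apply card_le_of_forall_mem
      intro x hx
      rcases hB x hx with h | h | h | h <;> simp [h]
    have h3 : ({1, negE F V, a, negE F V * a} : Finset (V ≃ₗ[F] V)).card ≤ 4 :=
      Finset.card_le_four
    omega
  push Not at hB
  obtain ⟨b, hb, hb1, hbn, hba, hbna⟩ := hB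
  have hab := anticomm hn1 hS hsc ha hb ha1 han hb1 hbn hba hbna
  have habS : a * b ∈ S := S.mul_mem ha hb
  have hC : ∀ c ∈ S, c = 1 ∨ c = negE F V ∨ c = a ∨ c = negE F V * a ∨ c = b ∨
      c = negE F V * b ∨ c = a * b ∨ c = negE F V * (a * b) := by
    intro c hc
    by_contra hcon
    push Not at hcon
    obtain ⟨hc1, hcn, hca, hcna, hcb, hcnb, hcab, hcnab⟩ := hcon
    have e1 := anticomm_apply (anticomm hn1 hS hsc ha hc ha1 han hc1 hcn hca hcna).1
    have e2 := anticomm_apply (anticomm hn1 hS hsc hb hc hb1 hbn hc1 hcn hcb hcnb).1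
    have e3 := anticomm_apply
      (anticomm hn1 hS hsc habS hc hab.2.1 hab.2.2 hc1 hcn hcab hcnab).1
    -- pick a vector with `-v ≠ v`
    have hv : ∃ v : V, v ≠ 0 := by
      by_contra hne
      push Not at hne
      apply hn1
      ext x
      rw [hne x]
      simp
    obtain ⟨v, hv⟩ := hv
    have k1 : a (b (c v)) = c (a (b v)) := by
      rw [e2 v, map_neg, e1 (b v), neg_neg]
    have k2 : a (b (c v)) = -(c (a (b v))) := by
      have := e3 v
      simpa [LinearEquiv.mul_apply] using this
    have k3 : (2 : F) • c (a (b v)) = 0 := by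
      rw [two_smul]
      nth_rewrite 1 [← k1]
      rw [k2]
      simp
    rcases smul_eq_zero.mp k3 with h | h
    · exact h2 h
    · apply hv
      have h4 : a (b v) = 0 := (LinearEquiv.map_eq_zero_iff c).mp h
      have h5 : b v = 0 := (LinearEquiv.map_eq_zero_iff a).mp h4
      exact (LinearEquiv.map_eq_zero_iff b).mp h5
  have h1 : Nat.card S ≤ ({1, negE F V, a, negE F V * a, b, negE F V * b, a * b,
      negE F V * (a * b)} : Finset (V ≃ₗ[F] V)).card := by
    apply card_le_of_forall_mem
    intro x hx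
    rcases hC x hx with h | h | h | h | h | h | h | h <;> simp [h]
  have h3 : ({1, negE F V, a, negE F V * a, b, negE F V * b, a * b,
      negE F V * (a * b)} : Finset (V ≃ₗ[F] V)).card ≤ 8 := by
    refine (Finset.card_insert_le _ _).trans ?_
    refine Nat.succ_le_succ ((Finset.card_insert_le _ _).trans ?_)
    refine Nat.succ_le_succ ((Finset.card_insert_le _ _).trans ?_)
    refine Nat.succ_le_succ ((Finset.card_insert_le _ _).trans ?_)
    exact Nat.succ_le_succ Finset.card_le_four
  omega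

end ScalarFree

end Cfsg.Agent.Lib.Helper39.TwoRk
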