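import Mathlib
import Cfsg.Agent.Lib.Helper39.TwoRkD

set_option autoImplicit false
set_option linter.unusedSimpArgs false
set_option linter.unusedVariables false
set_option linter.unnecessarySeqFocus false
set_option linter.unusedSectionVars false
set_option linter.style.haveILetI false

/-!
# Groups of isometries that are elementary abelian modulo `±1`: the order bound

For a symplectic space of dimension `d` over a finite field of odd characteristic, a group of
isometries containing `-1` in which all squares and commutators are `±1` has order at most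
`2 ^ (d + 1)`, and at most `2 ^ (d - 1)` when `d ≥ 6`.
-/

namespace Cfsg.Agent.Lib.Helper39.TwoRk

open Module Matrix

universe u v

variable {F : Type u} {V : Type v} [Field F] [AddCommGroup V] [Module F V]

lemma ne_neg_mul_of_ptFix (h2 : (2 : F) ≠ 0) {W : Submodule F V} (hW : W ≠ ⊥)
    {e e' : V ≃ₗ[F] V} (he : e ∈ ptFix W) (he' : e' ∈ ptFix W) : e ≠ negE F V * e' := by
  intro h
  obtain ⟨x, hx, hx0⟩ := Submodule.exists_mem_ne_zero_of_ne_bot hW
  have h1 := he x hx
  rw [h, negE_mul_apply, he' x hx] at h1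
  have h3 : (2 : F) • x = 0 := by
    rw [two_smul]
    nth_rewrite 1 [← h1]
    simp
  rcases smul_eq_zero.mp h3 with h | h
  · exact h2 h
  · exact hx0 h

/-- central case: the pointwise stabiliser of the fixed space is a group of commuting
involutions -/
lemma Good.invGrp_ptFix {B : LinearMap.BilinForm F V} {S : Subgroup (V ≃ₗ[F] V)}
    (hS : Good B S) (h2 : (2 : F) ≠ 0) {W : Submodule F V} (hW : W ≠ ⊥) :
    InvGrp B (S ⊓ ptFix W) where
  pres := fun k hk => hS.pres k hk.1
  sq := by
    intro k hk
    rcases hS.sq k hk.1 with h | h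
    · exact h
    · exfalso
      have := ne_neg_mul_of_ptFix h2 hW ((ptFix W).mul_mem hk.2 hk.2) (ptFix W).one_mem
      rw [mul_one] at this
      exact this h
  comm := by
    intro k hk l hl
    rcases hS.comm k hk.1 l hl.1 with h | h
    · exact h
    · exfalso
      exact ne_neg_mul_of_ptFix h2 hW ((ptFix W).mul_mem hk.2 hl.2)
        ((ptFix W).mul_mem hl.2 hk.2) h

section Swap

variable {g h0 : V ≃ₗ[F] V}

lemma swap_mem_neg (hanti : ∀ v, h0 (g v) = -(g (h0 v))) {x : V} (hx : x ∈ fixS g) :
    h0 x ∈ fixS (negE F V * g) := by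
  rw [mem_fixS] at hx
  rw [mem_fixS_neg]
  have := hanti x
  rw [hx] at this
  rw [eq_neg_iff_add_eq_zero] at this ⊢
  rw [add_comm]
  exact this

lemma swap_mem_pos (hanti : ∀ v, h0 (g v) = -(g (h0 v))) {y : V}
    (hy : y ∈ fixS (negE F V * g)) : h0 y ∈ fixS g := by
  rw [mem_fixS_neg] at hy
  rw [mem_fixS]
  have := hanti y
  rw [hy, map_neg, neg_inj] at this
  exact this.symm

lemma finrank_eq_of_swap [Module.Finite F V] (hanti : ∀ v, h0 (g v) = -(g (h0 v))) :
    finrank F (fixS g) = finrank F (fixS (negE F V * g)) := by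
  apply le_antisymm
  · let f : fixS g →ₗ[F] fixS (negE F V * g) :=
      (h0 : V →ₗ[F] V).restrict (p := fixS g) (q := fixS (negE F V * g))
        (fun x hx => swap_mem_neg hanti hx)
    apply LinearMap.finrank_le_finrank_of_injective (f := f)
    intro a b hab
    have := congrArg (fun z : fixS (negE F V * g) => (z : V)) hab
    simp only [f, LinearMap.coe_restrict_apply, LinearEquiv.coe_coe] at this
    exact Subtype.ext (h0.injective this)
  · let f : fixS (negE F V * g) →ₗ[F] fixS g :=
      (h0 : V →ₗ[F] V).restrict (p := fixS (negE F V * g)) (q := fixS g)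
        (fun x hx => swap_mem_pos hanti hx)
    apply LinearMap.finrank_le_finrank_of_injective (f := f)
    intro a b hab
    have := congrArg (fun z : fixS g => (z : V)) hab
    simp only [f, LinearMap.coe_restrict_apply, LinearEquiv.coe_coe] at this
    exact Subtype.ext (h0.injective this)

lemma inv_mem_pos (hanti : ∀ v, h0 (g v) = -(g (h0 v))) {y : V}
    (hy : y ∈ fixS (negE F V * g)) : h0⁻¹ y ∈ fixS g := by
  rw [mem_fixS_neg] at hy
  rw [mem_fixS]
  apply h0.injective
  have h1 : h0 (h0⁻¹ y) = y := by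
    change (h0 * h0⁻¹) y = y
    rw [mul_inv_cancel]; rfl
  rw [hanti, h1, hy, neg_neg]

/-- non-central case: the pointwise stabiliser of the fixed space in the centraliser is
`{1, g}` -/
lemma ptFix_subset_pair {B : LinearMap.BilinForm F V} {S : Subgroup (V ≃ₗ[F] V)}
    (hS : Good B S) (h2 : (2 : F) ≠ 0) (hgg : g * g = 1) (h0S : h0 ∈ S)
    (hanti : ∀ v, h0 (g v) = -(g (h0 v))) {c : V ≃ₗ[F] V} (hcS : c ∈ S)
    (hc : c ∈ ptFix (fixS g)) : c = 1 ∨ c = g := by
  have key : ∀ y ∈ fixS (negE F V * g), (h0 * c * h0⁻¹) y = y := by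
    intro y hy
    have hw := inv_mem_pos hanti hy
    rw [LinearEquiv.mul_apply, LinearEquiv.mul_apply, hc _ hw]
    change (h0 * h0⁻¹) y = y
    rw [mul_inv_cancel]; rfl
  rcases hS.comm h0 h0S c hcS with h | h
  · left
    have h1 : h0 * c * h0⁻¹ = c := by rw [h, mul_assoc, mul_inv_cancel, mul_one]
    rw [h1] at key
    apply eq_of_eq_on_fix h2 hgg
    · intro x hx
      rw [hc x hx]; rfl
    · intro y hy
      rw [key y hy]; rfl
  · right
    have h1 : h0 * c * h0⁻¹ = negE F V * c := by
      rw [h, mul_assoc, mul_assoc, mul_inv_cancel, mul_one]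
    rw [h1] at key
    apply eq_of_eq_on_fix h2 hgg
    · intro x hx
      rw [hc x hx]
      exact (mem_fixS.mp hx).symm
    · intro y hy
      have h5 : c y = -y := by
        have := key y hy
        rw [negE_mul_apply] at this
        exact neg_eq_iff_eq_neg.mp this
      rw [mem_fixS_neg.mp hy, h5]

/-- non-central case: the centraliser has index at most two -/
lemma card_le_two_mul_centralizer [Finite F] [Module.Finite F V]
    {B : LinearMap.BilinForm F V} {S : Subgroup (V ≃ₗ[F] V)}
    (hS : Good B S) (hgS : g ∈ S) (h0S : h0 ∈ S) (hanti : ∀ v, h0 (g v) = -(g (h0 v))) :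
    Nat.card S ≤
      2 * Nat.card (S ⊓ Subgroup.centralizer ({g} : Set (V ≃ₗ[F] V)) : Subgroup _) := by
  classical
  set C : Subgroup (V ≃ₗ[F] V) := S ⊓ Subgroup.centralizer ({g} : Set (V ≃ₗ[F] V)) with hC
  have hsub : (S : Set (V ≃ₗ[F] V)) ⊆ (C : Set _) ∪ (fun c => h0 * c) '' (C : Set _) := by
    intro h hh
    rcases hS.comm h hh g hgS with hc | hc
    · left
      exact ⟨hh, Subgroup.mem_centralizer_singleton_iff.mpr hc⟩
    · right
      refine ⟨h0⁻¹ * h, ⟨S.mul_mem (S.inv_mem h0S) hh,
        Subgroup.mem_centralizer_singleton_iff.mpr ?_⟩, by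
          show h0 * (h0⁻¹ * h) = h
          rw [← mul_assoc, mul_inv_cancel, one_mul]⟩
      have hanti2 : ∀ v, h (g v) = -(g (h v)) := fun v => by
        have := congrArg (fun e : V ≃ₗ[F] V => e v) hc
        simpa [LinearEquiv.mul_apply] using this
      ext v
      rw [LinearEquiv.mul_apply, LinearEquiv.mul_apply, LinearEquiv.mul_apply,
        LinearEquiv.mul_apply, hanti2 v, map_neg]
      apply h0.injective
      have h1 : ∀ z, h0 (h0⁻¹ z) = z := fun z => by
        change (h0 * h0⁻¹) z = z
        rw [mul_inv_cancel]; rfl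
      rw [map_neg, h1]
      have := hanti (h0⁻¹ (h v))
      rw [h1] at this
      rw [this]
  have hfin : ((C : Set (V ≃ₗ[F] V)) ∪ (fun c => h0 * c) '' (C : Set _)).Finite := Set.toFinite _
  calc Nat.card S = (S : Set (V ≃ₗ[F] V)).ncard := rfl
    _ ≤ ((C : Set (V ≃ₗ[F] V)) ∪ (fun c => h0 * c) '' (C : Set _)).ncard :=
        Set.ncard_le_ncard hsub hfin
    _ ≤ (C : Set (V ≃ₗ[F] V)).ncard + ((fun c => h0 * c) '' (C : Set _)).ncard :=
        Set.ncard_union_le _ _
    _ ≤ (C : Set (V ≃ₗ[F] V)).ncard + (C : Set (V ≃ₗ[F] V)).ncard :=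
        Nat.add_le_add_left (Set.ncard_image_le (Set.toFinite _)) _
    _ = 2 * Nat.card C := by
        rw [two_mul]
        rfl

end Swap

end Cfsg.Agent.Lib.Helper39.TwoRk
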