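import Mathlib
import Cfsg.Agent.Lib.Helper39.TwoRkE

set_option autoImplicit false
set_option linter.unusedSimpArgs false
set_option linter.unusedVariables false
set_option linter.unnecessarySeqFocus false
set_option linter.unusedSectionVars false
set_option linter.style.haveILetI false

/-!
# The order bound for groups of isometries elementary abelian modulo `±1`
-/

namespace Cfsg.Agent.Lib.Helper39.TwoRk

open Module Matrix

universe u v

variable {F : Type u} [Field F]

theorem card_good_le [Finite F] (h2 : (2 : F) ≠ 0) :
    ∀ (d : ℕ) (V : Type v) [AddCommGroup V] [Module F V] [Module.Finite F V]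
      (B : LinearMap.BilinForm F V) (_ : IsSymp B) (S : Subgroup (V ≃ₗ[F] V)) (_ : Good B S),
      finrank F V = d → Nat.card S ≤ 2 ^ (d + 1) ∧ (6 ≤ d → Nat.card S ≤ 2 ^ (d - 1)) := by
  intro d
  induction d using Nat.strong_induction_on with
  | _ d ih =>
    intro V _ _ _ B hB S hS hd
    classical
    by_cases h0 : d = 0
    · subst h0
      rw [card_aut_of_finrank_zero hd S]
      constructor
      · norm_num
      · intro h; omega
    have hd2 : 2 ≤ d := by
      rw [← hd] at h0 ⊢
      exact hB.two_le_finrank h2 h0
    haveI : Nontrivial V := by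
      apply Module.nontrivial_of_finrank_pos (R := F)
      omega
    have hn1 : negE F V ≠ 1 := negE_ne_one h2
    by_cases hsc : ∀ g ∈ S, g * g = 1 → g = 1 ∨ g = negE F V
    · have h8 := card_le_eight h2 hn1 hS hsc
      constructor
      · calc Nat.card S ≤ 2 ^ 3 := h8
          _ ≤ 2 ^ (d + 1) := Nat.pow_le_pow_right (by norm_num) (by omega)
      · intro h6
        calc Nat.card S ≤ 2 ^ 3 := h8
          _ ≤ 2 ^ (d - 1) := Nat.pow_le_pow_right (by norm_num) (by omega)
    push Not at hsc
    obtain ⟨g₀, hg₀S, hg₀g₀, hg₀1, hg₀n⟩ := hsc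
    -- choose the sign so that the fixed space is the smaller eigenspace
    have hex : ∃ g ∈ S, g * g = 1 ∧ g ≠ 1 ∧ g ≠ negE F V ∧
        finrank F (fixS g) ≤ finrank F (fixS (negE F V * g)) := by
      by_cases hle : finrank F (fixS g₀) ≤ finrank F (fixS (negE F V * g₀))
      · exact ⟨g₀, hg₀S, hg₀g₀, hg₀1, hg₀n, hle⟩
      · refine ⟨negE F V * g₀, S.mul_mem hS.neg_mem hg₀S, neg_mul_sq hg₀g₀, ?_, ?_, ?_⟩
        · intro h
          apply hg₀n
          have : negE F V * (negE F V * g₀) = negE F V * 1 := by rw [h]
          rw [negE_mul_negE_mul, mul_one] at this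
          exact this
        · intro h
          apply hg₀1
          have : negE F V * (negE F V * g₀) = negE F V * negE F V := by rw [h]
          rw [negE_mul_negE_mul, negE_mul_negE] at this
          exact this
        · rw [negE_mul_negE_mul]
          omega
    obtain ⟨g, hgS, hgg, hg1, hgn, hle⟩ := hex
    have hpg := hS.pres g hgS
    have hsum := finrank_fix_add h2 hgg
    have hp0 : fixS g ≠ ⊥ := fix_ne_bot h2 hgg hgn
    have hm0 : fixS (negE F V * g) ≠ ⊥ := fix_neg_ne_bot h2 hgg hg1
    have hp1 : 0 < finrank F (fixS g) := by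
      rw [Module.finrank_pos_iff]
      exact Submodule.nontrivial_iff_ne_bot.mpr hp0
    have hm1 : 0 < finrank F (fixS (negE F V * g)) := by
      rw [Module.finrank_pos_iff]
      exact Submodule.nontrivial_iff_ne_bot.mpr hm0
    have hBp : IsSymp (B.restrict (fixS g)) := hB.restrict_fix h2 hgg hpg
    have hBm : IsSymp (B.restrict (fixS (negE F V * g))) :=
      hB.restrict_fix h2 (neg_mul_sq hgg) (pres_neg_mul hpg)
    set C : Subgroup (V ≃ₗ[F] V) := S ⊓ Subgroup.centralizer ({g} : Set (V ≃ₗ[F] V)) with hCdef
    have hC : Good B C := hS.inf_centralizer g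
    have hCT : C ≤ Subgroup.centralizer ({g} : Set (V ≃ₗ[F] V)) := inf_le_right
    have hcount := card_eq_range_mul_ptFix g C hCT
    have hA : Nat.card (resT g C hCT).range ≤ 2 ^ (finrank F (fixS g) + 1) :=
      (ih (finrank F (fixS g)) (by omega) (fixS g) (B.restrict (fixS g)) hBp _
        (hC.range_resT g hCT) rfl).1
    set K : Subgroup (V ≃ₗ[F] V) := C ⊓ ptFix (fixS g) with hKdef
    by_cases hcen : S ≤ Subgroup.centralizer ({g} : Set (V ≃ₗ[F] V))
    · -- central case
      have hCS : C = S := inf_eq_left.mpr hcen
      have hKI : InvGrp B K := hC.invGrp_ptFix h2 hp0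
      have hKc : K ≤ Subgroup.centralizer ({negE F V * g} : Set (V ≃ₗ[F] V)) := by
        rw [centralizer_neg]
        exact inf_le_left.trans hCT
      have hKcard := card_ptFix_eq_range h2 hgg K inf_le_right hKc
      have hB' : Nat.card (resT (negE F V * g) K hKc).range
          ≤ 2 ^ (finrank F (fixS (negE F V * g)) / 2) :=
        card_invGrp_le h2 (finrank F (fixS (negE F V * g))) (fixS (negE F V * g))
          (B.restrict (fixS (negE F V * g))) hBm _ (hKI.range_resT (negE F V * g) hKc) rfl
      have htot : Nat.card S ≤
          2 ^ (finrank F (fixS g) + 1 + finrank F (fixS (negE F V * g)) / 2) := by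
        rw [← hCS, hcount, hKcard, pow_add]
        exact Nat.mul_le_mul hA hB'
      constructor
      · exact htot.trans (Nat.pow_le_pow_right (by norm_num) (by omega))
      · intro h6
        exact htot.trans (Nat.pow_le_pow_right (by norm_num) (by omega))
    · -- non-central case
      have hex0 : ∃ h0 ∈ S, h0 ∉ Subgroup.centralizer ({g} : Set (V ≃ₗ[F] V)) := by
        by_contra hcon
        push Not at hcon
        exact hcen hcon
      obtain ⟨h0, h0S, h0c⟩ := hex0
      have hanti : ∀ v, h0 (g v) = -(g (h0 v)) := by
        rcases hS.comm h0 h0S g hgS with h | h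
        · exact absurd (Subgroup.mem_centralizer_singleton_iff.mpr h) h0c
        · exact anticomm_apply h
      have hKle : Nat.card K ≤ 2 := by
        have h1 : Nat.card K ≤ ({1, g} : Finset (V ≃ₗ[F] V)).card := by
          apply card_le_of_forall_mem
          intro c hc
          rcases ptFix_subset_pair hS h2 hgg h0S hanti hc.1.1 hc.2 with h | h
          · simp [h]
          · simp [h]
        exact h1.trans Finset.card_le_two
      have hSC := card_le_two_mul_centralizer hS hgS h0S hanti
      have heq := finrank_eq_of_swap hanti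
      have heven := hBp.even_finrank h2
      obtain ⟨e, he⟩ := heven
      have htot : Nat.card S ≤ 2 ^ (finrank F (fixS g) + 3) := by
        calc Nat.card S ≤ 2 * Nat.card C := hSC
          _ = 2 * (Nat.card (resT g C hCT).range * Nat.card K) := by rw [hcount]
          _ ≤ 2 * (2 ^ (finrank F (fixS g) + 1) * 2) :=
              Nat.mul_le_mul_left _ (Nat.mul_le_mul hA hKle)
          _ = 2 ^ (finrank F (fixS g) + 3) := by ring
      constructor
      · exact htot.trans (Nat.pow_le_pow_right (by norm_num) (by omega))
      · intro h6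
        exact htot.trans (Nat.pow_le_pow_right (by norm_num) (by omega))

end Cfsg.Agent.Lib.Helper39.TwoRk
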