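import Mathlib
import Cfsg.Prelude.Def_Classical
import Cfsg.Agent.Lib.Helper39.TwoRkF
import Cfsg.Agent.Lib.Helper5.SympCenter

set_option autoImplicit false
set_option linter.unusedSimpArgs false
set_option linter.unusedVariables false
set_option linter.unnecessarySeqFocus false
set_option linter.unusedSectionVars false
set_option linter.style.haveILetI false

/-!
# Elementary abelian 2-subgroups of `PSp_{2m}(q)`, `q` odd, `m ≥ 3`, have order `≤ 2^(2m-2)`
-/

namespace Cfsg.Agent.Lib.Helper39.TwoRk

open Module Matrix Cfsg.Agent.Lib.Helper5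

variable {F : Type*} [Field F] {m : ℕ}

lemma two_ne_zero_of_odd_card [Fintype F] (h : Odd (Fintype.card F)) : (2 : F) ≠ 0 := by
  intro h2
  have h3 : ringChar F = 2 :=
    CharP.ringChar_of_prime_eq_zero Nat.prime_two (by exact_mod_cast h2)
  have h4 := FiniteField.even_card_iff_char_two.mp h3
  rcases h with ⟨k, hk⟩
  omega

/-- the standard symplectic form as a bilinear form -/
noncomputable def spB (m : ℕ) (F : Type*) [Field F] :
    LinearMap.BilinForm F (Fin m ⊕ Fin m → F) :=
  LinearMap.mk₂ F (fun u v => sympForm u v) sympForm_add_left sympForm_smul_left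
    sympForm_add_right sympForm_smul_right

@[simp] lemma spB_apply (u v : Fin m ⊕ Fin m → F) : spB m F u v = sympForm u v := rfl

lemma isSymp_spB : IsSymp (spB m F) where
  alt := fun x => sympForm_self x
  nd := by
    intro x hx
    by_contra hne
    obtain ⟨y, hy⟩ := exists_sympForm_ne_zero_right hne
    exact hy (hx y)

/-- the action of a symplectic matrix on the standard space -/
noncomputable def spAut (m : ℕ) (F : Type*) [Field F] :
    Matrix.symplecticGroup (Fin m) F →* ((Fin m ⊕ Fin m → F) ≃ₗ[F] (Fin m ⊕ Fin m → F)) where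
  toFun A := LinearEquiv.ofLinearMap (Matrix.toLin' (A : Matrix _ _ F))
    (Matrix.toLin' ((A⁻¹ : Matrix.symplecticGroup (Fin m) F) : Matrix _ _ F))
    (by
      rw [← Matrix.toLin'_mul, ← Matrix.toLin'_one]
      congr 1
      have : A * A⁻¹ = 1 := mul_inv_cancel A
      exact congrArg Subtype.val this)
    (by
      rw [← Matrix.toLin'_mul, ← Matrix.toLin'_one]
      congr 1
      have : A⁻¹ * A = 1 := inv_mul_cancel A
      exact congrArg Subtype.val this)
  map_one' := by
    ext x i
    simp
  map_mul' := by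
    intro A B
    ext x i
    simp [LinearEquiv.mul_apply, Matrix.toLin'_mul]

@[simp] lemma spAut_apply (A : Matrix.symplecticGroup (Fin m) F) (x : Fin m ⊕ Fin m → F) :
    spAut m F A x = (A : Matrix _ _ F) *ᵥ x := by
  simp [spAut]

lemma spAut_injective : Function.Injective (spAut m F) := by
  intro A B h
  apply Subtype.ext
  apply Matrix.toLin'.injective
  apply LinearMap.ext
  intro x
  have := congrArg (fun e : (Fin m ⊕ Fin m → F) ≃ₗ[F] (Fin m ⊕ Fin m → F) => e x) h
  simpa using this

lemma spAut_pres (A : Matrix.symplecticGroup (Fin m) F) : Pres (spB m F) (spAut m F A) := by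
  intro x y
  simp only [spAut_apply, spB_apply]
  exact sympForm_mulVec_mulVec A.2 x y

lemma neg_one_mem_sp : (-1 : Matrix (Fin m ⊕ Fin m) (Fin m ⊕ Fin m) F) ∈
    Matrix.symplecticGroup (Fin m) F :=
  SymplecticGroup.neg_mem (Submonoid.one_mem _)

lemma spAut_neg_one :
    spAut m F ⟨-1, neg_one_mem_sp⟩ = negE F (Fin m ⊕ Fin m → F) := by
  ext x i
  simp [Matrix.neg_mulVec, Matrix.one_mulVec]

lemma spAut_eq_negE_of_coe {A : Matrix.symplecticGroup (Fin m) F}
    (h : A.1 = -1) : spAut m F A = negE F (Fin m ⊕ Fin m → F) := by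
  have : A = ⟨-1, neg_one_mem_sp⟩ := Subtype.ext h
  rw [this, spAut_neg_one]

lemma spAut_eq_one_of_coe {A : Matrix.symplecticGroup (Fin m) F}
    (h : A.1 = 1) : spAut m F A = 1 := by
  have : A = 1 := Subtype.ext h
  rw [this, map_one]

/-- the main bound for `PSp` -/
theorem card_le_of_sq_eq_one [Fintype F] (hodd : Odd (Fintype.card F)) (hm : 3 ≤ m)
    (E : Subgroup (Cfsg.PSp m F)) (hE : ∀ x ∈ E, x * x = 1) :
    Nat.card E ≤ 2 ^ (2 * m - 2) := by
  classical
  have h2 : (2 : F) ≠ 0 := two_ne_zero_of_odd_card hodd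
  haveI : Nonempty (Fin m) := ⟨⟨0, by omega⟩⟩
  set Z := Subgroup.center (Matrix.symplecticGroup (Fin m) F) with hZ
  set Ehat : Subgroup (Matrix.symplecticGroup (Fin m) F) :=
    E.comap (QuotientGroup.mk' Z) with hEhat
  set S : Subgroup ((Fin m ⊕ Fin m → F) ≃ₗ[F] (Fin m ⊕ Fin m → F)) :=
    Ehat.map (spAut m F) with hS
  have hcomm : ∀ x ∈ E, ∀ y ∈ E, x * y = y * x := by
    intro x hx y hy
    have h1 := hE (x * y) (E.mul_mem hx hy)
    have hx1 := hE x hx
    have hy1 := hE y hy
    calc x * y = x * (x * y * (x * y)) * y := by rw [h1, mul_one]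
      _ = (x * x) * y * x * (y * y) := by simp only [mul_assoc]
      _ = y * x := by rw [hx1, hy1, one_mul, mul_one]
  have hZmem : ∀ A : Matrix.symplecticGroup (Fin m) F, A ∈ Z →
      spAut m F A = 1 ∨ spAut m F A = negE F _ := by
    intro A hA
    rcases (mem_center_symplecticGroup_iff A).mp hA with h | h
    · left; exact spAut_eq_one_of_coe h
    · right; exact spAut_eq_negE_of_coe h
  have hgood : Good (spB m F) S := by
    refine ⟨?_, ?_, ?_, ?_⟩
    · rintro _ ⟨A, _, rfl⟩
      exact spAut_pres A
    · rintro _ ⟨A, hA, rfl⟩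
      have hA' : (QuotientGroup.mk' Z A) ∈ E := hA
      have h1 := hE _ hA'
      rw [← map_mul] at h1
      have h3 : A * A ∈ Z := by
        have := (QuotientGroup.eq_one_iff (A * A)).mp h1
        exact this
      rw [← map_mul]
      exact hZmem _ h3
    · rintro _ ⟨A, hA, rfl⟩ _ ⟨A', hA', rfl⟩
      have hA1 : (QuotientGroup.mk' Z A) ∈ E := hA
      have hA2 : (QuotientGroup.mk' Z A') ∈ E := hA'
      have h1 := hcomm _ hA1 _ hA2
      rw [← map_mul, ← map_mul] at h1
      have h3 : (A' * A)⁻¹ * (A * A') ∈ Z := by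
        have := QuotientGroup.eq.mp h1.symm
        exact this
      rcases hZmem _ h3 with h | h
      · left
        rw [← map_mul, ← map_mul]
        rw [map_mul, map_inv, inv_mul_eq_one] at h
        exact h.symm
      · right
        rw [← map_mul, ← map_mul]
        rw [map_mul, map_inv, inv_mul_eq_iff_eq_mul] at h
        rw [h, negE_comm]
    · refine ⟨⟨-1, neg_one_mem_sp⟩, ?_, spAut_neg_one⟩
      show QuotientGroup.mk' Z _ ∈ E
      have : (⟨-1, neg_one_mem_sp⟩ : Matrix.symplecticGroup (Fin m) F) ∈ Z :=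
        (mem_center_symplecticGroup_iff _).mpr (Or.inr rfl)
      have h9 : QuotientGroup.mk' Z ⟨-1, neg_one_mem_sp⟩ = 1 :=
        (QuotientGroup.eq_one_iff _).mpr this
      rw [h9]
      exact E.one_mem
  have hfin : finrank F (Fin m ⊕ Fin m → F) = 2 * m := by
    rw [Module.finrank_fintype_fun_eq_card, Fintype.card_sum, Fintype.card_fin]
    ring
  have hbound := (card_good_le h2 (2 * m) (Fin m ⊕ Fin m → F) (spB m F) isSymp_spB S hgood
    hfin).2 (by omega)
  have hSE : Nat.card S = Nat.card Ehat :=
    Nat.card_congr (Ehat.equivMapOfInjective (spAut m F) spAut_injective).symm.toEquiv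
  have hZcard : Nat.card Z = 2 := by
    rw [hZ, card_center_symplecticGroup]
    rcases hodd with ⟨k, hk⟩
    rw [hk]
    have : 2 * k + 1 - 1 = 2 * k := by omega
    rw [this]
    exact Nat.gcd_eq_left (dvd_mul_right 2 k)
  have hEhatcard : Nat.card Ehat = Nat.card E * Nat.card Z := by
    have hker : (QuotientGroup.mk' Z).ker ≤ Ehat := by
      intro A hA
      show QuotientGroup.mk' Z A ∈ E
      rw [MonoidHom.mem_ker] at hA
      rw [hA]
      exact E.one_mem
    have h1 := Subgroup.card_eq_card_quotient_mul_card_subgroup (Z.subgroupOf Ehat)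
    have hZle : Z ≤ Ehat := by
      rw [QuotientGroup.ker_mk'] at hker
      exact hker
    have h3 : Nat.card (Z.subgroupOf Ehat) = Nat.card Z :=
      Nat.card_congr (Subgroup.subgroupOfEquivOfLe hZle).toEquiv
    -- the quotient `Ehat / Z` is `E`
    have h4 : Nat.card (Ehat ⧸ Z.subgroupOf Ehat) = Nat.card E := by
      let f : Ehat →* E := ((QuotientGroup.mk' Z).comp Ehat.subtype).codRestrict E
        (fun A => A.2)
      have hf : Function.Surjective f := by
        rintro ⟨x, hx⟩
        obtain ⟨A, rfl⟩ := QuotientGroup.mk'_surjective Z x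
        exact ⟨⟨A, hx⟩, rfl⟩
      have hk : f.ker = Z.subgroupOf Ehat := by
        ext A
        rw [MonoidHom.mem_ker, Subgroup.mem_subgroupOf]
        constructor
        · intro h
          have := congrArg Subtype.val h
          exact (QuotientGroup.eq_one_iff _).mp this
        · intro h
          apply Subtype.ext
          exact (QuotientGroup.eq_one_iff _).mpr h
      rw [← hk]
      exact Nat.card_congr (QuotientGroup.quotientKerEquivOfSurjective f hf).toEquiv
    rw [h1, h3, h4]
  rw [hSE, hEhatcard, hZcard] at hbound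
  have h5 : 2 ^ (2 * m - 1) = 2 ^ (2 * m - 2) * 2 := by
    rw [← pow_succ]
    congr 1
    omega
  rw [h5] at hbound
  exact Nat.le_of_mul_le_mul_right hbound (by norm_num)

end Cfsg.Agent.Lib.Helper39.TwoRk
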