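import Mathlib
import Cfsg.Prelude.Def_Classical
import Cfsg.Agent.Lib.Helper40.Darboux
import Cfsg.Agent.Lib.Helper5.SympCenter
import Cfsg.Agent.Lib.Helper39.TwoRkG

set_option autoImplicit false
set_option linter.unusedSimpArgs false
set_option linter.unusedVariables false
set_option linter.unnecessarySeqFocus false
set_option linter.unusedSectionVars false
set_option linter.style.haveILetI false
set_option maxHeartbeats 800000

/-!
# Transfer between `PSp n F` and isometries of abstract symplectic spaces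
-/

namespace Cfsg.Agent.Lib.Helper39.SpT

open Module Matrix

/-- an isometry of a symplectic space of dimension `2n` gives an element of `PSp n F` whose
order is the least `j` with `T ^ j = ± 1` -/
theorem psp_mem_of_isometry {F : Type*} [Field F] {V : Type*} [AddCommGroup V] [Module F V]
    [FiniteDimensional F V] (ω : LinearMap.BilinForm F V) (halt : ω.IsAlt)
    (hnd : ω.Nondegenerate) (n : ℕ) (hn : 0 < n) (hfr : finrank F V = 2 * n)
    (T : Module.End F V) (hT : ∀ u w, ω (T u) (T w) = ω u w) (M : ℕ)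
    (hM : ∀ j : ℕ, (T ^ j = 1 ∨ T ^ j = -1) ↔ M ∣ j) :
    M ∈ Set.range (orderOf : Cfsg.PSp n F → ℕ) := by
  classical
  haveI : Nonempty (Fin n) := ⟨⟨0, hn⟩⟩
  obtain ⟨b, hb⟩ := Cfsg.Agent.Lib.Helper40.Darboux.darboux_basis n V ω halt hnd hfr
  have hmem : LinearMap.toMatrix b b T ∈ Matrix.symplecticGroup (Fin n) F := by
    rw [SymplecticGroup.mem_iff']
    have hcomp : ω.comp T T = ω := by
      ext u w
      simp only [LinearMap.BilinForm.comp_apply]
      exact hT u w
    have h1 := LinearMap.BilinForm.toMatrix_comp b b ω T T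
    rw [hcomp, hb, Cfsg.Agent.Lib.Helper40.Darboux.gramJ_eq] at h1
    have h2 : -((LinearMap.toMatrix b b T)ᵀ * Matrix.J (Fin n) F * LinearMap.toMatrix b b T)
        = - Matrix.J (Fin n) F := by
      rw [h1]; simp
    exact neg_injective h2
  set A : Matrix.symplecticGroup (Fin n) F := ⟨_, hmem⟩ with hA
  have hpow : ∀ j : ℕ, ((A ^ j : Matrix.symplecticGroup (Fin n) F) :
      Matrix (Fin n ⊕ Fin n) (Fin n ⊕ Fin n) F) = LinearMap.toMatrix b b (T ^ j) := by
    intro j
    rw [SubmonoidClass.coe_pow, ← LinearMap.toMatrix_pow]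
  have key : ∀ j : ℕ, (QuotientGroup.mk A : Cfsg.PSp n F) ^ j = 1 ↔ M ∣ j := by
    intro j
    rw [← QuotientGroup.mk_pow, QuotientGroup.eq_one_iff,
      Cfsg.Agent.Lib.Helper5.mem_center_symplecticGroup_iff, hpow, ← hM]
    constructor
    · rintro (h | h)
      · left
        apply (LinearMap.toMatrix b b).injective
        rw [h, LinearMap.toMatrix_one]
      · right
        apply (LinearMap.toMatrix b b).injective
        rw [h, map_neg, LinearMap.toMatrix_one]
    · rintro (h | h)
      · left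
        rw [h, LinearMap.toMatrix_one]
      · right
        rw [h, map_neg, LinearMap.toMatrix_one]
  refine ⟨QuotientGroup.mk A, ?_⟩
  apply Nat.dvd_antisymm
  · apply orderOf_dvd_of_pow_eq_one
    rw [key]
  · rw [← key]
    exact pow_orderOf_eq_one _

open Cfsg.Agent.Lib.Helper39.TwoRk Cfsg.Agent.Lib.Helper5 in
/-- an element of odd order of `PSp n F` is induced by an isometry of the same order -/
theorem psp_lift {F : Type*} [Field F] (n : ℕ) (hn : 0 < n) (x : Cfsg.PSp n F) (a : ℕ)
    (ha : Odd a) (hxa : orderOf x = a) :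
    ∃ T : Module.End F (Fin n ⊕ Fin n → F),
      (∀ u w, spB n F (T u) (T w) = spB n F u w) ∧ T ^ a = 1 ∧
      ∀ j : ℕ, (T ^ j = 1 ∨ T ^ j = -1) → a ∣ j := by
  classical
  haveI : Nonempty (Fin n) := ⟨⟨0, hn⟩⟩
  obtain ⟨g, rfl⟩ := QuotientGroup.mk_surjective x
  -- choose the lift with `g ^ a = 1`
  have hga : (QuotientGroup.mk g : Cfsg.PSp n F) ^ a = 1 := by rw [← hxa]; exact pow_orderOf_eq_one _
  rw [← QuotientGroup.mk_pow, QuotientGroup.eq_one_iff,
    Cfsg.Agent.Lib.Helper5.mem_center_symplecticGroup_iff] at hga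
  have hneg : (-1 : Matrix (Fin n ⊕ Fin n) (Fin n ⊕ Fin n) F) ∈
      Matrix.symplecticGroup (Fin n) F := neg_one_mem_sp
  obtain ⟨g', hg'a, hg'mk⟩ : ∃ g' : Matrix.symplecticGroup (Fin n) F,
      ((g' ^ a : Matrix.symplecticGroup (Fin n) F) : Matrix (Fin n ⊕ Fin n) (Fin n ⊕ Fin n) F) = 1 ∧
      (QuotientGroup.mk g' : Cfsg.PSp n F) = QuotientGroup.mk g := by
    rcases hga with h | h
    · exact ⟨g, h, rfl⟩
    · refine ⟨⟨-1, hneg⟩ * g, ?_, ?_⟩
      · have hc : Commute (⟨-1, hneg⟩ : Matrix.symplecticGroup (Fin n) F) g := by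
          apply Subtype.ext
          simp
        rw [hc.mul_pow]
        have h1 : ((⟨-1, hneg⟩ : Matrix.symplecticGroup (Fin n) F) ^ a) = ⟨-1, hneg⟩ := by
          apply Subtype.ext
          rw [SubmonoidClass.coe_pow]
          exact ha.neg_one_pow
        rw [h1]
        show (-1 : Matrix (Fin n ⊕ Fin n) (Fin n ⊕ Fin n) F) *
          ((g ^ a : Matrix.symplecticGroup (Fin n) F) :
            Matrix (Fin n ⊕ Fin n) (Fin n ⊕ Fin n) F) = 1
        rw [h]
        simp
      · rw [QuotientGroup.mk_mul]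
        have : (QuotientGroup.mk (⟨-1, hneg⟩ : Matrix.symplecticGroup (Fin n) F) :
            Cfsg.PSp n F) = 1 := by
          rw [QuotientGroup.eq_one_iff, Cfsg.Agent.Lib.Helper5.mem_center_symplecticGroup_iff]
          right; rfl
        rw [this, one_mul]
  refine ⟨Matrix.toLin' (g' : Matrix (Fin n ⊕ Fin n) (Fin n ⊕ Fin n) F), ?_, ?_, ?_⟩
  · intro u w
    simp only [spB_apply, Matrix.toLin'_apply]
    exact sympForm_mulVec_mulVec g'.2 u w
  · rw [← Matrix.toLin'_pow, ← SubmonoidClass.coe_pow, hg'a, Matrix.toLin'_one]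
    rfl
  · intro j hj
    rw [← hxa, ← hg'mk]
    apply orderOf_dvd_of_pow_eq_one
    rw [← QuotientGroup.mk_pow, QuotientGroup.eq_one_iff,
      Cfsg.Agent.Lib.Helper5.mem_center_symplecticGroup_iff, SubmonoidClass.coe_pow]
    rcases hj with h | h
    · left
      apply Matrix.toLin'.injective
      rw [Matrix.toLin'_pow, h, Matrix.toLin'_one]
      rfl
    · right
      apply Matrix.toLin'.injective
      rw [Matrix.toLin'_pow, h, map_neg, Matrix.toLin'_one]
      rfl

end Cfsg.Agent.Lib.Helper39.SpT
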