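import Mathlib
import Cfsg.Agent.Lib.Helper39.SpT1
import Cfsg.Agent.Lib.Helper40.SympBasic

set_option autoImplicit false
set_option linter.unusedSimpArgs false
set_option linter.unusedVariables false
set_option linter.unnecessarySeqFocus false
set_option linter.unusedSectionVars false
set_option linter.style.haveILetI false
set_option maxHeartbeats 800000

/-!
# Orthogonal sums of symplectic blocks; the decomposable case
-/

namespace Cfsg.Agent.Lib.Helper39.SpT

open Module Matrix
open LinearMap (BilinForm)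
open Cfsg.Agent.Lib.Helper40.Symp

section
variable {F : Type*} [Field F]

/-- a symplectic space with an isometry -/
structure SpIso {V : Type*} [AddCommGroup V] [Module F V] (ω : BilinForm F V)
    (T : Module.End F V) : Prop where
  alt : ω.IsAlt
  nd : ω.Nondegenerate
  iso : ∀ u w, ω (T u) (T w) = ω u w

section powneg
variable {V : Type*} [AddCommGroup V] [Module F V]

lemma SpIso.pow {ω : BilinForm F V} {T : Module.End F V} (h : SpIso ω T) (c : ℕ) :
    SpIso ω (T ^ c) := by
  refine ⟨h.alt, h.nd, ?_⟩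
  induction c with
  | zero => intro u w; simp
  | succ c ih =>
    intro u w
    rw [pow_succ, Module.End.mul_apply, Module.End.mul_apply, ih, h.iso]

lemma SpIso.neg {ω : BilinForm F V} {T : Module.End F V} (h : SpIso ω T) : SpIso ω (-T) := by
  refine ⟨h.alt, h.nd, ?_⟩
  intro u w
  simp only [LinearMap.neg_apply, map_neg, neg_neg]
  exact h.iso u w

end powneg

variable {V₁ V₂ : Type*} [AddCommGroup V₁] [Module F V₁] [AddCommGroup V₂] [Module F V₂]

/-- the orthogonal sum of two forms -/
noncomputable def prodForm (ω₁ : BilinForm F V₁) (ω₂ : BilinForm F V₂) : BilinForm F (V₁ × V₂) :=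
  ω₁.compl₁₂ (LinearMap.fst F V₁ V₂) (LinearMap.fst F V₁ V₂) +
    ω₂.compl₁₂ (LinearMap.snd F V₁ V₂) (LinearMap.snd F V₁ V₂)

lemma prodForm_apply (ω₁ : BilinForm F V₁) (ω₂ : BilinForm F V₂) (x y : V₁ × V₂) :
    prodForm ω₁ ω₂ x y = ω₁ x.1 y.1 + ω₂ x.2 y.2 := rfl

lemma prodMap_pow (T₁ : Module.End F V₁) (T₂ : Module.End F V₂) (j : ℕ) :
    (T₁.prodMap T₂ : Module.End F (V₁ × V₂)) ^ j = (T₁ ^ j).prodMap (T₂ ^ j) := by
  induction j with
  | zero =>
    apply LinearMap.ext
    intro x
    simp
  | succ j ih =>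
    rw [pow_succ, ih, pow_succ, pow_succ]
    apply LinearMap.ext
    intro x
    simp [Module.End.mul_apply]

lemma prodMap_eq_one_iff (A : Module.End F V₁) (B : Module.End F V₂) :
    (A.prodMap B : Module.End F (V₁ × V₂)) = 1 ↔ A = 1 ∧ B = 1 := by
  constructor
  · intro h
    constructor
    · apply LinearMap.ext
      intro x
      have := congrArg (fun f : Module.End F (V₁ × V₂) => (f (x, 0)).1) h
      simpa using this
    · apply LinearMap.ext
      intro x
      have := congrArg (fun f : Module.End F (V₁ × V₂) => (f (0, x)).2) h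
      simpa using this
  · rintro ⟨rfl, rfl⟩
    apply LinearMap.ext
    intro x
    simp

lemma prodMap_eq_neg_one_iff (A : Module.End F V₁) (B : Module.End F V₂) :
    (A.prodMap B : Module.End F (V₁ × V₂)) = -1 ↔ A = -1 ∧ B = -1 := by
  constructor
  · intro h
    constructor
    · apply LinearMap.ext
      intro x
      have := congrArg (fun f : Module.End F (V₁ × V₂) => (f (x, 0)).1) h
      simpa using this
    · apply LinearMap.ext
      intro x
      have := congrArg (fun f : Module.End F (V₁ × V₂) => (f (0, x)).2) h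
      simpa using this
  · rintro ⟨rfl, rfl⟩
    apply LinearMap.ext
    intro x
    apply Prod.ext <;> simp

lemma SpIso.prod {ω₁ : BilinForm F V₁} {ω₂ : BilinForm F V₂} {T₁ : Module.End F V₁}
    {T₂ : Module.End F V₂} (h₁ : SpIso ω₁ T₁) (h₂ : SpIso ω₂ T₂) :
    SpIso (prodForm ω₁ ω₂) (T₁.prodMap T₂) where
  alt := by
    intro x
    rw [prodForm_apply, h₁.alt x.1, h₂.alt x.2, add_zero]
  nd := by
    have halt : (prodForm ω₁ ω₂).IsAlt := by
      intro x
      rw [prodForm_apply, h₁.alt x.1, h₂.alt x.2, add_zero]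
    refine (halt.isRefl.nondegenerate_iff_separatingLeft).mpr ?_
    intro x hx
    have e1 : x.1 = 0 := by
      apply h₁.nd.1
      intro y
      have := hx (y, 0)
      rw [prodForm_apply] at this
      simpa using this
    have e2 : x.2 = 0 := by
      apply h₂.nd.1
      intro y
      have := hx (0, y)
      rw [prodForm_apply] at this
      simpa using this
    exact Prod.ext e1 e2
  iso := by
    intro u w
    rw [prodForm_apply, prodForm_apply]
    simp only [LinearMap.prodMap_apply]
    rw [h₁.iso, h₂.iso]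

/-- the element order given by an orthogonal sum of two blocks -/
theorem mem_of_blocks [FiniteDimensional F V₁] [FiniteDimensional F V₂] (n : ℕ) (hn : 0 < n)
    {ω₁ : BilinForm F V₁} {ω₂ : BilinForm F V₂} {T₁ : Module.End F V₁} {T₂ : Module.End F V₂}
    (h₁ : SpIso ω₁ T₁) (h₂ : SpIso ω₂ T₂) (hfr : finrank F V₁ + finrank F V₂ = 2 * n) (M : ℕ)
    (hM : ∀ j : ℕ, ((T₁ ^ j = 1 ∧ T₂ ^ j = 1) ∨ (T₁ ^ j = -1 ∧ T₂ ^ j = -1)) ↔ M ∣ j) :
    M ∈ Set.range (orderOf : Cfsg.PSp n F → ℕ) := by
  have h := h₁.prod h₂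
  refine psp_mem_of_isometry (prodForm ω₁ ω₂) h.alt h.nd n hn ?_ (T₁.prodMap T₂) h.iso M ?_
  · rw [Module.finrank_prod, hfr]
  · intro j
    rw [prodMap_pow, prodMap_eq_one_iff, prodMap_eq_neg_one_iff]
    exact hM j

/-- a single block -/
theorem mem_of_block {V : Type*} [AddCommGroup V] [Module F V] [FiniteDimensional F V] (n : ℕ)
    (hn : 0 < n) {ω : BilinForm F V} {T : Module.End F V} (h : SpIso ω T)
    (hfr : finrank F V = 2 * n) (M : ℕ) (hM : ∀ j : ℕ, (T ^ j = 1 ∨ T ^ j = -1) ↔ M ∣ j) :
    M ∈ Set.range (orderOf : Cfsg.PSp n F → ℕ) :=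
  psp_mem_of_isometry ω h.alt h.nd n hn hfr T h.iso M hM

end

section decomposable
variable {F : Type*} [Field F] {V : Type*} [AddCommGroup V] [Module F V] [FiniteDimensional F V]

lemma pow_mem_of_invt (T : Module.End F V) (U : Submodule F V) (hU : ∀ x ∈ U, T x ∈ U) (j : ℕ) :
    ∀ x ∈ U, (T ^ j) x ∈ U := by
  intro y hy
  induction j with
  | zero => simpa using hy
  | succ j ih => rw [pow_succ', Module.End.mul_apply]; exact hU _ ih

lemma restrict_pow_apply (T : Module.End F V) (U : Submodule F V) (hU : ∀ x ∈ U, T x ∈ U) (j : ℕ)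
    (x : U) : (((T.restrict hU) ^ j) x : V) = (T ^ j) (x : V) := by
  induction j generalizing x with
  | zero => simp
  | succ j ih =>
    rw [pow_succ, Module.End.mul_apply, ih, pow_succ, Module.End.mul_apply]
    rfl

/-- if `T` of odd order `a` has a proper nondegenerate invariant subspace then `2a` is the order
of an element of `PSp` -/
theorem two_mul_mem_of_decomposable (h2 : (2 : F) ≠ 0) (n : ℕ) (hn : 0 < n) {ω : BilinForm F V}
    {T : Module.End F V} (h : SpIso ω T) (hfr : finrank F V = 2 * n) (a : ℕ) (ha : Odd a)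
    (hTa : T ^ a = 1) (hmin : ∀ j : ℕ, (T ^ j = 1 ∨ T ^ j = -1) → a ∣ j)
    (U : Submodule F V) (hU : ∀ x ∈ U, T x ∈ U) (hUnd : NondegOn ω U) (hU0 : U ≠ ⊥)
    (hU1 : U ≠ ⊤) : 2 * a ∈ Set.range (orderOf : Cfsg.PSp n F → ℕ) := by
  classical
  have ha0 : 0 < a := ha.pos
  have hinv : Inv ω T := h.iso
  have hU' : ∀ x ∈ ω.orthogonal U, T x ∈ ω.orthogonal U := perp_invt hinv ha0 hTa U hU
  have hc : IsCompl U (ω.orthogonal U) := isCompl_perp h.alt hUnd
  have hW0 : ω.orthogonal U ≠ ⊥ := by
    intro h0
    apply hU1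
    have := hc.sup_eq_top
    rw [h0, sup_bot_eq] at this
    exact this
  set T₁ : Module.End F U := -(T.restrict hU) with hT₁
  set T₂ : Module.End F (ω.orthogonal U) := T.restrict hU' with hT₂
  have hb₁ : SpIso (ω.restrict U) T₁ :=
    { alt := fun x => h.alt x.1
      nd := restrict_nondegenerate h.alt hUnd
      iso := by
        intro u w
        simp only [hT₁, LinearMap.neg_apply, BilinForm.restrict_apply, LinearMap.domRestrict_apply,
          Submodule.coe_neg, LinearMap.coe_restrict_apply, map_neg, LinearMap.neg_apply, neg_neg]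
        exact h.iso _ _ }
  have hb₂ : SpIso (ω.restrict (ω.orthogonal U)) T₂ :=
    { alt := fun x => h.alt x.1
      nd := restrict_nondegenerate h.alt (nondegOn_perp h.alt h.nd hUnd)
      iso := by
        intro u w
        simp only [hT₂, BilinForm.restrict_apply, LinearMap.domRestrict_apply,
          LinearMap.coe_restrict_apply]
        exact h.iso _ _ }
  have hfr' : finrank F U + finrank F (ω.orthogonal U) = 2 * n := by
    rw [Submodule.finrank_add_eq_of_isCompl hc, hfr]
  -- powers
  have hp₁ : ∀ j : ℕ, ∀ x : U, ((T₁ ^ j) x : V) = (-1 : F) ^ j • (T ^ j) (x : V) := by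
    intro j x
    have e1 : T₁ ^ j = (-1 : F) ^ j • (T.restrict hU) ^ j := by
      rw [hT₁]
      have : -(T.restrict hU) = (-1 : F) • T.restrict hU := (neg_one_smul F _).symm
      rw [this, smul_pow]
    rw [e1, LinearMap.smul_apply, Submodule.coe_smul, restrict_pow_apply]
  have hp₂ : ∀ j : ℕ, ∀ x : ω.orthogonal U, ((T₂ ^ j) x : V) = (T ^ j) (x : V) := by
    intro j x
    rw [hT₂, restrict_pow_apply]
  obtain ⟨u₀, hu₀U, hu₀⟩ := (Submodule.ne_bot_iff U).mp hU0
  obtain ⟨w₀, hw₀W, hw₀⟩ := (Submodule.ne_bot_iff _).mp hW0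
  have hne : ∀ v : V, v ≠ 0 → v ≠ -v := by
    intro v hv hvv
    have : (2 : F) • v = 0 := by
      rw [two_smul]
      nth_rewrite 1 [hvv]
      simp
    rcases smul_eq_zero.mp this with h' | h'
    · exact h2 h'
    · exact hv h'
  have hpowa : ∀ j : ℕ, (T ^ j) ^ a = 1 := by
    intro j
    rw [← pow_mul, mul_comm, pow_mul, hTa, one_pow]
  -- no power of `T` is `-1` on a nonzero invariant vector
  have hno : ∀ (j : ℕ) (v : V), v ≠ 0 → (T ^ j) v = -v → False := by
    intro j v hv hj
    have h1 : ∀ i : ℕ, ((T ^ j) ^ i) v = (-1 : F) ^ i • v := by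
      intro i
      induction i with
      | zero => simp
      | succ i ih =>
        rw [pow_succ', Module.End.mul_apply, ih, map_smul, hj, pow_succ]
        simp
    have h3 := h1 a
    rw [hpowa j, Module.End.one_apply, ha.neg_one_pow, neg_one_smul] at h3
    exact hne v hv h3
  refine mem_of_blocks n hn hb₁ hb₂ hfr' (2 * a) ?_
  intro j
  constructor
  · rintro (⟨e1, e2⟩ | ⟨e1, e2⟩)
    · -- `T₁^j = 1`, `T₂^j = 1`
      have hjeven : Even j := by
        by_contra hodd
        rw [Nat.not_even_iff_odd] at hodd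
        have h3 := hp₁ j ⟨u₀, hu₀U⟩
        rw [e1, Module.End.one_apply, hodd.neg_one_pow, neg_one_smul] at h3
        apply hno j u₀ hu₀
        simp only at h3
        rw [eq_neg_iff_add_eq_zero, add_comm, ← eq_neg_iff_add_eq_zero] at h3
        exact h3
      have hTj : T ^ j = 1 := by
        apply LinearMap.ext
        intro v
        obtain ⟨u, hu, w, hw, rfl⟩ := Submodule.mem_sup.1
          (show v ∈ U ⊔ ω.orthogonal U by rw [hc.sup_eq_top]; trivial)
        have h3 := hp₁ j ⟨u, hu⟩
        rw [e1, Module.End.one_apply, hjeven.neg_one_pow, one_smul] at h3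
        have h4 := hp₂ j ⟨w, hw⟩
        rw [e2, Module.End.one_apply] at h4
        simp only at h3 h4
        rw [map_add, ← h3, ← h4, Module.End.one_apply]
      have h5 := hmin j (Or.inl hTj)
      exact Nat.Coprime.mul_dvd_of_dvd_of_dvd (Nat.coprime_two_left.mpr ha)
        (even_iff_two_dvd.mp hjeven) h5
    · exfalso
      have h4 := hp₂ j ⟨w₀, hw₀W⟩
      rw [e2] at h4
      simp only [LinearMap.neg_apply, Module.End.one_apply, Submodule.coe_neg] at h4
      exact hno j w₀ hw₀ h4.symm
  · rintro ⟨i, rfl⟩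
    left
    have hT2a : T ^ (2 * a * i) = 1 := by
      rw [mul_comm 2 a, mul_assoc, pow_mul, hTa, one_pow]
    have hev : Even (2 * a * i) := ⟨a * i, by ring⟩
    constructor
    · apply LinearMap.ext
      intro x
      apply Subtype.ext
      rw [hp₁, hev.neg_one_pow, one_smul, hT2a]
      rfl
    · apply LinearMap.ext
      intro x
      apply Subtype.ext
      rw [hp₂, hT2a]
      rfl

end decomposable

end Cfsg.Agent.Lib.Helper39.SpT
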