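import Mathlib
import Cfsg.Agent.Lib.Helper39.SpT2

set_option autoImplicit false
set_option linter.unusedSimpArgs false
set_option linter.unusedVariables false
set_option linter.unnecessarySeqFocus false
set_option linter.unusedSectionVars false
set_option linter.style.haveILetI false
set_option maxHeartbeats 800000

/-!
# Transfer between alternating and symmetric invariant forms

For an isometry `t` of odd order `m` (invertible in the field) of a nondegenerate form `B`, the
space splits as `ker (t - 1) ⊕ ker (1 + t + ... + t^(m-1))`, and on the second summand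
`B (A x) y`, `A = t - t⁻¹`, is a nondegenerate invariant form of the opposite symmetry type.
-/

namespace Cfsg.Agent.Lib.Helper39.BC

open Module
open LinearMap (BilinForm)

section basic
variable {F : Type*} [Field F] {V : Type*} [AddCommGroup V] [Module F V]

/-- the averaging operator `1 + t + ... + t^(m-1)` -/
noncomputable def avgP (t : Module.End F V) (m : ℕ) : Module.End F V :=
  ∑ i ∈ Finset.range m, t ^ i

/-- the fixed space -/
def fixS (t : Module.End F V) : Submodule F V := LinearMap.ker (t - 1)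

/-- the complement of the fixed space -/
noncomputable def movS (t : Module.End F V) (m : ℕ) : Submodule F V := LinearMap.ker (avgP t m)

/-- `t - t⁻¹` -/
noncomputable def skewA (t : Module.End F V) (m : ℕ) : Module.End F V := t - t ^ (m - 1)

/-- the twisted form `B (A x) y` -/
noncomputable def twist (B : BilinForm F V) (t : Module.End F V) (m : ℕ) : BilinForm F V :=
  B.comp (skewA t m) LinearMap.id

lemma twist_apply (B : BilinForm F V) (t : Module.End F V) (m : ℕ) (x y : V) :
    twist B t m x y = B (skewA t m x) y := rfl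

lemma mem_fixS (t : Module.End F V) (x : V) : x ∈ fixS t ↔ t x = x := by
  rw [fixS, LinearMap.mem_ker, LinearMap.sub_apply, Module.End.one_apply, sub_eq_zero]

lemma mem_movS (t : Module.End F V) (m : ℕ) (x : V) : x ∈ movS t m ↔ avgP t m x = 0 := by
  rw [movS, LinearMap.mem_ker]

variable {t : Module.End F V} {m : ℕ}

lemma pow_fix {x : V} (hx : t x = x) (i : ℕ) : (t ^ i) x = x := by
  induction i with
  | zero => simp
  | succ i ih => rw [pow_succ, Module.End.mul_apply, hx, ih]

lemma mul_avgP (ht : t ^ m = 1) : t * avgP t m = avgP t m := by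
  unfold avgP
  rw [Finset.mul_sum]
  have h1 : ∀ i ∈ Finset.range m, t * t ^ i = t ^ (i + 1) := by
    intro i _
    rw [pow_succ']
  rw [Finset.sum_congr rfl h1]
  have h2 := Finset.sum_range_succ' (fun i => t ^ i) m
  have h3 := Finset.sum_range_succ (fun i => t ^ i) m
  simp only [pow_zero] at h2
  rw [h3, ht] at h2
  exact add_right_cancel h2.symm

lemma avgP_apply_fix {x : V} (hx : t x = x) : avgP t m x = (m : F) • x := by
  unfold avgP
  rw [LinearMap.sum_apply]
  rw [Finset.sum_congr rfl (fun i _ => pow_fix hx i)]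
  rw [Finset.sum_const, Finset.card_range, Nat.cast_smul_eq_nsmul]

lemma avgP_mem_fix (ht : t ^ m = 1) (x : V) : avgP t m x ∈ fixS t := by
  rw [mem_fixS, ← Module.End.mul_apply, mul_avgP ht]

lemma commute_avgP {g : Module.End F V} (hg : g * t = t * g) : g * avgP t m = avgP t m * g := by
  unfold avgP
  rw [Finset.mul_sum, Finset.sum_mul]
  apply Finset.sum_congr rfl
  intro i _
  exact ((Commute.pow_right (show Commute g t from hg) i)).eq

lemma fix_invt {g : Module.End F V} (hg : g * t = t * g) : ∀ x ∈ fixS t, g x ∈ fixS t := by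
  intro x hx
  rw [mem_fixS] at hx ⊢
  rw [← Module.End.mul_apply, ← hg, Module.End.mul_apply, hx]

lemma mov_invt {g : Module.End F V} (hg : g * t = t * g) : ∀ x ∈ movS t m, g x ∈ movS t m := by
  intro x hx
  rw [mem_movS] at hx ⊢
  rw [← Module.End.mul_apply, ← commute_avgP hg, Module.End.mul_apply, hx, map_zero]

lemma fix_inf_mov (hm : (m : F) ≠ 0) {x : V} (h1 : x ∈ fixS t) (h2 : x ∈ movS t m) : x = 0 := by
  rw [mem_fixS] at h1
  rw [mem_movS, avgP_apply_fix h1] at h2
  rcases smul_eq_zero.mp h2 with h | h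
  · exact absurd h hm
  · exact h

lemma fix_sup_mov (ht : t ^ m = 1) (hm : (m : F) ≠ 0) (x : V) :
    ∃ y ∈ fixS t, ∃ z ∈ movS t m, x = y + z := by
  refine ⟨(m : F)⁻¹ • avgP t m x, Submodule.smul_mem _ _ (avgP_mem_fix ht x),
    x - (m : F)⁻¹ • avgP t m x, ?_, by abel⟩
  rw [mem_movS, map_sub, map_smul]
  have h1 : t (avgP t m x) = avgP t m x := (mem_fixS t _).mp (avgP_mem_fix ht x)
  rw [avgP_apply_fix h1, smul_smul, inv_mul_cancel₀ hm, one_smul, sub_self]

lemma isCompl_fix_mov (ht : t ^ m = 1) (hm : (m : F) ≠ 0) : IsCompl (fixS t) (movS t m) := by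
  constructor
  · rw [Submodule.disjoint_def]
    intro x h1 h2
    exact fix_inf_mov hm h1 h2
  · rw [codisjoint_iff, eq_top_iff]
    intro x _
    obtain ⟨y, hy, z, hz, rfl⟩ := fix_sup_mov ht hm x
    exact Submodule.add_mem_sup hy hz

end basic

section forms
variable {F : Type*} [Field F] {V : Type*} [AddCommGroup V] [Module F V]
variable {B : BilinForm F V} {t : Module.End F V} {m : ℕ}

lemma iso_pow (hiso : ∀ u w, B (t u) (t w) = B u w) (i : ℕ) (u w : V) :
    B ((t ^ i) u) ((t ^ i) w) = B u w := by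
  induction i with
  | zero => simp
  | succ i ih => rw [pow_succ', Module.End.mul_apply, Module.End.mul_apply, hiso, ih]

lemma adj_left (hiso : ∀ u w, B (t u) (t w) = B u w) (ht : t ^ m = 1) (hm0 : 0 < m) (u w : V) :
    B (t u) w = B u ((t ^ (m - 1)) w) := by
  have h1 : t ((t ^ (m - 1)) w) = w := by
    rw [← Module.End.mul_apply, ← pow_succ', Nat.sub_add_cancel hm0, ht, Module.End.one_apply]
  nth_rewrite 1 [← h1]
  exact hiso _ _

lemma adj_right (hiso : ∀ u w, B (t u) (t w) = B u w) (ht : t ^ m = 1) (hm0 : 0 < m) (u w : V) :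
    B ((t ^ (m - 1)) u) w = B u (t w) := by
  have h1 : t ((t ^ (m - 1)) u) = u := by
    rw [← Module.End.mul_apply, ← pow_succ', Nat.sub_add_cancel hm0, ht, Module.End.one_apply]
  nth_rewrite 2 [← h1]
  exact (hiso _ _).symm

/-- `A = t - t⁻¹` is skew-adjoint -/
lemma skew_adj (hiso : ∀ u w, B (t u) (t w) = B u w) (ht : t ^ m = 1) (hm0 : 0 < m) (u w : V) :
    B (skewA t m u) w = - B u (skewA t m w) := by
  unfold skewA
  rw [LinearMap.sub_apply, LinearMap.sub_apply, map_sub, LinearMap.sub_apply, map_sub,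
    adj_left hiso ht hm0, adj_right hiso ht hm0]
  ring

lemma fix_orth_mov (hiso : ∀ u w, B (t u) (t w) = B u w) (hm : (m : F) ≠ 0) {x y : V}
    (hx : x ∈ fixS t) (hy : y ∈ movS t m) : B x y = 0 := by
  rw [mem_fixS] at hx
  rw [mem_movS] at hy
  have h1 : B x (avgP t m y) = (m : F) * B x y := by
    unfold avgP
    rw [LinearMap.sum_apply, map_sum]
    have : ∀ i ∈ Finset.range m, B x ((t ^ i) y) = B x y := by
      intro i _
      nth_rewrite 1 [← pow_fix hx i]
      exact iso_pow hiso i x y
    rw [Finset.sum_congr rfl this, Finset.sum_const, Finset.card_range, nsmul_eq_mul]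
  rw [hy, map_zero] at h1
  rcases mul_eq_zero.mp h1.symm with h | h
  · exact absurd h hm
  · exact h

lemma mov_orth_fix (hiso : ∀ u w, B (t u) (t w) = B u w) (hm : (m : F) ≠ 0) {x y : V}
    (hx : x ∈ fixS t) (hy : y ∈ movS t m) : B y x = 0 := by
  rw [mem_fixS] at hx
  rw [mem_movS] at hy
  have h1 : B (avgP t m y) x = (m : F) * B y x := by
    unfold avgP
    rw [LinearMap.sum_apply, map_sum, LinearMap.sum_apply]
    have : ∀ i ∈ Finset.range m, B ((t ^ i) y) x = B y x := by
      intro i _
      have h3 := iso_pow hiso i y x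
      rw [pow_fix hx i] at h3
      exact h3
    rw [Finset.sum_congr rfl this, Finset.sum_const, Finset.card_range, nsmul_eq_mul]
  rw [hy, map_zero, LinearMap.zero_apply] at h1
  rcases mul_eq_zero.mp h1.symm with h | h
  · exact absurd h hm
  · exact h

/-- `B` is (left) nondegenerate on the fixed space -/
lemma nondeg_fix (hiso : ∀ u w, B (t u) (t w) = B u w) (ht : t ^ m = 1) (hm : (m : F) ≠ 0)
    (hnd : ∀ x, (∀ y, B x y = 0) → x = 0) {x : V} (hx : x ∈ fixS t)
    (h : ∀ y ∈ fixS t, B x y = 0) : x = 0 := by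
  apply hnd
  intro y
  obtain ⟨y₁, hy₁, y₂, hy₂, rfl⟩ := fix_sup_mov ht hm y
  rw [map_add, h y₁ hy₁, fix_orth_mov hiso hm hx hy₂, add_zero]

/-- `B` is (left) nondegenerate on the moved space -/
lemma nondeg_mov (hiso : ∀ u w, B (t u) (t w) = B u w) (ht : t ^ m = 1) (hm : (m : F) ≠ 0)
    (hnd : ∀ x, (∀ y, B x y = 0) → x = 0) {x : V} (hx : x ∈ movS t m)
    (h : ∀ y ∈ movS t m, B x y = 0) : x = 0 := by
  apply hnd
  intro y
  obtain ⟨y₁, hy₁, y₂, hy₂, rfl⟩ := fix_sup_mov ht hm y
  rw [map_add, h y₂ hy₂, mov_orth_fix hiso hm hy₁ hx, add_zero]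

lemma skewA_comm (g : Module.End F V) (hg : g * t = t * g) :
    g * skewA t m = skewA t m * g := by
  unfold skewA
  rw [mul_sub, sub_mul, hg, ((Commute.pow_right (show Commute g t from hg) (m - 1))).eq]

lemma skewA_mov : ∀ x ∈ movS t m, skewA t m x ∈ movS t m := by
  apply mov_invt
  unfold skewA
  rw [sub_mul, mul_sub, ← pow_succ, ← pow_succ']

/-- `A` is injective on the moved space -/
lemma skewA_inj (h2 : (2 : F) ≠ 0) (ht : t ^ m = 1) (hodd : Odd m) (hm : (m : F) ≠ 0)
    {x : V} (hx : x ∈ movS t m) (hA : skewA t m x = 0) : x = 0 := by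
  have hm0 : 0 < m := hodd.pos
  unfold skewA at hA
  rw [LinearMap.sub_apply, sub_eq_zero] at hA
  -- `t² x = x`
  have h1 : t (t x) = x := by
    rw [hA, ← Module.End.mul_apply, ← pow_succ', Nat.sub_add_cancel hm0, ht, Module.End.one_apply]
  -- `z = t x + x` is fixed and moved
  have hz1 : t x + x ∈ fixS t := by
    rw [mem_fixS, map_add, h1, add_comm]
  have htx : t x ∈ movS t m := mov_invt (g := t) rfl x hx
  have hz2 : t x + x ∈ movS t m := Submodule.add_mem _ htx hx
  have hz := fix_inf_mov hm hz1 hz2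
  have h3 : t x = -x := eq_neg_of_add_eq_zero_left hz
  have h4 : ∀ i : ℕ, (t ^ i) x = (-1 : F) ^ i • x := by
    intro i
    induction i with
    | zero => simp
    | succ i ih =>
      rw [pow_succ', Module.End.mul_apply, ih, map_smul, h3, pow_succ]
      simp
  have h5 := h4 m
  rw [ht, Module.End.one_apply, hodd.neg_one_pow, neg_one_smul] at h5
  have h6 : (2 : F) • x = 0 := by
    rw [two_smul]
    nth_rewrite 1 [h5]
    simp
  rcases smul_eq_zero.mp h6 with h | h
  · exact absurd h h2
  · exact h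

/-- the twisted form is (left) nondegenerate on the moved space -/
lemma nondeg_twist (h2 : (2 : F) ≠ 0) (hiso : ∀ u w, B (t u) (t w) = B u w) (ht : t ^ m = 1)
    (hodd : Odd m) (hm : (m : F) ≠ 0) (hnd : ∀ x, (∀ y, B x y = 0) → x = 0) {x : V}
    (hx : x ∈ movS t m) (h : ∀ y ∈ movS t m, twist B t m x y = 0) : x = 0 := by
  apply skewA_inj h2 ht hodd hm hx
  exact nondeg_mov hiso ht hm hnd (skewA_mov x hx) h

lemma twist_alt_of_symm (h2 : (2 : F) ≠ 0) (hiso : ∀ u w, B (t u) (t w) = B u w)
    (ht : t ^ m = 1) (hm0 : 0 < m) (hs : ∀ u w, B u w = B w u) (x : V) : twist B t m x x = 0 := by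
  have h1 := skew_adj hiso ht hm0 x x
  rw [hs x (skewA t m x)] at h1
  rw [twist_apply]
  have h3 : (2 : F) * B (skewA t m x) x = 0 := by
    rw [two_mul]
    nth_rewrite 1 [h1]
    ring
  rcases mul_eq_zero.mp h3 with h | h
  · exact absurd h h2
  · exact h

lemma twist_symm_of_alt (hiso : ∀ u w, B (t u) (t w) = B u w) (ht : t ^ m = 1) (hm0 : 0 < m)
    (hs : ∀ u w, B u w = - B w u) (x y : V) : twist B t m x y = twist B t m y x := by
  rw [twist_apply, twist_apply, skew_adj hiso ht hm0 x y, hs x (skewA t m y), neg_neg]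

lemma twist_iso {g : Module.End F V} (hg : g * t = t * g) (hgiso : ∀ u w, B (g u) (g w) = B u w)
    (x y : V) : twist B t m (g x) (g y) = twist B t m x y := by
  rw [twist_apply, twist_apply, ← Module.End.mul_apply, ← skewA_comm g hg, Module.End.mul_apply,
    hgiso]

end forms

end Cfsg.Agent.Lib.Helper39.BC
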