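import Mathlib
import Cfsg.Agent.Lib.Helper39.SpT2

set_option autoImplicit false
set_option linter.unusedSimpArgs false
set_option linter.unusedVariables false
set_option linter.unnecessarySeqFocus false
set_option linter.unusedSectionVars false
set_option linter.style.haveILetI false
set_option maxHeartbeats 800000

/-!
# Orthogonal blocks: isometries of nondegenerate symmetric bilinear spaces
-/

namespace Cfsg.Agent.Lib.Helper39.BC

open Module Matrix
open LinearMap (BilinForm)
open Cfsg.Agent.Lib.Helper39.SpT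

section defs
variable {F : Type*} [Field F]

/-- `T` is an isometry of the nondegenerate symmetric bilinear form `β` -/
structure OIso {W : Type*} [AddCommGroup W] [Module F W] (β : BilinForm F W)
    (T : Module.End F W) : Prop where
  symm : ∀ u w, β u w = β w u
  nd : ∀ x, (∀ y, β x y = 0) → x = 0
  iso : ∀ u w, β (T u) (T w) = β u w

variable {W : Type*} [AddCommGroup W] [Module F W] {β : BilinForm F W}

lemma OIso.one (hs : ∀ u w, β u w = β w u) (hnd : ∀ x, (∀ y, β x y = 0) → x = 0) :
    OIso β (1 : Module.End F W) := ⟨hs, hnd, fun _ _ => rfl⟩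

lemma OIso.mul {S T : Module.End F W} (hS : OIso β S) (hT : OIso β T) : OIso β (S * T) :=
  ⟨hS.symm, hS.nd, fun u w => by
    rw [Module.End.mul_apply, Module.End.mul_apply, hS.iso, hT.iso]⟩

lemma OIso.pow {T : Module.End F W} (h : OIso β T) (c : ℕ) : OIso β (T ^ c) := by
  refine ⟨h.symm, h.nd, ?_⟩
  induction c with
  | zero => intro u w; simp
  | succ c ih =>
    intro u w
    rw [pow_succ, Module.End.mul_apply, Module.End.mul_apply, ih, h.iso]

lemma OIso.neg {T : Module.End F W} (h : OIso β T) : OIso β (-T) := by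
  refine ⟨h.symm, h.nd, ?_⟩
  intro u w
  simp only [LinearMap.neg_apply, map_neg, neg_neg]
  exact h.iso u w

variable {W₁ W₂ : Type*} [AddCommGroup W₁] [Module F W₁] [AddCommGroup W₂] [Module F W₂]

lemma OIso.prod {β₁ : BilinForm F W₁} {β₂ : BilinForm F W₂} {T₁ : Module.End F W₁}
    {T₂ : Module.End F W₂} (h₁ : OIso β₁ T₁) (h₂ : OIso β₂ T₂) :
    OIso (prodForm β₁ β₂) (T₁.prodMap T₂) where
  symm := by
    intro u w
    rw [prodForm_apply, prodForm_apply, h₁.symm, h₂.symm]
  nd := by
    intro x hx
    have h1 : x.1 = 0 := by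
      apply h₁.nd
      intro y
      have := hx (y, 0)
      rw [prodForm_apply] at this
      simpa using this
    have h2 : x.2 = 0 := by
      apply h₂.nd
      intro y
      have := hx (0, y)
      rw [prodForm_apply] at this
      simpa using this
    exact Prod.ext h1 h2
  iso := by
    intro u w
    rw [prodForm_apply, prodForm_apply]
    simp only [LinearMap.prodMap_apply]
    rw [h₁.iso, h₂.iso]

end defs

section dot
variable {F : Type*} [Field F]

/-- the dot product on `Fin k → F` -/
noncomputable def dotB (k : ℕ) (F : Type*) [Field F] : BilinForm F (Fin k → F) :=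
  Matrix.toBilin' (1 : Matrix (Fin k) (Fin k) F)

lemma dotB_apply (k : ℕ) (x y : Fin k → F) : dotB k F x y = x ⬝ᵥ y := by
  rw [dotB, Matrix.toBilin'_apply', Matrix.one_mulVec]

lemma dotB_symm (k : ℕ) (x y : Fin k → F) : dotB k F x y = dotB k F y x := by
  rw [dotB_apply, dotB_apply, dotProduct_comm]

lemma dotB_nd (k : ℕ) (x : Fin k → F) (h : ∀ y, dotB k F x y = 0) : x = 0 := by
  funext i
  have := h (Pi.single i 1)
  rw [dotB_apply, dotProduct_single, mul_one] at this
  exact this

lemma oiso_dot_one (k : ℕ) : OIso (dotB k F) (1 : Module.End F (Fin k → F)) :=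
  OIso.one (dotB_symm k) (dotB_nd k)

lemma finrank_dot (k : ℕ) : finrank F (Fin k → F) = k := by
  rw [Module.finrank_fintype_fun_eq_card, Fintype.card_fin]

/-- the rotation by a quarter turn -/
noncomputable def rot (F : Type*) [Field F] : Module.End F (Fin 2 → F) :=
  Matrix.toLin' !![0, -1; 1, 0]

lemma rot_apply (x : Fin 2 → F) : rot F x = ![-x 1, x 0] := by
  funext i
  fin_cases i <;> simp [rot, Matrix.toLin'_apply, Matrix.mulVec, dotProduct, Fin.sum_univ_two]

lemma rot_sq : rot F * rot F = -1 := by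
  apply LinearMap.ext
  intro x
  rw [Module.End.mul_apply, rot_apply, rot_apply]
  funext i
  fin_cases i <;> simp

lemma oiso_rot : OIso (dotB 2 F) (rot F) := by
  refine ⟨dotB_symm 2, dotB_nd 2, ?_⟩
  intro u w
  rw [dotB_apply, dotB_apply, rot_apply, rot_apply]
  simp only [dotProduct, Fin.sum_univ_two]
  simp
  ring

end dot

section unip
variable {F : Type*} [Field F]

/-- the Gram matrix of the three-dimensional space carrying a unipotent isometry -/
def gram3 (F : Type*) [Field F] : Matrix (Fin 3) (Fin 3) F := !![0, 0, 1; 0, 1, 0; 1, 0, 0]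

/-- the unipotent matrix -/
noncomputable def unip3 (F : Type*) [Field F] : Matrix (Fin 3) (Fin 3) F :=
  !![1, 1, -(1 / 2); 0, 1, -1; 0, 0, 1]

lemma unip3_pow (h2 : (2 : F) ≠ 0) (j : ℕ) :
    unip3 F ^ j = !![1, (j : F), -((j : F) ^ 2 / 2); 0, 1, -(j : F); 0, 0, 1] := by
  induction j with
  | zero =>
    rw [pow_zero]
    ext a b
    fin_cases a <;> fin_cases b <;> simp
  | succ j ih =>
    rw [pow_succ, ih, unip3]
    ext a b
    fin_cases a <;> fin_cases b <;>
      simp [Matrix.mul_apply, Fin.sum_univ_three] <;> field_simp <;> ring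

lemma unip3_gram (h2 : (2 : F) ≠ 0) : (unip3 F)ᵀ * gram3 F * unip3 F = gram3 F := by
  unfold unip3 gram3
  ext a b
  fin_cases a <;> fin_cases b <;>
    simp [Matrix.mul_apply, Fin.sum_univ_three] <;> field_simp <;> ring

lemma dot_form_gen' {ι : Type*} [Fintype ι] (M G : Matrix ι ι F) (u v : ι → F) :
    (M *ᵥ u) ⬝ᵥ (G *ᵥ (M *ᵥ v)) = u ⬝ᵥ ((Mᵀ * G * M) *ᵥ v) := by
  rw [← Matrix.mulVec_mulVec, ← Matrix.mulVec_mulVec, Matrix.dotProduct_mulVec u Mᵀ,
    Matrix.vecMul_transpose]

/-- the form with Gram matrix `gram3` -/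
noncomputable def form3 (F : Type*) [Field F] : BilinForm F (Fin 3 → F) := Matrix.toBilin' (gram3 F)

lemma gram3_det : (gram3 F).det = -1 := by
  unfold gram3
  rw [Matrix.det_fin_three]
  simp

lemma oiso_unip3 (h2 : (2 : F) ≠ 0) : OIso (form3 F) (Matrix.toLin' (unip3 F)) := by
  refine ⟨?_, ?_, ?_⟩
  · intro u w
    have hs : (gram3 F)ᵀ = gram3 F := by
      unfold gram3
      ext a b
      fin_cases a <;> fin_cases b <;> rfl
    have : (form3 F).IsSymm := (Matrix.isSymm_toBilin'_iff_isSymm).2 hs
    exact this.eq u w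
  · have hnd : (form3 F).Nondegenerate := by
      apply LinearMap.BilinForm.nondegenerate_toBilin'_of_det_ne_zero'
      rw [gram3_det]
      simp
    exact hnd.1
  · intro u w
    unfold form3
    rw [Matrix.toBilin'_apply', Matrix.toBilin'_apply', Matrix.toLin'_apply, Matrix.toLin'_apply]
    rw [dot_form_gen', unip3_gram h2]

lemma toLin_unip3_pow_eq_one_iff (h2 : (2 : F) ≠ 0) (p : ℕ) [CharP F p] (j : ℕ) :
    (Matrix.toLin' (unip3 F)) ^ j = 1 ↔ p ∣ j := by
  rw [← Matrix.toLin'_pow, unip3_pow h2]
  constructor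
  · intro h
    have h1 := congrArg (fun f : Module.End F (Fin 3 → F) => f (Pi.single 1 1) 0) h
    simp only [Matrix.toLin'_apply, Module.End.one_apply] at h1
    rw [Matrix.mulVec_single_one] at h1
    simp at h1
    exact (CharP.cast_eq_zero_iff F p j).mp h1
  · intro h
    have h1 : (j : F) = 0 := (CharP.cast_eq_zero_iff F p j).mpr h
    rw [h1]
    have : (!![1, (0 : F), -((0 : F) ^ 2 / 2); 0, 1, -(0 : F); 0, 0, 1] : Matrix (Fin 3) (Fin 3) F)
        = 1 := by
      ext a b
      fin_cases a <;> fin_cases b <;> simp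
    rw [this, Matrix.toLin'_one]
    rfl

end unip

end Cfsg.Agent.Lib.Helper39.BC
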