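import Mathlib

set_option autoImplicit false
set_option linter.unusedSimpArgs false
set_option linter.unusedVariables false
set_option linter.unnecessarySeqFocus false
set_option linter.unusedSectionVars false
set_option linter.style.haveILetI false

/-!
# Lower bounds for groups generated by a chain of elements; groups generated by commuting
involutions
-/

namespace Cfsg.Agent.Lib.Helper39.TwoRk

section Chain

variable {G X : Type*} [Group G]

/-- the stabiliser of a point for an action given by a plain function -/
def stabA (a : G → X → X) (h1 : ∀ x, a 1 x = x) (hm : ∀ g h x, a (g * h) x = a g (a h x))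
    (x : X) : Subgroup G where
  carrier := {g | a g x = x}
  mul_mem' := by
    intro g h hg hh
    simp only [Set.mem_ofPred_eq] at hg hh ⊢
    rw [hm, hh, hg]
  one_mem' := h1 x
  inv_mem' := by
    intro g hg
    simp only [Set.mem_ofPred_eq] at hg ⊢
    calc a g⁻¹ x = a g⁻¹ (a g x) := by rw [hg]
      _ = a (g⁻¹ * g) x := (hm _ _ _).symm
      _ = x := by rw [inv_mul_cancel, h1]

lemma mem_stabA {a : G → X → X} {h1 : ∀ x, a 1 x = x}
    {hm : ∀ g h x, a (g * h) x = a g (a h x)} {x : X} {g : G} :
    g ∈ stabA a h1 hm x ↔ a g x = x := Iff.rfl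

lemma two_mul_card_le_of_lt [Finite G] {A A' : Subgroup G} (hle : A ≤ A') (hne : A ≠ A') :
    2 * Nat.card A ≤ Nat.card A' := by
  obtain ⟨k, hk⟩ := Subgroup.card_dvd_of_le hle
  have hA : 0 < Nat.card A := Nat.card_pos
  have hA' : 0 < Nat.card A' := Nat.card_pos
  have hk1 : k ≠ 1 := by
    intro h
    rw [h, mul_one] at hk
    exact hne (Subgroup.eq_of_le_of_card_ge hle (le_of_eq hk))
  have hk0 : k ≠ 0 := by
    intro h
    rw [h, mul_zero] at hk
    omega
  have hk2 : 2 ≤ k := by omega
  rw [hk, mul_comm]
  exact Nat.mul_le_mul_left _ hk2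

/-- a chain of generators, each moving a point fixed by the previous ones, generates a group
of order at least `2 ^ n` over the base group -/
theorem chain_card [Finite G] (a : G → X → X) (h1 : ∀ x, a 1 x = x)
    (hm : ∀ g h x, a (g * h) x = a g (a h x)) (H₀ : Subgroup G) (t : ℕ → G) (x : ℕ → X) :
    ∀ n : ℕ, (∀ i < n, a (t i) (x i) ≠ x i) → (∀ i < n, ∀ j < i, a (t j) (x i) = x i) →
      (∀ i < n, ∀ g ∈ H₀, a g (x i) = x i) →
      2 ^ n * Nat.card H₀ ≤
        Nat.card (H₀ ⊔ Subgroup.closure {g | ∃ j < n, t j = g} : Subgroup G) := by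
  intro n
  induction n with
  | zero =>
    intro _ _ _
    have : {g : G | ∃ j < 0, t j = g} = ∅ := by
      ext g
      simp
    rw [this, Subgroup.closure_empty, sup_bot_eq]
    simp
  | succ n ih =>
    intro hmove hfix hfix0
    have ih' := ih (fun i hi => hmove i (by omega)) (fun i hi j hj => hfix i (by omega) j hj)
      (fun i hi g hg => hfix0 i (by omega) g hg)
    set A : Subgroup G := H₀ ⊔ Subgroup.closure {g | ∃ j < n, t j = g} with hA
    set A' : Subgroup G := H₀ ⊔ Subgroup.closure {g | ∃ j < n + 1, t j = g} with hA'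
    have hle : A ≤ A' := by
      apply sup_le_sup_left
      apply Subgroup.closure_mono
      rintro g ⟨j, hj, rfl⟩
      exact ⟨j, by omega, rfl⟩
    have hAstab : A ≤ stabA a h1 hm (x n) := by
      apply sup_le
      · intro g hg
        exact hfix0 n (by omega) g hg
      · rw [Subgroup.closure_le]
        rintro g ⟨j, hj, rfl⟩
        exact hfix n (by omega) j hj
    have htn : t n ∈ A' := by
      apply Subgroup.mem_sup_right
      apply Subgroup.subset_closure
      exact ⟨n, by omega, rfl⟩
    have hne : A ≠ A' := by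
      intro h
      have : t n ∈ stabA a h1 hm (x n) := hAstab (h ▸ htn)
      exact hmove n (by omega) this
    have h2 := two_mul_card_le_of_lt hle hne
    calc 2 ^ (n + 1) * Nat.card H₀ = 2 * (2 ^ n * Nat.card H₀) := by ring
      _ ≤ 2 * Nat.card A := Nat.mul_le_mul_left _ ih'
      _ ≤ Nat.card A' := h2

end Chain

section Invol

variable {G : Type*} [Group G]

/-- a group generated by pairwise commuting involutions consists of involutions -/
theorem sq_eq_one_of_mem_closure {T : Set G} (hc : ∀ x ∈ T, ∀ y ∈ T, x * y = y * x)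
    (hs : ∀ x ∈ T, x * x = 1) : ∀ x ∈ Subgroup.closure T, x * x = 1 := by
  have hcomm : ∀ x ∈ Subgroup.closure T, ∀ y ∈ Subgroup.closure T, x * y = y * x := by
    intro x hx y hy
    letI := Subgroup.closureCommGroupOfComm hc
    have := mul_comm (⟨x, hx⟩ : Subgroup.closure T) ⟨y, hy⟩
    exact congrArg Subtype.val this
  intro x hx
  induction hx using Subgroup.closure_induction with
  | mem x hx => exact hs x hx
  | one => simp
  | mul x y hx hy ihx ihy =>
    calc x * y * (x * y) = x * (y * x) * y := by simp only [mul_assoc]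
      _ = x * (x * y) * y := by rw [hcomm y hy x hx]
      _ = (x * x) * (y * y) := by simp only [mul_assoc]
      _ = 1 := by rw [ihx, ihy, one_mul]
  | inv x hx ih =>
    rw [← mul_inv_rev, ih, inv_one]

end Invol

end Cfsg.Agent.Lib.Helper39.TwoRk
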