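import Mathlib
import Cfsg.Agent.Lib.Helper39.TwoRkH
import Cfsg.Agent.Lib.Helper37.OmegaCenter3
import Cfsg.Agent.Lib.Helper37.OmegaRank
import Cfsg.Agent.Lib.Helper43.OrthCardForms

set_option autoImplicit false
set_option linter.unusedSimpArgs false
set_option linter.unusedVariables false
set_option linter.unnecessarySeqFocus false
set_option linter.unusedSectionVars false
set_option linter.style.haveILetI false

/-!
# A large elementary abelian 2-subgroup of `Ω_{2m+1}(q)`, `q` odd

Products of pairs of reflections in the vectors of an orthogonal basis (of equal norms)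
generate an elementary abelian 2-subgroup of order at least `2 ^ (2m-1)` of `Ω`.
-/

namespace Cfsg.Agent.Lib.Helper39.TwoRk

open Module Matrix QuadraticMap
open Cfsg.Agent.Lib.Helper8 Cfsg.Agent.Lib.Helper13 Cfsg.Agent.Lib.Helper37
open Cfsg.Agent.Lib.Helper43

section General

variable {ι : Type} [Fintype ι] [DecidableEq ι] {F : Type*} [Field F]
variable (Q : QuadraticForm F (ι → F))

lemma act_refl_orth (a : ι → F) (ha : Q a ≠ 0) (x : ι → F) (h : polar ⇑Q a x = 0) :
    act Q (reflElt Q a ha) x = x := by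
  rw [act_refl, h, mul_zero, zero_smul, sub_zero]

lemma act_refl_self (a : ι → F) (ha : Q a ≠ 0) : act Q (reflElt Q a ha) a = -a := by
  rw [act_refl, polar_self]
  have h : (Q a)⁻¹ * (2 • Q a) = 2 := by
    rw [nsmul_eq_mul]
    field_simp
    norm_num
  rw [h, two_smul]
  abel

lemma act_neg (z : ↥(Cfsg.isometryGroup F ⇑Q)) (x : ι → F) : act Q z (-x) = -act Q z x := by
  unfold act
  rw [Matrix.mulVec_neg]

lemma refl_commute_of_orth (a b : ι → F) (ha : Q a ≠ 0) (hb : Q b ≠ 0)
    (h : polar ⇑Q a b = 0) : Commute (reflElt Q a ha) (reflElt Q b hb) := by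
  have h' : polar ⇑Q b a = 0 := by rw [polar_comm]; exact h
  apply reflElt_ext
  intro x
  rw [act_mul, act_mul, act_refl Q b hb x, act_refl Q a ha x, act_refl, act_refl]
  rw [polar_sub_right, polar_sub_right, polar_smul_right, polar_smul_right, h, h']
  simp only [smul_eq_mul, mul_zero, sub_zero]
  abel

end General

section Odd

variable (m : ℕ) (F : Type*) [Field F]

/-- the index type of the odd-dimensional space -/
abbrev II (m : ℕ) : Type := Unit ⊕ (Fin m ⊕ Fin m)

/-- the hyperbolic pairs -/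
def eV (i : Fin m) : II m → F := Pi.single (Sum.inr (Sum.inl i)) 1

def fV (i : Fin m) : II m → F := Pi.single (Sum.inr (Sum.inr i)) 1

theorem odd_hyp : HypFam (oddForm m F) m (eV m F) (fV m F) :=
  let h := odd_family m F
  ⟨h.qe, h.qf, h.ee, h.ff, h.ef⟩

/-- the anisotropic vector -/
def b0 : II m → F := Pi.single (Sum.inl ()) 1

lemma b0_eq : b0 m F = LinearMap.single F (fun _ : II m => F) (Sum.inl ()) 1 := rfl

lemma Q_b0 : oddForm m F (b0 m F) = 1 := by
  rw [b0_eq, (odd_family m F).qj]
  simp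

lemma polar_e_b0 (i : Fin m) : polar ⇑(oddForm m F) (eV m F i) (b0 m F) = 0 := by
  rw [b0_eq]
  exact (odd_family m F).ej i 1

lemma polar_f_b0 (i : Fin m) : polar ⇑(oddForm m F) (fV m F i) (b0 m F) = 0 := by
  rw [b0_eq]
  exact (odd_family m F).fj i 1

/-- combinations inside one hyperbolic plane -/
def comb (i : Fin m) (s t : F) : II m → F := s • eV m F i + t • fV m F i

lemma Q_comb (i : Fin m) (s t : F) : oddForm m F (comb m F i s t) = s * t :=
  (odd_hyp m F).Q_comb i s t

lemma polar_comb (i j : Fin m) (s t s' t' : F) :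
    polar ⇑(oddForm m F) (comb m F i s t) (comb m F j s' t') =
      if i = j then s * t' + t * s' else 0 := by
  have h := odd_hyp m F
  unfold comb
  rw [polar_add_left, polar_add_right, polar_add_right, polar_smul_left, polar_smul_left,
    polar_smul_left, polar_smul_left, polar_smul_right, polar_smul_right, polar_smul_right,
    polar_smul_right, h.ee, h.ff, h.ef, polar_comm ⇑(oddForm m F) (fV m F i) (eV m F j), h.ef]
  by_cases hij : i = j
  · subst hij
    simp
  · have hji : ¬ j = i := fun h => hij h.symm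
    simp [hij, hji]

lemma polar_b0_comb (i : Fin m) (s t : F) :
    polar ⇑(oddForm m F) (b0 m F) (comb m F i s t) = 0 := by
  unfold comb
  rw [polar_add_right, polar_smul_right, polar_smul_right,
    polar_comm ⇑(oddForm m F) (b0 m F) (eV m F i), polar_comm ⇑(oddForm m F) (b0 m F) (fV m F i),
    polar_e_b0, polar_f_b0]
  simp

/-- the orthogonal basis -/
def bv : II m → (II m → F)
  | Sum.inl _ => b0 m F
  | Sum.inr (Sum.inl i) => comb m F i 1 1
  | Sum.inr (Sum.inr i) => comb m F i 1 (-1)

lemma Q_bv_ne (k : II m) : oddForm m F (bv m F k) ≠ 0 := by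
  rcases k with u | i | i
  · show oddForm m F (b0 m F) ≠ 0
    rw [Q_b0]; exact one_ne_zero
  · show oddForm m F (comb m F i 1 1) ≠ 0
    rw [Q_comb]; simp
  · show oddForm m F (comb m F i 1 (-1)) ≠ 0
    rw [Q_comb]; simp

lemma polar_bv (h2 : (2 : F) ≠ 0) (k l : II m) (hkl : k ≠ l) :
    polar ⇑(oddForm m F) (bv m F k) (bv m F l) = 0 := by
  rcases k with u | i | i <;> rcases l with u' | j | j
  · exact absurd rfl hkl
  · exact polar_b0_comb m F j 1 1
  · exact polar_b0_comb m F j 1 (-1)
  · show polar ⇑(oddForm m F) (comb m F i 1 1) (b0 m F) = 0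
    rw [polar_comm]; exact polar_b0_comb m F i 1 1
  · show polar ⇑(oddForm m F) (comb m F i 1 1) (comb m F j 1 1) = 0
    rw [polar_comb, if_neg]
    intro h; apply hkl; rw [h]
  · show polar ⇑(oddForm m F) (comb m F i 1 1) (comb m F j 1 (-1)) = 0
    rw [polar_comb]
    split_ifs <;> ring
  · show polar ⇑(oddForm m F) (comb m F i 1 (-1)) (b0 m F) = 0
    rw [polar_comm]; exact polar_b0_comb m F i 1 (-1)
  · show polar ⇑(oddForm m F) (comb m F i 1 (-1)) (comb m F j 1 1) = 0
    rw [polar_comb]
    split_ifs <;> ring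
  · show polar ⇑(oddForm m F) (comb m F i 1 (-1)) (comb m F j 1 (-1)) = 0
    rw [polar_comb, if_neg]
    intro h; apply hkl; rw [h]

/-- the basic reflections -/
noncomputable def RR (k : II m) : ↥(Cfsg.isometryGroup F ⇑(oddForm m F)) :=
  reflElt (oddForm m F) (bv m F k) (Q_bv_ne m F k)

lemma RR_commute (h2 : (2 : F) ≠ 0) (k l : II m) : Commute (RR m F k) (RR m F l) := by
  by_cases hkl : k = l
  · subst hkl; exact Commute.refl _
  · exact refl_commute_of_orth _ _ _ _ _ (polar_bv m F h2 k l hkl)

lemma RR_sq (k : II m) : RR m F k * RR m F k = 1 :=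
  Cfsg.Agent.Lib.Helper37.reflElt_mul_self _ _ _

lemma act_RR_self (k : II m) : act (oddForm m F) (RR m F k) (bv m F k) = -bv m F k :=
  act_refl_self _ _ _

lemma act_RR_of_ne (h2 : (2 : F) ≠ 0) (k l : II m) (hkl : k ≠ l) :
    act (oddForm m F) (RR m F k) (bv m F l) = bv m F l :=
  act_refl_orth _ _ _ _ (polar_bv m F h2 k l hkl)

/-- products of two basic reflections -/
noncomputable def PP (k l : II m) : ↥(Cfsg.isometryGroup F ⇑(oddForm m F)) :=
  RR m F k * RR m F l

lemma PP_commute (h2 : (2 : F) ≠ 0) (k l k' l' : II m) :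
    Commute (PP m F k l) (PP m F k' l') :=
  ((RR_commute m F h2 k k').mul_right (RR_commute m F h2 k l')).mul_left
    ((RR_commute m F h2 l k').mul_right (RR_commute m F h2 l l'))

lemma PP_sq (h2 : (2 : F) ≠ 0) (k l : II m) : PP m F k l * PP m F k l = 1 := by
  unfold PP
  calc RR m F k * RR m F l * (RR m F k * RR m F l)
      = RR m F k * (RR m F l * RR m F k) * RR m F l := by simp only [mul_assoc]
    _ = RR m F k * (RR m F k * RR m F l) * RR m F l := by
        rw [(RR_commute m F h2 l k).eq]
    _ = (RR m F k * RR m F k) * (RR m F l * RR m F l) := by simp only [mul_assoc]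
    _ = 1 := by rw [RR_sq, RR_sq, one_mul]

lemma act_PP_fix (h2 : (2 : F) ≠ 0) (k l j : II m) (hk : k ≠ j) (hl : l ≠ j) :
    act (oddForm m F) (PP m F k l) (bv m F j) = bv m F j := by
  unfold PP
  rw [act_mul, act_RR_of_ne m F h2 l j hl, act_RR_of_ne m F h2 k j hk]

lemma act_PP_move (h2 : (2 : F) ≠ 0) (k l : II m) (hkl : k ≠ l) :
    act (oddForm m F) (PP m F k l) (bv m F l) = -bv m F l := by
  unfold PP
  rw [act_mul, act_RR_self, act_neg, act_RR_of_ne m F h2 k l hkl]

lemma bv_ne_neg (h2 : (2 : F) ≠ 0) (k : II m) : -bv m F k ≠ bv m F k := by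
  intro h
  have h0 : bv m F k = 0 := by
    have h3 : (2 : F) • bv m F k = 0 := by
      rw [two_smul]
      nth_rewrite 1 [← h]
      simp
    rcases smul_eq_zero.mp h3 with h | h
    · exact absurd h h2
    · exact h
  have := Q_bv_ne m F k
  rw [h0, map_zero] at this
  exact this rfl

lemma Q_bv_inl_eq (i : Fin m) :
    oddForm m F (bv m F (Sum.inr (Sum.inl i))) = oddForm m F (bv m F (Sum.inl ())) := by
  show oddForm m F (comb m F i 1 1) = oddForm m F (b0 m F)
  rw [Q_comb, Q_b0, one_mul]

lemma Q_bv_inr_eq (i j : Fin m) :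
    oddForm m F (bv m F (Sum.inr (Sum.inr i))) = oddForm m F (bv m F (Sum.inr (Sum.inr j))) := by
  show oddForm m F (comb m F i 1 (-1)) = oddForm m F (comb m F j 1 (-1))
  rw [Q_comb, Q_comb]

end Odd

end Cfsg.Agent.Lib.Helper39.TwoRk
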