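import Mathlib
import Cfsg.Agent.Lib.Helper39.TwoRkI

set_option autoImplicit false
set_option linter.unusedSimpArgs false
set_option linter.unusedVariables false
set_option linter.unnecessarySeqFocus false
set_option linter.unusedSectionVars false
set_option linter.style.haveILetI false

/-!
# `PΩ_{2m+1}(q)`, `q` odd, `m ≥ 3`, has an elementary abelian 2-subgroup of order `≥ 2^(2m-1)`
-/

namespace Cfsg.Agent.Lib.Helper39.TwoRk

open Module Matrix QuadraticMap
open Cfsg.Agent.Lib.Helper8 Cfsg.Agent.Lib.Helper13 Cfsg.Agent.Lib.Helper37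
open Cfsg.Agent.Lib.Helper43

variable (m : ℕ) (F : Type*) [Field F]

/-- index in `Fin m` from a natural number -/
def idx (hm : 0 < m) (i : ℕ) : Fin m := ⟨i % m, Nat.mod_lt _ hm⟩

lemma idx_ne (hm : 0 < m) {a b : ℕ} (ha : a < m) (hb : b < m) (hab : a ≠ b) :
    idx m hm a ≠ idx m hm b := by
  intro h
  have := congrArg Fin.val h
  simp only [idx, Nat.mod_eq_of_lt ha, Nat.mod_eq_of_lt hb] at this
  exact hab this

/-- first family of generators -/
noncomputable def t1 (hm : 0 < m) (i : ℕ) : ↥(Cfsg.isometryGroup F ⇑(oddForm m F)) :=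
  PP m F (Sum.inl ()) (Sum.inr (Sum.inl (idx m hm i)))

/-- second family of generators -/
noncomputable def t2 (hm : 0 < m) (j : ℕ) : ↥(Cfsg.isometryGroup F ⇑(oddForm m F)) :=
  PP m F (Sum.inr (Sum.inr (idx m hm 0))) (Sum.inr (Sum.inr (idx m hm (j + 1))))

lemma odd_nondeg (h2 : (2 : F) ≠ 0) :
    (QuadraticMap.polarBilin (oddForm m F)).Nondegenerate :=
  (odd_family m F).nondegenerate (sq_nondegenerate F h2)

lemma t1_mem_omega (h2 : (2 : F) ≠ 0) (hm : 0 < m) (i : ℕ) :
    t1 m F hm i ∈ Cfsg.Omega F ⇑(oddForm m F) :=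
  refl_mul_refl_mem_omega (oddForm m F) (odd_nondeg m F h2) _ _ _ _ (Q_bv_inl_eq m F _)

lemma t2_mem_omega (h2 : (2 : F) ≠ 0) (hm : 0 < m) (j : ℕ) :
    t2 m F hm j ∈ Cfsg.Omega F ⇑(oddForm m F) :=
  refl_mul_refl_mem_omega (oddForm m F) (odd_nondeg m F h2) _ _ _ _ (Q_bv_inr_eq m F _ _)

/-- the elementary abelian subgroup of the isometry group -/
noncomputable def EO (hm : 0 < m) : Subgroup ↥(Cfsg.isometryGroup F ⇑(oddForm m F)) :=
  Subgroup.closure {g | ∃ j < m, t1 m F hm j = g} ⊔
    Subgroup.closure {g | ∃ j < m - 1, t2 m F hm j = g}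

lemma EO_eq_closure (hm : 0 < m) :
    EO m F hm = Subgroup.closure ({g | ∃ j < m, t1 m F hm j = g} ∪
      {g | ∃ j < m - 1, t2 m F hm j = g}) := by
  rw [EO, Subgroup.closure_union]

lemma EO_sq (h2 : (2 : F) ≠ 0) (hm : 0 < m) : ∀ x ∈ EO m F hm, x * x = 1 := by
  rw [EO_eq_closure]
  apply sq_eq_one_of_mem_closure
  · rintro x (⟨j, -, rfl⟩ | ⟨j, -, rfl⟩) y (⟨j', -, rfl⟩ | ⟨j', -, rfl⟩)
    · exact (PP_commute m F h2 _ _ _ _).eq
    · exact (PP_commute m F h2 _ _ _ _).eq
    · exact (PP_commute m F h2 _ _ _ _).eq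
    · exact (PP_commute m F h2 _ _ _ _).eq
  · rintro x (⟨j, -, rfl⟩ | ⟨j, -, rfl⟩)
    · exact PP_sq m F h2 _ _
    · exact PP_sq m F h2 _ _

lemma EO_le_omega (h2 : (2 : F) ≠ 0) (hm : 0 < m) :
    EO m F hm ≤ Cfsg.Omega F ⇑(oddForm m F) := by
  rw [EO_eq_closure, Subgroup.closure_le]
  rintro x (⟨j, -, rfl⟩ | ⟨j, -, rfl⟩)
  · exact t1_mem_omega m F h2 hm j
  · exact t2_mem_omega m F h2 hm j

lemma card_EO [Finite F] (h2 : (2 : F) ≠ 0) (hm : 0 < m) :
    2 ^ (2 * m - 1) ≤ Nat.card (EO m F hm) := by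
  have hone : ∀ x, act (oddForm m F) 1 x = x := act_one _
  have hmul : ∀ g h x, act (oddForm m F) (g * h) x
      = act (oddForm m F) g (act (oddForm m F) h x) := act_mul _
  -- stage 1
  have s1 := chain_card (act (oddForm m F)) hone hmul ⊥ (t1 m F hm)
    (fun i => bv m F (Sum.inr (Sum.inl (idx m hm i)))) m
    (by
      intro i hi
      show act (oddForm m F) (PP m F _ _) _ ≠ _
      rw [act_PP_move m F h2 _ _ (by simp)]
      exact bv_ne_neg m F h2 _)
    (by
      intro i hi j hj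
      show act (oddForm m F) (PP m F _ _) _ = _
      apply act_PP_fix m F h2
      · simp
      · intro h
        have h' : idx m hm j = idx m hm i := by
          simpa using h
        exact idx_ne m hm (by omega) hi (by omega) h')
    (by
      intro i hi g hg
      rw [Subgroup.mem_bot.mp hg]
      exact hone _)
  rw [bot_sup_eq, Subgroup.card_bot, mul_one] at s1
  -- stage 2
  have s2 := chain_card (act (oddForm m F)) hone hmul
    (Subgroup.closure {g | ∃ j < m, t1 m F hm j = g}) (t2 m F hm)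
    (fun j => bv m F (Sum.inr (Sum.inr (idx m hm (j + 1))))) (m - 1)
    (by
      intro i hi
      show act (oddForm m F) (PP m F _ _) _ ≠ _
      rw [act_PP_move m F h2 _ _ (by
        intro h
        have h' : idx m hm 0 = idx m hm (i + 1) := by simpa using h
        exact idx_ne m hm hm (by omega) (by omega) h')]
      exact bv_ne_neg m F h2 _)
    (by
      intro i hi j hj
      show act (oddForm m F) (PP m F _ _) _ = _
      apply act_PP_fix m F h2
      · intro h
        have h' : idx m hm 0 = idx m hm (i + 1) := by simpa using h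
        exact idx_ne m hm hm (by omega) (by omega) h'
      · intro h
        have h' : idx m hm (j + 1) = idx m hm (i + 1) := by simpa using h
        exact idx_ne m hm (by omega) (by omega) (by omega) h')
    (by
      intro i hi g hg
      have hle : Subgroup.closure {g | ∃ j < m, t1 m F hm j = g} ≤
          stabA (act (oddForm m F)) hone hmul
            (bv m F (Sum.inr (Sum.inr (idx m hm (i + 1))))) := by
        rw [Subgroup.closure_le]
        rintro x ⟨j, -, rfl⟩
        show act (oddForm m F) (PP m F _ _) _ = _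
        apply act_PP_fix m F h2
        · simp
        · simp
      exact hle hg)
  have hpow : 2 ^ (2 * m - 1) = 2 ^ (m - 1) * 2 ^ m := by
    rw [← pow_add]
    congr 1
    omega
  rw [hpow]
  calc 2 ^ (m - 1) * 2 ^ m
      ≤ 2 ^ (m - 1) * Nat.card (Subgroup.closure {g | ∃ j < m, t1 m F hm j = g}) :=
        Nat.mul_le_mul_left _ s1
    _ ≤ Nat.card (EO m F hm) := s2

/-- the centre of `Ω_{2m+1}(q)` is trivial -/
lemma center_omega_odd_eq_bot [Finite F] (h2 : (2 : F) ≠ 0) (hm : 3 ≤ m) :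
    Subgroup.center ↥(Cfsg.Omega F ⇑(oddForm m F)) = ⊥ := by
  have hneg : ¬ ∃ g : ↥(Cfsg.isometryGroup F ⇑(oddForm m F)),
      g ∈ Cfsg.Omega F ⇑(oddForm m F) ∧ ((g : GL (II m) F) : Matrix (II m) (II m) F) = -1 := by
    rintro ⟨g, hg, hgm⟩
    have hdet := det_eq_one_of_mem_omega (⇑(oddForm m F)) ⟨g, hg⟩
    simp only at hdet
    rw [hgm, Matrix.det_neg, Matrix.det_one, mul_one] at hdet
    have hcard : Fintype.card (II m) = 2 * m + 1 := by
      simp; ring
    rw [hcard, pow_succ, pow_mul] at hdet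
    have : (-1 : F) = 1 := by simpa using hdet
    apply h2
    linear_combination -this
  have hc := card_center_omega_one (oddForm m F) (odd_nondeg m F h2) (odd_hyp m F) hm
    (Or.inr hneg)
  exact (Subgroup.card_eq_one).mp hc

/-- the elementary abelian subgroup of `PΩ` -/
theorem exists_big_elemAb [Finite F] (h2 : (2 : F) ≠ 0) (hm : 3 ≤ m) :
    ∃ E : Subgroup (Cfsg.POmega F ⇑(oddForm m F)),
      (∀ x ∈ E, x * x = 1) ∧ 2 ^ (2 * m - 1) ≤ Nat.card E := by
  have hm0 : 0 < m := by omega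
  set Om := Cfsg.Omega F ⇑(oddForm m F) with hOm
  set EΩ : Subgroup ↥Om := (EO m F hm0).subgroupOf Om with hEΩ
  have hcard1 : Nat.card EΩ = Nat.card (EO m F hm0) :=
    Nat.card_congr (Subgroup.subgroupOfEquivOfLe (EO_le_omega m F h2 hm0)).toEquiv
  have hsq1 : ∀ x ∈ EΩ, x * x = 1 := by
    intro x hx
    have := EO_sq m F h2 hm0 x.1 (Subgroup.mem_subgroupOf.mp hx)
    exact Subtype.ext this
  have hZ := center_omega_odd_eq_bot m F h2 hm
  have hinj : Function.Injective (QuotientGroup.mk' (Subgroup.center ↥Om)) := by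
    rw [← MonoidHom.ker_eq_bot_iff, QuotientGroup.ker_mk']
    exact hZ
  refine ⟨EΩ.map (QuotientGroup.mk' (Subgroup.center ↥Om)), ?_, ?_⟩
  · rintro _ ⟨x, hx, rfl⟩
    rw [← map_mul, hsq1 x hx, map_one]
  · have : Nat.card (EΩ.map (QuotientGroup.mk' (Subgroup.center ↥Om))) = Nat.card EΩ :=
      Nat.card_congr (EΩ.equivMapOfInjective _ hinj).symm.toEquiv
    rw [this, hcard1]
    exact card_EO m F h2 hm0

end Cfsg.Agent.Lib.Helper39.TwoRk
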