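import Mathlib
import Cfsg.Agent.Lib.Helper39.TwoRkJ
import Cfsg.Agent.Lib.Helper37.OmegaIndex
import Cfsg.Agent.Lib.Helper43.OddOrthGram
import Cfsg.Agent.Lib.Helper39.BC2

set_option autoImplicit false
set_option linter.unusedSimpArgs false
set_option linter.unusedVariables false
set_option linter.unnecessarySeqFocus false
set_option linter.unusedSectionVars false
set_option linter.style.haveILetI false
set_option maxHeartbeats 800000

/-!
# Group-level facts on the odd-dimensional orthogonal group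
-/

namespace Cfsg.Agent.Lib.Helper39.BC

open Module Matrix
open Cfsg.Agent.Lib.Helper37 Cfsg.Agent.Lib.Helper43 Cfsg.Agent.Lib.Helper43.OddOrth

section monoid

/-- the order of a product of commuting elements of coprime orders -/
lemma ord_mul {M : Type*} [Monoid M] (x y : M) (hc : Commute x y) (a b : ℕ) (hab : a.Coprime b)
    (hx : ∀ j, x ^ j = 1 ↔ a ∣ j) (hy : ∀ j, y ^ j = 1 ↔ b ∣ j) :
    ∀ j, (x * y) ^ j = 1 ↔ a * b ∣ j := by
  intro j
  constructor
  · intro h
    rw [hc.mul_pow] at h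
    have h1 : x ^ (j * b) = 1 := by
      have h2 := congrArg (fun z => z ^ b) h
      simp only [one_pow] at h2
      rw [(hc.pow_pow j j).mul_pow, ← pow_mul, ← pow_mul] at h2
      have h3 : y ^ (j * b) = 1 := (hy _).mpr (Dvd.intro_left _ rfl)
      rwa [h3, mul_one] at h2
    have h4 : y ^ (j * a) = 1 := by
      have h2 := congrArg (fun z => z ^ a) h
      simp only [one_pow] at h2
      rw [(hc.pow_pow j j).mul_pow, ← pow_mul, ← pow_mul] at h2
      have h3 : x ^ (j * a) = 1 := (hx _).mpr (Dvd.intro_left _ rfl)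
      rwa [h3, one_mul] at h2
    have h5 : a ∣ j := hab.dvd_of_dvd_mul_right ((hx _).mp h1)
    have h6 : b ∣ j := hab.symm.dvd_of_dvd_mul_right ((hy _).mp h4)
    exact hab.mul_dvd_of_dvd_of_dvd h5 h6
  · intro h
    rw [hc.mul_pow, (hx j).mpr ((Dvd.intro _ rfl).trans h), (hy j).mpr ((Dvd.intro_left _ rfl).trans h),
      one_mul]

/-- an element with `x ^ 2 = 1`, `x ≠ 1` has order two -/
lemma ord_two {M : Type*} [Monoid M] (x : M) (h2 : x * x = 1) (h1 : x ≠ 1) :
    ∀ j, x ^ j = 1 ↔ 2 ∣ j := by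
  intro j
  rcases Nat.even_or_odd' j with ⟨k, rfl | rfl⟩
  · rw [pow_mul, pow_two, h2, one_pow]
    simp
  · rw [pow_succ, pow_mul, pow_two, h2, one_pow, one_mul]
    constructor
    · intro h; exact absurd h h1
    · intro h; omega

/-- an element with `x ^ p = 1`, `x ≠ 1`, `p` prime, has order `p` -/
lemma ord_prime {M : Type*} [Monoid M] (x : M) (p : ℕ) (hp : p.Prime) (hxp : x ^ p = 1)
    (h1 : x ≠ 1) : ∀ j, x ^ j = 1 ↔ p ∣ j := by
  intro j
  constructor
  · intro h
    by_contra hnd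
    have hcop : Nat.Coprime p j := (Nat.Prime.coprime_iff_not_dvd hp).mpr hnd
    apply h1
    have h3 : x ^ (Nat.gcd p j) = 1 := pow_gcd_eq_one.mpr ⟨hxp, h⟩
    rw [hcop.gcd_eq_one, pow_one] at h3
    exact h3
  · rintro ⟨k, rfl⟩
    rw [pow_mul, hxp, one_pow]

end monoid

section orth
variable {F : Type*} [Field F] [Fintype F] (n : ℕ)

lemma isGramO (h2 : (2 : F) ≠ 0) : IsGram (Cfsg.quadFormOdd n F) (gramO n F) := by
  refine ⟨h2, gramO_transpose n F, ?_⟩
  intro u
  rw [Matrix.toBilin'_apply']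
  exact dot_gramO_self n F u

lemma gramO_det_ne (h2 : (2 : F) ≠ 0) : (gramO n F).det ≠ 0 := by
  rw [gramO_det]
  exact mul_ne_zero h2 (pow_ne_zero _ (neg_ne_zero.2 one_ne_zero))

/-- squares lie in `Ω` -/
lemma sq_mem_omega (h2 : (2 : F) ≠ 0) (g : ↥(Cfsg.isometryGroup F (Cfsg.quadFormOdd n F))) :
    g * g ∈ Cfsg.Omega F (Cfsg.quadFormOdd n F) := by
  classical
  obtain ⟨α, hα⟩ := FiniteField.exists_nonsquare (ringChar_ne_two_of_two_ne_zero h2) (F := F)
  rw [← (isGramO n h2).ker_signPair (gramO_det_ne n h2) α hα, MonoidHom.mem_ker, map_mul]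
  have h1 : ∀ z : ℤˣ × ℤˣ, z * z = 1 := by
    rintro ⟨a, b⟩
    rcases Int.units_eq_one_or a with rfl | rfl <;> rcases Int.units_eq_one_or b with rfl | rfl <;>
      rfl
  exact h1 _

/-- elements of odd order lie in `Ω` -/
lemma odd_mem_omega (h2 : (2 : F) ≠ 0) (g : ↥(Cfsg.isometryGroup F (Cfsg.quadFormOdd n F)))
    (M : ℕ) (hM : Odd M) (hg : g ^ M = 1) : g ∈ Cfsg.Omega F (Cfsg.quadFormOdd n F) := by
  obtain ⟨k, hk⟩ := hM
  have h1 : g = (g ^ (k + 1)) * (g ^ (k + 1)) := by
    rw [← pow_add]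
    have : k + 1 + (k + 1) = M + 1 := by omega
    rw [this, pow_succ, hg, one_mul]
  rw [h1]
  exact sq_mem_omega n h2 _

/-- the two sign characters agree on elements of determinant one -/
lemma signChar_eq_of_det_one [DecidableEq F] (h2 : (2 : F) ≠ 0) (α : F) (hα : ¬ IsSquare α)
    (g : ↥(Cfsg.isometryGroup F (Cfsg.quadFormOdd n F)))
    (hg : (toMat (Cfsg.quadFormOdd n F) g).det = 1) :
    signChar (Cfsg.quadFormOdd n F) 1 g = signChar (Cfsg.quadFormOdd n F) α g := by
  have h := isGramO (F := F) n h2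
  obtain ⟨vs, hvs, hprod⟩ := h.cartan_dieudonne (gramO_det_ne n h2) g
  rw [hprod, h.det_list vs hvs] at hg
  have hev : Even vs.length := h.even_of_neg_one_pow _ hg
  have hg' : g = (vs.map h.reflG').prod :=
    toMat_injective _ (by rw [hprod, h.toMat_list vs hvs])
  rw [hg', h.signChar_list vs hvs, h.signChar_list vs hvs]
  have e1 : vs.countP (fun v => ∃ t : F, t ≠ 0 ∧ Cfsg.quadFormOdd n F v * t ^ 2 = 1) =
      vs.countP (fun v => IsSquare (Cfsg.quadFormOdd n F v)) := by
    apply List.countP_congr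
    intro v hv
    simp only [decide_eq_true_eq]
    exact IsGram.exists_sq_one_iff (Cfsg.quadFormOdd n F v) (hvs v hv)
  have e2 : vs.countP (fun v => ∃ t : F, t ≠ 0 ∧ Cfsg.quadFormOdd n F v * t ^ 2 = α) =
      vs.countP (fun v => ¬ IsSquare (Cfsg.quadFormOdd n F v)) := by
    apply List.countP_congr
    intro v hv
    simp only [decide_eq_true_eq]
    exact IsGram.exists_sq_nonsq_iff (Cfsg.quadFormOdd n F v) α (hvs v hv) hα
  rw [e1, e2]
  have e3 := List.length_eq_countP_add_countP (fun v => IsSquare (Cfsg.quadFormOdd n F v)) (l := vs)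
  have e4 : vs.countP (fun a => decide ¬ decide (IsSquare (Cfsg.quadFormOdd n F a)) = true) =
      vs.countP (fun v => ¬ IsSquare (Cfsg.quadFormOdd n F v)) := by
    apply List.countP_congr
    intro v _
    simp
  rw [e4] at e3
  set c1 := vs.countP (fun v => IsSquare (Cfsg.quadFormOdd n F v)) with hc1
  set c2 := vs.countP (fun v => ¬ IsSquare (Cfsg.quadFormOdd n F v)) with hc2
  rw [e3] at hev
  rcases Nat.even_or_odd c1 with h1 | h1
  · have h3 : Even c2 := by
      rcases Nat.even_or_odd c2 with h | h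
      · exact h
      · exfalso
        have := Even.add_odd h1 h
        exact (Nat.not_even_iff_odd.mpr this) hev
    rw [h1.neg_one_pow, h3.neg_one_pow]
  · have h3 : Odd c2 := by
      rcases Nat.even_or_odd c2 with h | h
      · exfalso
        have := Odd.add_even h1 h
        exact (Nat.not_even_iff_odd.mpr this) hev
      · exact h
    rw [h1.neg_one_pow, h3.neg_one_pow]

/-- of two isometries of determinant one, one of them or their product lies in `Ω` -/
lemma so_trichotomy (h2 : (2 : F) ≠ 0)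
    (g k : ↥(Cfsg.isometryGroup F (Cfsg.quadFormOdd n F)))
    (hg : (toMat (Cfsg.quadFormOdd n F) g).det = 1)
    (hk : (toMat (Cfsg.quadFormOdd n F) k).det = 1) :
    g ∈ Cfsg.Omega F (Cfsg.quadFormOdd n F) ∨ k ∈ Cfsg.Omega F (Cfsg.quadFormOdd n F) ∨
      g * k ∈ Cfsg.Omega F (Cfsg.quadFormOdd n F) := by
  classical
  obtain ⟨α, hα⟩ := FiniteField.exists_nonsquare (ringChar_ne_two_of_two_ne_zero h2) (F := F)
  have hker := (isGramO n h2).ker_signPair (gramO_det_ne n h2) α hα
  have hmem : ∀ x : ↥(Cfsg.isometryGroup F (Cfsg.quadFormOdd n F)),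
      (toMat (Cfsg.quadFormOdd n F) x).det = 1 →
      signChar (Cfsg.quadFormOdd n F) 1 x = 1 → x ∈ Cfsg.Omega F (Cfsg.quadFormOdd n F) := by
    intro x hx h1
    rw [← hker, MonoidHom.mem_ker]
    have h3 := signChar_eq_of_det_one n h2 α hα x hx
    exact Prod.ext h1 (h3.symm.trans h1)
  rcases Int.units_eq_one_or (signChar (Cfsg.quadFormOdd n F) 1 g) with h1 | h1
  · exact Or.inl (hmem g hg h1)
  · rcases Int.units_eq_one_or (signChar (Cfsg.quadFormOdd n F) 1 k) with h3 | h3
    · exact Or.inr (Or.inl (hmem k hk h3))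
    · refine Or.inr (Or.inr (hmem (g * k) ?_ ?_))
      · rw [map_mul, Matrix.det_mul, hg, hk, one_mul]
      · rw [map_mul, h1, h3]
        rfl

/-- the centre of `Ω` is trivial -/
lemma center_eq_bot (h2 : (2 : F) ≠ 0) (hn : 3 ≤ n) :
    Subgroup.center ↥(Cfsg.Omega F (Cfsg.quadFormOdd n F)) = ⊥ := by
  have h := Cfsg.Agent.Lib.Helper39.TwoRk.center_omega_odd_eq_bot n F h2 hn
  rw [← Cfsg.Agent.Lib.Helper43.oddForm_coe] at h
  exact h

/-- an element of `Ω` of order `M` gives an element of `PΩ` of order `M` -/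
theorem order_mem (h2 : (2 : F) ≠ 0) (hn : 3 ≤ n)
    (y : ↥(Cfsg.isometryGroup F (Cfsg.quadFormOdd n F)))
    (hy : y ∈ Cfsg.Omega F (Cfsg.quadFormOdd n F)) (M : ℕ) (hM : ∀ j, y ^ j = 1 ↔ M ∣ j) :
    M ∈ Set.range (orderOf : Cfsg.POmega F (Cfsg.quadFormOdd n F) → ℕ) := by
  have hZ := center_eq_bot n h2 hn
  have hinj : Function.Injective
      (QuotientGroup.mk' (Subgroup.center ↥(Cfsg.Omega F (Cfsg.quadFormOdd n F)))) := by
    rw [← MonoidHom.ker_eq_bot_iff, QuotientGroup.ker_mk']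
    exact hZ
  refine ⟨QuotientGroup.mk' _ ⟨y, hy⟩, ?_⟩
  rw [orderOf_injective _ hinj]
  apply Nat.dvd_antisymm
  · apply orderOf_dvd_of_pow_eq_one
    apply Subtype.ext
    rw [SubmonoidClass.coe_pow]
    exact (hM M).mpr dvd_rfl
  · rw [← hM]
    have := pow_orderOf_eq_one (⟨y, hy⟩ : ↥(Cfsg.Omega F (Cfsg.quadFormOdd n F)))
    have h3 := congrArg Subtype.val this
    rw [SubmonoidClass.coe_pow] at h3
    exact h3

end orth

end Cfsg.Agent.Lib.Helper39.BC
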