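import Mathlib
import Cfsg.Agent.Lib.Helper39.BC3
import Cfsg.Agent.Lib.Helper14.FiniteQuad3

set_option autoImplicit false
set_option linter.unusedSimpArgs false
set_option linter.unusedVariables false
set_option linter.unnecessarySeqFocus false
set_option linter.unusedSectionVars false
set_option linter.style.haveILetI false
set_option maxHeartbeats 800000

/-!
# The bridge from abstract orthogonal spaces of dimension `2n+1` to `Ω_{2n+1}(q)`
-/

namespace Cfsg.Agent.Lib.Helper39.BC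

open Module Matrix
open LinearMap (BilinForm)
open Cfsg.Agent.Lib.Helper37 Cfsg.Agent.Lib.Helper43 Cfsg.Agent.Lib.Helper43.OddOrth

section std
variable {F : Type*} [Field F] [Fintype F] {n : ℕ}
variable {W : Type*} [AddCommGroup W] [Module F W] [FiniteDimensional F W]

/-- a basis in which the Gram matrix of `β` is a multiple of the standard one -/
structure StdB (n : ℕ) (β : BilinForm F W) where
  b : Basis (Unit ⊕ (Fin n ⊕ Fin n)) F W
  c : F
  hc : c ≠ 0
  gram : LinearMap.BilinForm.toMatrix b β = c • gramO n F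

lemma card_idx : Fintype.card (Unit ⊕ (Fin n ⊕ Fin n)) = 2 * n + 1 := by
  simp only [Fintype.card_sum, Fintype.card_fin, Fintype.card_unit]
  omega

theorem exists_stdB (h2 : (2 : F) ≠ 0) (β : BilinForm F W) (hs : ∀ u w, β u w = β w u)
    (hnd : ∀ x, (∀ y, β x y = 0) → x = 0) (hfr : finrank F W = 2 * n + 1) :
    Nonempty (StdB n β) := by
  classical
  have hsymm : β.IsSymm := ⟨hs⟩
  have hndg : β.Nondegenerate := (hsymm.isRefl.nondegenerate_iff_separatingLeft).mpr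
    (fun x hx => hnd x hx)
  have hcard : finrank F W = Fintype.card (Unit ⊕ (Fin n ⊕ Fin n)) := by rw [hfr, card_idx]
  let b₀ : Basis (Unit ⊕ (Fin n ⊕ Fin n)) F W :=
    (Module.finBasisOfFinrankEq F W hcard).reindex (Fintype.equivFin _).symm
  set δ := (LinearMap.BilinForm.toMatrix b₀ β).det with hδ
  have hδ0 : δ ≠ 0 := (LinearMap.BilinForm.nondegenerate_iff_det_ne_zero b₀).mp hndg
  set δ₀ := (gramO n F).det with hδ₀
  have hδ₀0 : δ₀ ≠ 0 := gramO_det_ne n h2
  set c := δ * δ₀ with hc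
  have hc0 : c ≠ 0 := mul_ne_zero hδ0 hδ₀0
  -- the scaled form
  set B : BilinForm F W := c⁻¹ • β with hB
  have hBs : B.IsSymm := ⟨fun x y => by
    simp only [hB, LinearMap.smul_apply, smul_eq_mul, hs x y]⟩
  have hBnd : B.Nondegenerate := by
    refine (hBs.isRefl.nondegenerate_iff_separatingLeft).mpr ?_
    intro x hx
    apply hnd x
    intro y
    have := hx y
    simp only [hB, LinearMap.smul_apply, smul_eq_mul] at this
    rcases mul_eq_zero.mp this with h | h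
    · exact absurd h (inv_ne_zero hc0)
    · exact h
  set B' : BilinForm F (Unit ⊕ (Fin n ⊕ Fin n) → F) := Matrix.toBilin' (gramO n F) with hB'
  have hB's : B'.IsSymm := (Matrix.isSymm_toBilin'_iff_isSymm).2 (gramO_transpose n F)
  have hB'nd : B'.Nondegenerate :=
    LinearMap.BilinForm.nondegenerate_toBilin'_of_det_ne_zero' _ hδ₀0
  have hG' : LinearMap.BilinForm.toMatrix (Pi.basisFun F (Unit ⊕ (Fin n ⊕ Fin n))) B' = gramO n F := by
    rw [hB', LinearMap.BilinForm.toMatrix_basisFun, LinearMap.BilinForm.toMatrix'_toBilin']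
  haveI : Nonempty (Unit ⊕ (Fin n ⊕ Fin n)) := ⟨Sum.inl ()⟩
  have hGB : LinearMap.BilinForm.toMatrix b₀ B = c⁻¹ • LinearMap.BilinForm.toMatrix b₀ β := by
    rw [hB, map_smul]
  obtain ⟨g, hg⟩ := Cfsg.Agent.Lib.Helper14.exists_isometry_of_disc' h2 rfl B hBs hBnd B' hB's hB'nd
    b₀ (Pi.basisFun F (Unit ⊕ (Fin n ⊕ Fin n))) ((δ ^ n * δ₀ ^ (n + 1))⁻¹)
    (inv_ne_zero (mul_ne_zero (pow_ne_zero _ hδ0) (pow_ne_zero _ hδ₀0))) (by
      rw [hGB, Matrix.det_smul, hG', card_idx, ← hδ, ← hδ₀, hc]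
      have e1 : (δ * δ₀)⁻¹ ^ (2 * n + 1) * δ * ((δ ^ n * δ₀ ^ (n + 1)) ^ 2 * (δ * δ₀) ^ (2 * n + 1)) =
          (δ ^ n * δ₀ ^ (n + 1))⁻¹ ^ 2 * δ₀ * ((δ ^ n * δ₀ ^ (n + 1)) ^ 2 * (δ * δ₀) ^ (2 * n + 1)) := by
        have hA : (δ * δ₀) ^ (2 * n + 1) ≠ 0 := pow_ne_zero _ (mul_ne_zero hδ0 hδ₀0)
        have hB2 : (δ ^ n * δ₀ ^ (n + 1)) ^ 2 ≠ 0 :=
          pow_ne_zero _ (mul_ne_zero (pow_ne_zero _ hδ0) (pow_ne_zero _ hδ₀0))
        rw [inv_pow, inv_pow]
        have l1 : ((δ * δ₀) ^ (2 * n + 1))⁻¹ * δ * ((δ ^ n * δ₀ ^ (n + 1)) ^ 2 * (δ * δ₀) ^ (2 * n + 1))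
            = δ * (δ ^ n * δ₀ ^ (n + 1)) ^ 2 := by
          field_simp
        have l2 : ((δ ^ n * δ₀ ^ (n + 1)) ^ 2)⁻¹ * δ₀ *
            ((δ ^ n * δ₀ ^ (n + 1)) ^ 2 * (δ * δ₀) ^ (2 * n + 1)) = δ₀ * (δ * δ₀) ^ (2 * n + 1) := by
          field_simp
        rw [l1, l2]
        ring
      exact mul_right_cancel₀ (mul_ne_zero
        (pow_ne_zero _ (mul_ne_zero (pow_ne_zero _ hδ0) (pow_ne_zero _ hδ₀0)))
        (pow_ne_zero _ (mul_ne_zero hδ0 hδ₀0))) e1)
  refine ⟨⟨(Pi.basisFun F (Unit ⊕ (Fin n ⊕ Fin n))).map g.symm, c, hc0, ?_⟩⟩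
  ext i j
  rw [LinearMap.BilinForm.toMatrix_apply, Matrix.smul_apply, smul_eq_mul]
  simp only [Basis.map_apply, Pi.basisFun_apply]
  have h1 := hg (g.symm (Pi.single i 1)) (g.symm (Pi.single j 1))
  rw [LinearEquiv.apply_symm_apply, LinearEquiv.apply_symm_apply] at h1
  simp only [hB, LinearMap.smul_apply, smul_eq_mul] at h1
  rw [hB', Matrix.toBilin'_single] at h1
  rw [h1]
  field_simp

variable {β : BilinForm F W}

/-- the matrix of an endomorphism in the standard basis -/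
noncomputable def StdB.mat (σ : StdB n β) (T : Module.End F W) :
    Matrix (Unit ⊕ (Fin n ⊕ Fin n)) (Unit ⊕ (Fin n ⊕ Fin n)) F :=
  LinearMap.toMatrix σ.b σ.b T

lemma StdB.mat_mul (σ : StdB n β) (S T : Module.End F W) : σ.mat (S * T) = σ.mat S * σ.mat T :=
  LinearMap.toMatrix_mul σ.b S T

lemma StdB.mat_one (σ : StdB n β) : σ.mat 1 = 1 := LinearMap.toMatrix_one σ.b

lemma StdB.mat_pow (σ : StdB n β) (T : Module.End F W) (j : ℕ) : σ.mat (T ^ j) = σ.mat T ^ j :=
  (LinearMap.toMatrix_pow σ.b T j).symm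

lemma StdB.mat_injective (σ : StdB n β) : Function.Injective σ.mat :=
  (LinearMap.toMatrix σ.b σ.b).injective

lemma StdB.mat_det (σ : StdB n β) (T : Module.End F W) : (σ.mat T).det = LinearMap.det T :=
  LinearMap.det_toMatrix σ.b T

lemma StdB.mat_gram (σ : StdB n β) (T : Module.End F W)
    (hiso : ∀ u w, β (T u) (T w) = β u w) : (σ.mat T)ᵀ * gramO n F * σ.mat T = gramO n F := by
  have hcomp : β.comp T T = β := by
    ext u w
    simp only [LinearMap.BilinForm.comp_apply]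
    exact hiso u w
  have h1 := LinearMap.BilinForm.toMatrix_comp σ.b σ.b β T T
  rw [hcomp, σ.gram] at h1
  have h3 : σ.c • ((σ.mat T)ᵀ * gramO n F * σ.mat T) = σ.c • gramO n F := by
    rw [h1]
    simp [StdB.mat, Matrix.mul_smul, Matrix.smul_mul]
  have h4 := congrArg (fun M => σ.c⁻¹ • M) h3
  simp only [smul_smul, inv_mul_cancel₀ σ.hc, one_smul] at h4
  exact h4

lemma StdB.mat_det_ne (h2 : (2 : F) ≠ 0) (σ : StdB n β) (T : Module.End F W)
    (hiso : ∀ u w, β (T u) (T w) = β u w) : (σ.mat T).det ≠ 0 := by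
  intro h0
  have h1 := congrArg Matrix.det (σ.mat_gram T hiso)
  rw [Matrix.det_mul, Matrix.det_mul, Matrix.det_transpose, h0] at h1
  simp only [zero_mul] at h1
  exact gramO_det_ne n h2 h1.symm

/-- the element of the isometry group defined by an isometry -/
noncomputable def StdB.gO (h2 : (2 : F) ≠ 0) (σ : StdB n β) (T : Module.End F W)
    (hiso : ∀ u w, β (T u) (T w) = β u w) : ↥(Cfsg.isometryGroup F (Cfsg.quadFormOdd n F)) :=
  ⟨Matrix.GeneralLinearGroup.mkOfDetNeZero (σ.mat T) (σ.mat_det_ne h2 T hiso), fun u _ =>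
    preserves_of_gram h2 (σ.mat T) (σ.mat_gram T hiso) u⟩

lemma StdB.toMat_gO (h2 : (2 : F) ≠ 0) (σ : StdB n β) (T : Module.End F W)
    (hiso : ∀ u w, β (T u) (T w) = β u w) :
    toMat (Cfsg.quadFormOdd n F) (σ.gO h2 T hiso) = σ.mat T := rfl

lemma StdB.gO_pow_eq_one_iff (h2 : (2 : F) ≠ 0) (σ : StdB n β) (T : Module.End F W)
    (hiso : ∀ u w, β (T u) (T w) = β u w) (j : ℕ) : (σ.gO h2 T hiso) ^ j = 1 ↔ T ^ j = 1 := by
  constructor
  · intro h
    have h1 := congrArg (toMat (Cfsg.quadFormOdd n F)) h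
    rw [map_pow, map_one, σ.toMat_gO, ← σ.mat_pow, ← σ.mat_one] at h1
    exact σ.mat_injective h1
  · intro h
    apply toMat_injective
    rw [map_pow, map_one, σ.toMat_gO, ← σ.mat_pow, h, σ.mat_one]

lemma StdB.gO_mul (h2 : (2 : F) ≠ 0) (σ : StdB n β) (S T : Module.End F W)
    (hS : ∀ u w, β (S u) (S w) = β u w) (hT : ∀ u w, β (T u) (T w) = β u w)
    (hST : ∀ u w, β ((S * T) u) ((S * T) w) = β u w) :
    σ.gO h2 (S * T) hST = σ.gO h2 S hS * σ.gO h2 T hT := by
  apply toMat_injective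
  rw [map_mul, σ.toMat_gO, σ.toMat_gO, σ.toMat_gO, σ.mat_mul]

end std

section final
variable {F : Type*} [Field F] [Fintype F] {n : ℕ}
variable {W : Type*} [AddCommGroup W] [Module F W] [FiniteDimensional F W] {β : BilinForm F W}

/-- the square of an isometry gives an element of `PΩ` -/
theorem omem_sq (h2 : (2 : F) ≠ 0) (hn : 3 ≤ n) {R : Module.End F W} (hR : OIso β R)
    (hfr : finrank F W = 2 * n + 1) (M : ℕ) (hM : ∀ j, (R * R) ^ j = 1 ↔ M ∣ j) :
    M ∈ Set.range (orderOf : Cfsg.POmega F (Cfsg.quadFormOdd n F) → ℕ) := by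
  obtain ⟨σ⟩ := exists_stdB (n := n) h2 β hR.symm hR.nd hfr
  have hRR := (hR.mul hR).iso
  refine order_mem n h2 hn (σ.gO h2 (R * R) hRR) ?_ M ?_
  · rw [σ.gO_mul h2 R R hR.iso hR.iso hRR]
    exact sq_mem_omega n h2 _
  · intro j
    rw [σ.gO_pow_eq_one_iff, hM]

/-- an isometry of odd order gives an element of `PΩ` -/
theorem omem_odd (h2 : (2 : F) ≠ 0) (hn : 3 ≤ n) {T : Module.End F W} (hT : OIso β T)
    (hfr : finrank F W = 2 * n + 1) (M : ℕ) (hodd : Odd M) (hM : ∀ j, T ^ j = 1 ↔ M ∣ j) :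
    M ∈ Set.range (orderOf : Cfsg.POmega F (Cfsg.quadFormOdd n F) → ℕ) := by
  obtain ⟨σ⟩ := exists_stdB (n := n) h2 β hT.symm hT.nd hfr
  refine order_mem n h2 hn (σ.gO h2 T hT.iso) ?_ M ?_
  · apply odd_mem_omega n h2 _ M hodd
    rw [σ.gO_pow_eq_one_iff]
    exact (hM M).mpr dvd_rfl
  · intro j
    rw [σ.gO_pow_eq_one_iff, hM]

/-- two commuting involutions of determinant one commuting with an isometry of odd order -/
theorem omem_tri (h2 : (2 : F) ≠ 0) (hn : 3 ≤ n) {a b S : Module.End F W} (ha : OIso β a)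
    (hb : OIso β b) (hS : OIso β S) (hfr : finrank F W = 2 * n + 1)
    (hda : LinearMap.det a = 1) (hdb : LinearMap.det b = 1) (s : ℕ) (hs : Odd s)
    (hSs : ∀ j, S ^ j = 1 ↔ s ∣ j) (haa : a * a = 1) (hbb : b * b = 1) (hab : a * b = b * a)
    (ha1 : a ≠ 1) (hb1 : b ≠ 1) (hab1 : a * b ≠ 1) (haS : a * S = S * a) (hbS : b * S = S * b) :
    2 * s ∈ Set.range (orderOf : Cfsg.POmega F (Cfsg.quadFormOdd n F) → ℕ) := by
  obtain ⟨σ⟩ := exists_stdB (n := n) h2 β hS.symm hS.nd hfr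
  have habiso := (ha.mul hb).iso
  -- the general step
  have step : ∀ z : Module.End F W, ∀ hz : (∀ u w, β (z u) (z w) = β u w),
      σ.gO h2 z hz ∈ Cfsg.Omega F (Cfsg.quadFormOdd n F) → z * z = 1 → z ≠ 1 → z * S = S * z →
      2 * s ∈ Set.range (orderOf : Cfsg.POmega F (Cfsg.quadFormOdd n F) → ℕ) := by
    intro z hz hzΩ hzz hz1 hzS
    have hzSiso : ∀ u w, β ((z * S) u) ((z * S) w) = β u w := by
      intro u w
      rw [Module.End.mul_apply, Module.End.mul_apply, hz, hS.iso]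
    refine order_mem n h2 hn (σ.gO h2 (z * S) hzSiso) ?_ (2 * s) ?_
    · rw [σ.gO_mul h2 z S hz hS.iso hzSiso]
      apply Subgroup.mul_mem _ hzΩ
      apply odd_mem_omega n h2 _ s hs
      rw [σ.gO_pow_eq_one_iff]
      exact (hSs s).mpr dvd_rfl
    · intro j
      rw [σ.gO_pow_eq_one_iff]
      exact ord_mul z S hzS 2 s (Nat.coprime_two_left.mpr hs) (ord_two z hzz hz1) hSs j
  have hdab : LinearMap.det (a * b) = 1 := by rw [map_mul, hda, hdb, one_mul]
  rcases so_trichotomy n h2 (σ.gO h2 a ha.iso) (σ.gO h2 b hb.iso)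
    (by rw [σ.toMat_gO, σ.mat_det, hda]) (by rw [σ.toMat_gO, σ.mat_det, hdb]) with h | h | h
  · exact step a ha.iso h haa ha1 haS
  · exact step b hb.iso h hbb hb1 hbS
  · rw [← σ.gO_mul h2 a b ha.iso hb.iso habiso] at h
    refine step (a * b) habiso h ?_ hab1 ?_
    · calc a * b * (a * b) = a * (b * a) * b := by simp only [mul_assoc]
        _ = a * (a * b) * b := by rw [hab]
        _ = (a * a) * (b * b) := by simp only [mul_assoc]
        _ = 1 := by rw [haa, hbb, one_mul]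
    · calc a * b * S = a * (b * S) := by rw [mul_assoc]
        _ = a * (S * b) := by rw [hbS]
        _ = (a * S) * b := by rw [mul_assoc]
        _ = S * a * b := by rw [haS]
        _ = S * (a * b) := by rw [mul_assoc]

end final

end Cfsg.Agent.Lib.Helper39.BC
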