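import Mathlib
import Cfsg.Agent.Lib.Helper39.SpT2
import Cfsg.Agent.Lib.Helper40.SympAdjoin

set_option autoImplicit false
set_option linter.unusedSimpArgs false
set_option linter.unusedVariables false
set_option linter.unnecessarySeqFocus false
set_option linter.unusedSectionVars false
set_option linter.style.haveILetI false
set_option maxHeartbeats 800000

/-!
# The regular unipotent symplectic block
-/

namespace Cfsg.Agent.Lib.Helper39.SpT

open Module Polynomial
open LinearMap (BilinForm)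
open Cfsg.Agent.Lib.Helper40.Symp

section mulL
variable {F : Type*} [Field F] {A : Type*} [CommRing A] [Algebra F A]

lemma mulLeft_pow (a : A) (j : ℕ) :
    (LinearMap.mulLeft F a : Module.End F A) ^ j = LinearMap.mulLeft F (a ^ j) := by
  induction j with
  | zero =>
    apply LinearMap.ext
    intro x
    simp
  | succ j ih =>
    rw [pow_succ, ih]
    apply LinearMap.ext
    intro x
    simp [Module.End.mul_apply, pow_succ, mul_assoc]

lemma mulLeft_eq_one_iff (a : A) : (LinearMap.mulLeft F a : Module.End F A) = 1 ↔ a = 1 := by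
  constructor
  · intro h
    have := congrArg (fun f : Module.End F A => f 1) h
    simpa using this
  · rintro rfl
    apply LinearMap.ext
    intro x
    simp

lemma mulLeft_eq_neg_one_iff (a : A) :
    (LinearMap.mulLeft F a : Module.End F A) = -1 ↔ a = -1 := by
  constructor
  · intro h
    have := congrArg (fun f : Module.End F A => f 1) h
    simpa using this
  · rintro rfl
    apply LinearMap.ext
    intro x
    simp

end mulL

section Ublock
variable {F : Type*} [Field F] (m : ℕ)

/-- the truncated polynomial ring -/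
abbrev AU (F : Type*) [Field F] (m : ℕ) : Type _ := AdjoinRoot (X ^ m : F[X])

/-- the class of `X` -/
noncomputable def rU : AU F m := AdjoinRoot.root (X ^ m : F[X])

lemma rU_pow : (rU m : AU F m) ^ m = 0 := by
  have := AdjoinRoot.mk_self (f := (X ^ m : F[X]))
  rw [map_pow, AdjoinRoot.mk_X] at this
  exact this

lemma rU_pow_eq_zero_iff (t : ℕ) : (rU m : AU F m) ^ t = 0 ↔ m ≤ t := by
  rw [rU, ← AdjoinRoot.mk_X, ← map_pow, AdjoinRoot.mk_eq_zero]
  exact pow_dvd_pow_iff X_ne_zero not_isUnit_X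

instance finite_AU : Module.Finite F (AU F m) := (AdjoinRoot.powerBasis' (monic_X_pow m)).finite

lemma finrank_AU : finrank F (AU F m) = m := by
  rw [(AdjoinRoot.powerBasis' (monic_X_pow m)).finrank, AdjoinRoot.powerBasis'_dim,
    natDegree_X_pow]

lemma coeff_modByMonic_X_pow (f : F[X]) (k : ℕ) (hk : k < m) :
    (f %ₘ (X ^ m : F[X])).coeff k = f.coeff k := by
  have h := modByMonic_add_div f (X ^ m)
  have h1 := congrArg (fun g : F[X] => g.coeff k) h
  simp only [coeff_add, coeff_X_pow_mul'] at h1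
  rw [if_neg (by omega), add_zero] at h1
  exact h1

variable {m}

/-- the involution `X ↦ -X` -/
noncomputable def tauU (hm : Even m) : AU F m →ₐ[F] AU F m :=
  AdjoinRoot.liftAlgHom (X ^ m : F[X]) (Algebra.ofId F (AU F m)) (-(rU m)) (by
    rw [eval₂_pow, eval₂_X, hm.neg_pow, rU_pow])

lemma tauU_root (hm : Even m) : tauU hm (rU m : AU F m) = - rU m :=
  AdjoinRoot.liftAlgHom_root _ _ _ _

lemma tauU_tauU (hm : Even m) (x : AU F m) : tauU hm (tauU hm x) = x := by
  have h : (tauU hm).comp (tauU hm) = AlgHom.id F (AU F m) := by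
    apply AdjoinRoot.algHom_ext
    rw [AlgHom.comp_apply]
    change tauU hm (tauU hm (rU m)) = rU m
    rw [tauU_root, map_neg, tauU_root, neg_neg]
  exact DFunLike.congr_fun h x

lemma tauU_mk (hm : Even m) (g : F[X]) :
    tauU hm (AdjoinRoot.mk (X ^ m : F[X]) g) = AdjoinRoot.mk (X ^ m : F[X]) (g.comp (-X)) := by
  rw [tauU, AdjoinRoot.liftAlgHom_mk]
  rw [comp, hom_eval₂]
  congr 1

lemma topCoeff_tauU (hm : Even m) (hm0 : 0 < m) (z : AU F m) :
    topCoeff (X ^ m : F[X]) (monic_X_pow m) (tauU hm z) =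
      - topCoeff (X ^ m : F[X]) (monic_X_pow m) z := by
  obtain ⟨g, rfl⟩ := AdjoinRoot.mk_surjective z
  rw [tauU_mk, topCoeff_mk, topCoeff_mk, natDegree_X_pow,
    coeff_modByMonic_X_pow m _ _ (by omega), coeff_modByMonic_X_pow m _ _ (by omega)]
  have h1 : (-X : F[X]) = C (-1) * X := by simp
  rw [h1, comp_C_mul_X_coeff]
  have hodd : Odd (m - 1) := by
    obtain ⟨c, hc⟩ := hm
    exact ⟨c - 1, by omega⟩
  rw [hodd.neg_one_pow]
  ring

/-- the geometric series, inverse of `1 - X` -/
noncomputable def vU (m : ℕ) : AU F m := ∑ i ∈ Finset.range m, (rU m) ^ i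

lemma one_sub_mul_vU : (1 - rU m) * (vU m : AU F m) = 1 := by
  rw [vU, mul_neg_geom_sum, rU_pow, sub_zero]

lemma one_add_mul_tau_vU (hm : Even m) : (1 + rU m) * tauU hm (vU m : AU F m) = 1 := by
  rw [vU, map_sum]
  simp only [map_pow, tauU_root]
  have := mul_neg_geom_sum (-(rU m : AU F m)) m
  rw [sub_neg_eq_add, hm.neg_pow, rU_pow, sub_zero] at this
  exact this

/-- the Cayley unipotent element -/
noncomputable def uU (m : ℕ) : AU F m := (1 + rU m) * vU m

lemma tau_uU (hm : Even m) : tauU hm (uU m : AU F m) = (1 - rU m) * tauU hm (vU m) := by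
  rw [uU, map_mul, map_add, map_one, tauU_root]
  ring

lemma uU_mul_tau (hm : Even m) : (uU m : AU F m) * tauU hm (uU m) = 1 := by
  rw [tau_uU, uU]
  calc (1 + rU m) * vU m * ((1 - rU m) * tauU hm (vU m))
      = ((1 - rU m) * vU m) * ((1 + rU m) * tauU hm (vU m)) := by ring
    _ = 1 := by rw [one_sub_mul_vU, one_add_mul_tau_vU, mul_one]

/-- the alternating form on the truncated polynomial ring -/
noncomputable def omU (hm : Even m) : BilinForm F (AU F m) :=
  LinearMap.mk₂ F
    (fun a b => topCoeff (X ^ m : F[X]) (monic_X_pow m) (a * tauU hm b))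
    (by intro a a' b; rw [add_mul, map_add])
    (by intro c a b; rw [smul_mul_assoc, map_smul])
    (by intro a b b'; rw [map_add, mul_add, map_add])
    (by intro c a b; rw [map_smul, mul_smul_comm, map_smul])

lemma omU_apply (hm : Even m) (a b : AU F m) :
    omU hm a b = topCoeff (X ^ m : F[X]) (monic_X_pow m) (a * tauU hm b) := rfl

lemma spIso_U (h2 : (2 : F) ≠ 0) (hm : Even m) (hm0 : 0 < m) :
    SpIso (omU (F := F) hm) (LinearMap.mulLeft F (uU m)) := by
  have halt : (omU (F := F) hm).IsAlt := by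
    intro a
    rw [omU_apply]
    have h1 : tauU hm (a * tauU hm a) = a * tauU hm a := by
      rw [map_mul, tauU_tauU, mul_comm]
    have h3 := topCoeff_tauU hm hm0 (a * tauU hm a)
    rw [h1] at h3
    have h4 : (2 : F) * topCoeff (X ^ m : F[X]) (monic_X_pow m) (a * tauU hm a) = 0 := by
      linear_combination h3
    rcases mul_eq_zero.mp h4 with h | h
    · exact absurd h h2
    · exact h
  refine ⟨halt, ?_, ?_⟩
  · refine (halt.isRefl.nondegenerate_iff_separatingLeft).mpr ?_
    intro a ha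
    apply topCoeff_nondeg (X ^ m : F[X]) (monic_X_pow m)
    intro y
    have := ha (tauU hm y)
    rw [omU_apply, tauU_tauU] at this
    exact this
  · intro a b
    rw [omU_apply, omU_apply]
    simp only [LinearMap.mulLeft_apply, map_mul]
    have : uU m * a * (tauU hm (uU m) * tauU hm b) = a * tauU hm b := by
      linear_combination (a * tauU hm b) * uU_mul_tau (F := F) hm
    rw [this]

/-- the order of the Cayley element -/
lemma uU_pow_eq_one_iff (p : ℕ) [Fact p.Prime] [CharP F p] (h2 : (2 : F) ≠ 0) (hm0 : 0 < m)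
    (t : ℕ) : (uU m : AU F m) ^ (p ^ t) = 1 ↔ m ≤ p ^ t := by
  haveI : Nontrivial (AU F m) := by
    apply AdjoinRoot.nontrivial
    rw [degree_X_pow]
    exact_mod_cast hm0.ne'
  haveI : CharP (AU F m) p :=
    charP_of_injective_algebraMap (algebraMap F (AU F m)).injective p
  have hv : (1 - rU m : AU F m) ^ (p ^ t) * (vU m) ^ (p ^ t) = 1 := by
    rw [← mul_pow, one_sub_mul_vU, one_pow]
  have e1 : (1 + rU m : AU F m) ^ (p ^ t) = 1 + (rU m) ^ (p ^ t) := by
    rw [add_pow_char_pow, one_pow]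
  have e2 : (1 - rU m : AU F m) ^ (p ^ t) = 1 - (rU m) ^ (p ^ t) := by
    rw [sub_pow_char_pow, one_pow]
  have h2A : IsUnit (2 : AU F m) := by
    have : (2 : AU F m) = algebraMap F (AU F m) 2 := (map_ofNat (algebraMap F (AU F m)) 2).symm
    rw [this]
    exact (IsUnit.mk0 2 h2).map _
  rw [← rU_pow_eq_zero_iff (F := F) m (p ^ t)]
  constructor
  · intro h
    rw [uU, mul_pow] at h
    have h3 : (1 + rU m : AU F m) ^ (p ^ t) = (1 - rU m) ^ (p ^ t) := by
      calc (1 + rU m : AU F m) ^ (p ^ t)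
          = (1 + rU m) ^ (p ^ t) * ((1 - rU m) ^ (p ^ t) * (vU m) ^ (p ^ t)) := by
            rw [hv, mul_one]
        _ = ((1 + rU m) ^ (p ^ t) * (vU m) ^ (p ^ t)) * (1 - rU m) ^ (p ^ t) := by ring
        _ = (1 - rU m) ^ (p ^ t) := by rw [h, one_mul]
    rw [e1, e2] at h3
    have h4 : (2 : AU F m) * (rU m) ^ (p ^ t) = 0 := by linear_combination h3
    exact (h2A.mul_right_eq_zero).mp h4
  · intro h
    rw [uU, mul_pow, e1, h, add_zero, one_mul]
    rw [e2, h, sub_zero, one_mul] at hv
    exact hv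

lemma orderOf_uU (p : ℕ) [Fact p.Prime] [CharP F p] (h2 : (2 : F) ≠ 0) (hm2 : 2 ≤ m) :
    orderOf (uU m : AU F m) = p ^ Nat.clog p m := by
  have hp : p.Prime := Fact.out
  obtain ⟨s, hs⟩ : ∃ s, Nat.clog p m = s + 1 := by
    have : 0 < Nat.clog p m := Nat.clog_pos hp.one_lt hm2
    exact ⟨Nat.clog p m - 1, by omega⟩
  rw [hs]
  apply orderOf_eq_prime_pow
  · rw [uU_pow_eq_one_iff p h2 (by omega)]
    have := Nat.pow_pred_clog_lt_self hp.one_lt (show 1 < m by omega)
    rw [hs] at this
    simp only [Nat.pred_eq_sub_one, Nat.add_sub_cancel] at this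
    omega
  · rw [uU_pow_eq_one_iff p h2 (by omega), ← hs]
    exact Nat.le_pow_clog hp.one_lt m

/-- the unipotent block: order data -/
theorem block_U (p : ℕ) [Fact p.Prime] [CharP F p] (h2 : (2 : F) ≠ 0) (hm : Even m)
    (hm2 : 2 ≤ m) :
    ∃ (ω : BilinForm F (AU F m)) (T : Module.End F (AU F m)), SpIso ω T ∧
      ∀ j : ℕ, T ^ j = 1 ↔ p ^ Nat.clog p m ∣ j := by
  refine ⟨omU hm, LinearMap.mulLeft F (uU m), spIso_U h2 hm (by omega), ?_⟩
  intro j
  rw [mulLeft_pow, mulLeft_eq_one_iff, ← orderOf_uU p h2 hm2, orderOf_dvd_iff_pow_eq_one]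

end Ublock

end Cfsg.Agent.Lib.Helper39.SpT
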