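import Mathlib
import Cfsg.Prelude.Def_Classical
import Cfsg.Agent.Lib.Helper40.Darboux
import Cfsg.Agent.Lib.Helper5.SympCenter

set_option autoImplicit false
set_option linter.unusedSimpArgs false
set_option linter.unusedVariables false
set_option linter.unnecessarySeqFocus false
set_option linter.unusedSectionVars false
set_option linter.style.haveILetI false
set_option maxHeartbeats 800000

/-!
# Elements of `PSp` from isometries of symplectic spaces
-/

namespace Cfsg.Agent.Lib.Helper39.Spec

open Module Matrix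

/-- an isometry of a symplectic space of dimension `2n` whose powers are never `-1` gives an
element of `PSp` of the same order -/
theorem exists_PSp_of_isometry {F : Type*} [Field F] {V : Type*} [AddCommGroup V] [Module F V]
    [FiniteDimensional F V] (ω : LinearMap.BilinForm F V) (halt : ω.IsAlt)
    (hnd : ω.Nondegenerate) (n : ℕ) (hn : 0 < n) (hfr : finrank F V = 2 * n)
    (T : Module.End F V) (hT : ∀ u w, ω (T u) (T w) = ω u w) (M : ℕ)
    (hM : ∀ j : ℕ, T ^ j = 1 ↔ M ∣ j) (hneg : ∀ j : ℕ, T ^ j ≠ -1) :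
    ∃ x : Cfsg.PSp n F, orderOf x = M := by
  classical
  haveI : Nonempty (Fin n) := ⟨⟨0, hn⟩⟩
  obtain ⟨b, hb⟩ := Cfsg.Agent.Lib.Helper40.Darboux.darboux_basis n V ω halt hnd hfr
  have hmem : LinearMap.toMatrix b b T ∈ Matrix.symplecticGroup (Fin n) F := by
    rw [SymplecticGroup.mem_iff']
    have hcomp : ω.comp T T = ω := by
      ext u w
      simp only [LinearMap.BilinForm.comp_apply]
      exact hT u w
    have h1 := LinearMap.BilinForm.toMatrix_comp b b ω T T
    rw [hcomp, hb, Cfsg.Agent.Lib.Helper40.Darboux.gramJ_eq] at h1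
    have h2 : -((LinearMap.toMatrix b b T)ᵀ * Matrix.J (Fin n) F * LinearMap.toMatrix b b T)
        = - Matrix.J (Fin n) F := by
      rw [h1]; simp
    exact neg_injective h2
  set A : Matrix.symplecticGroup (Fin n) F := ⟨_, hmem⟩ with hA
  have hpow : ∀ j : ℕ, ((A ^ j : Matrix.symplecticGroup (Fin n) F) :
      Matrix (Fin n ⊕ Fin n) (Fin n ⊕ Fin n) F) = LinearMap.toMatrix b b (T ^ j) := by
    intro j
    rw [SubmonoidClass.coe_pow, ← LinearMap.toMatrix_pow]
  have key : ∀ j : ℕ, (QuotientGroup.mk A : Cfsg.PSp n F) ^ j = 1 ↔ M ∣ j := by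
    intro j
    rw [← QuotientGroup.mk_pow, QuotientGroup.eq_one_iff,
      Cfsg.Agent.Lib.Helper5.mem_center_symplecticGroup_iff, hpow]
    constructor
    · rintro (h | h)
      · rw [← hM]
        apply (LinearMap.toMatrix b b).injective
        rw [h, LinearMap.toMatrix_one]
      · exfalso
        apply hneg j
        apply (LinearMap.toMatrix b b).injective
        rw [h, map_neg, LinearMap.toMatrix_one]
    · intro h
      left
      rw [(hM j).mpr h, LinearMap.toMatrix_one]
  refine ⟨QuotientGroup.mk A, ?_⟩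
  apply Nat.dvd_antisymm
  · apply orderOf_dvd_of_pow_eq_one
    rw [key]
  · rw [← key]
    exact pow_orderOf_eq_one _

section Concrete

variable {F K : Type*} [Field F] [Field K] [Algebra F K] [FiniteDimensional F K]

/-- the twisted trace form -/
noncomputable def omK (σ : K ≃ₐ[F] K) (γ : K) : LinearMap.BilinForm F K :=
  LinearMap.mk₂ F (fun a b => Algebra.trace F K (γ * a * σ b))
    (by intro a a' b; simp only [mul_add, add_mul, map_add])
    (by
      intro c a b
      rw [mul_smul_comm, smul_mul_assoc, map_smul])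
    (by intro a b b'; simp only [mul_add, add_mul, map_add])
    (by
      intro c a b
      rw [map_smul, mul_smul_comm, map_smul])

lemma omK_apply (σ : K ≃ₐ[F] K) (γ : K) (a b : K) :
    omK σ γ a b = Algebra.trace F K (γ * a * σ b) := rfl

/-- the form on `K × (F × F)` -/
noncomputable def omV (σ : K ≃ₐ[F] K) (γ : K) : LinearMap.BilinForm F (K × (F × F)) :=
  LinearMap.mk₂ F (fun x y => omK σ γ x.1 y.1 + (x.2.1 * y.2.2 - x.2.2 * y.2.1))
    (by
      intro a a' b
      simp only [Prod.fst_add, Prod.snd_add, map_add, LinearMap.add_apply]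
      ring)
    (by
      intro c a b
      simp only [Prod.smul_fst, Prod.smul_snd, map_smul, LinearMap.smul_apply, smul_eq_mul]
      ring)
    (by
      intro a b b'
      simp only [Prod.fst_add, Prod.snd_add, map_add]
      ring)
    (by
      intro c a b
      simp only [Prod.smul_fst, Prod.smul_snd, map_smul, smul_eq_mul]
      ring)

lemma omV_apply (σ : K ≃ₐ[F] K) (γ : K) (x y : K × (F × F)) :
    omV σ γ x y = omK σ γ x.1 y.1 + (x.2.1 * y.2.2 - x.2.2 * y.2.1) := rfl

/-- the isometry -/
noncomputable def TV (lam : K) : Module.End F (K × (F × F)) where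
  toFun x := (lam * x.1, (x.2.1 + x.2.2, x.2.2))
  map_add' x y := by
    ext
    · simp [mul_add]
    · simp; ring
    · simp
  map_smul' c x := by
    ext
    · simp
    · simp [mul_add]
    · simp

lemma TV_apply (lam : K) (x : K × (F × F)) :
    TV (F := F) lam x = (lam * x.1, (x.2.1 + x.2.2, x.2.2)) := rfl

lemma TV_pow_apply (lam : K) (j : ℕ) (x : K × (F × F)) :
    (TV (F := F) lam ^ j) x = (lam ^ j * x.1, (x.2.1 + (j : F) * x.2.2, x.2.2)) := by
  induction j generalizing x with
  | zero => simp
  | succ j ih =>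
    rw [pow_succ, Module.End.mul_apply, TV_apply, ih]
    ext
    · simp only [pow_succ, mul_assoc]
    · simp only [Nat.cast_add, Nat.cast_one]; ring
    · rfl

variable (σ : K ≃ₐ[F] K) (γ lam : K)

lemma omK_alt (h2 : (2 : F) ≠ 0) (hσσ : ∀ x, σ (σ x) = x) (hγ : σ γ = -γ) :
    (omK σ γ).IsAlt := by
  intro a
  rw [omK_apply]
  have h1 : σ (γ * a * σ a) = -(γ * a * σ a) := by
    rw [map_mul, map_mul, hσσ, hγ]; ring
  have h3 := Algebra.trace_eq_of_algEquiv σ (γ * a * σ a)
  rw [h1, map_neg] at h3
  have h4 : (2 : F) * Algebra.trace F K (γ * a * σ a) = 0 := by linear_combination -h3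
  rcases mul_eq_zero.mp h4 with h | h
  · exact absurd h h2
  · exact h

lemma omK_sepLeft [Algebra.IsSeparable F K] (hγ0 : γ ≠ 0) :
    ∀ a, (∀ b, omK σ γ a b = 0) → a = 0 := by
  intro a ha
  have h1 : γ * a = 0 := by
    apply (traceForm_nondegenerate F K).1
    intro c
    have := ha (σ.symm c)
    rw [omK_apply, AlgEquiv.apply_symm_apply] at this
    rw [Algebra.traceForm_apply]
    exact this
  rcases mul_eq_zero.mp h1 with h | h
  · exact absurd h hγ0
  · exact h

lemma omK_inv (hlam : lam * σ lam = 1) (a b : K) :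
    omK σ γ (lam * a) (lam * b) = omK σ γ a b := by
  rw [omK_apply, omK_apply]
  have : γ * (lam * a) * σ (lam * b) = γ * a * σ b := by
    rw [map_mul σ lam b]
    linear_combination (γ * a * σ b) * hlam
  rw [this]

lemma omV_alt (h2 : (2 : F) ≠ 0) (hσσ : ∀ x, σ (σ x) = x) (hγ : σ γ = -γ) :
    (omV σ γ).IsAlt := by
  intro x
  rw [omV_apply, omK_alt σ γ h2 hσσ hγ x.1]
  ring

lemma omV_nondeg [Algebra.IsSeparable F K] (h2 : (2 : F) ≠ 0) (hσσ : ∀ x, σ (σ x) = x)
    (hγ : σ γ = -γ) (hγ0 : γ ≠ 0) : (omV σ γ).Nondegenerate := by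
  refine ((omV_alt σ γ h2 hσσ hγ).isRefl.nondegenerate_iff_separatingLeft).mpr ?_
  intro x hx
  have h1 : x.1 = 0 := by
    apply omK_sepLeft σ γ hγ0
    intro b
    have := hx (b, (0, 0))
    rw [omV_apply] at this
    simpa using this
  have h2' : x.2.1 = 0 := by
    have := hx (0, (0, 1))
    rw [omV_apply] at this
    simpa using this
  have h3 : x.2.2 = 0 := by
    have := hx (0, (1, 0))
    rw [omV_apply] at this
    simpa using this
  ext
  · exact h1
  · exact h2'
  · exact h3

lemma omV_inv (hlam : lam * σ lam = 1) (x y : K × (F × F)) :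
    omV σ γ (TV lam x) (TV lam y) = omV σ γ x y := by
  rw [omV_apply, omV_apply, TV_apply, TV_apply]
  simp only [omK_inv σ γ lam hlam]
  ring

lemma TV_pow_eq_one_iff (p : ℕ) [CharP F p] (j : ℕ) :
    TV (F := F) lam ^ j = 1 ↔ (lam ^ j = 1 ∧ p ∣ j) := by
  constructor
  · intro h
    have h1 := TV_pow_apply (F := F) lam j (1, (0, 1))
    rw [h, Module.End.one_apply] at h1
    have h3 := congrArg Prod.fst h1
    have h4 := congrArg (fun z => z.2.1) h1
    simp only [mul_one, zero_add] at h3 h4
    exact ⟨h3.symm, (CharP.cast_eq_zero_iff F p j).mp h4.symm⟩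
  · rintro ⟨h1, h3⟩
    apply LinearMap.ext
    intro x
    rw [TV_pow_apply, h1, (CharP.cast_eq_zero_iff F p j).mpr h3, Module.End.one_apply]
    ext <;> simp

lemma TV_pow_ne_neg_one (h2 : (2 : F) ≠ 0) (j : ℕ) : TV (F := F) lam ^ j ≠ -1 := by
  intro h
  have h1 := TV_pow_apply (F := F) lam j (0, (0, 1))
  rw [h] at h1
  have h4 := congrArg (fun z => z.2.2) h1
  simp only [LinearMap.neg_apply, Module.End.one_apply, Prod.snd_neg, Prod.neg_mk] at h4
  apply h2
  linear_combination -h4

end Concrete

end Cfsg.Agent.Lib.Helper39.Spec
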