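import Mathlib
import Cfsg.Agent.Lib.Helper39.SpT3
import Cfsg.Agent.Lib.Helper39.SpecL

set_option autoImplicit false
set_option linter.unusedSimpArgs false
set_option linter.unusedVariables false
set_option linter.unnecessarySeqFocus false
set_option linter.unusedSectionVars false
set_option linter.style.haveILetI false
set_option maxHeartbeats 800000

/-!
# Torus blocks
-/

namespace Cfsg.Agent.Lib.Helper39.SpT

open Module Polynomial
open LinearMap (BilinForm)
open Cfsg.Agent.Lib.Helper39.Spec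

section gen

lemma exists_generator_units (K : Type*) [Field K] [Finite K] :
    ∃ g : Kˣ, orderOf g = Nat.card K - 1 := by
  obtain ⟨g, hg⟩ := IsCyclic.exists_ofOrder_eq_natCard (α := Kˣ)
  exact ⟨g, by rw [hg, Nat.card_units]⟩

lemma sq_cases {K : Type*} [Field K] (x : K) (j : ℕ) (h : x ^ (2 * j) = 1) :
    x ^ j = 1 ∨ x ^ j = -1 := by
  rw [mul_comm, pow_mul, pow_two] at h
  exact mul_self_eq_one_iff.mp h

end gen

section plus

theorem block_plus_aux {F : Type*} [Field F] [Fintype F]
    (hodd : Odd (Fintype.card F)) (d : ℕ) (hd : 1 ≤ d) (p : ℕ) [Fact p.Prime] [CharP F p]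
    (K : Type*) [Field K] [Algebra F K] [FiniteDimensional F K] [Finite K]
    (hfrK : finrank F K = 2 * d) (σ : K ≃ₐ[F] K)
    (hσ : ∀ x : K, σ x = x ^ (Fintype.card F ^ d)) :
    ∃ (ω : BilinForm F K) (T : Module.End F K), SpIso ω T ∧
      (∀ j : ℕ, T ^ j = 1 ↔ (Fintype.card F ^ d + 1) ∣ j) ∧
      (∀ j : ℕ, T ^ (2 * j) = 1 → T ^ j = 1 ∨ T ^ j = -1) := by
  classical
  set q := Fintype.card F with hq
  have hp : p.Prime := Fact.out
  have hqc : Nat.card F = q := Nat.card_eq_fintype_card
  have hq3 : 3 ≤ q := by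
    have hq2 : 2 ≤ q := Fintype.one_lt_card
    obtain ⟨s, hs⟩ := hodd
    omega
  have h2 : (2 : F) ≠ 0 := Cfsg.Agent.Lib.Helper39.TwoRk.two_ne_zero_of_odd_card hodd
  set P := q ^ d with hP
  have hP3 : 3 ≤ P := by
    calc 3 ≤ q := hq3
      _ = q ^ 1 := (pow_one q).symm
      _ ≤ q ^ d := Nat.pow_le_pow_right (by omega) hd
  have hcardK : Nat.card K = P * P := by
    rw [Module.natCard_eq_pow_finrank (K := F) (V := K), hfrK, hqc, hP, two_mul, pow_add]
  haveI : Fintype K := Fintype.ofFinite K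
  have hσσ : ∀ x, σ (σ x) = x := by
    intro x
    rw [hσ, hσ, ← pow_mul, ← hcardK, Nat.card_eq_fintype_card]
    exact FiniteField.pow_card x
  have hcardU : Nat.card K - 1 = (P - 1) * (P + 1) := by
    rw [hcardK]
    obtain ⟨P', hP'⟩ : ∃ P', P = P' + 1 := ⟨P - 1, by omega⟩
    rw [hP']
    simp only [Nat.add_sub_cancel]
    have : (P' + 1) * (P' + 1) = P' * (P' + 1 + 1) + 1 := by ring
    omega
  obtain ⟨g, hg⟩ := exists_generator_units K
  have hlamU : orderOf (g ^ (P - 1)) = P + 1 := by
    rw [orderOf_pow_of_dvd (by omega) (by rw [hg, hcardU]; exact dvd_mul_right _ _), hg, hcardU]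
    exact Nat.mul_div_cancel_left _ (by omega)
  set lam : K := ((g ^ (P - 1) : Kˣ) : K) with hlam
  have hlamo : orderOf lam = P + 1 := by rw [hlam, orderOf_units, hlamU]
  have hlam1 : lam * σ lam = 1 := by
    rw [hσ, ← pow_succ', ← hlamo]
    exact pow_orderOf_eq_one lam
  set γ : K := lam - σ lam with hγ
  have hγσ : σ γ = -γ := by
    rw [hγ, map_sub, hσσ]; ring
  have hγ0 : γ ≠ 0 := by
    intro h
    have h1 : lam = σ lam := sub_eq_zero.mp h
    rw [← h1] at hlam1
    have h3 : lam ^ 2 = 1 := by rw [pow_two]; exact hlam1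
    have h4 := orderOf_dvd_of_pow_eq_one h3
    rw [hlamo] at h4
    have := Nat.le_of_dvd (by norm_num) h4
    omega
  have halt := omK_alt σ γ h2 hσσ hγσ
  refine ⟨omK σ γ, LinearMap.mulLeft F lam, ⟨halt, ?_, ?_⟩, ?_, ?_⟩
  · refine (halt.isRefl.nondegenerate_iff_separatingLeft).mpr ?_
    exact omK_sepLeft σ γ hγ0
  · intro a b
    simp only [LinearMap.mulLeft_apply]
    exact omK_inv σ γ lam hlam1 a b
  · intro j
    rw [mulLeft_pow, mulLeft_eq_one_iff, ← hlamo, orderOf_dvd_iff_pow_eq_one]
  · intro j hj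
    rw [mulLeft_pow, mulLeft_eq_one_iff] at hj
    rw [mulLeft_pow, mulLeft_eq_one_iff, mulLeft_eq_neg_one_iff]
    exact sq_cases lam j hj

theorem block_plus {F : Type*} [Field F] [Fintype F]
    (hodd : Odd (Fintype.card F)) (d : ℕ) (hd : 1 ≤ d) (p : ℕ) [Fact p.Prime] [CharP F p]
    [NeZero (2 * d)] :
    ∃ (ω : BilinForm F (FiniteField.Extension F p (2 * d)))
      (T : Module.End F (FiniteField.Extension F p (2 * d))), SpIso ω T ∧
      (∀ j : ℕ, T ^ j = 1 ↔ (Fintype.card F ^ d + 1) ∣ j) ∧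
      (∀ j : ℕ, T ^ (2 * j) = 1 → T ^ j = 1 ∨ T ^ j = -1) := by
  refine block_plus_aux hodd d hd p (FiniteField.Extension F p (2 * d))
    (FiniteField.finrank_extension F p (2 * d)) ((FiniteField.Extension.frob F p (2 * d)) ^ d) ?_
  intro x
  rw [FiniteField.Extension.frob_iterate_apply, Nat.card_eq_fintype_card]

end plus

section minus

variable {F K : Type*} [Field F] [Field K] [Algebra F K] [FiniteDimensional F K]

/-- the hyperbolic trace form on `K × K` -/
noncomputable def omH : BilinForm F (K × K) :=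
  LinearMap.mk₂ F
    (fun x y => Algebra.trace F K (x.1 * y.2) - Algebra.trace F K (x.2 * y.1))
    (by
      intro a a' b
      simp only [Prod.fst_add, Prod.snd_add, add_mul, map_add]
      ring)
    (by
      intro c a b
      simp only [Prod.smul_fst, Prod.smul_snd, smul_mul_assoc, map_smul, smul_eq_mul]
      ring)
    (by
      intro a b b'
      simp only [Prod.fst_add, Prod.snd_add, mul_add, map_add]
      ring)
    (by
      intro c a b
      simp only [Prod.smul_fst, Prod.smul_snd, mul_smul_comm, map_smul, smul_eq_mul]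
      ring)

lemma omH_apply (x y : K × K) :
    omH (F := F) x y = Algebra.trace F K (x.1 * y.2) - Algebra.trace F K (x.2 * y.1) := rfl

theorem block_minus_aux {F : Type*} [Field F] [Fintype F]
    (hodd : Odd (Fintype.card F)) (d : ℕ) (hd : 1 ≤ d) (p : ℕ) [Fact p.Prime] [CharP F p]
    (K : Type*) [Field K] [Algebra F K] [FiniteDimensional F K] [Finite K]
    (hfrK : finrank F K = d) :
    ∃ (ω : BilinForm F (K × K)) (T : Module.End F (K × K)), SpIso ω T ∧
      (∀ j : ℕ, T ^ j = 1 ↔ (Fintype.card F ^ d - 1) ∣ j) ∧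
      (∀ j : ℕ, T ^ (2 * j) = 1 → T ^ j = 1 ∨ T ^ j = -1) := by
  classical
  set q := Fintype.card F with hq
  have hqc : Nat.card F = q := Nat.card_eq_fintype_card
  have hcardK : Nat.card K = q ^ d := by
    rw [Module.natCard_eq_pow_finrank (K := F) (V := K), hfrK, hqc]
  obtain ⟨g, hg⟩ := exists_generator_units K
  rw [hcardK] at hg
  set lam : K := (g : K) with hlam
  have hlamo : orderOf lam = q ^ d - 1 := by rw [hlam, orderOf_units, hg]
  have hlam0 : lam ≠ 0 := g.ne_zero
  have halt : (omH (F := F) (K := K)).IsAlt := by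
    intro x
    rw [omH_apply, mul_comm, sub_self]
  set T : Module.End F (K × K) :=
    (LinearMap.mulLeft F lam).prodMap (LinearMap.mulLeft F lam⁻¹) with hT
  have hTpow : ∀ j : ℕ, T ^ j =
      (LinearMap.mulLeft F (lam ^ j)).prodMap (LinearMap.mulLeft F (lam⁻¹ ^ j)) := by
    intro j
    rw [hT, prodMap_pow, mulLeft_pow, mulLeft_pow]
  refine ⟨omH, T, ⟨halt, ?_, ?_⟩, ?_, ?_⟩
  · refine (halt.isRefl.nondegenerate_iff_separatingLeft).mpr ?_
    intro x hx
    have h1 : x.1 = 0 := by
      apply (traceForm_nondegenerate F K).1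
      intro c
      have := hx (0, c)
      rw [omH_apply] at this
      rw [Algebra.traceForm_apply]
      simpa using this
    have h3 : x.2 = 0 := by
      apply (traceForm_nondegenerate F K).1
      intro c
      have := hx (c, 0)
      rw [omH_apply] at this
      rw [Algebra.traceForm_apply]
      simpa using this
    exact Prod.ext h1 h3
  · intro a b
    rw [omH_apply, omH_apply, hT]
    simp only [LinearMap.prodMap_apply, LinearMap.mulLeft_apply]
    have e1 : lam * a.1 * (lam⁻¹ * b.2) = a.1 * b.2 := by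
      field_simp
    have e2 : lam⁻¹ * a.2 * (lam * b.1) = a.2 * b.1 := by
      field_simp
    rw [e1, e2]
  · intro j
    rw [hTpow, prodMap_eq_one_iff, mulLeft_eq_one_iff, mulLeft_eq_one_iff, ← hlamo,
      orderOf_dvd_iff_pow_eq_one]
    constructor
    · exact fun h => h.1
    · intro h
      exact ⟨h, by rw [inv_pow, h, inv_one]⟩
  · intro j hj
    rw [hTpow, prodMap_eq_one_iff, mulLeft_eq_one_iff, mulLeft_eq_one_iff] at hj
    rw [hTpow, prodMap_eq_one_iff, prodMap_eq_neg_one_iff, mulLeft_eq_one_iff,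
      mulLeft_eq_one_iff, mulLeft_eq_neg_one_iff, mulLeft_eq_neg_one_iff]
    rcases sq_cases lam j hj.1 with h | h
    · left
      exact ⟨h, by rw [inv_pow, h, inv_one]⟩
    · right
      exact ⟨h, by rw [inv_pow, h, inv_neg, inv_one]⟩

theorem block_minus {F : Type*} [Field F] [Fintype F]
    (hodd : Odd (Fintype.card F)) (d : ℕ) (hd : 1 ≤ d) (p : ℕ) [Fact p.Prime] [CharP F p]
    [NeZero d] :
    ∃ (ω : BilinForm F (FiniteField.Extension F p d × FiniteField.Extension F p d))
      (T : Module.End F (FiniteField.Extension F p d × FiniteField.Extension F p d)),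
      SpIso ω T ∧
      (∀ j : ℕ, T ^ j = 1 ↔ (Fintype.card F ^ d - 1) ∣ j) ∧
      (∀ j : ℕ, T ^ (2 * j) = 1 → T ^ j = 1 ∨ T ^ j = -1) :=
  block_minus_aux hodd d hd p (FiniteField.Extension F p d)
    (FiniteField.finrank_extension F p d)

end minus

end Cfsg.Agent.Lib.Helper39.SpT
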