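import Mathlib
import Cfsg.Agent.Lib.Helper39.SpT4

set_option autoImplicit false
set_option linter.unusedSimpArgs false
set_option linter.unusedVariables false
set_option linter.unnecessarySeqFocus false
set_option linter.unusedSectionVars false
set_option linter.style.haveILetI false
set_option maxHeartbeats 800000

/-!
# Element orders of `PSp` obtained from blocks
-/

namespace Cfsg.Agent.Lib.Helper39.SpT

open Module Polynomial
open LinearMap (BilinForm)

section gen
variable {F : Type*} [Field F] {V : Type*} [AddCommGroup V] [Module F V]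

lemma neg_pow_end (T : Module.End F V) (j : ℕ) : (-T) ^ j = (-1 : F) ^ j • T ^ j := by
  have : -T = (-1 : F) • T := (neg_one_smul F T).symm
  rw [this, _root_.smul_pow]

lemma one_ne_neg_one_end [Nontrivial V] (h2 : (2 : F) ≠ 0) : (1 : Module.End F V) ≠ -1 := by
  intro h
  obtain ⟨v, hv⟩ := exists_ne (0 : V)
  have h1 := congrArg (fun f : Module.End F V => f v) h
  simp only [Module.End.one_apply, LinearMap.neg_apply] at h1
  have : (2 : F) • v = 0 := by
    rw [two_smul]
    nth_rewrite 1 [h1]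
    simp
  rcases smul_eq_zero.mp this with h' | h'
  · exact h2 h'
  · exact hv h'

/-- an operator of odd order has no power equal to `-1` -/
lemma pow_ne_neg_one_of_odd [Nontrivial V] (h2 : (2 : F) ≠ 0) (T : Module.End F V) (M : ℕ)
    (hM : Odd M) (hT : T ^ M = 1) (j : ℕ) : T ^ j ≠ -1 := by
  intro h
  have h1 : (T ^ j) ^ M = 1 := by rw [← pow_mul, mul_comm, pow_mul, hT, one_pow]
  rw [h, hM.neg_one_pow] at h1
  exact one_ne_neg_one_end h2 h1.symm

end gen

section combos
variable {F : Type*} [Field F]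

/-- a single torus block of even order `2 M'` gives the order `M'` -/
theorem full_torus {V : Type*} [AddCommGroup V] [Module F V] [FiniteDimensional F V] (n : ℕ)
    (hn : 0 < n) {ω : BilinForm F V} {T : Module.End F V} (h : SpIso ω T)
    (hfr : finrank F V = 2 * n) (M' : ℕ) (hT1 : ∀ j : ℕ, T ^ j = 1 ↔ 2 * M' ∣ j)
    (hT2 : ∀ j : ℕ, T ^ (2 * j) = 1 → T ^ j = 1 ∨ T ^ j = -1) :
    M' ∈ Set.range (orderOf : Cfsg.PSp n F → ℕ) := by
  refine mem_of_block n hn h hfr M' ?_
  intro j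
  constructor
  · intro hj
    have h1 : T ^ (2 * j) = 1 := by
      rw [mul_comm, pow_mul]
      rcases hj with e | e
      · rw [e, one_pow]
      · rw [e]; simp
    exact Nat.dvd_of_mul_dvd_mul_left (by norm_num) ((hT1 _).mp h1)
  · intro hj
    exact hT2 j ((hT1 _).mpr (Nat.mul_dvd_mul_left 2 hj))

/-- an odd-order block together with minus an odd-order block -/
theorem comb (h2 : (2 : F) ≠ 0) (n : ℕ) (hn : 0 < n)
    {V₁ V₂ : Type*} [AddCommGroup V₁] [Module F V₁] [AddCommGroup V₂] [Module F V₂]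
    [FiniteDimensional F V₁] [FiniteDimensional F V₂] [Nontrivial V₁] [Nontrivial V₂]
    {ω₁ : BilinForm F V₁} {ω₂ : BilinForm F V₂} {T₁ : Module.End F V₁} {J : Module.End F V₂}
    (h₁ : SpIso ω₁ T₁) (h₂ : SpIso ω₂ J) (hfr : finrank F V₁ + finrank F V₂ = 2 * n)
    (M₁ P : ℕ) (hM₁ : Odd M₁) (hP : Odd P) (hT₁ : ∀ j : ℕ, T₁ ^ j = 1 ↔ M₁ ∣ j)
    (hJ : ∀ j : ℕ, J ^ j = 1 ↔ P ∣ j) :
    2 * Nat.lcm M₁ P ∈ Set.range (orderOf : Cfsg.PSp n F → ℕ) := by
  have hT₁M : T₁ ^ M₁ = 1 := (hT₁ _).mpr dvd_rfl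
  have hJP : J ^ P = 1 := (hJ _).mpr dvd_rfl
  have hlodd : Odd (Nat.lcm M₁ P) := by
    rw [← Nat.not_even_iff_odd, even_iff_two_dvd]
    intro h
    rcases (Nat.Prime.dvd_mul Nat.prime_two).mp (h.trans (Nat.lcm_dvd_mul M₁ P)) with h' | h'
    · exact (Nat.not_even_iff_odd.mpr hM₁) (even_iff_two_dvd.mpr h')
    · exact (Nat.not_even_iff_odd.mpr hP) (even_iff_two_dvd.mpr h')
  refine mem_of_blocks n hn h₁ h₂.neg hfr _ ?_
  intro j
  constructor
  · rintro (⟨e1, e2⟩ | ⟨e1, e2⟩)
    · have hj1 : M₁ ∣ j := (hT₁ j).mp e1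
      rw [neg_pow_end] at e2
      have hjeven : Even j := by
        by_contra hodd
        rw [Nat.not_even_iff_odd] at hodd
        rw [hodd.neg_one_pow, neg_one_smul] at e2
        have : J ^ j = -1 := by rw [← neg_eq_iff_eq_neg, e2]
        exact pow_ne_neg_one_of_odd h2 J P hP hJP j this
      rw [hjeven.neg_one_pow, one_smul] at e2
      have hj2 : P ∣ j := (hJ j).mp e2
      exact Nat.Coprime.mul_dvd_of_dvd_of_dvd (Nat.coprime_two_left.mpr hlodd)
        (even_iff_two_dvd.mp hjeven) (Nat.lcm_dvd hj1 hj2)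
    · exact absurd e1 (pow_ne_neg_one_of_odd h2 T₁ M₁ hM₁ hT₁M j)
  · rintro ⟨i, rfl⟩
    left
    constructor
    · rw [hT₁]
      exact (Nat.dvd_lcm_left M₁ P).trans ⟨2 * i, by ring⟩
    · rw [neg_pow_end]
      have hev : Even (2 * Nat.lcm M₁ P * i) := ⟨Nat.lcm M₁ P * i, by ring⟩
      rw [hev.neg_one_pow, one_smul, hJ]
      exact (Nat.dvd_lcm_right M₁ P).trans ⟨2 * i, by ring⟩

end combos

section concrete
variable {F : Type*} [Field F] [Fintype F]

lemma nontrivial_of_finrank {V : Type*} [AddCommGroup V] [Module F V] {k : ℕ}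
    (h : finrank F V = k) (hk : 0 < k) : Nontrivial V :=
  Module.nontrivial_of_finrank_pos (R := F) (by rw [h]; exact hk)

/-- `(q^n + 1)/2` is an element order -/
theorem half_plus_mem (hodd : Odd (Fintype.card F)) (n : ℕ) (hn : 1 ≤ n) (p : ℕ) [Fact p.Prime]
    [CharP F p] (M' : ℕ) (hM' : 2 * M' = Fintype.card F ^ n + 1) :
    M' ∈ Set.range (orderOf : Cfsg.PSp n F → ℕ) := by
  haveI : NeZero (2 * n) := ⟨by omega⟩
  obtain ⟨ω, T, h, hT1, hT2⟩ := block_plus hodd n hn p
  refine full_torus n (by omega) h (FiniteField.finrank_extension F p (2 * n)) M' ?_ hT2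
  intro j
  rw [hT1, hM']

/-- `(q^n - 1)/2` is an element order -/
theorem half_minus_mem (hodd : Odd (Fintype.card F)) (n : ℕ) (hn : 1 ≤ n) (p : ℕ) [Fact p.Prime]
    [CharP F p] (M' : ℕ) (hM' : 2 * M' = Fintype.card F ^ n - 1) :
    M' ∈ Set.range (orderOf : Cfsg.PSp n F → ℕ) := by
  haveI : NeZero n := ⟨by omega⟩
  obtain ⟨ω, T, h, hT1, hT2⟩ := block_minus hodd n hn p
  refine full_torus n (by omega) h ?_ M' ?_ hT2
  · rw [Module.finrank_prod, FiniteField.finrank_extension]
    ring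
  · intro j
    rw [hT1, hM']

/-- torus of type `+` in dimension `2d < 2n` together with minus a regular unipotent -/
theorem torus_plus_unip_mem (hodd : Odd (Fintype.card F)) (n d : ℕ) (hd : 1 ≤ d) (hdn : d < n)
    (p : ℕ) [Fact p.Prime] [CharP F p] (c m' : ℕ) (hc : c * m' = Fintype.card F ^ d + 1)
    (hm' : Odd m') :
    2 * Nat.lcm m' (p ^ Nat.clog p (2 * (n - d))) ∈
      Set.range (orderOf : Cfsg.PSp n F → ℕ) := by
  have h2 : (2 : F) ≠ 0 := Cfsg.Agent.Lib.Helper39.TwoRk.two_ne_zero_of_odd_card hodd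
  have hp : p.Prime := Fact.out
  have hp2 : p ≠ 2 := by
    rintro rfl
    apply h2
    have := CharP.cast_eq_zero F 2
    exact_mod_cast this
  haveI : NeZero (2 * d) := ⟨by omega⟩
  obtain ⟨ω₁, T₁, h₁, hT1, -⟩ := block_plus hodd d hd p
  obtain ⟨ω₂, J, h₂J, hJ⟩ := block_U (F := F) (m := 2 * (n - d)) p h2 ⟨n - d, by ring⟩ (by omega)
  have hc0 : 0 < c := by
    rcases Nat.eq_zero_or_pos c with h | h
    · rw [h, zero_mul] at hc; omega
    · exact h
  haveI : Nontrivial (FiniteField.Extension F p (2 * d)) :=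
    nontrivial_of_finrank (F := F) (FiniteField.finrank_extension F p (2 * d)) (by omega)
  haveI : Nontrivial (AU F (2 * (n - d))) :=
    nontrivial_of_finrank (F := F) (finrank_AU (2 * (n - d))) (by omega)
  refine comb h2 n (by omega) (h₁.pow c) h₂J ?_ m' _ hm' ?_ ?_ hJ
  · rw [FiniteField.finrank_extension, finrank_AU]
    omega
  · exact (hp.odd_of_ne_two hp2).pow
  · intro j
    rw [← pow_mul, hT1, ← hc]
    exact Nat.mul_dvd_mul_iff_left hc0

/-- torus of type `-` in dimension `2d < 2n` together with minus a regular unipotent -/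
theorem torus_minus_unip_mem (hodd : Odd (Fintype.card F)) (n d : ℕ) (hd : 1 ≤ d) (hdn : d < n)
    (p : ℕ) [Fact p.Prime] [CharP F p] (c m' : ℕ) (hc : c * m' = Fintype.card F ^ d - 1)
    (hm' : Odd m') :
    2 * Nat.lcm m' (p ^ Nat.clog p (2 * (n - d))) ∈
      Set.range (orderOf : Cfsg.PSp n F → ℕ) := by
  have h2 : (2 : F) ≠ 0 := Cfsg.Agent.Lib.Helper39.TwoRk.two_ne_zero_of_odd_card hodd
  have hp : p.Prime := Fact.out
  have hp2 : p ≠ 2 := by
    rintro rfl
    apply h2
    have := CharP.cast_eq_zero F 2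
    exact_mod_cast this
  haveI : NeZero d := ⟨by omega⟩
  obtain ⟨ω₁, T₁, h₁, hT1, -⟩ := block_minus hodd d hd p
  obtain ⟨ω₂, J, h₂J, hJ⟩ := block_U (F := F) (m := 2 * (n - d)) p h2 ⟨n - d, by ring⟩ (by omega)
  have hc0 : 0 < c := by
    rcases Nat.eq_zero_or_pos c with h | h
    · rw [h, zero_mul] at hc
      have : 3 ≤ Fintype.card F := by
        have hq2 : 2 ≤ Fintype.card F := Fintype.one_lt_card
        obtain ⟨s, hs⟩ := hodd
        omega
      have : 3 ^ d ≤ Fintype.card F ^ d := Nat.pow_le_pow_left this d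
      have : 3 ^ 1 ≤ 3 ^ d := Nat.pow_le_pow_right (by norm_num) hd
      omega
    · exact h
  have hfr1 : finrank F (FiniteField.Extension F p d × FiniteField.Extension F p d) = 2 * d := by
    rw [Module.finrank_prod, FiniteField.finrank_extension]
    ring
  haveI : Nontrivial (FiniteField.Extension F p d × FiniteField.Extension F p d) :=
    nontrivial_of_finrank (F := F) hfr1 (by omega)
  haveI : Nontrivial (AU F (2 * (n - d))) :=
    nontrivial_of_finrank (F := F) (finrank_AU (2 * (n - d))) (by omega)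
  refine comb h2 n (by omega) (h₁.pow c) h₂J ?_ m' _ hm' ?_ ?_ hJ
  · rw [hfr1, finrank_AU]
    omega
  · exact (hp.odd_of_ne_two hp2).pow
  · intro j
    rw [← pow_mul, hT1, ← hc]
    exact Nat.mul_dvd_mul_iff_left hc0

/-- twice the order of a regular unipotent element of `Sp_{2n-2}` -/
theorem two_unip_mem (hodd : Odd (Fintype.card F)) (n : ℕ) (hn : 2 ≤ n)
    (p : ℕ) [Fact p.Prime] [CharP F p] :
    2 * p ^ Nat.clog p (2 * (n - 1)) ∈ Set.range (orderOf : Cfsg.PSp n F → ℕ) := by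
  have h2 : (2 : F) ≠ 0 := Cfsg.Agent.Lib.Helper39.TwoRk.two_ne_zero_of_odd_card hodd
  have hp : p.Prime := Fact.out
  have hp2 : p ≠ 2 := by
    rintro rfl
    apply h2
    have := CharP.cast_eq_zero F 2
    exact_mod_cast this
  obtain ⟨ω₁, T₁, h₁, hT1⟩ := block_U (F := F) (m := 2 * (n - 1)) p h2 ⟨n - 1, by ring⟩ (by omega)
  obtain ⟨ω₂, J, h₂J, hJ⟩ := block_U (F := F) (m := 2 * 1) p h2 ⟨1, by ring⟩ (by omega)
  haveI : Nontrivial (AU F (2 * (n - 1))) :=
    nontrivial_of_finrank (F := F) (finrank_AU (2 * (n - 1))) (by omega)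
  haveI : Nontrivial (AU F (2 * 1)) :=
    nontrivial_of_finrank (F := F) (finrank_AU (2 * 1)) (by omega)
  have hpodd : Odd p := hp.odd_of_ne_two hp2
  have key := comb h2 n (by omega) h₁ h₂J (by rw [finrank_AU, finrank_AU]; omega) _ _
    hpodd.pow hpodd.pow hT1 hJ
  have hle : Nat.clog p (2 * 1) ≤ Nat.clog p (2 * (n - 1)) :=
    Nat.clog_mono_right p (by omega)
  rw [Nat.lcm_eq_left (pow_dvd_pow p hle)] at key
  exact key

end concrete

end Cfsg.Agent.Lib.Helper39.SpT
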