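import Mathlib
import Cfsg.Agent.Lib.Helper39.SpT6

set_option autoImplicit false
set_option linter.unusedSimpArgs false
set_option linter.unusedVariables false
set_option linter.unnecessarySeqFocus false
set_option linter.unusedSectionVars false
set_option linter.style.haveILetI false
set_option maxHeartbeats 1600000

/-!
# Orders of orthogonally indecomposable isometries
-/

namespace Cfsg.Agent.Lib.Helper39.SpT

open Module Polynomial
open LinearMap (BilinForm)
open Cfsg.Agent.Lib.Helper40.Symp Cfsg.Agent.Lib.Helper40.PrimeOrder Cfsg.Agent.Lib.Helper40.PSp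

section selfrecip
variable {F : Type*} [Field F] [Fintype F]

/-- a self-reciprocal irreducible polynomial other than `X ± 1` has even degree `2d` and divides
`X^(q^d+1) - 1` -/
theorem selfrecip_even (π : F[X]) (hm : π.Monic) (hi : Irreducible π) (h0 : π.coeff 0 ≠ 0)
    (hrec : recip π = π) (hsq : ¬ π ∣ X ^ 2 - 1) :
    ∃ d : ℕ, π.natDegree = 2 * d ∧ π ∣ X ^ (Fintype.card F ^ d + 1) - 1 := by
  haveI : Fact (Irreducible π) := ⟨hi⟩
  set ζ := AdjoinRoot.root π with hζ
  have hζ0 : ζ ≠ 0 := root_ne_zero π hm hi h0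
  haveI : Invertible ζ⁻¹ := invertibleOfNonzero (inv_ne_zero hζ0)
  have hkey : aeval ζ π.reverse = 0 ↔ aeval ζ⁻¹ π = 0 := by
    have := eval₂_reverse_eq_zero_iff (algebraMap F (AdjoinRoot π)) ζ⁻¹ π
    rw [invOf_eq_inv, inv_inv] at this
    exact this
  have hz : aeval ζ⁻¹ π = 0 := by
    rw [← hkey, reverse_eq_of_coeff_zero π h0, hrec, map_mul, AdjoinRoot.aeval_eq π,
      AdjoinRoot.mk_self, mul_zero]
  have hpb := AdjoinRoot.powerBasis hm.ne_zero
  have : Module.Finite F (AdjoinRoot π) := hpb.finite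
  have : Finite (AdjoinRoot π) := Module.finite_of_finite F
  have hfr : Module.finrank F (AdjoinRoot π) = π.natDegree := by
    rw [(AdjoinRoot.powerBasis hm.ne_zero).finrank, AdjoinRoot.powerBasis_dim]
  let σ : AdjoinRoot π →ₐ[F] AdjoinRoot π :=
    AdjoinRoot.liftAlgHom π (Algebra.ofId F (AdjoinRoot π)) ζ⁻¹ (by
      rw [aeval_def] at hz
      exact hz)
  have hσζ : σ ζ = ζ⁻¹ := AdjoinRoot.liftAlgHom_root _ _ _ _
  let σe : AdjoinRoot π ≃ₐ[F] AdjoinRoot π := AlgEquiv.ofBijective σ (AlgHom.bijective σ)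
  have hσe : ∀ x, σe x = σ x := fun x => rfl
  have hσe2 : σe * σe = 1 := by
    apply AlgEquiv.coe_toAlgHom_injective
    apply AdjoinRoot.algHom_ext
    show σe (σe ζ) = ζ
    rw [hσe, hσe, hσζ, map_inv₀, hσζ, inv_inv]
  obtain ⟨⟨j, hjlt⟩, hj⟩ :=
    (FiniteField.bijective_frobeniusAlgEquivOfAlgebraic_pow F (AdjoinRoot π)).2 σe
  simp only at hj
  rw [hfr] at hjlt
  have h1 : ζ ^ (Fintype.card F ^ j) = ζ⁻¹ := by
    have h3 : (FiniteField.frobeniusAlgEquivOfAlgebraic F (AdjoinRoot π) ^ j) ζ = ζ⁻¹ := by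
      rw [hj, hσe, hσζ]
    rw [AlgEquiv.coe_pow, FiniteField.coe_frobeniusAlgEquivOfAlgebraic_iterate] at h3
    exact h3
  have hj0 : j ≠ 0 := by
    rintro rfl
    rw [pow_zero, pow_one] at h1
    apply hsq
    rw [← root_pow_eq_one_iff π hi, pow_two]
    show ζ * ζ = 1
    calc ζ * ζ = ζ⁻¹ * ζ := by rw [← h1]
      _ = 1 := inv_mul_cancel₀ hζ0
  have h2j : (FiniteField.frobeniusAlgEquivOfAlgebraic F (AdjoinRoot π)) ^ (2 * j) = 1 := by
    rw [mul_comm, pow_mul, hj, pow_two, hσe2]
  have hdvd : π.natDegree ∣ 2 * j := by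
    rw [← hfr, ← FiniteField.orderOf_frobeniusAlgEquivOfAlgebraic]
    exact orderOf_dvd_of_pow_eq_one h2j
  have hdeg : π.natDegree = 2 * j := by
    obtain ⟨c, hc⟩ := hdvd
    have hc1 : c = 1 := by
      have hDpos : 0 < π.natDegree := Irreducible.natDegree_pos hi
      rcases Nat.lt_or_ge c 1 with h | h
      · have : c = 0 := by omega
        rw [this, mul_zero] at hc
        omega
      · rcases Nat.lt_or_ge c 2 with h' | h'
        · omega
        · have : π.natDegree * 2 ≤ π.natDegree * c := Nat.mul_le_mul_left _ h'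
          omega
    rw [hc1, mul_one] at hc
    exact hc.symm
  refine ⟨j, hdeg, ?_⟩
  rw [← root_pow_eq_one_iff π hi, pow_succ, h1]
  exact inv_mul_cancel₀ hζ0

end selfrecip

section orders
variable {F : Type*} [Field F] [Fintype F] {V : Type*} [AddCommGroup V] [Module F V]
  [FiniteDimensional F V]
variable {ω : BilinForm F V} {T : Module.End F V}

lemma pow_eq_one_of_dvd (p : ℕ) [Fact p.Prime] [CharP F p] (P : F[X]) (hPT : aeval T P = 0)
    (M t : ℕ) (hd : P ∣ (X ^ M - 1) ^ (p ^ t)) : T ^ (M * p ^ t) = 1 := by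
  have h1 : ((X : F[X]) ^ M - 1) ^ (p ^ t) = X ^ (M * p ^ t) - 1 := by
    rw [sub_pow_char_pow, one_pow, ← pow_mul]
  rw [h1] at hd
  obtain ⟨R, hR⟩ := hd
  have h3 := congrArg (fun g : F[X] => aeval T g) hR
  simp only [map_sub, map_pow, aeval_X, map_one, map_mul, hPT, zero_mul] at h3
  exact sub_eq_zero.mp h3

lemma natDegree_minpoly_le : (minpoly F T).natDegree ≤ finrank F V := by
  have h1 := LinearMap.minpoly_dvd_charpoly T
  have h3 := natDegree_le_of_dvd h1 (LinearMap.charpoly_monic T).ne_zero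
  rwa [LinearMap.charpoly_natDegree] at h3

/-- the numerical shape of the order of an orthogonally indecomposable isometry of odd order -/
theorem order_indec [Nontrivial V] (p : ℕ) [Fact p.Prime] [CharP F p] (n : ℕ)
    (hfr : finrank F V = 2 * n) (h : SpIso ω T) (a : ℕ) (ha : Odd a) (hTa : T ^ a = 1)
    (hind : ∀ U : Submodule F V, (∀ x ∈ U, T x ∈ U) → NondegOn ω U → U = ⊥ ∨ U = ⊤) :
    (∃ t : ℕ, T ^ (p ^ t) = 1) ∨
    ∃ d k M : ℕ, 1 ≤ d ∧ 1 ≤ k ∧ d * k ≤ n ∧
      (M = Fintype.card F ^ d + 1 ∨ M = Fintype.card F ^ d - 1) ∧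
      T ^ (M * p ^ Nat.clog p k) = 1 := by
  classical
  have hp : p.Prime := Fact.out
  obtain ⟨π, k, k', hπm, hπi, hπ0, hk1, hπa, hPT, hPμ, hcases⟩ :=
    struct_indec h a ha.pos hTa hind
  have hμ0 : minpoly F T ≠ 0 := minpoly.ne_zero (Algebra.IsIntegral.isIntegral T)
  have hπ'm := recip_monic π hπ0
  have hdegP : (π ^ k * (recip π) ^ k').natDegree = (k + k') * π.natDegree := by
    rw [natDegree_mul (pow_ne_zero _ hπm.ne_zero) (pow_ne_zero _ hπ'm.ne_zero), natDegree_pow,
      natDegree_pow, recip_natDegree π hπ0]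
    ring
  have hdegle : (k + k') * π.natDegree ≤ 2 * n := by
    rw [← hdegP, ← hfr]
    exact (natDegree_le_of_dvd hPμ hμ0).trans natDegree_minpoly_le
  have hkle : k ≤ p ^ Nat.clog p k := Nat.le_pow_clog hp.one_lt k
  have hDpos : 0 < π.natDegree := Irreducible.natDegree_pos hπi
  have hqpos : 0 < Fintype.card F := Fintype.card_pos
  rcases hcases with ⟨hrec, hk'⟩ | ⟨hrec, hk'⟩
  · -- self-reciprocal
    rw [hk', pow_zero, mul_one] at hPT
    by_cases h1 : π = X - 1
    · left
      refine ⟨Nat.clog p k, ?_⟩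
      have := pow_eq_one_of_dvd p (π ^ k) hPT 1 (Nat.clog p k) (by
        rw [pow_one, ← h1]
        exact pow_dvd_pow π hkle)
      rwa [one_mul] at this
    · right
      have hsq : ¬ π ∣ X ^ 2 - 1 := by
        intro hd
        haveI : Fact (Irreducible π) := ⟨hπi⟩
        have e1 := (root_pow_eq_one_iff π hπi 2).mpr hd
        have e2 := (root_pow_eq_one_iff π hπi a).mpr hπa
        obtain ⟨i, hi⟩ := ha
        have e3 : AdjoinRoot.root π = 1 := by
          rw [hi, pow_succ, pow_mul, e1, one_pow, one_mul] at e2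
          exact e2
        apply h1
        have e4 : π ∣ X ^ 1 - 1 := by
          rw [← root_pow_eq_one_iff π hπi, pow_one]
          exact e3
        rw [pow_one] at e4
        have hX1m : (X - 1 : F[X]).Monic := by simpa using monic_X_sub_C (1 : F)
        have hX1d : (X - 1 : F[X]).natDegree = 1 := by simpa using natDegree_X_sub_C (1 : F)
        exact (eq_of_monic_of_dvd_of_natDegree_le hπm hX1m e4
          (by rw [hX1d]; exact hDpos)).symm
      obtain ⟨d, hd2, hdvd⟩ := selfrecip_even π hπm hπi hπ0 hrec hsq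
      refine ⟨d, k, Fintype.card F ^ d + 1, ?_, hk1, ?_, Or.inl rfl, ?_⟩
      · omega
      · rw [hk', add_zero, hd2] at hdegle
        have : 2 * (d * k) ≤ 2 * n := by
          calc 2 * (d * k) = k * (2 * d) := by ring
            _ ≤ 2 * n := hdegle
        omega
      · exact pow_eq_one_of_dvd p (π ^ k) hPT _ _
          ((pow_dvd_pow_of_dvd hdvd k).trans (pow_dvd_pow _ hkle))
  · -- a pair of distinct reciprocal factors
    right
    rw [hk'] at hPT hdegle
    set M := Fintype.card F ^ π.natDegree - 1 with hM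
    have hMpos : 0 < M := by
      have h2 : 2 ≤ Fintype.card F := Fintype.one_lt_card
      have : 2 ^ 1 ≤ Fintype.card F ^ π.natDegree :=
        (Nat.pow_le_pow_left h2 1).trans (Nat.pow_le_pow_right (by omega) hDpos)
      omega
    have hd1 : π ∣ X ^ M - 1 := by
      rw [← root_pow_eq_one_iff π hπi]
      exact root_pow_card π hπm hπi hπ0
    have hd2 : recip π ∣ X ^ M - 1 :=
      recip_dvd π _ hπ0 (reverse_X_pow_sub_one M hMpos) hd1
    have hcop : IsCoprime π (recip π) := by
      rw [hπi.coprime_iff_not_dvd]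
      intro hd
      apply hrec
      exact eq_of_monic_of_dvd_of_natDegree_le hπm hπ'm hd (by rw [recip_natDegree π hπ0])
    have hd3 : π * recip π ∣ X ^ M - 1 := hcop.mul_dvd hd1 hd2
    refine ⟨π.natDegree, k, M, hDpos, hk1, ?_, Or.inr rfl, ?_⟩
    · have : 2 * (π.natDegree * k) ≤ 2 * n := by
        calc 2 * (π.natDegree * k) = (k + k) * π.natDegree := by ring
          _ ≤ 2 * n := hdegle
      omega
    · refine pow_eq_one_of_dvd p _ hPT _ _ ?_
      rw [← mul_pow]
      exact (pow_dvd_pow_of_dvd hd3 k).trans (pow_dvd_pow _ hkle)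

end orders

end Cfsg.Agent.Lib.Helper39.SpT
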