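import Mathlib
import Cfsg.Agent.Lib.Helper39.SpT5
import Cfsg.Agent.Lib.Helper39.SpT7
import Cfsg.Agent.Lib.Helper40.PSLrFinal

set_option autoImplicit false
set_option linter.unusedSimpArgs false
set_option linter.unusedVariables false
set_option linter.unnecessarySeqFocus false
set_option linter.unusedSectionVars false
set_option linter.style.haveILetI false
set_option maxHeartbeats 1600000

/-!
# The facts on the set of element orders of `PSp(2n, q)`, `q` odd
-/

namespace Cfsg.Agent.Lib.Helper39.SpT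

open Module Polynomial
open LinearMap (BilinForm)
open Cfsg.Agent.Lib.Helper40.Symp Cfsg.Agent.Lib.Helper40.PSLr
open Cfsg.Agent.Lib.Helper39.TwoRk

section
variable {F : Type*} [Field F]

lemma spIso_std (n : ℕ) (T : Module.End F (Fin n ⊕ Fin n → F))
    (hT : ∀ u w, spB n F (T u) (T w) = spB n F u w) : SpIso (spB n F) T := by
  have halt : (spB n F).IsAlt := (isSymp_spB (m := n) (F := F)).alt
  refine ⟨halt, ?_, hT⟩
  refine (halt.isRefl.nondegenerate_iff_separatingLeft).mpr ?_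
  exact (isSymp_spB (m := n) (F := F)).nd

lemma finrank_std (n : ℕ) : finrank F (Fin n ⊕ Fin n → F) = 2 * n := by
  rw [Module.finrank_fintype_fun_eq_card, Fintype.card_sum, Fintype.card_fin]
  ring

end

section
variable {F : Type*} [Field F] [Fintype F]

lemma p_dvd_card (p : ℕ) [Fact p.Prime] [CharP F p] : p ∣ Fintype.card F :=
  (CharP.cast_eq_zero_iff F p _).1 (FiniteField.cast_card_eq_zero F)

lemma coprime_of_dvd_plus (p : ℕ) [Fact p.Prime] [CharP F p] (d : ℕ) (hd : 1 ≤ d) (m t : ℕ)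
    (hm : m ∣ Fintype.card F ^ d + 1) : Nat.Coprime m (p ^ t) := by
  have hp : p.Prime := Fact.out
  apply Nat.Coprime.pow_right
  rw [Nat.coprime_comm, hp.coprime_iff_not_dvd]
  intro h
  have h1 : p ∣ Fintype.card F ^ d + 1 := h.trans hm
  have h2 : p ∣ Fintype.card F ^ d := (p_dvd_card p).trans (dvd_pow_self _ (by omega))
  have h3 : p ∣ 1 := (Nat.dvd_add_right h2).mp h1
  exact hp.one_lt.ne' (Nat.dvd_one.1 h3)

lemma coprime_of_dvd_minus (p : ℕ) [Fact p.Prime] [CharP F p] (d : ℕ) (hd : 1 ≤ d) (m t : ℕ)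
    (hm : m ∣ Fintype.card F ^ d - 1) : Nat.Coprime m (p ^ t) := by
  have hp : p.Prime := Fact.out
  apply Nat.Coprime.pow_right
  rw [Nat.coprime_comm, hp.coprime_iff_not_dvd]
  intro h
  have h1 : p ∣ Fintype.card F ^ d - 1 := h.trans hm
  have h2 : p ∣ Fintype.card F ^ d := (p_dvd_card p).trans (dvd_pow_self _ (by omega))
  have hpos : 0 < Fintype.card F ^ d := pow_pos Fintype.card_pos d
  have h3 : p ∣ Fintype.card F ^ d - (Fintype.card F ^ d - 1) := Nat.dvd_sub h2 h1
  have h4 : Fintype.card F ^ d - (Fintype.card F ^ d - 1) = 1 := by omega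
  rw [h4] at h3
  exact hp.one_lt.ne' (Nat.dvd_one.1 h3)

lemma odd_dvd_of_dvd_two_pow_mul (a s m : ℕ) (ha : Odd a) (h : a ∣ 2 ^ s * m) : a ∣ m := by
  have hc : Nat.Coprime a (2 ^ s) := by
    apply Nat.Coprime.pow_right
    exact (Nat.coprime_comm.mp (Nat.coprime_two_left.mpr ha))
  exact hc.dvd_of_dvd_mul_left h

lemma two_mul_dvd_of_odd_of_even (a H : ℕ) (ha : Odd a) (hH : Even H) (h : a ∣ H) :
    2 * a ∣ H := by
  have hc : Nat.Coprime 2 a := Nat.coprime_two_left.mpr ha
  exact hc.mul_dvd_of_dvd_of_dvd hH.two_dvd h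

/-- the dichotomy: an odd element order `a` either doubles or divides `p^e * N` -/
theorem dichotomy (hodd : Odd (Fintype.card F)) (p : ℕ) [Fact p.Prime] [CharP F p] (n : ℕ)
    (hn : 2 ≤ n) (N H : ℕ) (hN : Odd N) (hH : Even H)
    (hNH : (2 * N = Fintype.card F ^ n + 1 ∧ 2 * H = Fintype.card F ^ n - 1) ∨
      (2 * N = Fintype.card F ^ n - 1 ∧ 2 * H = Fintype.card F ^ n + 1))
    (a : ℕ) (ha : a ∈ Set.range (orderOf : Cfsg.PSp n F → ℕ)) (ha2 : ¬ 2 ∣ a) :
    2 * a ∈ Set.range (orderOf : Cfsg.PSp n F → ℕ) ∨ ∃ e, a ∣ p ^ e * N := by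
  classical
  have hp : p.Prime := Fact.out
  have h2 : (2 : F) ≠ 0 := two_ne_zero_of_odd_card hodd
  have hao : Odd a := Nat.odd_iff.mpr (by omega)
  obtain ⟨x, hx⟩ := ha
  obtain ⟨T, hTiso, hTa, hmin⟩ := psp_lift n (by omega) x a hao hx
  have hS : SpIso (spB n F) T := spIso_std n T hTiso
  have hfr : finrank F (Fin n ⊕ Fin n → F) = 2 * n := finrank_std n
  haveI : Nontrivial (Fin n ⊕ Fin n → F) := nontrivial_of_finrank hfr (by omega)
  have hHmem : H ∈ Set.range (orderOf : Cfsg.PSp n F → ℕ) := by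
    rcases hNH with ⟨-, h⟩ | ⟨-, h⟩
    · exact half_minus_mem hodd n (by omega) p H h
    · exact half_plus_mem hodd n (by omega) p H h
  by_cases hdec : ∃ U : Submodule F (Fin n ⊕ Fin n → F), (∀ x ∈ U, T x ∈ U) ∧
      NondegOn (spB n F) U ∧ U ≠ ⊥ ∧ U ≠ ⊤
  · obtain ⟨U, hU, hUnd, hU0, hU1⟩ := hdec
    left
    exact two_mul_mem_of_decomposable h2 n (by omega) hS hfr a hao hTa hmin U hU hUnd hU0 hU1
  · have hind : ∀ U : Submodule F (Fin n ⊕ Fin n → F), (∀ x ∈ U, T x ∈ U) →
        NondegOn (spB n F) U → U = ⊥ ∨ U = ⊤ := by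
      intro U hU hUnd
      by_contra hc
      push Not at hc
      exact hdec ⟨U, hU, hUnd, hc.1, hc.2⟩
    rcases order_indec p n hfr hS a hao hTa hind with ⟨t, ht⟩ | ⟨d, k, M, hd1, hk1, hdk, hM, hT⟩
    · right
      exact ⟨t, (hmin _ (Or.inl ht)).mul_right N⟩
    · have haM : a ∣ M * p ^ Nat.clog p k := hmin _ (Or.inl hT)
      have hqpos : 0 < Fintype.card F := Fintype.card_pos
      rcases Nat.lt_or_ge d n with hdn | hdn
      · -- torus times unipotent
        left
        have hkle : k ≤ 2 * (n - d) := by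
          rcases Nat.lt_or_ge k 2 with hk | hk
          · omega
          · have h3 : d * 2 ≤ d * k := Nat.mul_le_mul_left d hk
            have h4 : 1 * k ≤ d * k := Nat.mul_le_mul_right k hd1
            omega
        have hclog : Nat.clog p k ≤ Nat.clog p (2 * (n - d)) := Nat.clog_mono_right p hkle
        have hM0 : M ≠ 0 := by
          rcases hM with rfl | rfl
          · omega
          · have h3 : 3 ≤ Fintype.card F := by
              have h4 : 2 ≤ Fintype.card F := Fintype.one_lt_card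
              rcases hodd with ⟨c, hc⟩
              omega
            have : 3 ^ 1 ≤ Fintype.card F ^ d :=
              (Nat.pow_le_pow_left h3 1).trans (Nat.pow_le_pow_right hqpos hd1)
            omega
        obtain ⟨s, m', hm'odd, hMs⟩ := Nat.exists_eq_two_pow_mul_odd hM0
        have ham : a ∣ m' * p ^ Nat.clog p k := by
          apply odd_dvd_of_dvd_two_pow_mul a s _ hao
          rw [← mul_assoc, ← hMs]
          exact haM
        have ham2 : a ∣ m' * p ^ Nat.clog p (2 * (n - d)) :=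
          ham.trans (Nat.mul_dvd_mul_left m' (pow_dvd_pow p hclog))
        have hmem : 2 * Nat.lcm m' (p ^ Nat.clog p (2 * (n - d))) ∈
            Set.range (orderOf : Cfsg.PSp n F → ℕ) := by
          rcases hM with hM | hM
          · exact torus_plus_unip_mem hodd n d hd1 hdn p (2 ^ s) m' (by rw [← hMs, hM]) hm'odd
          · exact torus_minus_unip_mem hodd n d hd1 hdn p (2 ^ s) m' (by rw [← hMs, hM]) hm'odd
        have hcop : Nat.Coprime m' (p ^ Nat.clog p (2 * (n - d))) := by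
          rcases hM with hM | hM
          · exact coprime_of_dvd_plus p d hd1 m' _ (by rw [← hM, hMs]; exact Dvd.intro_left _ rfl)
          · exact coprime_of_dvd_minus p d hd1 m' _ (by rw [← hM, hMs]; exact Dvd.intro_left _ rfl)
        rw [hcop.lcm_eq_mul] at hmem
        exact mem_range_of_dvd _ _ hmem (Nat.mul_dvd_mul_left 2 ham2)
      · -- the full torus
        have hdn' : d = n := by
          have h4 : d * 1 ≤ d * k := Nat.mul_le_mul_left d hk1
          omega
        subst hdn'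
        have hk : k = 1 := by
          rcases Nat.lt_or_ge k 2 with hk | hk
          · omega
          · have h3 : d * 2 ≤ d * k := Nat.mul_le_mul_left d hk
            omega
        subst hk
        rw [Nat.clog_one_right, pow_zero, mul_one] at haM
        have hqn : 3 ≤ Fintype.card F ^ d := by
          have h3 : 3 ≤ Fintype.card F := by
            have h4 : 2 ≤ Fintype.card F := Fintype.one_lt_card
            rcases hodd with ⟨c, hc⟩
            omega
          exact (Nat.pow_le_pow_left h3 1).trans (Nat.pow_le_pow_right hqpos hd1)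
        have hcases : M = 2 * N ∨ M = 2 * H := by
          rcases hNH with ⟨e1, e2⟩ | ⟨e1, e2⟩ <;> rcases hM with hM | hM
          · left; omega
          · right; omega
          · right; omega
          · left; omega
        rcases hcases with hM' | hM'
        · right
          refine ⟨0, ?_⟩
          rw [pow_zero, one_mul]
          rw [hM'] at haM
          have := odd_dvd_of_dvd_two_pow_mul a 1 N hao (by rw [pow_one]; exact haM)
          exact this
        · left
          rw [hM'] at haM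
          have h5 : a ∣ H := odd_dvd_of_dvd_two_pow_mul a 1 H hao (by rw [pow_one]; exact haM)
          exact mem_range_of_dvd _ _ hHmem (two_mul_dvd_of_odd_of_even a H hao hH h5)

/-- the `p`-parts of element orders are bounded when `2n - 1` is not a power of `p` -/
theorem ppart (hodd : Odd (Fintype.card F)) (p : ℕ) [Fact p.Prime] [CharP F p] (n : ℕ)
    (hn : 2 ≤ n) (hnp : ¬ ∃ j : ℕ, 2 * n - 1 = p ^ j)
    (a : ℕ) (ha : a ∈ Set.range (orderOf : Cfsg.PSp n F → ℕ)) (e : ℕ) (he : p ^ e ∣ a) :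
    2 * p ^ e ∈ Set.range (orderOf : Cfsg.PSp n F → ℕ) := by
  classical
  have hp : p.Prime := Fact.out
  have h2 : (2 : F) ≠ 0 := two_ne_zero_of_odd_card hodd
  have hp2 : p ≠ 2 := by
    rintro rfl
    apply h2
    have := CharP.cast_eq_zero F 2
    exact_mod_cast this
  have hpodd : Odd p := hp.odd_of_ne_two hp2
  have hbase := two_unip_mem hodd n hn p
  suffices hle : e ≤ Nat.clog p (2 * (n - 1)) from
    mem_range_of_dvd _ _ hbase (Nat.mul_dvd_mul_left 2 (pow_dvd_pow p hle))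
  by_contra hlt
  push Not at hlt
  obtain ⟨e', rfl⟩ : ∃ e', e = e' + 1 := ⟨e - 1, by omega⟩
  have h3 : 2 * (n - 1) ≤ p ^ e' := by
    rw [← Nat.clog_le_iff_le_pow hp.one_lt]
    omega
  have h4 : Odd (p ^ e') := hpodd.pow
  have h5 : 2 * n ≤ p ^ e' := by
    have h6 : 2 * n - 1 ≠ p ^ e' := fun h => hnp ⟨e', h⟩
    rcases h4 with ⟨c, hc⟩
    omega
  have hmem : p ^ (e' + 1) ∈ Set.range (orderOf : Cfsg.PSp n F → ℕ) := mem_range_of_dvd _ _ ha he
  obtain ⟨y, hy⟩ := hmem
  obtain ⟨T, hTiso, hTa, hmin⟩ := psp_lift n (by omega) y (p ^ (e' + 1)) hpodd.pow hy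
  have hfr : finrank F (Fin n ⊕ Fin n → F) = 2 * n := finrank_std n
  have hX1 : ((X : F[X]) - 1) ^ (p ^ (e' + 1)) = X ^ (p ^ (e' + 1)) - 1 := by
    rw [sub_pow_char_pow, one_pow]
  have hμ : minpoly F T ∣ ((X : F[X]) - 1) ^ (p ^ (e' + 1)) := by
    apply minpoly.dvd
    rw [hX1]
    simp only [map_sub, map_pow, aeval_X, map_one, hTa, sub_self]
  have hprime : Prime ((X : F[X]) - 1) := by simpa using prime_X_sub_C (1 : F)
  obtain ⟨k, hk, hass⟩ := (dvd_prime_pow hprime _).mp hμ
  have hμ0 : minpoly F T ≠ 0 := minpoly.ne_zero (Algebra.IsIntegral.isIntegral T)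
  have hX1d : ((X : F[X]) - 1).natDegree = 1 := by simpa using natDegree_X_sub_C (1 : F)
  have hkle : k ≤ 2 * n := by
    have h7 : ((X : F[X]) - 1) ^ k ∣ minpoly F T := hass.symm.dvd
    have h8 := natDegree_le_of_dvd h7 hμ0
    rw [natDegree_pow, hX1d, mul_one] at h8
    have h9 := natDegree_minpoly_le (F := F) (T := T)
    rw [hfr] at h9
    omega
  have hT1 : T ^ (1 * p ^ e') = 1 := by
    refine pow_eq_one_of_dvd p (minpoly F T) (minpoly.aeval F T) 1 e' ?_
    rw [pow_one]
    exact hass.dvd.trans (pow_dvd_pow _ (hkle.trans h5))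
  rw [one_mul] at hT1
  have h10 := hmin _ (Or.inl hT1)
  rw [Nat.pow_dvd_pow_iff_le_right hp.one_lt] at h10
  omega

/-- the collected facts -/
theorem omega_facts_sp (hodd : Odd (Fintype.card F)) (p : ℕ) [Fact p.Prime] [CharP F p] (n : ℕ)
    (hn : 2 ≤ n) :
    ∃ N : ℕ, p ≠ 2 ∧
      (∀ a ∈ Set.range (orderOf : Cfsg.PSp n F → ℕ), 0 < a) ∧
      (∀ a ∈ Set.range (orderOf : Cfsg.PSp n F → ℕ), ∀ b, b ∣ a →
        b ∈ Set.range (orderOf : Cfsg.PSp n F → ℕ)) ∧
      (∀ a ∈ Set.range (orderOf : Cfsg.PSp n F → ℕ), ¬ 2 ∣ a →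
        2 * a ∈ Set.range (orderOf : Cfsg.PSp n F → ℕ) ∨ ∃ e, a ∣ p ^ e * N) ∧
      N ∈ Set.range (orderOf : Cfsg.PSp n F → ℕ) ∧
      2 ∈ Set.range (orderOf : Cfsg.PSp n F → ℕ) ∧
      ((¬ ∃ j : ℕ, 2 * n - 1 = p ^ j) →
        ∀ a ∈ Set.range (orderOf : Cfsg.PSp n F → ℕ), ∀ e, p ^ e ∣ a →
          2 * p ^ e ∈ Set.range (orderOf : Cfsg.PSp n F → ℕ)) := by
  classical
  have hp : p.Prime := Fact.out
  have h2 : (2 : F) ≠ 0 := two_ne_zero_of_odd_card hodd
  have hp2 : p ≠ 2 := by
    rintro rfl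
    apply h2
    have := CharP.cast_eq_zero F 2
    exact_mod_cast this
  have hQodd : Odd (Fintype.card F ^ n) := hodd.pow
  have hQpos : 0 < Fintype.card F ^ n := pow_pos Fintype.card_pos n
  obtain ⟨N, H, hN, hH, hNH⟩ : ∃ N H : ℕ, Odd N ∧ Even H ∧
      ((2 * N = Fintype.card F ^ n + 1 ∧ 2 * H = Fintype.card F ^ n - 1) ∨
      (2 * N = Fintype.card F ^ n - 1 ∧ 2 * H = Fintype.card F ^ n + 1)) := by
    rcases hQodd with ⟨c, hc⟩
    rcases Nat.even_or_odd c with ⟨c', hc'⟩ | ⟨c', hc'⟩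
    · -- Q = 4c' + 1
      refine ⟨c + 1, c, ⟨c', by omega⟩, ⟨c', hc'⟩, Or.inl ⟨by omega, by omega⟩⟩
    · -- Q = 4c' + 3
      refine ⟨c, c + 1, ⟨c', hc'⟩, ⟨c' + 1, by omega⟩, Or.inr ⟨by omega, by omega⟩⟩
  have hNmem : N ∈ Set.range (orderOf : Cfsg.PSp n F → ℕ) := by
    rcases hNH with ⟨h, -⟩ | ⟨h, -⟩
    · exact half_plus_mem hodd n (by omega) p N h
    · exact half_minus_mem hodd n (by omega) p N h
  refine ⟨N, hp2, ?_, ?_, ?_, hNmem, ?_, ?_⟩
  · rintro _ ⟨x, rfl⟩
    exact orderOf_pos x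
  · intro a ha b hb
    exact mem_range_of_dvd a b ha hb
  · intro a ha ha2
    exact dichotomy hodd p n hn N H hN hH hNH a ha ha2
  · exact mem_range_of_dvd _ 2 (two_unip_mem hodd n hn p) (Dvd.intro _ rfl)
  · intro hnp a ha e he
    exact ppart hodd p n hn hnp a ha e he

end

end Cfsg.Agent.Lib.Helper39.SpT
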