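import Mathlib
import Cfsg.Agent.Lib.Helper39.BC1
import Cfsg.Agent.Lib.Helper39.BC4
import Cfsg.Agent.Lib.Helper39.SpT8
import Cfsg.Agent.Lib.Helper36.AltEven

set_option autoImplicit false
set_option linter.unusedSimpArgs false
set_option linter.unusedVariables false
set_option linter.unnecessarySeqFocus false
set_option linter.unusedSectionVars false
set_option linter.style.haveILetI false
set_option maxHeartbeats 800000

/-!
# Transfer of odd element orders between `PSp_{2n}(q)` and `Ω_{2n+1}(q)`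
-/

namespace Cfsg.Agent.Lib.Helper39.BC

open Module Matrix
open LinearMap (BilinForm)
open Cfsg.Agent.Lib.Helper39.SpT Cfsg.Agent.Lib.Helper39.TwoRk

section generic
variable {F : Type*} [Field F] {V : Type*} [AddCommGroup V] [Module F V]

lemma eq_one_iff_of_isCompl {A B : Submodule F V} (h : IsCompl A B) (E : Module.End F V) :
    E = 1 ↔ (∀ x ∈ A, E x = x) ∧ (∀ x ∈ B, E x = x) := by
  constructor
  · rintro rfl
    exact ⟨fun x _ => rfl, fun x _ => rfl⟩
  · rintro ⟨hA, hB⟩
    apply LinearMap.ext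
    intro x
    have hx : x ∈ A ⊔ B := by rw [h.sup_eq_top]; trivial
    obtain ⟨a, ha, b, hb, rfl⟩ := Submodule.mem_sup.mp hx
    rw [map_add, hA a ha, hB b hb, Module.End.one_apply]

lemma restrict_pow_eq_one_iff [FiniteDimensional F V] (T : Module.End F V) (U : Submodule F V)
    (hU : ∀ x ∈ U, T x ∈ U) (j : ℕ) : (T.restrict hU) ^ j = 1 ↔ ∀ x ∈ U, (T ^ j) x = x := by
  constructor
  · intro h x hx
    have h1 := restrict_pow_apply T U hU j ⟨x, hx⟩
    rw [h, Module.End.one_apply] at h1
    exact h1.symm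
  · intro h
    apply LinearMap.ext
    intro x
    apply Subtype.ext
    rw [restrict_pow_apply, Module.End.one_apply]
    exact h x.1 x.2

lemma restrict_pow_eq_neg_one_iff [FiniteDimensional F V] (T : Module.End F V) (U : Submodule F V)
    (hU : ∀ x ∈ U, T x ∈ U) (j : ℕ) : (T.restrict hU) ^ j = -1 ↔ ∀ x ∈ U, (T ^ j) x = -x := by
  constructor
  · intro h x hx
    have h1 := restrict_pow_apply T U hU j ⟨x, hx⟩
    rw [h] at h1
    simp only [LinearMap.neg_apply, Module.End.one_apply, Submodule.coe_neg] at h1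
    exact h1.symm
  · intro h
    apply LinearMap.ext
    intro x
    apply Subtype.ext
    rw [restrict_pow_apply]
    simp only [LinearMap.neg_apply, Module.End.one_apply, Submodule.coe_neg]
    exact h x.1 x.2

/-- a unipotent operator on a space of dimension at most one is trivial -/
lemma eq_one_of_finrank_le_one (p : ℕ) [Fact p.Prime] [CharP F p] [FiniteDimensional F V]
    (R : Module.End F V) (hR : R ^ p = 1) (hf : finrank F V ≤ 1) : R = 1 := by
  obtain ⟨v, hv⟩ := finrank_le_one_iff.mp hf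
  obtain ⟨c, hc⟩ := hv (R v)
  have hpow : ∀ j : ℕ, (R ^ j) v = c ^ j • v := by
    intro j
    induction j with
    | zero => simp
    | succ j ih =>
      rw [pow_succ', Module.End.mul_apply, ih, map_smul, ← hc, smul_smul, pow_succ]
  have h1 := hpow p
  rw [hR, Module.End.one_apply] at h1
  apply LinearMap.ext
  intro w
  obtain ⟨d, rfl⟩ := hv w
  rw [map_smul, Module.End.one_apply]
  by_cases hv0 : v = 0
  · rw [hv0]; simp
  · have h3 : (c ^ p - 1) • v = 0 := by
      rw [sub_smul, one_smul, ← h1, sub_self]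
    have h4 : c ^ p - 1 = 0 := by
      rcases smul_eq_zero.mp h3 with h | h
      · exact h
      · exact absurd h hv0
    have h5 : (c - 1) ^ p = 0 := by
      rw [sub_pow_char, one_pow, h4]
    have h6 : c = 1 := by
      have := pow_eq_zero_iff (Fact.out : p.Prime).ne_zero |>.mp h5
      exact sub_eq_zero.mp this
    rw [← hc, h6, one_smul]

end generic

section twisted
variable {F : Type*} [Field F] {V : Type*} [AddCommGroup V] [Module F V]

/-- the twisted form restricted to the moved space -/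
noncomputable def twR (B : BilinForm F V) (t : Module.End F V) (m : ℕ) :
    BilinForm F (movS t m) := (twist B t m).restrict (movS t m)

lemma twR_apply (B : BilinForm F V) (t : Module.End F V) (m : ℕ) (x y : movS t m) :
    twR B t m x y = twist B t m (x : V) (y : V) := rfl

variable {B : BilinForm F V} {t g : Module.End F V} {m : ℕ}

/-- from alternating to symmetric -/
lemma oiso_twR (h2 : (2 : F) ≠ 0) (hiso : ∀ u w, B (t u) (t w) = B u w) (ht : t ^ m = 1)
    (hodd : Odd m) (hm : (m : F) ≠ 0) (hnd : ∀ x, (∀ y, B x y = 0) → x = 0)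
    (hs : ∀ u w, B u w = - B w u) (hg : g * t = t * g)
    (hgiso : ∀ u w, B (g u) (g w) = B u w) :
    OIso (twR B t m) (g.restrict (mov_invt (m := m) hg)) := by
  refine ⟨?_, ?_, ?_⟩
  · intro u w
    rw [twR_apply, twR_apply]
    exact twist_symm_of_alt hiso ht hodd.pos hs _ _
  · intro x hx
    apply Subtype.ext
    apply nondeg_twist h2 hiso ht hodd hm hnd x.2
    intro y hy
    exact hx ⟨y, hy⟩
  · intro u w
    rw [twR_apply, twR_apply]
    exact twist_iso hg hgiso _ _

/-- from symmetric to alternating -/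
lemma spiso_twR (h2 : (2 : F) ≠ 0) (hiso : ∀ u w, B (t u) (t w) = B u w) (ht : t ^ m = 1)
    (hodd : Odd m) (hm : (m : F) ≠ 0) (hnd : ∀ x, (∀ y, B x y = 0) → x = 0)
    (hs : ∀ u w, B u w = B w u) (hg : g * t = t * g)
    (hgiso : ∀ u w, B (g u) (g w) = B u w) :
    SpIso (twR B t m) (g.restrict (mov_invt (m := m) hg)) := by
  have halt : (twR B t m).IsAlt := by
    intro x
    rw [twR_apply]
    exact twist_alt_of_symm h2 hiso ht hodd.pos hs _
  refine ⟨halt, ?_, ?_⟩
  · refine (halt.isRefl.nondegenerate_iff_separatingLeft).mpr ?_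
    intro x hx
    apply Subtype.ext
    apply nondeg_twist h2 hiso ht hodd hm hnd x.2
    intro y hy
    exact hx ⟨y, hy⟩
  · intro u w
    rw [twR_apply, twR_apply]
    exact twist_iso hg hgiso _ _

lemma finrank_fix_add_mov [FiniteDimensional F V] (ht : t ^ m = 1) (hm : (m : F) ≠ 0) :
    finrank F (fixS t) + finrank F (movS t m) = finrank F V :=
  Submodule.finrank_add_eq_of_isCompl (isCompl_fix_mov ht hm)

end twisted

section main
variable {F : Type*} [Field F] [Fintype F]

/-- the finishing step of the transfer from `Sp` to `O` -/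
lemma spo_finish (hodd : Odd (Fintype.card F)) (n : ℕ) (hn : 3 ≤ n) (p : ℕ) [Fact p.Prime]
    [CharP F p] {V : Type*} [AddCommGroup V] [Module F V] [FiniteDimensional F V]
    {ω : BilinForm F V} {T : Module.End F V} (h : SpIso ω T) (hfr : finrank F V = 2 * n)
    (M : ℕ) (hMo : Odd M) (hM : ∀ j, T ^ j = 1 ↔ M ∣ j) (m' : ℕ) (hm'o : Odd m')
    (hm' : (m' : F) ≠ 0) (ht : (T ^ p) ^ m' = 1)
    {W₂ : Type*} [AddCommGroup W₂] [Module F W₂] [FiniteDimensional F W₂]
    {β₂ : BilinForm F W₂} {S₂ : Module.End F W₂} (hS₂ : OIso β₂ S₂)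
    (hfr₂ : finrank F W₂ = finrank F (fixS (T ^ p)) + 1)
    (hS₂R : ∀ j, S₂ ^ j = 1 ↔ ∀ x ∈ fixS (T ^ p), (T ^ j) x = x) :
    M ∈ Set.range (orderOf : Cfsg.POmega F (Cfsg.quadFormOdd n F) → ℕ) := by
  have h2 : (2 : F) ≠ 0 := two_ne_zero_of_odd_card hodd
  have hcomm : T * T ^ p = T ^ p * T := by rw [← pow_succ', ← pow_succ]
  have htiso := (h.pow p).iso
  have hskew : ∀ u w, ω u w = - ω w u := fun u w => (h.alt.neg_eq w u).symm
  have hndl : ∀ x, (∀ y, ω x y = 0) → x = 0 := fun x hx => h.nd.1 x hx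
  have hcompl := isCompl_fix_mov ht hm'
  have hO₁ := oiso_twR h2 htiso ht hm'o hm' hndl hskew hcomm h.iso
  have hO := hO₁.prod hS₂
  refine omem_odd h2 hn hO ?_ M hMo ?_
  · rw [Module.finrank_prod, hfr₂]
    have := finrank_fix_add_mov (F := F) ht hm'
    omega
  · intro j
    rw [prodMap_pow, prodMap_eq_one_iff, restrict_pow_eq_one_iff, hS₂R, ← hM,
      eq_one_iff_of_isCompl hcompl]
    tauto

/-- the transfer of odd orders from `Sp` to `O` -/
theorem sp_to_o_odd (hodd : Odd (Fintype.card F)) (n : ℕ) (hn : 3 ≤ n) (p : ℕ) [Fact p.Prime]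
    [CharP F p] {V : Type*} [AddCommGroup V] [Module F V] [FiniteDimensional F V]
    {ω : BilinForm F V} {T : Module.End F V} (h : SpIso ω T) (hfr : finrank F V = 2 * n)
    (M : ℕ) (hMo : Odd M) (hM : ∀ j, T ^ j = 1 ↔ M ∣ j) (m' : ℕ) (hm'o : Odd m')
    (hm' : (m' : F) ≠ 0) (ht : (T ^ p) ^ m' = 1) :
    M ∈ Set.range (orderOf : Cfsg.POmega F (Cfsg.quadFormOdd n F) → ℕ) := by
  classical
  have h2 : (2 : F) ≠ 0 := two_ne_zero_of_odd_card hodd
  have hp : p.Prime := Fact.out
  have hcomm : T * T ^ p = T ^ p * T := by rw [← pow_succ', ← pow_succ]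
  have hFinv := fix_invt hcomm
  set f := finrank F (fixS (T ^ p)) with hf
  by_cases htriv : ∀ x ∈ fixS (T ^ p), T x = x
  · -- the identity block
    refine spo_finish hodd n hn p h hfr M hMo hM m' hm'o hm' ht (oiso_dot_one (f + 1))
      (finrank_dot (f + 1)) ?_
    intro j
    rw [one_pow]
    constructor
    · intro _ x hx
      exact pow_fix (htriv x hx) j
    · intro _; trivial
  · -- the unipotent block
    set R := T.restrict hFinv with hR
    have hRp : R ^ p = 1 := by
      rw [restrict_pow_eq_one_iff]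
      intro x hx
      exact (mem_fixS _ x).mp hx
    have hR1 : R ≠ 1 := by
      intro h1
      apply htriv
      intro x hx
      have := (restrict_pow_eq_one_iff T _ hFinv 1).mp (by rw [pow_one]; exact h1) x hx
      rwa [pow_one] at this
    have hf2 : 2 ≤ f := by
      by_contra hlt
      exact hR1 (eq_one_of_finrank_le_one p R hRp (by omega))
    have hRord := ord_prime R p hp hRp hR1
    have hO₂ : OIso (prodForm (form3 F) (dotB (f - 2) F))
        ((Matrix.toLin' (unip3 F)).prodMap (1 : Module.End F (Fin (f - 2) → F))) :=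
      (oiso_unip3 h2).prod (oiso_dot_one (f - 2))
    refine spo_finish hodd n hn p h hfr M hMo hM m' hm'o hm' ht hO₂ ?_ ?_
    · rw [Module.finrank_prod, finrank_dot, Module.finrank_fintype_fun_eq_card, Fintype.card_fin]
      omega
    · intro j
      rw [prodMap_pow, prodMap_eq_one_iff, one_pow, toLin_unip3_pow_eq_one_iff h2 p, ← hRord,
        restrict_pow_eq_one_iff]
      simp

/-- the finishing step of the transfer from `O` to `Sp` -/
lemma osp_finish (hodd : Odd (Fintype.card F)) (n : ℕ) (hn : 3 ≤ n) (p : ℕ) [Fact p.Prime]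
    [CharP F p] {W : Type*} [AddCommGroup W] [Module F W] [FiniteDimensional F W]
    {β : BilinForm F W} {T : Module.End F W} (h : OIso β T) (hfr : finrank F W = 2 * n + 1)
    (M : ℕ) (hMo : Odd M) (hM : ∀ j, T ^ j = 1 ↔ M ∣ j) (m' : ℕ) (hm'o : Odd m')
    (hm' : (m' : F) ≠ 0) (ht : (T ^ p) ^ m' = 1) (ht1 : T ^ p ≠ 1)
    {V₂ : Type*} [AddCommGroup V₂] [Module F V₂] [FiniteDimensional F V₂]
    {ω₂ : BilinForm F V₂} {S₂ : Module.End F V₂} (hS₂ : SpIso ω₂ S₂)
    (hfr₂ : finrank F V₂ + 1 = finrank F (fixS (T ^ p)))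
    (hS₂R : ∀ j, S₂ ^ j = 1 ↔ ∀ x ∈ fixS (T ^ p), (T ^ j) x = x) :
    M ∈ Set.range (orderOf : Cfsg.PSp n F → ℕ) := by
  have h2 : (2 : F) ≠ 0 := two_ne_zero_of_odd_card hodd
  have hcomm : T * T ^ p = T ^ p * T := by rw [← pow_succ', ← pow_succ]
  have htiso := (h.pow p).iso
  have hcompl := isCompl_fix_mov ht hm'
  have hS₁ := spiso_twR h2 htiso ht hm'o hm' h.nd h.symm hcomm h.iso
  have hTM : T ^ M = 1 := (hM M).mpr dvd_rfl
  -- the moved space is nontrivial
  haveI : Nontrivial (movS (T ^ p) m') := by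
    by_contra hnt
    rw [not_nontrivial_iff_subsingleton] at hnt
    apply ht1
    rw [eq_one_iff_of_isCompl hcompl]
    refine ⟨fun x hx => (mem_fixS _ x).mp hx, ?_⟩
    intro x hx
    have : (⟨x, hx⟩ : movS (T ^ p) m') = 0 := Subsingleton.elim _ _
    have hx0 : x = 0 := congrArg Subtype.val this
    rw [hx0, map_zero]
  refine mem_of_blocks n (by omega) hS₁ hS₂ ?_ M ?_
  · have := finrank_fix_add_mov (F := F) ht hm'
    omega
  · intro j
    constructor
    · rintro (⟨e1, e2⟩ | ⟨e1, e2⟩)
      · rw [← hM, eq_one_iff_of_isCompl hcompl]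
        rw [restrict_pow_eq_one_iff] at e1
        rw [hS₂R] at e2
        exact ⟨e2, e1⟩
      · exfalso
        have hodd1 : (T.restrict (mov_invt (m := m') hcomm)) ^ M = 1 := by
          rw [restrict_pow_eq_one_iff]
          intro x _
          rw [hTM, Module.End.one_apply]
        exact pow_ne_neg_one_of_odd h2 _ M hMo hodd1 j e1
    · intro hj
      left
      have hTj : T ^ j = 1 := (hM j).mpr hj
      rw [restrict_pow_eq_one_iff, hS₂R]
      constructor
      · intro x _; rw [hTj, Module.End.one_apply]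
      · intro x _; rw [hTj, Module.End.one_apply]

/-- the transfer of odd orders from `O` to `Sp` -/
theorem o_to_sp_odd (hodd : Odd (Fintype.card F)) (n : ℕ) (hn : 3 ≤ n) (p : ℕ) [Fact p.Prime]
    [CharP F p] {W : Type*} [AddCommGroup W] [Module F W] [FiniteDimensional F W]
    {β : BilinForm F W} {T : Module.End F W} (h : OIso β T) (hfr : finrank F W = 2 * n + 1)
    (M : ℕ) (hMo : Odd M) (hM : ∀ j, T ^ j = 1 ↔ M ∣ j) (m' : ℕ) (hm'o : Odd m')
    (hm' : (m' : F) ≠ 0) (ht : (T ^ p) ^ m' = 1) (ht1 : T ^ p ≠ 1) :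
    M ∈ Set.range (orderOf : Cfsg.PSp n F → ℕ) := by
  classical
  have h2 : (2 : F) ≠ 0 := two_ne_zero_of_odd_card hodd
  have hp : p.Prime := Fact.out
  have hcomm : T * T ^ p = T ^ p * T := by rw [← pow_succ', ← pow_succ]
  have hFinv := fix_invt hcomm
  have htiso := (h.pow p).iso
  have hS₁ := spiso_twR h2 htiso ht hm'o hm' h.nd h.symm hcomm h.iso
  obtain ⟨k, hk⟩ := Cfsg.Agent.Lib.Helper36.even_finrank_of_isAlt_nondegenerate _ hS₁.alt hS₁.nd
  have hsum := finrank_fix_add_mov (F := F) ht hm'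
  set f := finrank F (fixS (T ^ p)) with hf
  by_cases htriv : ∀ x ∈ fixS (T ^ p), T x = x
  · -- the identity block
    have hS₂ : SpIso (spB (n - k) F) (1 : Module.End F (Fin (n - k) ⊕ Fin (n - k) → F)) :=
      spIso_std (n - k) 1 (fun _ _ => rfl)
    refine osp_finish hodd n hn p h hfr M hMo hM m' hm'o hm' ht ht1 hS₂ ?_ ?_
    · rw [finrank_std]
      omega
    · intro j
      rw [one_pow]
      constructor
      · intro _ x hx
        exact pow_fix (htriv x hx) j
      · intro _; trivial
  · -- the unipotent block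
    set R := T.restrict hFinv with hR
    have hRp : R ^ p = 1 := by
      rw [restrict_pow_eq_one_iff]
      intro x hx
      exact (mem_fixS _ x).mp hx
    have hR1 : R ≠ 1 := by
      intro h1
      apply htriv
      intro x hx
      have := (restrict_pow_eq_one_iff T _ hFinv 1).mp (by rw [pow_one]; exact h1) x hx
      rwa [pow_one] at this
    have hf2 : 2 ≤ f := by
      by_contra hlt
      exact hR1 (eq_one_of_finrank_le_one p R hRp (by omega))
    have hRord := ord_prime R p hp hRp hR1
    have hp3 : 2 ≤ p := hp.two_le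
    have hp2 : p ≠ 2 := by
      rintro rfl
      apply h2
      have := CharP.cast_eq_zero F 2
      exact_mod_cast this
    obtain ⟨ω₃, J, hJ, hJord⟩ := block_U (F := F) (m := 2) p h2 ⟨1, rfl⟩ le_rfl
    have hclog : Nat.clog p 2 = 1 := Nat.clog_eq_one le_rfl hp3
    rw [hclog, pow_one] at hJord
    have hS₂ : SpIso (prodForm ω₃ (spB (n - k - 1) F))
        (J.prodMap (1 : Module.End F (Fin (n - k - 1) ⊕ Fin (n - k - 1) → F))) :=
      hJ.prod (spIso_std (n - k - 1) 1 (fun _ _ => rfl))
    refine osp_finish hodd n hn p h hfr M hMo hM m' hm'o hm' ht ht1 hS₂ ?_ ?_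
    · rw [Module.finrank_prod, finrank_std, finrank_AU]
      omega
    · intro j
      rw [prodMap_pow, prodMap_eq_one_iff, one_pow, hJord, ← hRord, restrict_pow_eq_one_iff]
      simp

end main

end Cfsg.Agent.Lib.Helper39.BC
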