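import Mathlib
import Cfsg.Agent.Lib.Helper39.BC5

set_option autoImplicit false
set_option linter.unusedSimpArgs false
set_option linter.unusedVariables false
set_option linter.unnecessarySeqFocus false
set_option linter.unusedSectionVars false
set_option linter.style.haveILetI false
set_option maxHeartbeats 1600000

/-!
# The orders `2p` and `2s`: from `PSp_{2n}(q)` to `Ω_{2n+1}(q)`
-/

namespace Cfsg.Agent.Lib.Helper39.BC

open Module Matrix
open LinearMap (BilinForm)
open Cfsg.Agent.Lib.Helper39.SpT Cfsg.Agent.Lib.Helper39.TwoRk Cfsg.Agent.Lib.Helper5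

section lift
variable {F : Type*} [Field F]

/-- an element of `PSp n F` is induced by an isometry of determinant one with the same projective
order -/
theorem psp_lift_gen (n : ℕ) (hn : 0 < n) (x : Cfsg.PSp n F) :
    ∃ T : Module.End F (Fin n ⊕ Fin n → F),
      (∀ u w, spB n F (T u) (T w) = spB n F u w) ∧ LinearMap.det T = 1 ∧
      ∀ j : ℕ, (T ^ j = 1 ∨ T ^ j = -1) ↔ orderOf x ∣ j := by
  classical
  haveI : Nonempty (Fin n) := ⟨⟨0, hn⟩⟩
  obtain ⟨g, rfl⟩ := QuotientGroup.mk_surjective x
  refine ⟨Matrix.toLin' (g : Matrix (Fin n ⊕ Fin n) (Fin n ⊕ Fin n) F), ?_, ?_, ?_⟩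
  · intro u w
    simp only [spB_apply, Matrix.toLin'_apply]
    exact sympForm_mulVec_mulVec g.2 u w
  · rw [LinearMap.det_toLin']
    exact SymplecticGroup.det_eq_one g.2
  · intro j
    rw [orderOf_dvd_iff_pow_eq_one, ← QuotientGroup.mk_pow, QuotientGroup.eq_one_iff,
      Cfsg.Agent.Lib.Helper5.mem_center_symplecticGroup_iff, SubmonoidClass.coe_pow]
    constructor
    · rintro (h | h)
      · left
        apply Matrix.toLin'.injective
        rw [Matrix.toLin'_pow, h, Matrix.toLin'_one]
        rfl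
      · right
        apply Matrix.toLin'.injective
        rw [Matrix.toLin'_pow, h, map_neg, Matrix.toLin'_one]
        rfl
    · rintro (h | h)
      · left
        rw [← Matrix.toLin'_pow, h, Matrix.toLin'_one]
        rfl
      · right
        rw [← Matrix.toLin'_pow, h, map_neg, Matrix.toLin'_one]
        rfl

end lift

section rotation
variable {F : Type*} [Field F]

lemma rot_pow_two_mul (h2 : (2 : F) ≠ 0) (j : ℕ) : rot F ^ (2 * j) = 1 ↔ 2 ∣ j := by
  rw [pow_mul, pow_two, rot_sq]
  have hne : (-1 : Module.End F (Fin 2 → F)) ≠ 1 := fun h => one_ne_neg_one_end h2 h.symm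
  exact (neg_one_pow_eq_one_iff_even (R := Module.End F (Fin 2 → F)) hne).trans even_iff_two_dvd

end rotation

section twop
variable {F : Type*} [Field F] [Fintype F]

/-- `2p` is the order of an element of `PΩ_{2n+1}(q)` -/
theorem two_p_mem_O (hodd : Odd (Fintype.card F)) (n : ℕ) (hn : 3 ≤ n) (p : ℕ) [Fact p.Prime]
    [CharP F p] : 2 * p ∈ Set.range (orderOf : Cfsg.POmega F (Cfsg.quadFormOdd n F) → ℕ) := by
  have h2 : (2 : F) ≠ 0 := two_ne_zero_of_odd_card hodd
  have hp : p.Prime := Fact.out
  have hp2 : p ≠ 2 := by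
    rintro rfl
    apply h2
    have := CharP.cast_eq_zero F 2
    exact_mod_cast this
  obtain ⟨k, hk⟩ := hp.odd_of_ne_two hp2
  set u : Module.End F (Fin 3 → F) := Matrix.toLin' (unip3 F) with hu
  have hO : OIso (prodForm (dotB 2 F) (prodForm (form3 F) (dotB (2 * n - 4) F)))
      ((rot F).prodMap ((u ^ (k + 1)).prodMap (1 : Module.End F (Fin (2 * n - 4) → F)))) :=
    oiso_rot.prod (((oiso_unip3 h2).pow (k + 1)).prod (oiso_dot_one (2 * n - 4)))
  refine omem_sq h2 hn hO ?_ (2 * p) ?_
  · rw [Module.finrank_prod, Module.finrank_prod, finrank_dot, finrank_dot,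
      Module.finrank_fintype_fun_eq_card, Fintype.card_fin]
    omega
  · intro j
    rw [← pow_two, ← pow_mul, prodMap_pow, prodMap_eq_one_iff, prodMap_pow, prodMap_eq_one_iff,
      one_pow, rot_pow_two_mul h2, ← pow_mul, hu, toLin_unip3_pow_eq_one_iff h2 p]
    have e : (k + 1) * (2 * j) = (p + 1) * j := by rw [hk]; ring
    rw [e]
    have hcop : Nat.Coprime p (p + 1) := by simp
    constructor
    · rintro ⟨h1, h3, -⟩
      have h4 : p ∣ j := hcop.dvd_of_dvd_mul_left h3
      exact (Nat.coprime_two_left.mpr (hp.odd_of_ne_two hp2)).mul_dvd_of_dvd_of_dvd h1 h4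
    · intro h
      exact ⟨(Dvd.intro _ rfl).trans h, ((Dvd.intro_left _ rfl).trans h).mul_left _, rfl⟩

end twop

section twos
variable {F : Type*} [Field F] [Fintype F]

/-- the order `2s` passes from `PSp` to `Ω` -/
theorem sp_to_o_two (hodd : Odd (Fintype.card F)) (n : ℕ) (hn : 3 ≤ n)
    {V : Type*} [AddCommGroup V] [Module F V] [FiniteDimensional F V]
    {ω : BilinForm F V} {T : Module.End F V} (h : SpIso ω T) (hfr : finrank F V = 2 * n)
    (hdet : LinearMap.det T = 1) (s : ℕ) (hso : Odd s) (hs1 : 1 < s) (hsF : (s : F) ≠ 0)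
    (hM : ∀ j, (T ^ j = 1 ∨ T ^ j = -1) ↔ 2 * s ∣ j) :
    2 * s ∈ Set.range (orderOf : Cfsg.POmega F (Cfsg.quadFormOdd n F) → ℕ) := by
  classical
  have h2 : (2 : F) ≠ 0 := two_ne_zero_of_odd_card hodd
  haveI : Nontrivial V := nontrivial_of_finrank hfr (by omega)
  have hE : T ^ (2 * s) = 1 ∨ T ^ (2 * s) = -1 := (hM _).mpr dvd_rfl
  obtain ⟨t, ht_def⟩ : ∃ t : Module.End F V, t = T ^ (2 * s + 2) := ⟨_, rfl⟩
  have hts : t ^ s = 1 := by
    rw [ht_def, ← pow_mul]
    have : (2 * s + 2) * s = (2 * s) * (s + 1) := by ring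
    rw [this, pow_mul]
    rcases hE with e | e
    · rw [e, one_pow]
    · rw [e, Even.neg_one_pow hso.add_one]
  have htord : ∀ j, t ^ j = 1 ↔ s ∣ j := by
    intro j
    constructor
    · intro hj
      rw [ht_def, ← pow_mul] at hj
      have h1 := (hM _).mp (Or.inl hj)
      have h3 : 2 * s ∣ 2 * j := by
        have : (2 * s + 2) * j = 2 * s * j + 2 * j := by ring
        rw [this] at h1
        exact (Nat.dvd_add_right (Dvd.intro _ rfl)).mp h1
      exact Nat.dvd_of_mul_dvd_mul_left (by norm_num) h3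
    · rintro ⟨k, rfl⟩
      rw [pow_mul, hts, one_pow]
  have hcomm : T * t = t * T := by rw [ht_def, ← pow_succ', ← pow_succ]
  have htiso : ∀ u w, ω (t u) (t w) = ω u w := by
    rw [ht_def]; exact (h.pow (2 * s + 2)).iso
  have hskew : ∀ u w, ω u w = - ω w u := fun u w => (h.alt.neg_eq w u).symm
  have hndl : ∀ x, (∀ y, ω x y = 0) → x = 0 := fun x hx => h.nd.1 x hx
  have hcompl := isCompl_fix_mov hts hsF
  have hsum := finrank_fix_add_mov (F := F) hts hsF
  set f := finrank F (fixS t) with hf
  by_cases hfix : fixS t = ⊥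
  · -- the fixed space is trivial
    have hmov : movS t s = ⊤ := by
      have := hcompl.sup_eq_top
      rwa [hfix, bot_sup_eq] at this
    have hO : ∀ g : Module.End F V, g * t = t * g → (∀ u w, ω (g u) (g w) = ω u w) →
        OIso (twist ω t s) g := by
      intro g hg hgiso
      refine ⟨twist_symm_of_alt htiso hts hso.pos hskew, ?_, twist_iso hg hgiso⟩
      intro x hx
      exact nondeg_twist h2 htiso hts hso hsF hndl (by rw [hmov]; trivial) (fun y _ => hx y)
    have hfrW : finrank F (V × (Fin 1 → F)) = 2 * n + 1 := by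
      rw [Module.finrank_prod, hfr, finrank_dot]
    rcases hE with e | e
    · -- `T ^ (2s) = 1`
      have hTs1 : T ^ s ≠ 1 := by
        intro h1
        have := (hM s).mp (Or.inl h1)
        have := Nat.le_of_dvd (by omega) this
        omega
      have hTsn1 : T ^ s ≠ -1 := by
        intro h1
        have := (hM s).mp (Or.inr h1)
        have := Nat.le_of_dvd (by omega) this
        omega
      have hTsTs : T ^ s * T ^ s = 1 := by rw [← pow_add, ← two_mul, e]
      have hcs : T ^ s * t = t * T ^ s := by rw [ht_def, ← pow_add, ← pow_add, add_comm]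
      have hcsn : (-T ^ s) * t = t * (-T ^ s) := by rw [neg_mul, mul_neg, hcs]
      have hOa := (hO (T ^ s) hcs (h.pow s).iso).prod (oiso_dot_one (F := F) 1)
      have hOb := (hO (-T ^ s) hcsn (h.pow s).neg.iso).prod (oiso_dot_one (F := F) 1)
      have hOS := (hO t rfl htiso).prod (oiso_dot_one (F := F) 1)
      refine omem_tri h2 hn hOa hOb hOS hfrW ?_ ?_ s hso ?_ ?_ ?_ ?_ ?_ ?_ ?_ ?_ ?_
      · rw [LinearMap.det_prodMap, map_pow, hdet, one_pow, map_one, one_mul]
      · have : (-T ^ s : Module.End F V) = (-1 : F) • T ^ s := (neg_one_smul F _).symm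
        rw [LinearMap.det_prodMap, this, LinearMap.det_smul, map_pow, hdet, one_pow, map_one,
          hfr, pow_mul]
        norm_num
      · intro j
        rw [prodMap_pow, prodMap_eq_one_iff, one_pow, htord]
        simp
      · rw [LinearMap.prodMap_mul, hTsTs, mul_one, LinearMap.prodMap_one]
      · rw [LinearMap.prodMap_mul, neg_mul_neg, hTsTs, mul_one, LinearMap.prodMap_one]
      · rw [LinearMap.prodMap_mul, LinearMap.prodMap_mul, mul_neg, neg_mul]
      · intro h1
        exact hTs1 ((prodMap_eq_one_iff _ _).mp h1).1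
      · intro h1
        have := ((prodMap_eq_one_iff _ _).mp h1).1
        apply hTsn1
        rw [← this, neg_neg]
      · intro h1
        rw [LinearMap.prodMap_mul, mul_neg, hTsTs] at h1
        have := ((prodMap_eq_one_iff _ _).mp h1).1
        exact one_ne_neg_one_end h2 this.symm
      · rw [LinearMap.prodMap_mul, LinearMap.prodMap_mul, hcs]
      · rw [LinearMap.prodMap_mul, LinearMap.prodMap_mul, hcsn]
    · -- `T ^ (2s) = -1`
      have hOT := (hO T hcomm h.iso).prod (oiso_dot_one (F := F) 1)
      refine omem_sq h2 hn hOT hfrW (2 * s) ?_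
      intro j
      rw [← pow_two, ← pow_mul, prodMap_pow, prodMap_eq_one_iff, one_pow]
      constructor
      · rintro ⟨h1, -⟩
        have h3 := (hM _).mp (Or.inl h1)
        obtain ⟨i, hi⟩ : s ∣ j := Nat.dvd_of_mul_dvd_mul_left (by norm_num) h3
        have h4 : T ^ (2 * j) = (-1) ^ i := by
          rw [hi, ← mul_assoc, pow_mul, e]
        rw [h4] at h1
        have hne : (-1 : Module.End F V) ≠ 1 := fun h => one_ne_neg_one_end h2 h.symm
        obtain ⟨i', hi'⟩ := (neg_one_pow_eq_one_iff_even (R := Module.End F V) hne).mp h1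
        exact ⟨i', by rw [hi, hi']; ring⟩
      · rintro ⟨i, rfl⟩
        refine ⟨?_, rfl⟩
        have : 2 * (2 * s * i) = (2 * s) * (2 * i) := by ring
        rw [this, pow_mul, e, pow_mul]
        simp
  · -- the fixed space is nontrivial
    have hf1 : 1 ≤ f := by
      rw [hf, Nat.one_le_iff_ne_zero]
      intro h0
      exact hfix (Submodule.finrank_eq_zero.mp h0)
    obtain ⟨k, hk⟩ := hso
    obtain ⟨g, hg_def⟩ : ∃ g : Module.End F V, g = t ^ (k + 1) := ⟨_, rfl⟩
    have hg : g * t = t * g := by rw [hg_def, ← pow_succ, ← pow_succ']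
    have hgiso : ∀ u w, ω (g u) (g w) = ω u w := by
      rw [hg_def, ht_def]; exact ((h.pow (2 * s + 2)).pow (k + 1)).iso
    have hO₁ := oiso_twR h2 htiso hts ⟨k, hk⟩ hsF hndl hskew hg hgiso
    have hO₂ : OIso (prodForm (dotB 2 F) (dotB (f - 1) F))
        ((rot F).prodMap (1 : Module.End F (Fin (f - 1) → F))) :=
      oiso_rot.prod (oiso_dot_one (f - 1))
    have hO := hO₁.prod hO₂
    refine omem_sq h2 hn hO ?_ (2 * s) ?_
    · rw [Module.finrank_prod, Module.finrank_prod, finrank_dot, finrank_dot]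
      omega
    · intro j
      rw [← pow_two, ← pow_mul, prodMap_pow, prodMap_eq_one_iff, prodMap_pow, prodMap_eq_one_iff,
        one_pow, restrict_pow_eq_one_iff, rot_pow_two_mul h2]
      have hgj : g ^ (2 * j) = t ^ ((s + 1) * j) := by
        rw [hg_def, ← pow_mul]
        congr 1
        rw [hk]; ring
      have hiff : (∀ x ∈ movS t s, (g ^ (2 * j)) x = x) ↔ s ∣ j := by
        have h1 : g ^ (2 * j) = 1 ↔ (∀ x ∈ movS t s, (g ^ (2 * j)) x = x) := by
          rw [eq_one_iff_of_isCompl hcompl]
          constructor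
          · intro h; exact h.2
          · intro h
            refine ⟨?_, h⟩
            intro x hx
            rw [hgj]
            exact pow_fix ((mem_fixS _ x).mp hx) _
        rw [← h1, hgj, htord]
        have hcop : Nat.Coprime s (s + 1) := by simp
        constructor
        · intro h; exact hcop.dvd_of_dvd_mul_left h
        · intro h; exact h.mul_left _
      rw [hiff]
      constructor
      · rintro ⟨h1, h3, -⟩
        exact (Nat.coprime_two_left.mpr ⟨k, hk⟩).mul_dvd_of_dvd_of_dvd h3 h1
      · intro h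
        exact ⟨(Dvd.intro_left _ rfl).trans h, (Dvd.intro _ rfl).trans h, rfl⟩

end twos

end Cfsg.Agent.Lib.Helper39.BC
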