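import Mathlib
import Cfsg.Agent.Lib.Helper39.BC5
import Cfsg.Agent.Lib.Helper39.SpT7

set_option autoImplicit false
set_option linter.unusedSimpArgs false
set_option linter.unusedVariables false
set_option linter.unnecessarySeqFocus false
set_option linter.unusedSectionVars false
set_option linter.style.haveILetI false
set_option maxHeartbeats 1600000

/-!
# Discriminant computations for invariant symmetric forms
-/

namespace Cfsg.Agent.Lib.Helper39.BC

open Module Polynomial
open LinearMap (BilinForm)
open Cfsg.Agent.Lib.Helper39.SpT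
open Cfsg.Agent.Lib.Helper40.Symp Cfsg.Agent.Lib.Helper40.PrimeOrder Cfsg.Agent.Lib.Helper40.PSp

section orth
variable {F : Type*} [Field F] {V : Type*} [AddCommGroup V] [Module F V]
variable {B : BilinForm F V} {T : Module.End F V}

lemma reflect_identity' (hiso : ∀ u w, B (T u) (T w) = B u w) (N : ℕ) (f : F[X])
    (hf : f.natDegree ≤ N) :
    ∀ u v : V, B (aeval T f u) ((T ^ N) v) = B u (aeval T (reflect N f) v) := by
  refine induction_with_natDegree_le
    (fun f => ∀ u v : V, B (aeval T f u) ((T ^ N) v) = B u (aeval T (reflect N f) v)) N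
    ?_ ?_ ?_ f hf
  · intro u v
    simp
  · intro n r _ hnN u v
    rw [reflect_C_mul_X_pow, revAt_le hnN]
    simp only [map_mul, aeval_C, map_pow, aeval_X, Module.End.mul_apply,
      Module.algebraMap_end_apply, map_smul, LinearMap.smul_apply, smul_eq_mul]
    congr 1
    have h1 : (T ^ N) v = (T ^ n) ((T ^ (N - n)) v) := by
      rw [← Module.End.mul_apply, ← pow_add, Nat.add_sub_cancel' hnN]
    rw [h1]
    exact iso_pow hiso n _ _
  · intro f g _ _ hf hg u v
    rw [map_add, LinearMap.add_apply, map_add, LinearMap.add_apply, hf, hg, reflect_add,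
      map_add, LinearMap.add_apply, map_add]

lemma orth_of_coprime' (hiso : ∀ u w, B (T u) (T w) = B u w) (f g : F[X])
    (hc : IsCoprime f.reverse g) (u v : V)
    (hu : aeval T f u = 0) (hv : aeval T g v = 0) : B u v = 0 := by
  obtain ⟨A, C, hAC⟩ := hc
  have h1 : v = aeval T f.reverse (aeval T A v) := by
    have h3 := congrArg (fun q : F[X] => aeval T q v) hAC
    simp only [map_add, map_one, Module.End.one_apply, LinearMap.add_apply] at h3
    rw [mul_comm A, map_mul, map_mul, Module.End.mul_apply, Module.End.mul_apply, hv, map_zero,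
      add_zero] at h3
    exact h3.symm
  have h2 : B (aeval T f u) ((T ^ f.natDegree) (aeval T A v)) =
      B u (aeval T f.reverse (aeval T A v)) := reflect_identity' hiso _ f le_rfl u _
  rw [h1, ← h2, hu]
  simp

end orth

section disc
variable {F : Type*} [Field F] {V : Type*} [AddCommGroup V] [Module F V]

/-- squareness of the discriminant does not depend on the basis -/
lemma isSquare_disc_of_basis {ι ι' : Type*} [Fintype ι] [DecidableEq ι] [Fintype ι']
    [DecidableEq ι'] (B : BilinForm F V) (b : Basis ι F V) (b' : Basis ι' F V)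
    (h : IsSquare (LinearMap.BilinForm.toMatrix b B).det) :
    IsSquare (LinearMap.BilinForm.toMatrix b' B).det := by
  have hcard : Fintype.card ι = Fintype.card ι' := by
    rw [← Module.finrank_eq_card_basis b, ← Module.finrank_eq_card_basis b']
  let e : ι ≃ ι' := Fintype.equivOfCardEq hcard
  have h1 := Cfsg.Agent.Lib.Helper14.det_toMatrix_reindex B b e
  have h2 := Cfsg.Agent.Lib.Helper14.disc_change B (b.reindex e) b'
  rw [h2, h1]
  obtain ⟨r, hr⟩ := h
  exact ⟨((b.reindex e).toMatrix b').det * r, by rw [hr]; ring⟩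

lemma det_gramJ (N : ℕ) : (Cfsg.Agent.Lib.Helper40.Darboux.gramJ N F).det = 1 := by
  unfold Cfsg.Agent.Lib.Helper40.Darboux.gramJ
  rw [Cfsg.Agent.Lib.Helper14.det_fromBlocks_zero₁₁, Matrix.det_one, Matrix.det_neg,
    Matrix.det_one, Fintype.card_fin, one_mul, mul_one, ← pow_add, ← two_mul, pow_mul]
  norm_num

/-- the discriminant of a symplectic form is a nonzero square -/
lemma alt_disc_square [FiniteDimensional F V] (ω : BilinForm F V) (halt : ω.IsAlt)
    (hnd : ω.Nondegenerate) (n : ℕ) (hfr : finrank F V = 2 * n) {ι : Type*} [Fintype ι]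
    [DecidableEq ι] (b : Basis ι F V) :
    IsSquare (LinearMap.BilinForm.toMatrix b ω).det ∧
      (LinearMap.BilinForm.toMatrix b ω).det ≠ 0 := by
  obtain ⟨b₀, hb₀⟩ := Cfsg.Agent.Lib.Helper40.Darboux.darboux_basis n V ω halt hnd hfr
  refine ⟨isSquare_disc_of_basis ω b₀ b ?_,
    (LinearMap.BilinForm.nondegenerate_iff_det_ne_zero b).mp hnd⟩
  rw [hb₀, det_gramJ]
  exact ⟨1, by ring⟩

end disc

end Cfsg.Agent.Lib.Helper39.BC
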