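import Mathlib
import Cfsg.Agent.Lib.Helper39.BC7

set_option autoImplicit false
set_option linter.unusedSimpArgs false
set_option linter.unusedVariables false
set_option linter.unnecessarySeqFocus false
set_option linter.unusedSectionVars false
set_option linter.style.haveILetI false
set_option maxHeartbeats 1600000

/-!
# The two extremal cases: contradiction with a square discriminant
-/

namespace Cfsg.Agent.Lib.Helper39.BC

open Module Polynomial
open LinearMap (BilinForm)
open Cfsg.Agent.Lib.Helper39.SpT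
open Cfsg.Agent.Lib.Helper40.Symp Cfsg.Agent.Lib.Helper40.PrimeOrder Cfsg.Agent.Lib.Helper40.PSp

section norm
variable {F : Type*} [Field F] {V : Type*} [AddCommGroup V] [Module F V] [FiniteDimensional F V]

/-- the determinant of a polynomial in `T` when the minimal polynomial of `T` is irreducible of
full degree -/
lemma det_aeval_eq_norm (T : Module.End F V) (π : F[X]) (hπm : π.Monic) (hπi : Irreducible π)
    (hdeg : π.natDegree = finrank F V) (hπT : aeval T π = 0) (g : F[X]) :
    LinearMap.det (aeval T g) = Algebra.norm F (AdjoinRoot.mk π g) := by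
  classical
  haveI : Fact (Irreducible π) := ⟨hπi⟩
  have hpb := AdjoinRoot.powerBasis hπm.ne_zero
  haveI : Module.Finite F (AdjoinRoot π) := hpb.finite
  have hfrK : finrank F (AdjoinRoot π) = π.natDegree := by
    rw [(AdjoinRoot.powerBasis hπm.ne_zero).finrank, AdjoinRoot.powerBasis_dim]
  have hpos : 0 < finrank F V := by
    rw [← hdeg]; exact Irreducible.natDegree_pos hπi
  haveI : Nontrivial V := Module.nontrivial_of_finrank_pos (R := F) hpos
  obtain ⟨v₀, hv₀⟩ := exists_ne (0 : V)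
  -- the algebra homomorphism
  let ρ : AdjoinRoot π →ₐ[F] Module.End F V :=
    Ideal.Quotient.liftₐ (Ideal.span {π}) (aeval T) (by
      intro x hx
      obtain ⟨c, rfl⟩ := Ideal.mem_span_singleton.mp hx
      rw [map_mul, hπT, zero_mul])
  have hρ : ∀ f : F[X], ρ (AdjoinRoot.mk π f) = aeval T f := fun f => rfl
  -- the cyclic vector map
  let φ : AdjoinRoot π →ₗ[F] V := (LinearMap.applyₗ v₀) ∘ₗ ρ.toLinearMap
  have hφ : ∀ x, φ x = ρ x v₀ := fun x => rfl
  have hφmul : ∀ a x, φ (a * x) = ρ a (φ x) := by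
    intro a x
    rw [hφ, hφ, map_mul, Module.End.mul_apply]
  have hinj : Function.Injective φ := by
    rw [← LinearMap.ker_eq_bot, LinearMap.ker_eq_bot']
    intro x hx
    by_contra hx0
    apply hv₀
    have h1 := hφmul x⁻¹ x
    rw [hx, map_zero, inv_mul_cancel₀ hx0, hφ, map_one, Module.End.one_apply] at h1
    exact h1
  have hsurj : Function.Surjective φ :=
    (LinearMap.injective_iff_surjective_of_finrank_eq_finrank (by rw [hfrK, hdeg])).mp hinj
  let φe : AdjoinRoot π ≃ₗ[F] V := LinearEquiv.ofBijective φ ⟨hinj, hsurj⟩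
  have hφe : ∀ x, φe x = φ x := fun x => rfl
  have hconj : aeval T g =
      (φe : AdjoinRoot π →ₗ[F] V) ∘ₗ (Algebra.lmul F (AdjoinRoot π) (AdjoinRoot.mk π g)) ∘ₗ
        (φe.symm : V →ₗ[F] AdjoinRoot π) := by
    apply LinearMap.ext
    intro v
    simp only [LinearMap.comp_apply, LinearEquiv.coe_coe, Algebra.lmul_algebraMap,
      Algebra.coe_lmul_eq_mul, LinearMap.mul_apply']
    rw [hφe, hφmul, ← hφe, LinearEquiv.apply_symm_apply, hρ]
  rw [hconj, LinearMap.det_conj, Algebra.norm_apply]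

end norm

section field
variable {F : Type*} [Field F] [Fintype F] {V : Type*} [AddCommGroup V] [Module F V]
  [FiniteDimensional F V]

/-- the field case: the determinant of `T - T⁻¹` is not a square -/
theorem field_case (hodd : Odd (Fintype.card F)) (n : ℕ) (hn : 1 ≤ n)
    (hfr : finrank F V = 2 * n) (T : Module.End F V) (π : F[X]) (hπm : π.Monic)
    (hπi : Irreducible π) (hdeg : π.natDegree = 2 * n) (hπT : aeval T π = 0) (s : ℕ)
    (hs1 : 1 ≤ s) (hπs : π ∣ X ^ s - 1) (hπq : π ∣ X ^ (Fintype.card F ^ n + 1) - 1)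
    (N : ℕ) (hN : Odd N) (hqN : Fintype.card F ^ n + 1 = 2 * N)
    (hsq : IsSquare (LinearMap.det (skewA T s))) (hdet0 : LinearMap.det (skewA T s) ≠ 0) :
    False := by
  classical
  haveI : Fact (Irreducible π) := ⟨hπi⟩
  have h2 : (2 : F) ≠ 0 := Cfsg.Agent.Lib.Helper39.TwoRk.two_ne_zero_of_odd_card hodd
  set q := Fintype.card F with hq
  have hpb := AdjoinRoot.powerBasis hπm.ne_zero
  haveI : Module.Finite F (AdjoinRoot π) := hpb.finite
  haveI : Finite (AdjoinRoot π) := Module.finite_of_finite F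
  haveI : Fintype (AdjoinRoot π) := Fintype.ofFinite _
  have hfrK : finrank F (AdjoinRoot π) = 2 * n := by
    rw [(AdjoinRoot.powerBasis hπm.ne_zero).finrank, AdjoinRoot.powerBasis_dim, hdeg]
  -- the element `a`
  set ζ := AdjoinRoot.root π with hζ
  have hskew : skewA T s = aeval T (X - X ^ (s - 1) : F[X]) := by
    unfold skewA
    rw [map_sub, map_pow, aeval_X]
  have hmk : AdjoinRoot.mk π (X - X ^ (s - 1) : F[X]) = ζ - ζ ^ (s - 1) := by
    rw [map_sub, map_pow, AdjoinRoot.mk_X]
  have hdet := det_aeval_eq_norm T π hπm hπi (by rw [hdeg, hfr]) hπT (X - X ^ (s - 1) : F[X])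
  rw [← hskew, hmk] at hdet
  set a := ζ - ζ ^ (s - 1) with ha
  rw [hdet] at hsq hdet0
  have ha0 : a ≠ 0 := by
    intro h0
    apply hdet0
    rw [h0, Algebra.norm_zero]
  -- powers of `ζ`
  have hζs : ζ ^ s = 1 := (root_pow_eq_one_iff π hπi s).mpr hπs
  have hζq : ζ ^ (q ^ n + 1) = 1 := (root_pow_eq_one_iff π hπi _).mpr hπq
  have hζ0 : ζ ≠ 0 := by
    intro h0
    rw [h0, zero_pow (by omega)] at hζs
    exact zero_ne_one hζs
  have hζinv : ζ ^ (s - 1) = ζ⁻¹ := by
    apply eq_inv_of_mul_eq_one_left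
    rw [← pow_succ, Nat.sub_add_cancel hs1, hζs]
  have hζqinv : ζ ^ (q ^ n) = ζ⁻¹ := by
    apply eq_inv_of_mul_eq_one_left
    rw [← pow_succ, hζq]
  -- characteristic
  obtain ⟨p, hchar⟩ := CharP.exists F
  haveI := hchar
  obtain ⟨e, hp, hqe⟩ := FiniteField.card F p
  haveI : Fact p.Prime := ⟨hp⟩
  haveI : CharP (AdjoinRoot π) p :=
    charP_of_injective_algebraMap (algebraMap F (AdjoinRoot π)).injective p
  have hqn : q ^ n = p ^ ((e : ℕ) * n) := by rw [hq, hqe, pow_mul]
  have haq : a ^ (q ^ n) = -a := by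
    rw [ha, hqn, sub_pow_char_pow, ← hqn, ← pow_mul, mul_comm, pow_mul, hζqinv, hζinv, inv_pow,
      ← hζinv, hζinv, inv_inv]
    ring
  have hqpos : 1 ≤ q ^ n := Nat.one_le_pow _ _ Fintype.card_pos
  have haq1 : a ^ (q ^ n - 1) = -1 := by
    have h1 : a ^ (q ^ n - 1) * a = -1 * a := by
      rw [← pow_succ, Nat.sub_add_cancel hqpos, haq, neg_one_mul]
    exact mul_right_cancel₀ ha0 h1
  -- the norm is a square
  obtain ⟨z, hz⟩ := hsq
  have hz0 : z ≠ 0 := by
    rintro rfl
    rw [mul_zero] at hz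
    exact hdet0 hz
  obtain ⟨c, hc⟩ := hodd
  have hzc : (Algebra.norm F a) ^ c = 1 := by
    rw [hz, ← pow_two, ← pow_mul]
    have : 2 * c = q - 1 := by omega
    rw [this]
    exact FiniteField.pow_card_sub_one_eq_one z hz0
  have hcardK : Fintype.card (AdjoinRoot π) = q ^ (2 * n) := by
    rw [Module.card_eq_pow_finrank (K := F), hfrK]
  have hnorm := FiniteField.algebraMap_norm_eq_pow (K := F) (K' := AdjoinRoot π) (x := a)
  rw [Nat.card_eq_fintype_card, Nat.card_eq_fintype_card, hcardK, ← hq] at hnorm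
  have hdvd : q - 1 ∣ q ^ (2 * n) - 1 := by
    simpa only [one_pow] using Nat.sub_dvd_pow_sub_pow q 1 (2 * n)
  obtain ⟨E, hE⟩ := hdvd
  have hq2 : 2 ≤ q := Fintype.one_lt_card
  have hq1 : 0 < q - 1 := by omega
  have hEdiv : (q ^ (2 * n) - 1) / (q - 1) = E := by
    rw [hE, Nat.mul_div_cancel_left _ hq1]
  rw [hEdiv] at hnorm
  have h5 : a ^ (E * c) = 1 := by
    rw [pow_mul, ← hnorm, ← map_pow, hzc, map_one]
  -- `E * c = (q^n - 1) * N`
  have hEc : E * c = (q ^ n - 1) * N := by
    have h6 : q ^ (2 * n) - 1 = (q ^ n - 1) * (q ^ n + 1) := by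
      have : q ^ (2 * n) = q ^ n * q ^ n := by rw [two_mul, pow_add]
      rw [this]
      have h7 : (q ^ n - 1) * (q ^ n + 1) + 1 = q ^ n * q ^ n := by
        obtain ⟨m, hm⟩ : ∃ m, q ^ n = m + 1 := ⟨q ^ n - 1, by omega⟩
        rw [hm]
        simp only [Nat.add_sub_cancel]
        ring
      omega
    have h8 : (q - 1) * E = (q ^ n - 1) * (2 * N) := by rw [← hE, h6, hqN]
    have h9 : q - 1 = 2 * c := by omega
    rw [h9] at h8
    have h10 : 2 * (E * c) = 2 * ((q ^ n - 1) * N) := by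
      calc 2 * (E * c) = 2 * c * E := by ring
        _ = (q ^ n - 1) * (2 * N) := h8
        _ = 2 * ((q ^ n - 1) * N) := by ring
    exact Nat.eq_of_mul_eq_mul_left (by norm_num) h10
  rw [hEc, pow_mul, haq1, hN.neg_one_pow] at h5
  -- `-1 = 1` in `K`
  have h11 : (2 : AdjoinRoot π) = 0 := by linear_combination -h5
  have h12 : algebraMap F (AdjoinRoot π) 2 = 0 := by rw [map_ofNat]; exact h11
  exact h2 ((map_eq_zero _).mp h12)

end field

section split
variable {F : Type*} [Field F] [Fintype F] {V : Type*} [AddCommGroup V] [Module F V]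
  [FiniteDimensional F V]

lemma pow_mod_four_eq_three (q n : ℕ) (h : q ^ n % 4 = 3) : q % 4 = 3 ∧ Odd n := by
  rw [Nat.pow_mod] at h
  have hlt : q % 4 < 4 := Nat.mod_lt _ (by norm_num)
  interval_cases hq : q % 4
  · exfalso
    rcases Nat.eq_zero_or_pos n with rfl | hn
    · simp at h
    · rw [zero_pow (by omega)] at h
      simp at h
  · exfalso
    simp at h
  · exfalso
    rcases Nat.lt_or_ge n 2 with hn | hn
    · interval_cases n <;> simp at h
    · obtain ⟨k, rfl⟩ : ∃ k, n = k + 2 := ⟨n - 2, by omega⟩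
      have : 2 ^ (k + 2) % 4 = 0 := by
        rw [pow_add]
        norm_num
      omega
  · refine ⟨rfl, ?_⟩
    by_contra hne
    rw [Nat.not_odd_iff_even] at hne
    obtain ⟨m, rfl⟩ := hne
    rw [← two_mul, pow_mul, Nat.pow_mod] at h
    norm_num at h

/-- the split case: a Lagrangian forces the discriminant `(-1)^n` -/
theorem split_case (n : ℕ) (hn : 1 ≤ n) (hfr : finrank F V = 2 * n) (β : BilinForm F V)
    (hs : ∀ u w, β u w = β w u) (hnd : ∀ x, (∀ y, β x y = 0) → x = 0) (T : Module.End F V)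
    (hiso : ∀ u w, β (T u) (T w) = β u w) (π : F[X]) (hπm : π.Monic) (hπi : Irreducible π)
    (hπ0 : π.coeff 0 ≠ 0) (hrec : recip π ≠ π) (hπT : aeval T (π * recip π) = 0)
    (hq : Fintype.card F ^ n % 4 = 3) {ι : Type*} [Fintype ι] [DecidableEq ι] (b : Basis ι F V)
    (hsq : IsSquare (LinearMap.BilinForm.toMatrix b β).det) : False := by
  classical
  have hsymm : β.IsSymm := ⟨hs⟩
  have hndg : β.Nondegenerate := (hsymm.isRefl.nondegenerate_iff_separatingLeft).mpr
    (fun x hx => hnd x hx)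
  have hπ'm := recip_monic π hπ0
  have hπ'i := recip_irreducible π hπm hπi hπ0
  have hπ'0 : (recip π).coeff 0 ≠ 0 := by
    rw [recip_coeff_zero π hπm]
    exact inv_ne_zero hπ0
  have hrr : recip (recip π) = π := recip_recip π hπm hπ0
  have hcop : IsCoprime π (recip π) := by
    rw [hπi.coprime_iff_not_dvd]
    intro hd
    apply hrec
    exact eq_of_monic_of_dvd_of_natDegree_le hπm hπ'm hd (by rw [recip_natDegree π hπ0])
  set U₁ := LinearMap.ker (aeval T π) with hU₁
  set U₂ := LinearMap.ker (aeval T (recip π)) with hU₂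
  have hsup : U₁ ⊔ U₂ = ⊤ := by
    rw [hU₁, hU₂, sup_ker_aeval_eq_ker_aeval_mul_of_coprime T hcop, hπT]
    exact LinearMap.ker_zero
  have hdisj : Disjoint U₁ U₂ := disjoint_ker_aeval_of_isCoprime T hcop
  have hcompl : IsCompl U₁ U₂ := ⟨hdisj, codisjoint_iff.mpr hsup⟩
  have hsum := Submodule.finrank_add_eq_of_isCompl hcompl
  -- total singularity
  have hrev1 : IsCoprime π.reverse π := by
    rw [reverse_eq_of_coeff_zero π hπ0]
    have hu : IsUnit (C (π.coeff 0) : F[X]) := isUnit_C.mpr (IsUnit.mk0 _ hπ0)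
    rw [isCoprime_mul_unit_left_left hu]
    exact hcop.symm
  have hrev2 : IsCoprime (recip π).reverse (recip π) := by
    rw [reverse_eq_of_coeff_zero (recip π) hπ'0, hrr]
    have hu : IsUnit (C ((recip π).coeff 0) : F[X]) := isUnit_C.mpr (IsUnit.mk0 _ hπ'0)
    rw [isCoprime_mul_unit_left_left hu]
    exact hcop
  have hts1 : ∀ x ∈ U₁, ∀ y ∈ U₁, β x y = 0 := by
    intro x hx y hy
    exact orth_of_coprime' hiso π π hrev1 x y (LinearMap.mem_ker.mp hx) (LinearMap.mem_ker.mp hy)
  have hts2 : ∀ x ∈ U₂, ∀ y ∈ U₂, β x y = 0 := by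
    intro x hx y hy
    exact orth_of_coprime' hiso (recip π) (recip π) hrev2 x y (LinearMap.mem_ker.mp hx)
      (LinearMap.mem_ker.mp hy)
  have hle : ∀ U : Submodule F V, (∀ x ∈ U, ∀ y ∈ U, β x y = 0) → finrank F U ≤ n := by
    intro U hU
    have h1 : U ≤ β.orthogonal U := by
      intro x hx
      rw [LinearMap.BilinForm.mem_orthogonal_iff]
      intro y hy
      exact hU y hy x hx
    have h3 := Submodule.finrank_mono h1
    rw [LinearMap.BilinForm.finrank_orthogonal hndg U, hfr] at h3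
    omega
  have h1n := hle U₁ hts1
  have h2n := hle U₂ hts2
  have hU₁n : finrank F U₁ = n := by omega
  obtain ⟨b₁, c, hc0, hdet⟩ := Cfsg.Agent.Lib.Helper14.disc_of_lagrangian β hsymm hndg n hfr U₁
    hU₁n hts1
  have hsq1 := isSquare_disc_of_basis β b b₁ hsq
  rw [hdet] at hsq1
  obtain ⟨hq4, hnodd⟩ := pow_mod_four_eq_three _ _ hq
  rw [hnodd.neg_one_pow] at hsq1
  obtain ⟨r, hr⟩ := hsq1
  have hneg : IsSquare (-1 : F) := by
    refine ⟨r / c, ?_⟩
    field_simp
    linear_combination hr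
  rw [FiniteField.isSquare_neg_one_iff] at hneg
  exact hneg hq4

end split

end Cfsg.Agent.Lib.Helper39.BC
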