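import Mathlib
import Cfsg.Agent.Lib.Helper39.BC8
import Cfsg.Agent.Lib.Helper39.SpT8

set_option autoImplicit false
set_option linter.unusedSimpArgs false
set_option linter.unusedVariables false
set_option linter.unnecessarySeqFocus false
set_option linter.unusedSectionVars false
set_option linter.style.haveILetI false
set_option maxHeartbeats 1600000

/-!
# The hard case: a fixed-point-free isometry of prime order on an orthogonal space of dimension
`2n` with square discriminant
-/

namespace Cfsg.Agent.Lib.Helper39.BC

open Module Polynomial Matrix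
open LinearMap (BilinForm)
open Cfsg.Agent.Lib.Helper39.SpT Cfsg.Agent.Lib.Helper40.PSLr
open Cfsg.Agent.Lib.Helper40.Symp Cfsg.Agent.Lib.Helper40.PrimeOrder Cfsg.Agent.Lib.Helper40.PSp

section
variable {F : Type*} [Field F] [Fintype F] {V : Type*} [AddCommGroup V] [Module F V]
  [FiniteDimensional F V]

theorem hard_case (hodd : Odd (Fintype.card F)) (n : ℕ) (hn : 2 ≤ n) (p : ℕ) [Fact p.Prime]
    [CharP F p] (hfr : finrank F V = 2 * n) (β : BilinForm F V)
    (hs : ∀ u w, β u w = β w u) (hnd : ∀ x, (∀ y, β x y = 0) → x = 0) (T : Module.End F V)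
    (hiso : ∀ u w, β (T u) (T w) = β u w) (s : ℕ) (hsp : s.Prime) (hs2 : s ≠ 2) (hsne : s ≠ p)
    (hTs : T ^ s = 1) (hfix : fixS T = ⊥) {ι : Type*} [Fintype ι] [DecidableEq ι]
    (b : Basis ι F V) (hsq : IsSquare (LinearMap.BilinForm.toMatrix b β).det) :
    2 * s ∈ Set.range (orderOf : Cfsg.PSp n F → ℕ) := by
  classical
  have hp : p.Prime := Fact.out
  haveI : Fact s.Prime := ⟨hsp⟩
  have h2 : (2 : F) ≠ 0 := Cfsg.Agent.Lib.Helper39.TwoRk.two_ne_zero_of_odd_card hodd
  have hso : Odd s := hsp.odd_of_ne_two hs2
  have hs0 : 0 < s := hsp.pos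
  have hsF : (s : F) ≠ 0 := by
    intro h0
    have := (CharP.cast_eq_zero_iff F p s).mp h0
    exact hsne ((Nat.prime_dvd_prime_iff_eq hp hsp).mp this).symm
  haveI : Nontrivial V := nontrivial_of_finrank hfr (by omega)
  set q := Fintype.card F with hq
  have hqpos : 0 < q := Fintype.card_pos
  -- the symplectic structure
  have hcompl := isCompl_fix_mov hTs hsF
  have hmov : movS T s = ⊤ := by
    have := hcompl.sup_eq_top
    rwa [hfix, bot_sup_eq] at this
  set ω := twist β T s with hω
  have halt : ω.IsAlt := fun x => twist_alt_of_symm h2 hiso hTs hs0 hs x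
  have hωnd : ω.Nondegenerate := by
    refine (halt.isRefl.nondegenerate_iff_separatingLeft).mpr ?_
    intro x hx
    exact nondeg_twist h2 hiso hTs hso hsF hnd (by rw [hmov]; trivial) (fun y _ => hx y)
  have hSp : SpIso ω T := ⟨halt, hωnd, twist_iso rfl hiso⟩
  have hT1 : T ≠ 1 := by
    intro h1
    obtain ⟨v, hv⟩ := exists_ne (0 : V)
    have : v ∈ fixS T := by rw [mem_fixS, h1, Module.End.one_apply]
    rw [hfix] at this
    exact hv ((Submodule.mem_bot F).mp this)
  have hTord := ord_prime T s hsp hTs hT1
  have hmin : ∀ j : ℕ, (T ^ j = 1 ∨ T ^ j = -1) → s ∣ j := by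
    intro j hj
    rcases hj with h | h
    · exact (hTord j).mp h
    · exact absurd h (pow_ne_neg_one_of_odd h2 T s hso hTs j)
  by_cases hdec : ∃ U : Submodule F V, (∀ x ∈ U, T x ∈ U) ∧ NondegOn ω U ∧ U ≠ ⊥ ∧ U ≠ ⊤
  · obtain ⟨U, hU, hUnd, hU0, hU1⟩ := hdec
    exact two_mul_mem_of_decomposable h2 n (by omega) hSp hfr s hso hTs hmin U hU hUnd hU0 hU1
  · have hind : ∀ U : Submodule F V, (∀ x ∈ U, T x ∈ U) → NondegOn ω U → U = ⊥ ∨ U = ⊤ := by
      intro U hU hUnd
      by_contra hc
      push Not at hc
      exact hdec ⟨U, hU, hUnd, hc.1, hc.2⟩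
    obtain ⟨π, k, k', hπm, hπi, hπ0, hk1, hπs, hPT, hPμ, hcases⟩ :=
      struct_indec hSp s hs0 hTs hind
    haveI : Fact (Irreducible π) := ⟨hπi⟩
    have hμ0 : minpoly F T ≠ 0 := minpoly.ne_zero (Algebra.IsIntegral.isIntegral T)
    have hπ'm := recip_monic π hπ0
    have hDpos : 0 < π.natDegree := Irreducible.natDegree_pos hπi
    have hdegP : (π ^ k * (recip π) ^ k').natDegree = (k + k') * π.natDegree := by
      rw [natDegree_mul (pow_ne_zero _ hπm.ne_zero) (pow_ne_zero _ hπ'm.ne_zero), natDegree_pow,
        natDegree_pow, recip_natDegree π hπ0]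
      ring
    have hdegle : (k + k') * π.natDegree ≤ 2 * n := by
      rw [← hdegP, ← hfr]
      exact (natDegree_le_of_dvd hPμ hμ0).trans natDegree_minpoly_le
    have hπμ : π ∣ minpoly F T := by
      refine dvd_trans ?_ hPμ
      exact (dvd_pow_self π (by omega)).mul_right _
    have hX1m : (X - 1 : F[X]).Monic := by simpa using monic_X_sub_C (1 : F)
    have hX1d : (X - 1 : F[X]).natDegree = 1 := by simpa using natDegree_X_sub_C (1 : F)
    -- `π ≠ X - 1`
    have hπ1 : π ≠ X - 1 := by
      intro h1
      have h3 := ker_aeval_ne_bot_of_dvd_minpoly (T := T) π hπi.not_isUnit hπμ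
      apply h3
      rw [h1, map_sub, aeval_X, map_one]
      exact hfix
    -- the root
    set ζ := AdjoinRoot.root π with hζ
    have hζs : ζ ^ s = 1 := (root_pow_eq_one_iff π hπi s).mpr hπs
    have hζ1 : ζ ≠ 1 := by
      intro h1
      apply hπ1
      have e4 : π ∣ X ^ 1 - 1 := by
        rw [← root_pow_eq_one_iff π hπi, pow_one]
        exact h1
      rw [pow_one] at e4
      exact (eq_of_monic_of_dvd_of_natDegree_le hπm hX1m e4
        (by rw [hX1d]; exact hDpos)).symm
    have hζord : orderOf ζ = s := orderOf_eq_prime hζs hζ1
    have hsdvd : ∀ M : ℕ, π ∣ X ^ M - 1 → s ∣ M := by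
      intro M hM
      rw [← hζord]
      exact orderOf_dvd_of_pow_eq_one ((root_pow_eq_one_iff π hπi M).mpr hM)
    have hfin : 2 * s ∈ Set.range (orderOf : Cfsg.PSp n F → ℕ) ∨ False := by
      rcases hcases with ⟨hrec, hk'⟩ | ⟨hrec, hk'⟩
      · -- self-reciprocal
        rw [hk', pow_zero, mul_one] at hPT
        rw [hk', add_zero] at hdegle
        have hsq2 : ¬ π ∣ X ^ 2 - 1 := by
          intro hd
          have e1 := (root_pow_eq_one_iff π hπi 2).mpr hd
          obtain ⟨i, hi⟩ := hso
          have e3 : ζ = 1 := by
            have e2 := hζs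
            rw [hi, pow_succ, pow_mul, e1, one_pow, one_mul] at e2
            exact e2
          exact hζ1 e3
        obtain ⟨d, hd2, hdvd⟩ := selfrecip_even π hπm hπi hπ0 hrec hsq2
        have hd1 : 1 ≤ d := by omega
        have hsd : s ∣ q ^ d + 1 := hsdvd _ hdvd
        have hdn : d ≤ n := by
          rw [hd2] at hdegle
          have : 1 * (2 * d) ≤ k * (2 * d) := Nat.mul_le_mul_right _ hk1
          omega
        rcases Nat.lt_or_ge d n with hlt | hge
        · left
          obtain ⟨c, hc⟩ := hsd
          have := torus_plus_unip_mem hodd n d hd1 hlt p c s (by rw [hq] at hc; rw [hc]; ring) hso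
          exact mem_range_of_dvd _ _ this (Nat.mul_dvd_mul_left 2 (Nat.dvd_lcm_left _ _))
        · have hdn' : d = n := le_antisymm hdn hge
          subst hdn'
          have hk : k = 1 := by
            rw [hd2] at hdegle
            rcases Nat.lt_or_ge k 2 with h | h
            · omega
            · have : 2 * (2 * d) ≤ k * (2 * d) := Nat.mul_le_mul_right _ h
              omega
          rw [hk, pow_one] at hPT
          obtain ⟨N, hN⟩ : ∃ N, q ^ d + 1 = 2 * N := by
            have hqo : Odd (q ^ d) := hodd.pow
            obtain ⟨c, hc⟩ := hqo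
            exact ⟨c + 1, by omega⟩
          rcases Nat.even_or_odd N with hNe | hNo
          · left
            have hmem := half_plus_mem hodd d (by omega) p N (by rw [← hN])
            refine mem_range_of_dvd _ _ hmem ?_
            have h5 : s ∣ N := by
              have : s ∣ 2 * N := by rw [← hN]; exact hsd
              exact (Nat.Coprime.dvd_of_dvd_mul_left
                (Nat.coprime_two_right.mpr hso) this)
            exact (Nat.coprime_two_left.mpr hso).mul_dvd_of_dvd_of_dvd hNe.two_dvd h5
          · right
            -- the determinant of `T - T⁻¹`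
            have hgram : LinearMap.BilinForm.toMatrix b ω =
                (LinearMap.toMatrix b b (skewA T s))ᵀ * LinearMap.BilinForm.toMatrix b β := by
              have := LinearMap.BilinForm.toMatrix_comp b b β (skewA T s) LinearMap.id
              rw [LinearMap.toMatrix_id, mul_one] at this
              exact this
            have hdets := congrArg Matrix.det hgram
            rw [Matrix.det_mul, Matrix.det_transpose, LinearMap.det_toMatrix] at hdets
            obtain ⟨hωsq, hω0⟩ := alt_disc_square ω halt hωnd d hfr b
            have hβ0 : (LinearMap.BilinForm.toMatrix b β).det ≠ 0 := by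
              intro h0
              rw [h0, mul_zero] at hdets
              exact hω0 hdets
            have hA0 : LinearMap.det (skewA T s) ≠ 0 := by
              intro h0
              rw [h0, zero_mul] at hdets
              exact hω0 hdets
            have hAsq : IsSquare (LinearMap.det (skewA T s)) := by
              obtain ⟨r₁, hr₁⟩ := hωsq
              obtain ⟨r₂, hr₂⟩ := hsq
              have hr₂0 : r₂ ≠ 0 := by
                rintro rfl
                rw [mul_zero] at hr₂
                exact hβ0 hr₂
              refine ⟨r₁ / r₂, ?_⟩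
              have : LinearMap.det (skewA T s) = (LinearMap.BilinForm.toMatrix b ω).det /
                  (LinearMap.BilinForm.toMatrix b β).det := by
                rw [hdets, mul_div_assoc, div_self hβ0, mul_one]
              rw [this, hr₁, hr₂]
              field_simp
            exact field_case hodd d (by omega) hfr T π hπm hπi hd2 hPT s (by omega) hπs hdvd N
              hNo hN hAsq hA0
      · -- a pair of distinct reciprocal factors
        rw [hk'] at hPT hdegle
        set D := π.natDegree with hD
        have hsd : s ∣ q ^ D - 1 := by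
          apply hsdvd
          rw [← root_pow_eq_one_iff π hπi]
          exact root_pow_card π hπm hπi hπ0
        have hdn : D ≤ n := by
          have : (1 + 1) * D ≤ (k + k) * D := Nat.mul_le_mul_right _ (by omega)
          omega
        rcases Nat.lt_or_ge D n with hlt | hge
        · left
          obtain ⟨c, hc⟩ := hsd
          have := torus_minus_unip_mem hodd n D hDpos hlt p c s (by rw [hq] at hc; rw [hc]; ring)
            hso
          exact mem_range_of_dvd _ _ this (Nat.mul_dvd_mul_left 2 (Nat.dvd_lcm_left _ _))
        · have hdn' : D = n := le_antisymm hdn hge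
          have hk : k = 1 := by
            rcases Nat.lt_or_ge k 2 with h | h
            · omega
            · have : (2 + 2) * D ≤ (k + k) * D := Nat.mul_le_mul_right _ (by omega)
              omega
          rw [hk, pow_one, pow_one] at hPT
          have hqn3 : 3 ≤ q ^ n := by
            have hq3 : 3 ≤ q := by
              have hq2 : 2 ≤ q := Fintype.one_lt_card
              obtain ⟨c, hc⟩ := hodd
              omega
            calc 3 ≤ q := hq3
              _ = q ^ 1 := (pow_one q).symm
              _ ≤ q ^ n := Nat.pow_le_pow_right hqpos (by omega)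
          obtain ⟨N, hN⟩ : ∃ N, q ^ n - 1 = 2 * N := by
            have hqo : Odd (q ^ n) := hodd.pow
            obtain ⟨c, hc⟩ := hqo
            exact ⟨c, by omega⟩
          rw [hdn'] at hsd
          rcases Nat.even_or_odd N with hNe | hNo
          · left
            have hmem := half_minus_mem hodd n (by omega) p N (by rw [← hN])
            refine mem_range_of_dvd _ _ hmem ?_
            have h5 : s ∣ N := by
              have : s ∣ 2 * N := by rw [← hN]; exact hsd
              exact (Nat.Coprime.dvd_of_dvd_mul_left
                (Nat.coprime_two_right.mpr hso) this)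
            exact (Nat.coprime_two_left.mpr hso).mul_dvd_of_dvd_of_dvd hNe.two_dvd h5
          · right
            have hq4 : q ^ n % 4 = 3 := by
              obtain ⟨c, hc⟩ := hNo
              omega
            exact split_case n (by omega) hfr β hs hnd T hiso π hπm hπi hπ0 hrec hPT hq4 b hsq
    rcases hfin with h | h
    · exact h
    · exact absurd h id

end

end Cfsg.Agent.Lib.Helper39.BC
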