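import Mathlib
import Cfsg.Agent.Lib.Helper39.BC9
import Cfsg.Agent.Lib.Helper39.BC6

set_option autoImplicit false
set_option linter.unusedSimpArgs false
set_option linter.unusedVariables false
set_option linter.unnecessarySeqFocus false
set_option linter.unusedSectionVars false
set_option linter.style.haveILetI false
set_option maxHeartbeats 1600000

/-!
# Products of reflections along orthogonal vectors
-/

namespace Cfsg.Agent.Lib.Helper39.BC

open Module Matrix
open LinearMap (BilinForm)
open Cfsg.Agent.Lib.Helper37 Cfsg.Agent.Lib.Helper43 Cfsg.Agent.Lib.Helper43.OddOrth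

section refl
variable {κ : Type} [Fintype κ] [DecidableEq κ] {F : Type*} [Field F]
  {Q : (κ → F) → F} {G : Matrix κ κ F}

/-- the product of the reflections in a list of vectors -/
noncomputable def prodRefl (Q : (κ → F) → F) (vs : List (κ → F)) : Matrix κ κ F :=
  (vs.map (fun v => Cfsg.reflectionMatrix Q v)).prod

lemma prodRefl_nil : prodRefl Q [] = 1 := rfl

lemma prodRefl_cons (a : κ → F) (l : List (κ → F)) :
    prodRefl Q (a :: l) = Cfsg.reflectionMatrix Q a * prodRefl Q l := by
  unfold prodRefl
  rw [List.map_cons, List.prod_cons]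

lemma prodRefl_fix (h : IsGram Q G) (vs : List (κ → F)) (x : κ → F)
    (hx : ∀ v ∈ vs, Matrix.toBilin' G v x = 0) : prodRefl Q vs *ᵥ x = x := by
  induction vs with
  | nil => rw [prodRefl_nil, Matrix.one_mulVec]
  | cons a l ih =>
    rw [prodRefl_cons, ← Matrix.mulVec_mulVec, ih (fun v hv => hx v (List.mem_cons_of_mem a hv)),
      h.refl_fixes a x (hx a List.mem_cons_self)]

lemma refl_self_neg (h : IsGram Q G) (a : κ → F) (ha : Q a ≠ 0) :
    Cfsg.reflectionMatrix Q a *ᵥ a = -a := by
  have h1 := h.refl_self_apply a ha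
  rw [Matrix.mulVec_neg] at h1
  exact neg_eq_iff_eq_neg.mp h1

lemma prodRefl_neg (h : IsGram Q G) (vs : List (κ → F))
    (hpw : vs.Pairwise (fun a b => Matrix.toBilin' G a b = 0)) (hns : ∀ v ∈ vs, Q v ≠ 0)
    (v : κ → F) (hv : v ∈ vs) : prodRefl Q vs *ᵥ v = -v := by
  induction vs with
  | nil => simp at hv
  | cons a l ih =>
    rw [List.pairwise_cons] at hpw
    rw [prodRefl_cons, ← Matrix.mulVec_mulVec]
    rcases List.mem_cons.mp hv with rfl | hvl
    · rw [prodRefl_fix h l v (fun b hb => by rw [h.symmB]; exact hpw.1 b hb),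
        refl_self_neg h v (hns v List.mem_cons_self)]
    · rw [ih hpw.2 (fun b hb => hns b (List.mem_cons_of_mem a hb)) hvl, Matrix.mulVec_neg,
        h.refl_fixes a v (hpw.1 v hvl)]

/-- a matrix acting as `-1` on a list of orthogonal nonsingular vectors and trivially on an
orthogonal subspace, which together span, is the product of the reflections -/
lemma mat_eq_prodRefl (h : IsGram Q G) (vs : List (κ → F))
    (hpw : vs.Pairwise (fun a b => Matrix.toBilin' G a b = 0)) (hns : ∀ v ∈ vs, Q v ≠ 0)
    (M : Matrix κ κ F) (hneg : ∀ v ∈ vs, M *ᵥ v = -v) (C : Submodule F (κ → F))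
    (hC : ∀ x ∈ C, M *ᵥ x = x) (hCorth : ∀ x ∈ C, ∀ v ∈ vs, Matrix.toBilin' G v x = 0)
    (hspan : Submodule.span F {v | v ∈ vs} ⊔ C = ⊤) : M = prodRefl Q vs := by
  apply Matrix.toLin'.injective
  have hsp : Submodule.span F ({v | v ∈ vs} ∪ (C : Set (κ → F))) = ⊤ := by
    rw [Submodule.span_union, Submodule.span_eq, hspan]
  apply LinearMap.ext_on hsp
  rintro x (hx | hx)
  · rw [Matrix.toLin'_apply, Matrix.toLin'_apply, hneg x hx, prodRefl_neg h vs hpw hns x hx]
  · rw [Matrix.toLin'_apply, Matrix.toLin'_apply, hC x hx,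
      prodRefl_fix h vs x (fun v hv => hCorth x hx v hv)]

end refl

section sign
variable {F : Type*} [Field F] [Fintype F] (n : ℕ)

/-- the polar form of the standard quadratic form -/
noncomputable def beta0 (n : ℕ) (F : Type*) [Field F] :
    BilinForm F (Unit ⊕ (Fin n ⊕ Fin n) → F) := Matrix.toBilin' (gramO n F)

lemma beta0_symm (u w : Unit ⊕ (Fin n ⊕ Fin n) → F) : beta0 n F u w = beta0 n F w u := by
  have : (beta0 n F).IsSymm := (Matrix.isSymm_toBilin'_iff_isSymm).2 (gramO_transpose n F)
  exact this.eq u w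

lemma beta0_nd (h2 : (2 : F) ≠ 0) (x : Unit ⊕ (Fin n ⊕ Fin n) → F)
    (hx : ∀ y, beta0 n F x y = 0) : x = 0 := by
  have hnd : (beta0 n F).Nondegenerate :=
    LinearMap.BilinForm.nondegenerate_toBilin'_of_det_ne_zero' _ (gramO_det_ne n h2)
  exact hnd.1 x hx

lemma beta0_self (u : Unit ⊕ (Fin n ⊕ Fin n) → F) :
    beta0 n F u u = 2 * Cfsg.quadFormOdd n F u := by
  unfold beta0
  rw [Matrix.toBilin'_apply']
  exact dot_gramO_self n F u

/-- the possible signs of an element of `Ω` acting as `± 1` on a line and on its orthogonal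
complement -/
theorem omega_sign_cases (h2 : (2 : F) ≠ 0)
    (z : ↥(Cfsg.isometryGroup F (Cfsg.quadFormOdd n F)))
    (hz : z ∈ Cfsg.Omega F (Cfsg.quadFormOdd n F))
    (A B : Submodule F (Unit ⊕ (Fin n ⊕ Fin n) → F)) (hcompl : IsCompl A B)
    (horth : ∀ a ∈ A, ∀ b ∈ B, beta0 n F a b = 0) (hA1 : finrank F A = 1)
    (hBfr : finrank F B = 2 * n)
    (hB : (∀ x ∈ B, toMat (Cfsg.quadFormOdd n F) z *ᵥ x = x) ∨
      (∀ x ∈ B, toMat (Cfsg.quadFormOdd n F) z *ᵥ x = -x))
    (hA : (∀ x ∈ A, toMat (Cfsg.quadFormOdd n F) z *ᵥ x = x) ∨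
      (∀ x ∈ A, toMat (Cfsg.quadFormOdd n F) z *ᵥ x = -x)) :
    ((∀ x ∈ B, toMat (Cfsg.quadFormOdd n F) z *ᵥ x = x) ∧
      (∀ x ∈ A, toMat (Cfsg.quadFormOdd n F) z *ᵥ x = x)) ∨
    ((∀ x ∈ B, toMat (Cfsg.quadFormOdd n F) z *ᵥ x = -x) ∧
      ∃ u : Basis (Fin (finrank F B)) F B,
        IsSquare (LinearMap.BilinForm.toMatrix u ((beta0 n F).restrict B)).det) := by
  classical
  have h := isGramO (F := F) n h2
  set M := toMat (Cfsg.quadFormOdd n F) z with hM
  have hβG : ∀ u w, Matrix.toBilin' (gramO n F) u w = beta0 n F u w := fun u w => rfl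
  -- the line
  obtain ⟨a', ha'0, ha'span⟩ := finrank_eq_one_iff'.mp hA1
  set a : Unit ⊕ (Fin n ⊕ Fin n) → F := (a' : Unit ⊕ (Fin n ⊕ Fin n) → F) with ha
  have haA : a ∈ A := a'.2
  have ha0 : a ≠ 0 := fun h0 => ha'0 (Subtype.ext h0)
  have hAspan : ∀ x ∈ A, ∃ c : F, c • a = x := by
    intro x hx
    obtain ⟨c, hc⟩ := ha'span ⟨x, hx⟩
    exact ⟨c, congrArg Subtype.val hc⟩
  have hdecomp : ∀ w : Unit ⊕ (Fin n ⊕ Fin n) → F, ∃ x ∈ A, ∃ y ∈ B, w = x + y := by
    intro w
    have hw : w ∈ A ⊔ B := by rw [hcompl.sup_eq_top]; trivial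
    obtain ⟨x, hx, y, hy, rfl⟩ := Submodule.mem_sup.mp hw
    exact ⟨x, hx, y, hy, rfl⟩
  have hQa : Cfsg.quadFormOdd n F a ≠ 0 := by
    intro hQ0
    apply ha0
    apply beta0_nd n h2
    intro w
    obtain ⟨x, hx, y, hy, rfl⟩ := hdecomp w
    obtain ⟨c, rfl⟩ := hAspan x hx
    rw [map_add, map_smul, beta0_self, hQ0, horth a haA y hy]
    simp
  rcases hB with hB | hB
  · rcases hA with hA | hA
    · exact Or.inl ⟨hB, hA⟩
    · -- a reflection: impossible
      exfalso
      have hMa : M *ᵥ a = -a := hA a haA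
      have hspanA : Submodule.span F {v | v ∈ [a]} = A := by
        apply le_antisymm
        · rw [Submodule.span_le]
          intro v hv
          simp only [List.mem_singleton, Set.mem_ofPred_eq] at hv
          rw [hv]; exact haA
        · intro x hx
          obtain ⟨c, rfl⟩ := hAspan x hx
          exact Submodule.smul_mem _ _ (Submodule.subset_span (by simp))
      have hMeq : M = prodRefl (Cfsg.quadFormOdd n F) [a] := by
        refine mat_eq_prodRefl h [a] (List.pairwise_singleton _ _) ?_ M ?_ B hB ?_ ?_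
        · intro v hv
          rw [List.mem_singleton.mp hv]; exact hQa
        · intro v hv
          rw [List.mem_singleton.mp hv]; exact hMa
        · intro x hx v hv
          rw [List.mem_singleton.mp hv, hβG]
          exact horth a haA x hx
        · rw [hspanA]; exact hcompl.sup_eq_top
      have h3 := (mem_omega_iff h z [a] (by
        intro v hv
        rw [List.mem_singleton.mp hv]; exact hQa) hMeq).mp hz
      simp at h3
  · rcases hA with hA | hA
    · -- the hard case
      right
      refine ⟨hB, ?_⟩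
      haveI : Invertible (2 : F) := invertibleOfNonzero h2
      have hsymmB : ((beta0 n F).restrict B).IsSymm := ⟨fun x y => beta0_symm n _ _⟩
      obtain ⟨u, hu⟩ := LinearMap.BilinForm.exists_orthogonal_basis
        (LinearMap.BilinForm.isSymm_iff.mp hsymmB)
      have hndB : ((beta0 n F).restrict B).SeparatingLeft := by
        intro x hx
        apply Subtype.ext
        apply beta0_nd n h2
        intro w
        obtain ⟨x₁, hx₁, y, hy, rfl⟩ := hdecomp w
        rw [map_add, beta0_symm n _ x₁, horth x₁ hx₁ x.1 x.2, zero_add]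
        exact hx ⟨y, hy⟩
      have hself : ∀ i, beta0 n F (u i) (u i) ≠ 0 := by
        intro i
        have := hu.not_isOrtho_basis_self_of_separatingLeft hndB i
        exact this
      have hQu : ∀ i, Cfsg.quadFormOdd n F (u i) ≠ 0 := by
        intro i h0
        apply hself i
        rw [beta0_self, h0, mul_zero]
      have huorth : ∀ i j, i ≠ j → beta0 n F (u i) (u j) = 0 := by
        intro i j hij
        exact LinearMap.isOrthoᵢ_def.mp hu i j hij
      set us : List (Unit ⊕ (Fin n ⊕ Fin n) → F) :=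
        List.ofFn (fun i => ((u i : B) : Unit ⊕ (Fin n ⊕ Fin n) → F)) with hus
      have hmem : ∀ v, v ∈ us ↔ ∃ i, ((u i : B) : Unit ⊕ (Fin n ⊕ Fin n) → F) = v := by
        intro v
        rw [hus, List.mem_ofFn]
      have hpw : us.Pairwise (fun a b => Matrix.toBilin' (gramO n F) a b = 0) := by
        rw [hus, List.pairwise_ofFn]
        intro i j hij
        exact huorth i j (ne_of_lt hij)
      have hns : ∀ v ∈ us, Cfsg.quadFormOdd n F v ≠ 0 := by
        intro v hv
        obtain ⟨i, rfl⟩ := (hmem v).mp hv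
        exact hQu i
      have hspanB : Submodule.span F {v | v ∈ us} = B := by
        have e1 : {v | v ∈ us} = B.subtype '' (Set.range u) := by
          ext v
          simp only [Set.mem_ofPred_eq, hmem, Set.mem_image, Set.mem_range,
            Submodule.subtype_apply]
          constructor
          · rintro ⟨i, rfl⟩
            exact ⟨u i, ⟨i, rfl⟩, rfl⟩
          · rintro ⟨w, ⟨i, rfl⟩, rfl⟩
            exact ⟨i, rfl⟩
        rw [e1, Submodule.span_image, u.span_eq, Submodule.map_subtype_top]
      have hMeq : M = prodRefl (Cfsg.quadFormOdd n F) us := by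
        refine mat_eq_prodRefl h us hpw hns M ?_ A hA ?_ ?_
        · intro v hv
          obtain ⟨i, rfl⟩ := (hmem v).mp hv
          exact hB _ (u i).2
        · intro x hx v hv
          obtain ⟨i, rfl⟩ := (hmem v).mp hv
          rw [hβG, beta0_symm]
          exact horth x hx _ (u i).2
        · rw [hspanB, sup_comm]; exact hcompl.sup_eq_top
      have h3 := (mem_omega_iff h z us hns hMeq).mp hz
      have hprod : (us.map (fun v => Cfsg.quadFormOdd n F v)).prod =
          ∏ i, Cfsg.quadFormOdd n F (u i) := by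
        rw [hus, List.map_ofFn, List.prod_ofFn]
        rfl
      rw [hprod] at h3
      refine ⟨u, ?_⟩
      have hdiag : LinearMap.BilinForm.toMatrix u ((beta0 n F).restrict B) =
          Matrix.diagonal (fun i => beta0 n F (u i) (u i)) := by
        ext i j
        rw [LinearMap.BilinForm.toMatrix_apply, Matrix.diagonal_apply]
        split_ifs with hij
        · rw [hij]; rfl
        · exact huorth i j hij
      rw [hdiag, Matrix.det_diagonal]
      have e2 : ∏ i, beta0 n F (u i) (u i) = 2 ^ (2 * n) * ∏ i, Cfsg.quadFormOdd n F (u i) := by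
        simp only [beta0_self]
        have e5 : (2 : F) ^ (finrank F B) = 2 ^ (2 * n) := by rw [hBfr]
        rw [Finset.prod_mul_distrib, Finset.prod_const, Finset.card_univ, Fintype.card_fin, e5]
      rw [e2]
      obtain ⟨r, hr⟩ := h3.2
      refine ⟨2 ^ n * r, ?_⟩
      have e6 : (2 : F) ^ (2 * n) = 2 ^ n * 2 ^ n := by rw [two_mul, pow_add]
      rw [hr, e6]
      ring
    · -- minus the identity: impossible
      exfalso
      have hMneg : M = -1 := by
        apply Matrix.toLin'.injective
        apply LinearMap.ext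
        intro w
        obtain ⟨x, hx, y, hy, rfl⟩ := hdecomp w
        rw [Matrix.toLin'_apply, Matrix.mulVec_add, hA x hx, hB y hy, map_neg, Matrix.toLin'_one]
        simp
        abel
      have hdet := Cfsg.Agent.Lib.Helper37.det_eq_one_of_mem_omega (Cfsg.quadFormOdd n F) ⟨z, hz⟩
      have hdet' : M.det = 1 := hdet
      rw [hMneg, Matrix.det_neg, Matrix.det_one, mul_one, card_idx, pow_succ, pow_mul] at hdet'
      have : (-1 : F) = 1 := by simpa using hdet'
      apply h2
      linear_combination -this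

end sign

end Cfsg.Agent.Lib.Helper39.BC
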