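import Mathlib
import Cfsg.Agent.Lib.Helper39.BC10

set_option autoImplicit false
set_option linter.unusedSimpArgs false
set_option linter.unusedVariables false
set_option linter.unnecessarySeqFocus false
set_option linter.unusedSectionVars false
set_option linter.style.haveILetI false
set_option maxHeartbeats 3200000

/-!
# The order `2s`: from `Ω_{2n+1}(q)` to `PSp_{2n}(q)`
-/

namespace Cfsg.Agent.Lib.Helper39.BC

open Module Matrix
open LinearMap (BilinForm)
open Cfsg.Agent.Lib.Helper37 Cfsg.Agent.Lib.Helper43 Cfsg.Agent.Lib.Helper43.OddOrth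
open Cfsg.Agent.Lib.Helper39.SpT Cfsg.Agent.Lib.Helper39.TwoRk

section
variable {F : Type*} [Field F] [Fintype F]

/-- the isometry of the standard space defined by an element of the isometry group -/
lemma oiso_of_elt (h2 : (2 : F) ≠ 0) (n : ℕ)
    (y : ↥(Cfsg.isometryGroup F (Cfsg.quadFormOdd n F))) :
    OIso (beta0 n F) (Matrix.toLin' (toMat (Cfsg.quadFormOdd n F) y)) := by
  refine ⟨beta0_symm n, beta0_nd n h2, ?_⟩
  intro u w
  rw [Matrix.toLin'_apply, Matrix.toLin'_apply]
  exact (isGramO (F := F) n h2).isometry_bilin _ (IsGram.toMat_isometry y) u w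

lemma toLin_pow_elt (n : ℕ) (y : ↥(Cfsg.isometryGroup F (Cfsg.quadFormOdd n F))) (j : ℕ) :
    (Matrix.toLin' (toMat (Cfsg.quadFormOdd n F) y)) ^ j =
      Matrix.toLin' (toMat (Cfsg.quadFormOdd n F) (y ^ j)) := by
  rw [map_pow, Matrix.toLin'_pow]

lemma toLin_pow_eq_one_iff (n : ℕ) (y : ↥(Cfsg.isometryGroup F (Cfsg.quadFormOdd n F)))
    (j : ℕ) : (Matrix.toLin' (toMat (Cfsg.quadFormOdd n F) y)) ^ j = 1 ↔ y ^ j = 1 := by
  rw [toLin_pow_elt]
  constructor
  · intro h1
    apply toMat_injective
    apply Matrix.toLin'.injective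
    rw [h1, map_one, Matrix.toLin'_one]
    rfl
  · intro h1
    rw [h1, map_one, Matrix.toLin'_one]
    rfl

lemma finrank_idx (n : ℕ) : finrank F (Unit ⊕ (Fin n ⊕ Fin n) → F) = 2 * n + 1 := by
  rw [Module.finrank_fintype_fun_eq_card, card_idx]

/-- the order `2s` passes from `Ω` to `PSp` -/
theorem o_to_sp_two (hodd : Odd (Fintype.card F)) (n : ℕ) (hn : 3 ≤ n) (p : ℕ) [Fact p.Prime]
    [CharP F p] (s : ℕ) (hsp : s.Prime) (hs2 : s ≠ 2) (hsne : s ≠ p)
    (y : ↥(Cfsg.isometryGroup F (Cfsg.quadFormOdd n F)))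
    (hy : y ∈ Cfsg.Omega F (Cfsg.quadFormOdd n F)) (hord : ∀ j, y ^ j = 1 ↔ 2 * s ∣ j) :
    2 * s ∈ Set.range (orderOf : Cfsg.PSp n F → ℕ) := by
  classical
  have hp : p.Prime := Fact.out
  have h2 : (2 : F) ≠ 0 := Cfsg.Agent.Lib.Helper39.TwoRk.two_ne_zero_of_odd_card hodd
  have hso : Odd s := hsp.odd_of_ne_two hs2
  have hs0 : 0 < s := hsp.pos
  have hs1 : 1 < s := hsp.one_lt
  have hsF : (s : F) ≠ 0 := by
    intro h0
    have := (CharP.cast_eq_zero_iff F p s).mp h0
    exact hsne ((Nat.prime_dvd_prime_iff_eq hp hsp).mp this).symm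
  obtain ⟨Yl, hYl⟩ : ∃ Yl : Module.End F (Unit ⊕ (Fin n ⊕ Fin n) → F),
      Yl = Matrix.toLin' (toMat (Cfsg.quadFormOdd n F) y) := ⟨_, rfl⟩
  have hYord : ∀ j, Yl ^ j = 1 ↔ 2 * s ∣ j := by
    intro j
    rw [hYl, toLin_pow_eq_one_iff, hord]
  have hO : OIso (beta0 n F) Yl := by rw [hYl]; exact oiso_of_elt h2 n y
  have hYiso := hO.iso
  obtain ⟨S, hS⟩ : ∃ S : Module.End F (Unit ⊕ (Fin n ⊕ Fin n) → F), S = Yl ^ 2 := ⟨_, rfl⟩
  have hSpow : ∀ j, S ^ j = Yl ^ (2 * j) := by
    intro j
    rw [hS, ← pow_mul]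
  have hSs : S ^ s = 1 := by
    rw [hSpow, hYord]
  have hSord : ∀ j, S ^ j = 1 ↔ s ∣ j := by
    intro j
    rw [hSpow, hYord]
    exact Nat.mul_dvd_mul_iff_left (by norm_num)
  have hcomm : Yl * S = S * Yl := by rw [hS, ← pow_succ', ← pow_succ]
  have hSiso : ∀ u w, beta0 n F (S u) (S w) = beta0 n F u w := by
    rw [hS]; exact (hO.pow 2).iso
  have hcompl := isCompl_fix_mov hSs hsF
  have hsum := finrank_fix_add_mov (F := F) hSs hsF
  rw [finrank_idx] at hsum
  have hSp_S := spiso_twR h2 hSiso hSs hso hsF (beta0_nd n h2) (beta0_symm n)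
    (rfl : S * S = S * S) hSiso
  have hSp_Y := spiso_twR h2 hSiso hSs hso hsF (beta0_nd n h2) (beta0_symm n) hcomm hYiso
  obtain ⟨k, hk⟩ := Cfsg.Agent.Lib.Helper36.even_finrank_of_isAlt_nondegenerate _ hSp_S.alt
    hSp_S.nd
  have hS1 : S ≠ 1 := by
    intro h1
    have := (hSord 1).mp (by rw [pow_one]; exact h1)
    have := Nat.le_of_dvd (by norm_num) this
    omega
  haveI : Nontrivial (movS S s) := by
    by_contra hnt
    rw [not_nontrivial_iff_subsingleton] at hnt
    apply hS1
    rw [eq_one_iff_of_isCompl hcompl]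
    refine ⟨fun x hx => (mem_fixS _ x).mp hx, ?_⟩
    intro x hx
    have : (⟨x, hx⟩ : movS S s) = 0 := Subsingleton.elim _ _
    have hx0 : x = 0 := congrArg Subtype.val this
    rw [hx0, map_zero]
  have hSres : ∀ j, (S.restrict (mov_invt (m := s) (rfl : S * S = S * S))) ^ j = 1 ↔ s ∣ j := by
    intro j
    rw [restrict_pow_eq_one_iff, ← hSord, eq_one_iff_of_isCompl hcompl]
    constructor
    · intro h1
      exact ⟨fun x hx => pow_fix ((mem_fixS _ x).mp hx) j, h1⟩
    · intro h1
      exact h1.2
  by_cases hf : 2 ≤ finrank F (fixS S)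
  · -- a large fixed space
    have hm : 1 ≤ n - k := by omega
    haveI : Nontrivial (Fin (n - k) ⊕ Fin (n - k) → F) :=
      nontrivial_of_finrank (F := F) (finrank_std (n - k)) (by omega)
    have h3 := comb h2 n (by omega) hSp_S
      (spIso_std (n - k) (1 : Module.End F (Fin (n - k) ⊕ Fin (n - k) → F)) (fun _ _ => rfl))
      (by rw [finrank_std]; omega) s 1 hso odd_one hSres (fun j => by simp)
    rwa [Nat.lcm_one_right] at h3
  · -- the fixed space is a line
    have hA1 : finrank F (fixS S) = 1 := by omega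
    have hBfr : finrank F (movS S s) = 2 * n := by omega
    have hY2 : Yl ^ s * Yl ^ s = 1 := by
      rw [← pow_add, ← two_mul, hYord]
    by_cases hα : (∀ x ∈ movS S s, (Yl ^ s) x = x) ∨ (∀ x ∈ movS S s, (Yl ^ s) x = -x)
    · -- the involution is `± 1` on the moved space
      have hzmat : ∀ x, toMat (Cfsg.quadFormOdd n F) (y ^ s) *ᵥ x = (Yl ^ s) x := by
        intro x
        rw [hYl, toLin_pow_elt, Matrix.toLin'_apply]
      have hz : y ^ s ∈ Cfsg.Omega F (Cfsg.quadFormOdd n F) := Subgroup.pow_mem _ hy s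
      have hcs : Yl ^ s * S = S * Yl ^ s := by rw [hS, ← pow_add, ← pow_add, add_comm]
      have hAcases : (∀ x ∈ fixS S, (Yl ^ s) x = x) ∨ (∀ x ∈ fixS S, (Yl ^ s) x = -x) := by
        obtain ⟨a', ha'0, ha'span⟩ := finrank_eq_one_iff'.mp hA1
        have hinv := fix_invt hcs a'.1 a'.2
        obtain ⟨c, hc⟩ := ha'span ⟨_, hinv⟩
        have hc' : (Yl ^ s) a'.1 = c • a'.1 := (congrArg Subtype.val hc).symm
        have hcc : c * c = 1 := by
          have h1 : (Yl ^ s) ((Yl ^ s) a'.1) = a'.1 := by
            rw [← Module.End.mul_apply, hY2, Module.End.one_apply]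
          rw [hc', map_smul, hc', smul_smul] at h1
          have h3 : (c * c - 1) • a'.1 = 0 := by
            rw [sub_smul, one_smul, h1, sub_self]
          rcases smul_eq_zero.mp h3 with h | h
          · exact sub_eq_zero.mp h
          · exact absurd (Subtype.ext h) ha'0
        have hall : ∀ x ∈ fixS S, (Yl ^ s) x = c • x := by
          intro x hx
          obtain ⟨d, hd⟩ := ha'span ⟨x, hx⟩
          have hd' : x = d • a'.1 := (congrArg Subtype.val hd).symm
          rw [hd', map_smul, hc', smul_smul, smul_smul, mul_comm]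
        rcases mul_self_eq_one_iff.mp hcc with rfl | rfl
        · left
          intro x hx
          rw [hall x hx, one_smul]
        · right
          intro x hx
          rw [hall x hx, neg_one_smul]
      have horth : ∀ a ∈ fixS S, ∀ b ∈ movS S s, beta0 n F a b = 0 :=
        fun a ha b hb => fix_orth_mov hSiso hsF ha hb
      have hB' : (∀ x ∈ movS S s, toMat (Cfsg.quadFormOdd n F) (y ^ s) *ᵥ x = x) ∨
          (∀ x ∈ movS S s, toMat (Cfsg.quadFormOdd n F) (y ^ s) *ᵥ x = -x) := by
        rcases hα with h | h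
        · left; intro x hx; rw [hzmat]; exact h x hx
        · right; intro x hx; rw [hzmat]; exact h x hx
      have hA' : (∀ x ∈ fixS S, toMat (Cfsg.quadFormOdd n F) (y ^ s) *ᵥ x = x) ∨
          (∀ x ∈ fixS S, toMat (Cfsg.quadFormOdd n F) (y ^ s) *ᵥ x = -x) := by
        rcases hAcases with h | h
        · left; intro x hx; rw [hzmat]; exact h x hx
        · right; intro x hx; rw [hzmat]; exact h x hx
      rcases omega_sign_cases n h2 (y ^ s) hz (fixS S) (movS S s) hcompl horth hA1 hBfr hB' hA'
        with ⟨h1, h3⟩ | ⟨h1, u, hu⟩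
      · -- the involution is trivial: impossible
        exfalso
        have h4 : Yl ^ s = 1 := by
          rw [eq_one_iff_of_isCompl hcompl]
          exact ⟨fun x hx => by rw [← hzmat]; exact h3 x hx,
            fun x hx => by rw [← hzmat]; exact h1 x hx⟩
        have := (hYord s).mp h4
        have := Nat.le_of_dvd hs0 this
        omega
      · -- the hard case
        refine hard_case hodd n (by omega) p hBfr ((beta0 n F).restrict (movS S s))
          (fun u w => beta0_symm n _ _) ?_
          (S.restrict (mov_invt (m := s) (rfl : S * S = S * S))) ?_ s hsp hs2 hsne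
          ((hSres s).mpr dvd_rfl) ?_ u hu
        · intro x hx
          apply Subtype.ext
          exact nondeg_mov hSiso hSs hsF (beta0_nd n h2) x.2 (fun y hy => hx ⟨y, hy⟩)
        · intro u w
          exact hSiso _ _
        · rw [eq_bot_iff]
          intro x hx
          rw [mem_fixS] at hx
          have hx' : S x.1 = x.1 := congrArg Subtype.val hx
          have : x.1 = 0 := fix_inf_mov hsF ((mem_fixS _ _).mpr hx') x.2
          exact (Submodule.mem_bot F).mpr (Subtype.ext this)
    · -- the involution is not `± 1` on the moved space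
      rw [not_or] at hα
      refine mem_of_block n (by omega) hSp_Y hBfr (2 * s) ?_
      intro j
      constructor
      · intro hj
        have hsq : ∀ x ∈ movS S s, (Yl ^ (2 * j)) x = x := by
          intro x hx
          rw [two_mul, pow_add, Module.End.mul_apply]
          rcases hj with h | h
          · have h5 := (restrict_pow_eq_one_iff Yl _ (mov_invt (m := s) hcomm) j).mp h x hx
            rw [h5, h5]
          · have h5 := (restrict_pow_eq_neg_one_iff Yl _ (mov_invt (m := s) hcomm) j).mp h x hx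
            rw [h5, map_neg, h5, neg_neg]
        have hSj : S ^ j = 1 := by
          rw [eq_one_iff_of_isCompl hcompl]
          refine ⟨fun x hx => pow_fix ((mem_fixS _ x).mp hx) j, ?_⟩
          intro x hx
          rw [hSpow]
          exact hsq x hx
        obtain ⟨i, rfl⟩ := (hSord j).mp hSj
        rcases Nat.even_or_odd' i with ⟨m, rfl | rfl⟩
        · exact ⟨m, by ring⟩
        · exfalso
          have hpow : Yl ^ (s * (2 * m + 1)) = Yl ^ s := by
            have : s * (2 * m + 1) = (2 * s) * m + s := by ring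
            rw [this, pow_add, pow_mul, (hYord (2 * s)).mpr dvd_rfl, one_pow, one_mul]
          rcases hj with h | h
          · apply hα.1
            intro x hx
            have h5 := (restrict_pow_eq_one_iff Yl _ (mov_invt (m := s) hcomm) _).mp h x hx
            rwa [hpow] at h5
          · apply hα.2
            intro x hx
            have h5 := (restrict_pow_eq_neg_one_iff Yl _ (mov_invt (m := s) hcomm) _).mp h x hx
            rwa [hpow] at h5
      · rintro ⟨i, rfl⟩
        left
        rw [restrict_pow_eq_one_iff]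
        intro x _
        rw [(hYord _).mpr ⟨i, rfl⟩, Module.End.one_apply]

end

end Cfsg.Agent.Lib.Helper39.BC
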