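import Mathlib
import Cfsg.Agent.Lib.Helper39.BC11

set_option autoImplicit false
set_option linter.unusedSimpArgs false
set_option linter.unusedVariables false
set_option linter.unnecessarySeqFocus false
set_option linter.unusedSectionVars false
set_option linter.style.haveILetI false
set_option maxHeartbeats 1600000

/-!
# The prime graphs of `PΩ_{2n+1}(q)` and `PSp_{2n}(q)` coincide
-/

namespace Cfsg.Agent.Lib.Helper39.BC

open Module Matrix
open LinearMap (BilinForm)
open Cfsg.Agent.Lib.Helper37 Cfsg.Agent.Lib.Helper43 Cfsg.Agent.Lib.Helper43.OddOrth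
open Cfsg.Agent.Lib.Helper39.SpT Cfsg.Agent.Lib.Helper40.PSLr

section arith

/-- the `p`-free part used for the transfer -/
lemma exists_mprime (p r s : ℕ) (hp : p.Prime) (hr : r.Prime) (hs : s.Prime) (hrs : r ≠ s)
    (hr2 : r ≠ 2) (hs2 : s ≠ 2) :
    ∃ m' : ℕ, Odd m' ∧ ¬ p ∣ m' ∧ r * s ∣ p * m' := by
  have hro : Odd r := hr.odd_of_ne_two hr2
  have hso : Odd s := hs.odd_of_ne_two hs2
  by_cases h1 : r = p
  · refine ⟨s, hso, ?_, by rw [h1]⟩
    intro hd
    apply hrs
    rw [h1]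
    exact (Nat.prime_dvd_prime_iff_eq hp hs).mp hd
  · by_cases h3 : s = p
    · refine ⟨r, hro, ?_, by rw [h3, mul_comm]⟩
      intro hd
      exact h1 ((Nat.prime_dvd_prime_iff_eq hp hr).mp hd).symm
    · refine ⟨r * s, hro.mul hso, ?_, Dvd.intro_left _ rfl⟩
      intro hd
      rcases (Nat.Prime.dvd_mul hp).mp hd with h | h
      · exact h1 ((Nat.prime_dvd_prime_iff_eq hp hr).mp h).symm
      · exact h3 ((Nat.prime_dvd_prime_iff_eq hp hs).mp h).symm

lemma not_mul_dvd_prime (p r s : ℕ) (hp : p.Prime) (hr : r.Prime) (hs : s.Prime) :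
    ¬ r * s ∣ p := by
  intro hd
  have h1 : r ∣ p := (Dvd.intro _ rfl).trans hd
  have h3 : s ∣ p := (Dvd.intro_left _ rfl).trans hd
  have e1 := (Nat.prime_dvd_prime_iff_eq hr hp).mp h1
  have e2 := (Nat.prime_dvd_prime_iff_eq hs hp).mp h3
  rw [e1, e2] at hd
  have := Nat.le_of_dvd hp.pos hd
  have h2 := hp.two_le
  nlinarith

end arith

section main
variable {F : Type*} [Field F] [Fintype F]

lemma lift_O (h2 : (2 : F) ≠ 0) (n : ℕ) (hn : 3 ≤ n)
    (x : Cfsg.POmega F (Cfsg.quadFormOdd n F)) :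
    ∃ y : ↥(Cfsg.isometryGroup F (Cfsg.quadFormOdd n F)),
      y ∈ Cfsg.Omega F (Cfsg.quadFormOdd n F) ∧ ∀ j, y ^ j = 1 ↔ orderOf x ∣ j := by
  have hZ := center_eq_bot (F := F) n h2 hn
  have hinj : Function.Injective
      (QuotientGroup.mk' (Subgroup.center ↥(Cfsg.Omega F (Cfsg.quadFormOdd n F)))) := by
    rw [← MonoidHom.ker_eq_bot_iff, QuotientGroup.ker_mk']
    exact hZ
  obtain ⟨y', rfl⟩ := QuotientGroup.mk_surjective x
  refine ⟨y'.1, y'.2, ?_⟩
  intro j
  have h1 : orderOf (QuotientGroup.mk y' : Cfsg.POmega F (Cfsg.quadFormOdd n F)) = orderOf y' :=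
    orderOf_injective (QuotientGroup.mk' _) hinj y'
  rw [h1, orderOf_dvd_iff_pow_eq_one]
  constructor
  · intro h
    apply Subtype.ext
    rw [SubmonoidClass.coe_pow]
    exact h
  · intro h
    have := congrArg Subtype.val h
    rw [SubmonoidClass.coe_pow] at this
    exact this

/-- from `Ω` to `PSp` -/
theorem dir_O_to_Sp (hodd : Odd (Fintype.card F)) (n : ℕ) (hn : 3 ≤ n) (p : ℕ) [Fact p.Prime]
    [CharP F p] (r s : ℕ) (hr : r.Prime) (hs : s.Prime) (hrs : r ≠ s)
    (h : r * s ∈ Set.range (orderOf : Cfsg.POmega F (Cfsg.quadFormOdd n F) → ℕ)) :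
    r * s ∈ Set.range (orderOf : Cfsg.PSp n F → ℕ) := by
  have hp : p.Prime := Fact.out
  have h2 : (2 : F) ≠ 0 := Cfsg.Agent.Lib.Helper39.TwoRk.two_ne_zero_of_odd_card hodd
  obtain ⟨x, hx⟩ := h
  obtain ⟨y, hy, hyord⟩ := lift_O h2 n hn x
  rw [hx] at hyord
  -- the case of `2 t`
  have two_case : ∀ t : ℕ, t.Prime → t ≠ 2 → (∀ j, y ^ j = 1 ↔ 2 * t ∣ j) →
      2 * t ∈ Set.range (orderOf : Cfsg.PSp n F → ℕ) := by
    intro t ht ht2 hord
    by_cases htp : t = p
    · have h3 := two_unip_mem hodd n (by omega) p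
      refine mem_range_of_dvd _ _ h3 (Nat.mul_dvd_mul_left 2 ?_)
      rw [htp]
      have hc : 0 < Nat.clog p (2 * (n - 1)) := Nat.clog_pos hp.one_lt (by omega)
      exact dvd_pow_self p (by omega)
    · exact o_to_sp_two hodd n hn p t ht ht2 htp y hy hord
  by_cases hr2 : r = 2
  · subst hr2
    exact two_case s hs (fun h => hrs h.symm) hyord
  · by_cases hs2 : s = 2
    · subst hs2
      rw [mul_comm]
      refine two_case r hr hr2 ?_
      intro j
      rw [hyord, mul_comm]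
    · -- both odd
      obtain ⟨m', hm'o, hm'p, hm'd⟩ := exists_mprime p r s hp hr hs hrs hr2 hs2
      have hMo : Odd (r * s) := (hr.odd_of_ne_two hr2).mul (hs.odd_of_ne_two hs2)
      have hO := oiso_of_elt h2 n y
      refine o_to_sp_odd hodd n hn p hO (finrank_idx n) (r * s) hMo ?_ m' hm'o ?_ ?_ ?_
      · intro j
        rw [toLin_pow_eq_one_iff, hyord]
      · intro h0
        exact hm'p ((CharP.cast_eq_zero_iff F p m').mp h0)
      · rw [← pow_mul, toLin_pow_eq_one_iff, hyord]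
        exact hm'd
      · intro h1
        rw [toLin_pow_eq_one_iff, hyord] at h1
        exact not_mul_dvd_prime p r s hp hr hs h1

/-- from `PSp` to `Ω` -/
theorem dir_Sp_to_O (hodd : Odd (Fintype.card F)) (n : ℕ) (hn : 3 ≤ n) (p : ℕ) [Fact p.Prime]
    [CharP F p] (r s : ℕ) (hr : r.Prime) (hs : s.Prime) (hrs : r ≠ s)
    (h : r * s ∈ Set.range (orderOf : Cfsg.PSp n F → ℕ)) :
    r * s ∈ Set.range (orderOf : Cfsg.POmega F (Cfsg.quadFormOdd n F) → ℕ) := by
  have hp : p.Prime := Fact.out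
  have h2 : (2 : F) ≠ 0 := Cfsg.Agent.Lib.Helper39.TwoRk.two_ne_zero_of_odd_card hodd
  obtain ⟨x, hx⟩ := h
  -- the case of `2 t`
  have two_case : ∀ t : ℕ, t.Prime → t ≠ 2 → orderOf x = 2 * t →
      2 * t ∈ Set.range (orderOf : Cfsg.POmega F (Cfsg.quadFormOdd n F) → ℕ) := by
    intro t ht ht2 hord
    by_cases htp : t = p
    · rw [htp]
      exact two_p_mem_O hodd n hn p
    · obtain ⟨T, hTiso, hTdet, hTord⟩ := psp_lift_gen n (by omega) x
      rw [hord] at hTord
      have hS : SpIso (Cfsg.Agent.Lib.Helper39.TwoRk.spB n F) T := spIso_std n T hTiso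
      refine sp_to_o_two hodd n hn hS (finrank_std n) hTdet t (ht.odd_of_ne_two ht2) ht.one_lt
        ?_ hTord
      intro h0
      have := (CharP.cast_eq_zero_iff F p t).mp h0
      exact htp ((Nat.prime_dvd_prime_iff_eq hp ht).mp this).symm
  by_cases hr2 : r = 2
  · subst hr2
    exact two_case s hs (fun h => hrs h.symm) hx
  · by_cases hs2 : s = 2
    · subst hs2
      rw [mul_comm]
      exact two_case r hr hr2 (by rw [hx, mul_comm])
    · -- both odd
      obtain ⟨m', hm'o, hm'p, hm'd⟩ := exists_mprime p r s hp hr hs hrs hr2 hs2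
      have hMo : Odd (r * s) := (hr.odd_of_ne_two hr2).mul (hs.odd_of_ne_two hs2)
      obtain ⟨T, hTiso, hTa, hTmin⟩ := psp_lift n (by omega) x (r * s) hMo hx
      have hS : SpIso (Cfsg.Agent.Lib.Helper39.TwoRk.spB n F) T := spIso_std n T hTiso
      have hTord : ∀ j, T ^ j = 1 ↔ r * s ∣ j := by
        intro j
        constructor
        · intro h1
          exact hTmin j (Or.inl h1)
        · rintro ⟨i, rfl⟩
          rw [pow_mul, hTa, one_pow]
      refine sp_to_o_odd hodd n hn p hS (finrank_std n) (r * s) hMo hTord m' hm'o ?_ ?_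
      · intro h0
        exact hm'p ((CharP.cast_eq_zero_iff F p m').mp h0)
      · rw [← pow_mul, hTord]
        exact hm'd

/-- the prime graphs coincide -/
theorem prime_graph_iff (hodd : Odd (Fintype.card F)) (n : ℕ) (hn : 3 ≤ n) (r s : ℕ)
    (hr : r.Prime) (hs : s.Prime) (hrs : r ≠ s) :
    (r * s ∈ Set.range (orderOf : Cfsg.POmega F (Cfsg.quadFormOdd n F) → ℕ)) ↔
      (r * s ∈ Set.range (orderOf : Cfsg.PSp n F → ℕ)) := by
  obtain ⟨p, hchar⟩ := CharP.exists F
  haveI := hchar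
  haveI : Fact p.Prime := ⟨CharP.char_is_prime F p⟩
  exact ⟨dir_O_to_Sp hodd n hn p r s hr hs hrs, dir_Sp_to_O hodd n hn p r s hr hs hrs⟩

end main

end Cfsg.Agent.Lib.Helper39.BC
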