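import Mathlib
import Cfsg.Agent.Lib.Helper5.BalRed
import Cfsg.Agent.Lib.Helper37.GraphPSL2
import Cfsg.Agent.Lib.Helper45.SpAutDescent
import Cfsg.Agent.Lib.Helper5.AutPSLnFieldCent
import Cfsg.Agent.Lib.Helper5.PSLSimple
import Cfsg.Agent.S0243

set_option autoImplicit false
set_option linter.unusedSimpArgs false
set_option linter.unusedVariables false
set_option linter.unusedSectionVars false
set_option linter.unnecessarySeqFocus false
set_option linter.style.haveILetI false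

/-!
# Local balance for `PSL_n`: the fixed points of a field automorphism (leaf BAL-FS)
-/

namespace Cfsg.Agent.Lib.Helper5.Bal

open Matrix Cfsg.Agent.Lib.Helper5.AutPSLn Cfsg.Agent.Lib.Helper45.AutPSL
  Cfsg.Agent.Lib.Helper5.BalE
open Cfsg.Agent.Lib.Helper45.SpAut (fixK mem_fixK)

variable {n : ℕ} {F : Type*} [Field F]

/-- the inclusion `SL_n(F₀) → SL_n(F)` -/
def fs_mapSL (σ : F ≃+* F) :
    SpecialLinearGroup (Fin n) (fixK σ) →* SpecialLinearGroup (Fin n) F :=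
  Matrix.SpecialLinearGroup.map (fixK σ).subtype

lemma fs_mapSL_coe (σ : F ≃+* F) (s : SpecialLinearGroup (Fin n) (fixK σ)) :
    (fs_mapSL σ s).1 = s.1.map (fixK σ).subtype := rfl

lemma fs_mapSL_injective (σ : F ≃+* F) :
    Function.Injective (fs_mapSL (n := n) σ) := by
  intro a b h
  apply Subtype.ext
  have h1 := congrArg Subtype.val h
  rw [fs_mapSL_coe, fs_mapSL_coe] at h1
  exact Matrix.map_injective Subtype.val_injective h1

lemma fs_mapSL_mem_fixSL (σ : F ≃+* F) (s : SpecialLinearGroup (Fin n) (fixK σ)) :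
    fs_mapSL σ s ∈ fixSL σ := by
  show fieldS σ (fs_mapSL σ s) = fs_mapSL σ s
  apply Subtype.ext
  ext i j
  rw [fieldS_coe, fs_mapSL_coe]
  exact (s.1 i j).2

lemma fs_exists_of_mem_fixSL (σ : F ≃+* F) {x : SpecialLinearGroup (Fin n) F}
    (hx : x ∈ fixSL σ) : ∃ s : SpecialLinearGroup (Fin n) (fixK σ), fs_mapSL σ s = x := by
  have hx' : fieldS σ x = x := hx
  have h1 : ∀ i j, σ (x.1 i j) = x.1 i j := by
    intro i j
    have := congrArg (fun y : SpecialLinearGroup (Fin n) F => y.1 i j) hx'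
    simpa using this
  obtain ⟨A, hA⟩ : ∃ A : Matrix (Fin n) (Fin n) (fixK σ), A = fun i j => ⟨x.1 i j, h1 i j⟩ :=
    ⟨_, rfl⟩
  have hmap : A.map (fixK σ).subtype = x.1 := by
    ext i j
    rw [hA]
    rfl
  have hdet : A.det = 1 := by
    have h2 : (fixK σ).subtype A.det = (A.map (fixK σ).subtype).det := by
      rw [RingHom.map_det]
      rfl
    rw [hmap, x.2] at h2
    apply Subtype.val_injective
    exact h2
  exact ⟨⟨A, hdet⟩, Subtype.ext hmap⟩

lemma fs_mapSL_mem_center_iff (σ : F ≃+* F) (c : SpecialLinearGroup (Fin n) (fixK σ)) :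
    fs_mapSL σ c ∈ Subgroup.center (SpecialLinearGroup (Fin n) F) ↔
      c ∈ Subgroup.center (SpecialLinearGroup (Fin n) (fixK σ)) := by
  constructor
  · intro h
    rw [Subgroup.mem_center_iff] at h ⊢
    intro d
    apply fs_mapSL_injective σ
    rw [map_mul, map_mul]
    exact h _
  · intro h
    rw [Matrix.SpecialLinearGroup.mem_center_iff] at h ⊢
    obtain ⟨r, hr, hr2⟩ := h
    refine ⟨(r : F), ?_, ?_⟩
    · have := congrArg Subtype.val hr
      simpa using this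
    · rw [fs_mapSL_coe, ← hr2]
      ext i j
      by_cases hij : i = j
      · subst hij
        simp [Matrix.scalar_apply]
      · simp [Matrix.scalar_apply, Matrix.diagonal_apply_ne _ hij]

lemma fs_pr_mapSL_eq_iff (σ : F ≃+* F) (a b : SpecialLinearGroup (Fin n) (fixK σ)) :
    pr (fs_mapSL σ a) = pr (fs_mapSL σ b) ↔ pr a = pr b := by
  rw [pr_def, pr_def, pr_def, pr_def, QuotientGroup.eq, QuotientGroup.eq, ← map_inv, ← map_mul,
    fs_mapSL_mem_center_iff]

/-- the embedding `PSL_n(F₀) → PSL_n(F)` -/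
def fs_iota (σ : F ≃+* F) :
    Matrix.ProjectiveSpecialLinearGroup (Fin n) (fixK σ) →*
      Matrix.ProjectiveSpecialLinearGroup (Fin n) F :=
  QuotientGroup.lift _ (pr.comp (fs_mapSL σ)) (by
    intro c hc
    rw [MonoidHom.mem_ker, MonoidHom.comp_apply]
    have h0 : pr c = pr (1 : SpecialLinearGroup (Fin n) (fixK σ)) := by
      rw [map_one]
      exact (QuotientGroup.eq_one_iff c).2 hc
    have h1 : pr (fs_mapSL σ c) = pr (fs_mapSL σ 1) := (fs_pr_mapSL_eq_iff σ c 1).2 h0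
    rw [h1, map_one, map_one]
    )

lemma fs_iota_pr (σ : F ≃+* F) (s : SpecialLinearGroup (Fin n) (fixK σ)) :
    fs_iota σ (pr s) = pr (fs_mapSL σ s) := rfl

lemma fs_iota_injective (σ : F ≃+* F) : Function.Injective (fs_iota (n := n) σ) := by
  rw [injective_iff_map_eq_one]
  intro x hx
  obtain ⟨s, rfl⟩ := pr_surjective x
  rw [fs_iota_pr] at hx
  have h1 : pr (fs_mapSL σ s) = pr (fs_mapSL σ 1) := by rw [hx, map_one, map_one]
  have h2 := (fs_pr_mapSL_eq_iff σ s 1).1 h1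
  rw [h2, map_one]

lemma fs_iota_range (σ : F ≃+* F) : (fs_iota (n := n) σ).range = L0 σ := by
  ext l
  constructor
  · rintro ⟨x, rfl⟩
    obtain ⟨s, rfl⟩ := pr_surjective x
    exact ⟨fs_mapSL σ s, fs_mapSL_mem_fixSL σ s, rfl⟩
  · rintro ⟨y, hy, rfl⟩
    obtain ⟨s, rfl⟩ := fs_exists_of_mem_fixSL σ hy
    exact ⟨pr s, rfl⟩

lemma fs_card_L0 [Finite F] (σ : F ≃+* F) :
    Nat.card ↥(L0 (n := n) σ) =
      Nat.card (Matrix.ProjectiveSpecialLinearGroup (Fin n) (fixK σ)) := by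
  rw [← fs_iota_range]
  exact (Nat.card_congr (MonoidHom.ofInjective (fs_iota_injective σ)).toEquiv).symm

/-- the pull-back of a subgroup of `L0` normalised by `L0` -/
lemma fs_comap_normal (σ : F ≃+* F)
    (M : Subgroup (Matrix.ProjectiveSpecialLinearGroup (Fin n) F))
    (hinv : ∀ l ∈ L0 σ, ∀ m ∈ M, l * m * l⁻¹ ∈ M) : (M.comap (fs_iota σ)).Normal := by
  constructor
  intro x hx t
  rw [Subgroup.mem_comap] at hx ⊢
  rw [map_mul, map_mul, map_inv]
  refine hinv _ ?_ _ hx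
  rw [← fs_iota_range]
  exact ⟨t, rfl⟩

lemma fs_map_comap (σ : F ≃+* F)
    (M : Subgroup (Matrix.ProjectiveSpecialLinearGroup (Fin n) F)) (hM : M ≤ L0 σ) :
    (M.comap (fs_iota σ)).map (fs_iota σ) = M := by
  rw [Subgroup.map_comap_eq, fs_iota_range]
  exact inf_eq_right.2 hM

lemma fs_card_comap [Finite F] (σ : F ≃+* F)
    (M : Subgroup (Matrix.ProjectiveSpecialLinearGroup (Fin n) F)) (hM : M ≤ L0 σ) :
    Nat.card ↥(M.comap (fs_iota σ)) = Nat.card ↥M := by
  conv_rhs => rw [← fs_map_comap σ M hM]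
  exact (Subgroup.card_map_of_injective (fs_iota_injective σ)).symm

/-- `L0 σ` is "simple" when `PSL_n` over the fixed field is -/
theorem fs_of_simple (σ : F ≃+* F)
    (hsimple : IsSimpleGroup (Matrix.ProjectiveSpecialLinearGroup (Fin n) (fixK σ)))
    (M : Subgroup (Matrix.ProjectiveSpecialLinearGroup (Fin n) F)) (hM : M ≤ L0 σ)
    (hinv : ∀ l ∈ L0 σ, ∀ m ∈ M, l * m * l⁻¹ ∈ M) : M = ⊥ ∨ M = L0 σ := by
  haveI := fs_comap_normal σ M hinv
  rcases hsimple.eq_bot_or_eq_top_of_normal (M.comap (fs_iota σ)) inferInstance with h | h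
  · left
    rw [← fs_map_comap σ M hM, h, Subgroup.map_bot]
  · right
    rw [← fs_map_comap σ M hM, h, ← MonoidHom.range_eq_map, fs_iota_range]

/-- matrices of `SL_n` differing by a scalar have the same image -/
lemma fs_pr_eq_of_smul {x y : SpecialLinearGroup (Fin n) F} (c : F)
    (h : y.1 = c • x.1) : pr x = pr y := by
  rw [pr_def, pr_def, QuotientGroup.eq, Matrix.SpecialLinearGroup.mem_center_iff]
  refine ⟨c, ?_, ?_⟩
  · have h1 := congrArg Matrix.det h
    rw [y.2, Matrix.det_smul, x.2, mul_one, Fintype.card_fin] at h1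
    rw [Fintype.card_fin]
    exact h1.symm
  · rw [Matrix.SpecialLinearGroup.coe_mul, h, Matrix.mul_smul,
      ← Matrix.SpecialLinearGroup.coe_mul, inv_mul_cancel, Matrix.SpecialLinearGroup.coe_one,
      Matrix.scalar_apply, Matrix.smul_one_eq_diagonal]

lemma fs_hj (σ : F ≃+* F) :
    ∀ a : F, σ a = a ↔ a ∈ Set.range ((fixK σ).subtype : fixK σ →+* F) := by
  intro a
  constructor
  · intro h
    exact ⟨⟨a, h⟩, rfl⟩
  · rintro ⟨x, rfl⟩
    exact x.2

/-- a fixed point of `Phi σ` has its `(|F₀|-1)`-th power in `L0` -/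
lemma fs_pow_mem_L0 [Fintype F] (hn : 2 ≤ n) (σ : F ≃+* F)
    (k : Matrix.ProjectiveSpecialLinearGroup (Fin n) F)
    (hk : (Phi σ : MulAut (Matrix.ProjectiveSpecialLinearGroup (Fin n) F)) k = k) :
    k ^ (Nat.card (fixK σ) - 1) ∈ L0 σ := by
  classical
  obtain ⟨y, rfl⟩ := pr_surjective k
  have hcomm : (Gam (Matrix.SpecialLinearGroup.toGL y) * Phi σ :
      MulAut (Matrix.ProjectiveSpecialLinearGroup (Fin n) F)) =
      Phi σ * Gam (Matrix.SpecialLinearGroup.toGL y) := by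
    rw [← conj_pr]
    ext z
    rw [MulAut.mul_apply, MulAut.mul_apply, MulAut.conj_apply, MulAut.conj_apply, map_mul,
      map_mul, map_inv, hk]
  obtain ⟨θ, g₀, hg⟩ := (Gam_comm_Phi_iff hn σ _ (fs_hj σ) _).1 hcomm
  obtain ⟨m, hm⟩ : ∃ m, m = Nat.card (fixK σ) - 1 := ⟨_, rfl⟩
  rw [← hm]
  -- the determinant of `g₀ ^ m` is one
  have hdet : ((g₀ ^ m : GL (Fin n) (fixK σ)).1).det = 1 := by
    have h1 : (Matrix.GeneralLinearGroup.det g₀) ^ m = 1 := by
      rw [hm, ← Nat.card_units]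
      exact pow_card_eq_one'
    have h2 := congrArg Units.val h1
    rw [Units.val_pow_eq_pow_val, Matrix.GeneralLinearGroup.val_det_apply] at h2
    rw [Units.val_pow_eq_pow_val, Matrix.det_pow]
    exact h2
  obtain ⟨s₀, hs₀⟩ : ∃ s₀ : SpecialLinearGroup (Fin n) (fixK σ), s₀ = ⟨_, hdet⟩ := ⟨_, rfl⟩
  have hy : y.1 = (θ : F) • (g₀.1.map (fixK σ).subtype) := by
    have h1 := congrArg (fun u : GL (Fin n) F => u.1) hg
    simp only [Units.val_mul, sgl_val] at h1
    have h0 : (Matrix.SpecialLinearGroup.toGL y).1 = y.1 := rfl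
    rw [h0] at h1
    rw [h1, map_val]
    ext i j
    rw [Matrix.diagonal_mul, Matrix.smul_apply, smul_eq_mul]
  have hym : (y ^ m).1 = ((θ : F) ^ m) • (fs_mapSL σ s₀).1 := by
    rw [Matrix.SpecialLinearGroup.coe_pow, hy, smul_pow, fs_mapSL_coe, hs₀]
    congr 1
    show _ = (((g₀ ^ m : GL (Fin n) (fixK σ)).1)).map (fixK σ).subtype
    rw [Units.val_pow_eq_pow_val]
    have : ∀ A : Matrix (Fin n) (Fin n) (fixK σ), A.map (fixK σ).subtype =
        (fixK σ).subtype.mapMatrix A := fun A => rfl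
    rw [this, this, map_pow]
  have h3 : pr (fs_mapSL σ s₀) = pr (y ^ m) := fs_pr_eq_of_smul _ hym
  rw [← map_pow, ← h3]
  exact ⟨fs_mapSL σ s₀, fs_mapSL_mem_fixSL σ s₀, rfl⟩

/-- an element of order `p` of a subgroup gives `p ∣ |H|` -/
lemma fs_dvd_card_of_mem {G : Type*} [Group G] [Finite G] (H : Subgroup G) {p : ℕ} {x : G}
    (hx : x ∈ H) (ho : orderOf x = p) : p ∣ Nat.card ↥H := by
  have h1 : orderOf (⟨x, hx⟩ : ↥H) = p := by rw [Subgroup.orderOf_mk, ho]
  rw [← h1]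
  exact orderOf_dvd_natCard _

lemma fs_dvd_card_L0_of_not_dvd [Fintype F] (hn : 2 ≤ n) {p : ℕ} [Fact p.Prime] (σ : F ≃+* F)
    (hdvd : p ∣ Nat.card ↥(MonoidHom.eqLocus
      (Phi σ : MulAut (Matrix.ProjectiveSpecialLinearGroup (Fin n) F)).toMonoidHom
      (MonoidHom.id _)))
    (hq : ¬ p ∣ Nat.card (fixK σ) - 1) : p ∣ Nat.card ↥(L0 (n := n) σ) := by
  have hp : p.Prime := Fact.out
  obtain ⟨k, hk⟩ := exists_prime_orderOf_dvd_card' p hdvd
  have hfix : (Phi σ : MulAut (Matrix.ProjectiveSpecialLinearGroup (Fin n) F)) k.1 = k.1 := k.2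
  have hord : orderOf k.1 = p := by rw [← hk]; exact (Subgroup.orderOf_coe k)
  have hmem := fs_pow_mem_L0 hn σ k.1 hfix
  obtain ⟨m, hm⟩ : ∃ m, m = Nat.card (fixK σ) - 1 := ⟨_, rfl⟩
  rw [← hm] at hmem hq
  have hcop : Nat.Coprime m p := ((Nat.Prime.coprime_iff_not_dvd hp).2 hq).symm
  obtain ⟨a, -, ha⟩ := Nat.exists_mul_mod_eq_one_of_coprime hcop hp.one_lt
  have hk1 : k.1 ∈ L0 (n := n) σ := by
    have h1 : (k.1 ^ m) ^ a = k.1 := by
      rw [← pow_mul, ← pow_mod_orderOf, hord, ha, pow_one]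
    rw [← h1]
    exact Subgroup.pow_mem _ hmem a
  exact fs_dvd_card_of_mem _ hk1 hord

section PSLcard

variable {K : Type*} [Field K]

/-- the diagonal entries `ζ, ζ⁻¹, 1, …, 1` -/
def fs_dfun (n : ℕ) (ζ : K) : Fin n → K :=
  fun i => if i.1 = 0 then ζ else if i.1 = 1 then ζ⁻¹ else 1

lemma fs_dfun_prod (hn : 2 ≤ n) {ζ : K} (hζ : ζ ≠ 0) : ∏ i, fs_dfun n ζ i = 1 := by
  obtain ⟨m, rfl⟩ : ∃ m, n = m + 2 := ⟨n - 2, by omega⟩
  rw [Fin.prod_univ_succ, Fin.prod_univ_succ]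
  have h0 : fs_dfun (m + 2) ζ 0 = ζ := by simp [fs_dfun]
  have h1 : fs_dfun (m + 2) ζ (Fin.succ 0) = ζ⁻¹ := by simp [fs_dfun]
  have h2 : ∀ i : Fin m, fs_dfun (m + 2) ζ i.succ.succ = 1 := by
    intro i
    simp [fs_dfun]
  rw [h0, h1, Finset.prod_congr rfl (fun i _ => h2 i), Finset.prod_const_one, mul_one,
    mul_inv_cancel₀ hζ]

/-- the element `diag(ζ, ζ⁻¹, 1, …, 1)` of `SL_n(K)` -/
def fs_dSL (hn : 2 ≤ n) {ζ : K} (hζ : ζ ≠ 0) : SpecialLinearGroup (Fin n) K :=
  ⟨Matrix.diagonal (fs_dfun n ζ), by rw [Matrix.det_diagonal, fs_dfun_prod hn hζ]⟩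

lemma fs_dSL_pow (hn : 2 ≤ n) {ζ : K} (hζ : ζ ≠ 0) {p : ℕ} (hp : ζ ^ p = 1) :
    (fs_dSL hn hζ) ^ p = 1 := by
  apply Subtype.ext
  rw [Matrix.SpecialLinearGroup.coe_pow, Matrix.SpecialLinearGroup.coe_one]
  show (Matrix.diagonal (fs_dfun n ζ)) ^ p = 1
  rw [Matrix.diagonal_pow, ← Matrix.diagonal_one]
  congr 1
  ext i
  simp only [Pi.pow_apply, fs_dfun, Pi.one_apply]
  split_ifs
  · exact hp
  · rw [inv_pow, hp, inv_one]
  · exact one_pow _

lemma fs_dSL_not_center (hn : 2 ≤ n) {ζ : K} (hζ : ζ ≠ 0) (h1 : ζ ≠ 1)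
    (h2 : n = 2 → ζ ^ 2 ≠ 1) :
    fs_dSL hn hζ ∉ Subgroup.center (SpecialLinearGroup (Fin n) K) := by
  intro hc
  rw [Matrix.SpecialLinearGroup.mem_center_iff] at hc
  obtain ⟨r, -, hr⟩ := hc
  have hr' : ∀ i : Fin n, r = fs_dfun n ζ i := by
    intro i
    have := congrFun (congrFun hr i) i
    rw [Matrix.scalar_apply, Matrix.diagonal_apply_eq] at this
    rw [this]
    show (Matrix.diagonal (fs_dfun n ζ)) i i = _
    rw [Matrix.diagonal_apply_eq]
  have e0 : r = ζ := by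
    rw [hr' ⟨0, by omega⟩]
    simp [fs_dfun]
  have e1 : r = ζ⁻¹ := by
    rw [hr' ⟨1, by omega⟩]
    simp [fs_dfun]
  rcases Nat.lt_or_ge n 3 with h | h
  · apply h2 (by omega)
    rw [pow_two]
    nth_rewrite 1 [← e0]
    rw [e1, inv_mul_cancel₀ hζ]
  · have e2 : r = 1 := by
      rw [hr' ⟨2, by omega⟩]
      simp [fs_dfun]
    exact h1 (e0.symm.trans e2)

/-- the element `[[0,1],[-1,0]]` of `SL_2(K)` -/
def fs_wSL : SpecialLinearGroup (Fin 2) K :=
  ⟨!![0, 1; -1, 0], by simp [Matrix.det_fin_two_of]⟩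

lemma fs_wSL_sq_mem_center : (fs_wSL : SpecialLinearGroup (Fin 2) K) ^ 2 ∈
    Subgroup.center (SpecialLinearGroup (Fin 2) K) := by
  rw [Matrix.SpecialLinearGroup.mem_center_iff]
  refine ⟨-1, by simp, ?_⟩
  rw [Matrix.SpecialLinearGroup.coe_pow]
  show _ = (!![0, 1; -1, 0] : Matrix (Fin 2) (Fin 2) K) ^ 2
  rw [pow_two, Matrix.scalar_apply]
  ext i j
  fin_cases i <;> fin_cases j <;> simp

lemma fs_wSL_not_center : (fs_wSL : SpecialLinearGroup (Fin 2) K) ∉
    Subgroup.center (SpecialLinearGroup (Fin 2) K) := by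
  intro hc
  rw [Matrix.SpecialLinearGroup.mem_center_iff] at hc
  obtain ⟨r, -, hr⟩ := hc
  have := congrFun (congrFun hr 0) 1
  rw [Matrix.scalar_apply, Matrix.diagonal_apply_ne _ (by decide)] at this
  have h2 : (fs_wSL : SpecialLinearGroup (Fin 2) K).1 0 1 = 1 := by
    show (!![0, 1; -1, 0] : Matrix (Fin 2) (Fin 2) K) 0 1 = 1
    simp
  rw [h2] at this
  exact zero_ne_one this

/-- `p ∣ |K| - 1` implies `p ∣ |PSL_n(K)|` -/
lemma fs_dvd_card_PSL [Finite K] (hn : 2 ≤ n) {p : ℕ} [Fact p.Prime]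
    (h : p ∣ Nat.card K - 1) :
    p ∣ Nat.card (Matrix.ProjectiveSpecialLinearGroup (Fin n) K) := by
  have hp : p.Prime := Fact.out
  rw [← Nat.card_units] at h
  obtain ⟨ζ, hζ⟩ := exists_prime_orderOf_dvd_card' p h
  have hζ0 : (ζ : K) ≠ 0 := ζ.ne_zero
  have hζp : (ζ : K) ^ p = 1 := by
    rw [← Units.val_pow_eq_pow_val, ← hζ, pow_orderOf_eq_one, Units.val_one]
  have hζ1 : (ζ : K) ≠ 1 := by
    intro h1
    have : ζ = 1 := Units.ext h1
    rw [this, orderOf_one] at hζ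
    exact hp.one_lt.ne hζ
  by_cases hcase : n = 2 ∧ p = 2
  · obtain ⟨rfl, rfl⟩ := hcase
    have h1 : (pr (fs_wSL : SpecialLinearGroup (Fin 2) K)) ^ 2 = 1 := by
      rw [← map_pow, pr_def]
      exact (QuotientGroup.eq_one_iff _).2 fs_wSL_sq_mem_center
    have h2 : pr (fs_wSL : SpecialLinearGroup (Fin 2) K) ≠ 1 := by
      intro h2
      rw [pr_def] at h2
      exact fs_wSL_not_center ((QuotientGroup.eq_one_iff _).1 h2)
    have h3 := orderOf_eq_prime h1 h2
    have h4 := orderOf_dvd_natCard (pr (fs_wSL : SpecialLinearGroup (Fin 2) K))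
    rw [h3] at h4
    exact h4
  · have h1 : (pr (fs_dSL hn hζ0)) ^ p = 1 := by
      rw [← map_pow, fs_dSL_pow hn hζ0 hζp, map_one]
    have h2 : pr (fs_dSL hn hζ0) ≠ 1 := by
      intro h2
      rw [pr_def] at h2
      refine fs_dSL_not_center hn hζ0 hζ1 ?_ ((QuotientGroup.eq_one_iff _).1 h2)
      intro hn2 hsq
      apply hcase
      refine ⟨hn2, ?_⟩
      have h3 : ζ ^ 2 = 1 := by
        apply Units.ext
        rw [Units.val_pow_eq_pow_val, hsq, Units.val_one]
      have h4 := orderOf_dvd_of_pow_eq_one h3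
      rw [hζ] at h4
      exact (Nat.prime_dvd_prime_iff_eq hp Nat.prime_two).1 h4
    have h3 := orderOf_eq_prime h1 h2
    have h4 := orderOf_dvd_natCard (pr (fs_dSL (n := n) hn hζ0))
    rw [h3] at h4
    exact h4

end PSLcard

section Quasi

open scoped LinearAlgebra.Projectivization

variable {K : Type*} [Field K]

/-- a non-trivial normal subgroup of `PSL_2(K)` is transitive on the projective line -/
lemma fs_card_dvd_of_normal [Finite K] (N : Subgroup (Matrix.ProjectiveSpecialLinearGroup (Fin 2) K))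
    [N.Normal] (hN : N ≠ ⊥) : (Nat.card K + 1) ∣ Nat.card ↥N := by
  have hfix : MulAction.fixedPoints N (ℙ K (Fin 2 → K)) ≠ Set.univ := by
    intro h
    apply hN
    rw [eq_bot_iff]
    intro g hg
    rw [Subgroup.mem_bot]
    apply FaithfulSMul.eq_of_smul_eq_smul (α := ℙ K (Fin 2 → K))
    intro x
    rw [one_smul]
    have hx : x ∈ MulAction.fixedPoints N (ℙ K (Fin 2 → K)) := by rw [h]; trivial
    exact hx ⟨g, hg⟩
  haveI : MulAction.IsPretransitive N (ℙ K (Fin 2 → K)) :=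
    MulAction.IsQuasiPreprimitive.isPretransitive_of_normal hfix
  have hne : (Pi.single 0 1 : Fin 2 → K) ≠ 0 := Pi.single_ne_zero_iff.2 one_ne_zero
  have h1 := MulAction.index_stabilizer_of_transitive N
    (Projectivization.mk K (Pi.single 0 1 : Fin 2 → K) hne)
  have h2 : Nat.card (ℙ K (Fin 2 → K)) = Nat.card K + 1 :=
    Projectivization.card_of_finrank_two K (Fin 2 → K) (by simp)
  rw [← h2, ← h1]
  exact Subgroup.index_dvd_card _

end Quasi

lemma fs_dvd_card_L0 [Fintype F] (hn : 2 ≤ n) {p : ℕ} [Fact p.Prime] (σ : F ≃+* F)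
    (hdvd : p ∣ Nat.card ↥(MonoidHom.eqLocus
      (Phi σ : MulAut (Matrix.ProjectiveSpecialLinearGroup (Fin n) F)).toMonoidHom
      (MonoidHom.id _))) : p ∣ Nat.card ↥(L0 (n := n) σ) := by
  by_cases hq : p ∣ Nat.card (fixK σ) - 1
  · rw [fs_card_L0]
    exact fs_dvd_card_PSL hn hq
  · exact fs_dvd_card_L0_of_not_dvd hn σ hdvd hq

/-- the exceptional cases `PSL_2(2)` and `PSL_2(3)`: the order is `q (q + 1)` -/
lemma fs_card_PSL2_small {K : Type*} [Field K] [Finite K] (hq : Nat.card K < 4) :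
    Nat.card (Matrix.ProjectiveSpecialLinearGroup (Fin 2) K) = Nat.card K * (Nat.card K + 1) ∧
      (Nat.card K).Prime := by
  letI : Fintype K := Fintype.ofFinite K
  have h1 : 1 < Nat.card K := Finite.one_lt_card
  have h := Cfsg.Agent.S0243.result (F := K) (q := Nat.card K) Nat.card_eq_fintype_card.symm 2 le_rfl
  rw [Fin.prod_univ_two] at h
  have h23 : Nat.card K = 2 ∨ Nat.card K = 3 := by omega
  rcases h23 with h2 | h2
  · rw [h2] at h ⊢
    norm_num at h
    refine ⟨by omega, by norm_num⟩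
  · rw [h2] at h ⊢
    norm_num at h
    refine ⟨by omega, by norm_num⟩

/-- the characteristic divides the order of the fixed field -/
lemma fs_char_dvd_card [Finite F] (r : ℕ) [CharP F r] (σ : F ≃+* F) : r ∣ Nat.card (fixK σ) := by
  letI : Fintype (fixK σ) := Fintype.ofFinite _
  rw [← CharP.cast_eq_zero_iff F r]
  have h1 : ((Fintype.card (fixK σ) : ℕ) : fixK σ) = 0 := Nat.cast_card_eq_zero _
  have h2 := congrArg (fixK σ).subtype h1
  rw [map_natCast, map_zero] at h2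
  rw [Nat.card_eq_fintype_card]
  exact h2

/-- BAL-FS -/
theorem L0_simple [Fintype F] (hn : 2 ≤ n) {r : ℕ} [Fact r.Prime] [CharP F r] {p : ℕ}
    [Fact p.Prime] (hpr : p ≠ r) (σ : F ≃+* F) (hσ : orderOf σ = p)
    (hdvd : p ∣ Nat.card ↥(MonoidHom.eqLocus
      (Phi σ : MulAut (Matrix.ProjectiveSpecialLinearGroup (Fin n) F)).toMonoidHom
      (MonoidHom.id _)))
    (M : Subgroup (Matrix.ProjectiveSpecialLinearGroup (Fin n) F))
    (hM : M ≤ L0 σ) (hinv : ∀ l ∈ L0 σ, ∀ m ∈ M, l * m * l⁻¹ ∈ M)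
    (hc : (Nat.card ↥M).Coprime p) : M = ⊥ := by
  have hp : p.Prime := Fact.out
  have hr : r.Prime := Fact.out
  have hpL : p ∣ Nat.card ↥(L0 (n := n) σ) := fs_dvd_card_L0 hn σ hdvd
  have hnotdvd : ¬ p ∣ Nat.card ↥M := by
    intro h
    exact hp.one_lt.ne' (Nat.Coprime.eq_one_of_dvd hc.symm h)
  have hnotL : M ≠ L0 σ := by
    rintro rfl
    exact hnotdvd hpL
  by_cases hsimp : 3 ≤ n ∨ 4 ≤ Nat.card (fixK σ)
  · have hs : IsSimpleGroup (Matrix.ProjectiveSpecialLinearGroup (Fin n) (fixK σ)) := by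
      rcases Nat.lt_or_ge n 3 with h3 | h3
      · have hn2 : n = 2 := by omega
        subst hn2
        rcases hsimp with h | h
        · omega
        · exact Matrix.ProjectiveSpecialLinearGroup.rank_two_simple h
      · exact Cfsg.Agent.Lib.Helper5.PSL_isSimpleGroup_of_three_le (by simpa using h3)
    rcases fs_of_simple σ hs M hM hinv with h | h
    · exact h
    · exact absurd h hnotL
  · push Not at hsimp
    obtain ⟨hn3, hq4⟩ := hsimp
    have hn2 : n = 2 := by omega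
    subst hn2
    by_contra hMne
    haveI := fs_comap_normal σ M hinv
    have hN : M.comap (fs_iota σ) ≠ ⊥ := by
      intro h
      apply hMne
      rw [← fs_map_comap σ M hM, h, Subgroup.map_bot]
    have h1 := fs_card_dvd_of_normal (M.comap (fs_iota σ)) hN
    rw [fs_card_comap σ M hM] at h1
    obtain ⟨hC, hqp⟩ := fs_card_PSL2_small (K := fixK σ) hq4
    rw [fs_card_L0, hC] at hpL
    have hrq : r = Nat.card (fixK σ) :=
      (Nat.prime_dvd_prime_iff_eq hr hqp).1 (fs_char_dvd_card r σ)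
    have hcop : Nat.Coprime p (Nat.card (fixK σ)) := by
      rw [← hrq]
      exact (Nat.coprime_primes hp hr).2 hpr
    exact hnotdvd ((hcop.dvd_of_dvd_mul_left hpL).trans h1)

end Cfsg.Agent.Lib.Helper5.Bal
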