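import Mathlib
import Cfsg.Agent.Lib.Helper5.BalRed
import Cfsg.Agent.Lib.Helper37.GraphPSL2
import Cfsg.Agent.Lib.Helper45.SpAutBasic
import Cfsg.Agent.Lib.Helper44.Darboux
import Cfsg.Agent.S0270

set_option autoImplicit false
set_option linter.unusedSimpArgs false
set_option linter.unusedVariables false
set_option linter.unusedSectionVars false
set_option linter.unnecessarySeqFocus false
set_option linter.style.haveILetI false

/-!
# Local balance for `PSL_n`: the symplectic centralizers (leaf BAL-SS)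
-/

namespace Cfsg.Agent.Lib.Helper5.Bal

open Matrix Cfsg.Agent.Lib.Helper5.AutPSLn Cfsg.Agent.Lib.Helper45.AutPSL
  Cfsg.Agent.Lib.Helper5.BalE

variable {n : ℕ} {F : Type*} [Field F]

/-- transfer of simplicity along a homomorphism compatible with two quotient maps -/
theorem ss_transfer {S T S' T' : Type*} [Group S] [Group T] [Group S'] [Group T']
    (φ : S →* T) (πS : S →* S') (πT : T →* T') (hπS : Function.Surjective πS)
    (hiff : ∀ a b, πT (φ a) = πT (φ b) ↔ πS a = πS b) (hsimple : IsSimpleGroup S')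
    (M : Subgroup T') (hM : M ≤ (φ.range).map πT)
    (hinv : ∀ l ∈ (φ.range).map πT, ∀ x ∈ M, l * x * l⁻¹ ∈ M) :
    M = ⊥ ∨ M = (φ.range).map πT := by
  obtain ⟨N, hN⟩ : ∃ N : Subgroup S, N = M.comap (πT.comp φ) := ⟨_, rfl⟩
  have hmemN : ∀ s, s ∈ N ↔ πT (φ s) ∈ M := by
    intro s; rw [hN]; exact Iff.rfl
  haveI hNn : N.Normal := by
    constructor
    intro s hs t
    rw [hmemN] at hs ⊢
    rw [map_mul, map_mul, map_inv, map_mul, map_mul, map_inv]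
    exact hinv _ ⟨φ t, ⟨t, rfl⟩, rfl⟩ _ hs
  haveI : (N.map πS).Normal := Subgroup.Normal.map hNn _ hπS
  rcases hsimple.eq_bot_or_eq_top_of_normal (N.map πS) inferInstance with h | h
  · left
    rw [eq_bot_iff]
    rintro l hl
    obtain ⟨_, ⟨s, rfl⟩, rfl⟩ := hM hl
    have h1 : πS s ∈ N.map πS := ⟨s, (hmemN s).2 hl, rfl⟩
    rw [h, Subgroup.mem_bot] at h1
    rw [Subgroup.mem_bot]
    have h2 : πS s = πS 1 := by rw [h1, map_one]
    rw [(hiff s 1).2 h2, map_one, map_one]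
  · right
    apply le_antisymm hM
    rintro _ ⟨_, ⟨s, rfl⟩, rfl⟩
    have h1 : πS s ∈ N.map πS := by rw [h]; exact Subgroup.mem_top _
    obtain ⟨t, ht, ht2⟩ := h1
    rw [← (hiff t s).2 ht2]
    exact (hmemN t).1 ht

/-- an element of order `p` of a subgroup gives `p ∣ |H|` -/
lemma ss_dvd_card_of_mem {G : Type*} [Group G] [Finite G] (H : Subgroup G) {p : ℕ} {x : G}
    (hx : x ∈ H) (ho : orderOf x = p) : p ∣ Nat.card ↥H := by
  have h1 : orderOf (⟨x, hx⟩ : ↥H) = p := by rw [Subgroup.orderOf_mk, ho]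
  rw [← h1]
  exact orderOf_dvd_natCard _

/-- matrices of `SL_n` differing by a scalar have the same image -/
lemma ss_pr_eq_of_smul {x y : SpecialLinearGroup (Fin n) F} (c : F)
    (h : y.1 = c • x.1) : pr x = pr y := by
  rw [pr_def, pr_def, QuotientGroup.eq, Matrix.SpecialLinearGroup.mem_center_iff]
  refine ⟨c, ?_, ?_⟩
  · have h1 := congrArg Matrix.det h
    rw [y.2, Matrix.det_smul, x.2, mul_one, Fintype.card_fin] at h1
    rw [Fintype.card_fin]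
    exact h1.symm
  · rw [Matrix.SpecialLinearGroup.coe_mul, h, Matrix.mul_smul,
      ← Matrix.SpecialLinearGroup.coe_mul, inv_mul_cancel, Matrix.SpecialLinearGroup.coe_one,
      Matrix.scalar_apply, Matrix.smul_one_eq_diagonal]

/-- a symplectic frame for an invertible skew-symmetric matrix (characteristic not two) -/
lemma ss_frame (h2 : (2 : F) ≠ 0) (g : Matrix (Fin n) (Fin n) F) (hdet : g.det ≠ 0)
    (hg : gᵀ = -g) :
    ∃ (m : ℕ) (P : Matrix (Fin n) (Fin m ⊕ Fin m) F) (P' : Matrix (Fin m ⊕ Fin m) (Fin n) F),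
      n = 2 * m ∧ P * P' = 1 ∧ P' * P = 1 ∧ Pᵀ * g * P = - Matrix.J (Fin m) F := by
  classical
  -- `n` is even
  have heven : Even n := by
    by_contra hodd
    rw [Nat.not_even_iff_odd] at hodd
    have h1 : g.det = (-1) ^ n * g.det := by
      have := congrArg Matrix.det hg
      rw [Matrix.det_transpose, Matrix.det_neg, Fintype.card_fin] at this
      exact this
    rw [hodd.neg_one_pow] at h1
    have h3 : (2 : F) * g.det = 0 := by linear_combination h1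
    rcases mul_eq_zero.1 h3 with h | h
    · exact h2 h
    · exact hdet h
  obtain ⟨m, hm⟩ := heven
  have hnm : n = 2 * m := by omega
  obtain ⟨ω, hω⟩ : ∃ ω : LinearMap.BilinForm F (Fin n → F), ω = Matrix.toBilin' g := ⟨_, rfl⟩
  have halt : ω.IsAlt := by
    intro x
    rw [hω, Matrix.toBilin'_apply']
    have h1 : x ⬝ᵥ (g *ᵥ x) = -(x ⬝ᵥ (g *ᵥ x)) := by
      calc x ⬝ᵥ (g *ᵥ x) = (x ᵥ* g) ⬝ᵥ x := Matrix.dotProduct_mulVec x g x
        _ = (gᵀ *ᵥ x) ⬝ᵥ x := by rw [Matrix.mulVec_transpose]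
        _ = -((g *ᵥ x) ⬝ᵥ x) := by rw [hg, Matrix.neg_mulVec, neg_dotProduct]
        _ = -(x ⬝ᵥ (g *ᵥ x)) := by rw [dotProduct_comm]
    have h3 : (2 : F) * (x ⬝ᵥ (g *ᵥ x)) = 0 := by linear_combination h1
    rcases mul_eq_zero.1 h3 with h | h
    · exact absurd h h2
    · exact h
  have hnd : ω.Nondegenerate := by
    rw [hω]
    exact LinearMap.BilinForm.nondegenerate_toBilin'_of_det_ne_zero' g hdet
  have hfr : Module.finrank F (Fin n → F) = 2 * m := by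
    rw [Module.finrank_fintype_fun_eq_card, Fintype.card_fin, hnm]
  obtain ⟨𝔟, h𝔟⟩ := Cfsg.Agent.Lib.Helper44.darboux_basis m _ ω halt hnd hfr
  refine ⟨m, (Pi.basisFun F (Fin n)).toMatrix 𝔟, 𝔟.toMatrix (Pi.basisFun F (Fin n)), hnm,
    Module.Basis.toMatrix_mul_toMatrix_flip _ _, Module.Basis.toMatrix_mul_toMatrix_flip _ _, ?_⟩
  have := LinearMap.BilinForm.toMatrix_mul_basis_toMatrix (Pi.basisFun F (Fin n)) 𝔟 ω
  rw [LinearMap.BilinForm.toMatrix_basisFun, hω, LinearMap.BilinForm.toMatrix'_toBilin', ← hω, h𝔟,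
    Cfsg.Agent.Lib.Helper44.gramJ_eq] at this
  exact this

section Frame

open Cfsg.Agent.Lib.Helper45.SpAut (SpG)

variable {m : ℕ} (g : Matrix (Fin n) (Fin n) F) (P : Matrix (Fin n) (Fin m ⊕ Fin m) F)
  (P' : Matrix (Fin m ⊕ Fin m) (Fin n) F)

lemma ss_PT (h1 : P * P' = 1) : P'ᵀ * Pᵀ = 1 := by
  rw [← Matrix.transpose_mul, h1, Matrix.transpose_one]

lemma ss_TP (h2 : P' * P = 1) : Pᵀ * P'ᵀ = 1 := by
  rw [← Matrix.transpose_mul, h2, Matrix.transpose_one]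

/-- conjugation by the frame: `Sp_2m(F) → SL_n(F)` -/
def ss_Psi (h1 : P * P' = 1) (h2 : P' * P = 1) : SpG m F →* SpecialLinearGroup (Fin n) F where
  toFun y := ⟨P'ᵀ * y.1 * Pᵀ, by
    rw [Matrix.det_conj_of_mul_eq_one (ss_PT P P' h1) (ss_TP P P' h2)]
    exact SymplecticGroup.det_eq_one y.2⟩
  map_one' := by
    apply Subtype.ext
    show P'ᵀ * (1 : Matrix (Fin m ⊕ Fin m) (Fin m ⊕ Fin m) F) * Pᵀ = 1
    rw [Matrix.mul_one, ss_PT P P' h1]
  map_mul' a b := by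
    apply Subtype.ext
    show P'ᵀ * (a.1 * b.1) * Pᵀ = (P'ᵀ * a.1 * Pᵀ) * (P'ᵀ * b.1 * Pᵀ)
    calc P'ᵀ * (a.1 * b.1) * Pᵀ = P'ᵀ * a.1 * (1 : Matrix (Fin m ⊕ Fin m) (Fin m ⊕ Fin m) F) * b.1 * Pᵀ := by
          simp only [Matrix.mul_assoc, Matrix.one_mul]
      _ = (P'ᵀ * a.1 * Pᵀ) * (P'ᵀ * b.1 * Pᵀ) := by
          rw [← ss_TP P P' h2]; simp only [Matrix.mul_assoc]

lemma ss_Psi_coe (h1 : P * P' = 1) (h2 : P' * P = 1) (y : SpG m F) :
    (ss_Psi P P' h1 h2 y).1 = P'ᵀ * y.1 * Pᵀ := rfl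

/-- recover the symplectic matrix -/
lemma ss_Psi_back (h1 : P * P' = 1) (h2 : P' * P = 1) (y : SpG m F) :
    Pᵀ * (ss_Psi P P' h1 h2 y).1 * P'ᵀ = y.1 := by
  rw [ss_Psi_coe]
  calc Pᵀ * (P'ᵀ * y.1 * Pᵀ) * P'ᵀ = (Pᵀ * P'ᵀ) * y.1 * (Pᵀ * P'ᵀ) := by
        simp only [Matrix.mul_assoc]
    _ = y.1 := by rw [ss_TP P P' h2, Matrix.one_mul, Matrix.mul_one]

lemma ss_Psi_injective (h1 : P * P' = 1) (h2 : P' * P = 1) :
    Function.Injective (ss_Psi P P' h1 h2) := by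
  intro a b h
  apply Subtype.ext
  rw [← ss_Psi_back P P' h1 h2 a, ← ss_Psi_back P P' h1 h2 b, h]

lemma ss_g_eq (h1 : P * P' = 1) (hc : Pᵀ * g * P = - Matrix.J (Fin m) F) :
    g = -(P'ᵀ * Matrix.J (Fin m) F * P') := by
  have h3 : P'ᵀ * (Pᵀ * g * P) * P' = g := by
    calc P'ᵀ * (Pᵀ * g * P) * P' = (P'ᵀ * Pᵀ) * g * (P * P') := by simp only [Matrix.mul_assoc]
      _ = g := by rw [ss_PT P P' h1, h1, Matrix.one_mul, Matrix.mul_one]
  rw [hc] at h3
  rw [← h3]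
  simp only [Matrix.mul_neg, Matrix.neg_mul]

lemma ss_Psi_mem (h1 : P * P' = 1) (h2 : P' * P = 1)
    (hc : Pᵀ * g * P = - Matrix.J (Fin m) F) (y : SpG m F) :
    ss_Psi P P' h1 h2 y ∈ formSL g := by
  rw [mem_formSL, ss_Psi_coe]
  have hy : y.1 * Matrix.J (Fin m) F * y.1ᵀ = Matrix.J (Fin m) F :=
    SymplecticGroup.mem_iff.1 y.2
  have hg := ss_g_eq g P P' h1 hc
  rw [Matrix.transpose_mul, Matrix.transpose_mul, Matrix.transpose_transpose,
    Matrix.transpose_transpose]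
  calc P'ᵀ * y.1 * Pᵀ * g * (P * (y.1ᵀ * P'))
      = P'ᵀ * y.1 * (Pᵀ * g * P) * y.1ᵀ * P' := by simp only [Matrix.mul_assoc]
    _ = -(P'ᵀ * (y.1 * Matrix.J (Fin m) F * y.1ᵀ) * P') := by
        rw [hc]; simp only [Matrix.mul_neg, Matrix.neg_mul, Matrix.mul_assoc]
    _ = g := by rw [hy, ← hg]

lemma ss_exists_of_mem (h1 : P * P' = 1) (h2 : P' * P = 1)
    (hc : Pᵀ * g * P = - Matrix.J (Fin m) F) {x : SpecialLinearGroup (Fin n) F}
    (hx : x ∈ formSL g) : ∃ y : SpG m F, ss_Psi P P' h1 h2 y = x := by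
  have hx' : x.1 * g * x.1ᵀ = g := hx
  have hmem : Pᵀ * x.1 * P'ᵀ ∈ Matrix.symplecticGroup (Fin m) F := by
    rw [SymplecticGroup.mem_iff]
    rw [Matrix.transpose_mul, Matrix.transpose_mul, Matrix.transpose_transpose,
      Matrix.transpose_transpose]
    have h3 : Pᵀ * x.1 * P'ᵀ * (Pᵀ * g * P) * (P' * (x.1ᵀ * P)) = Pᵀ * g * P := by
      calc Pᵀ * x.1 * P'ᵀ * (Pᵀ * g * P) * (P' * (x.1ᵀ * P))
          = Pᵀ * x.1 * (P'ᵀ * Pᵀ) * g * (P * P') * x.1ᵀ * P := by simp only [Matrix.mul_assoc]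
        _ = Pᵀ * (x.1 * g * x.1ᵀ) * P := by
            rw [ss_PT P P' h1, h1]; simp only [Matrix.mul_assoc, Matrix.mul_one, Matrix.one_mul]
        _ = Pᵀ * g * P := by rw [hx']
    rw [hc] at h3
    simp only [Matrix.mul_neg, Matrix.neg_mul, neg_inj] at h3
    exact h3
  refine ⟨⟨_, hmem⟩, ?_⟩
  apply Subtype.ext
  rw [ss_Psi_coe]
  show P'ᵀ * (Pᵀ * x.1 * P'ᵀ) * Pᵀ = x.1
  calc P'ᵀ * (Pᵀ * x.1 * P'ᵀ) * Pᵀ = (P'ᵀ * Pᵀ) * x.1 * (P'ᵀ * Pᵀ) := by
        simp only [Matrix.mul_assoc]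
    _ = x.1 := by rw [ss_PT P P' h1, Matrix.one_mul, Matrix.mul_one]

lemma ss_range (h1 : P * P' = 1) (h2 : P' * P = 1)
    (hc : Pᵀ * g * P = - Matrix.J (Fin m) F) :
    (ss_Psi P P' h1 h2).range = formSL g := by
  ext x
  constructor
  · rintro ⟨y, rfl⟩
    exact ss_Psi_mem g P P' h1 h2 hc y
  · intro hx
    exact ss_exists_of_mem g P P' h1 h2 hc hx

lemma ss_J_apply (i : Fin m) : Matrix.J (Fin m) F (Sum.inl i) (Sum.inr i) = -1 := by
  simp [Matrix.J]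

lemma ss_J_apply' (i : Fin m) : Matrix.J (Fin m) F (Sum.inl i) (Sum.inl i) = 0 := by
  simp [Matrix.J]

lemma ss_pr_Psi_eq_iff [NeZero m] (h1 : P * P' = 1) (h2 : P' * P = 1) (a b : SpG m F) :
    pr (ss_Psi P P' h1 h2 a) = pr (ss_Psi P P' h1 h2 b) ↔
      Cfsg.Agent.Lib.Helper45.SpAut.pr a = Cfsg.Agent.Lib.Helper45.SpAut.pr b := by
  have i₀ : Fin m := ⟨0, Nat.pos_of_ne_zero (NeZero.ne m)⟩
  constructor
  · intro h
    obtain ⟨r, -, hr⟩ := exists_smul_of_pr_eq h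
    have hb : b.1 = r • a.1 := by
      rw [← ss_Psi_back P P' h1 h2 b, hr, ← ss_Psi_back P P' h1 h2 a]
      simp only [Matrix.mul_smul, Matrix.smul_mul]
    have ha' : a.1 * Matrix.J (Fin m) F * a.1ᵀ = Matrix.J (Fin m) F := SymplecticGroup.mem_iff.1 a.2
    have hb' : b.1 * Matrix.J (Fin m) F * b.1ᵀ = Matrix.J (Fin m) F := SymplecticGroup.mem_iff.1 b.2
    rw [hb, Matrix.transpose_smul] at hb'
    simp only [Matrix.mul_smul, Matrix.smul_mul, smul_smul] at hb'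
    rw [ha'] at hb'
    have h3 := congrFun (congrFun hb' (Sum.inl i₀)) (Sum.inr i₀)
    rw [Matrix.smul_apply, ss_J_apply, smul_eq_mul] at h3
    have h4 : r * r = 1 := by linear_combination -h3
    rw [Cfsg.Agent.Lib.Helper45.SpAut.pr_eq_iff]
    rcases mul_self_eq_one_iff.1 h4 with h5 | h5
    · left
      rw [hb, h5, one_smul]
    · right
      rw [hb, h5, neg_one_smul]
  · intro h
    rcases Cfsg.Agent.Lib.Helper45.SpAut.pr_eq_iff.1 h with e | e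
    · apply ss_pr_eq_of_smul 1
      rw [ss_Psi_coe, ss_Psi_coe, e, one_smul]
    · apply ss_pr_eq_of_smul (-1)
      rw [ss_Psi_coe, ss_Psi_coe, e, neg_one_smul]
      simp only [Matrix.mul_neg, Matrix.neg_mul]

end Frame

open Cfsg.Agent.Lib.Helper45.SpAut (SpG) in
/-- BAL-SS -/
theorem LG_simple_symp [Fintype F] (hn : 3 ≤ n) (h2 : (2 : F) ≠ 0) (g : GL (Fin n) F)
    (hg : g.1ᵀ = -g.1) (M : Subgroup (Matrix.ProjectiveSpecialLinearGroup (Fin n) F))
    (hM : M ≤ LG g.1) (hinv : ∀ l ∈ LG g.1, ∀ m ∈ M, l * m * l⁻¹ ∈ M)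
    (hc : (Nat.card ↥M).Coprime 2) : M = ⊥ := by
  classical
  have hdet : g.1.det ≠ 0 := by
    have h0 : IsUnit g.1.det := (Matrix.isUnit_iff_isUnit_det g.1).1 ⟨g, rfl⟩
    exact h0.ne_zero
  obtain ⟨m, P, P', hnm, h1, h2', hcg⟩ := ss_frame h2 g.1 hdet hg
  have hm : 2 ≤ m := by omega
  haveI : NeZero m := ⟨by omega⟩
  have i₀ : Fin m := ⟨0, by omega⟩
  have hLG : LG g.1 = ((ss_Psi P P' h1 h2').range).map pr := by
    unfold LG
    rw [ss_range g.1 P P' h1 h2' hcg]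
  have hcard3 : 3 ≤ Fintype.card F := by
    by_contra hlt
    have h1' : 1 < Fintype.card F := Fintype.one_lt_card
    have h2c : Fintype.card F = 2 := by omega
    have h3 : ((Fintype.card F : ℕ) : F) = 0 := Nat.cast_card_eq_zero F
    rw [h2c] at h3
    exact h2 (by exact_mod_cast h3)
  have hsimple : IsSimpleGroup (Cfsg.PSp m F) := Cfsg.Agent.S0270.result m hm (fun _ => hcard3)
  rw [hLG] at hM hinv
  rcases ss_transfer (ss_Psi P P' h1 h2') Cfsg.Agent.Lib.Helper45.SpAut.pr pr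
    Cfsg.Agent.Lib.Helper45.SpAut.pr_surjective (ss_pr_Psi_eq_iff P P' h1 h2') hsimple M hM hinv
    with h | h
  · exact h
  · exfalso
    obtain ⟨sJ, hsJ⟩ : ∃ sJ : SpG m F, sJ = SymplecticGroup.symJ (Fin m) F := ⟨_, rfl⟩
    have hsJ1 : sJ.1 = Matrix.J (Fin m) F := by rw [hsJ]; rfl
    obtain ⟨t, ht⟩ : ∃ t, t = pr (ss_Psi P P' h1 h2' sJ) := ⟨_, rfl⟩
    have htL : t ∈ ((ss_Psi P P' h1 h2').range).map pr := ⟨_, ⟨sJ, rfl⟩, ht.symm⟩
    have ht1 : t ≠ 1 := by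
      intro h0
      have h3 : pr (ss_Psi P P' h1 h2' sJ) = pr (ss_Psi P P' h1 h2' 1) := by
        rw [← ht, h0, map_one, map_one]
      rw [ss_pr_Psi_eq_iff, Cfsg.Agent.Lib.Helper45.SpAut.pr_eq_iff, hsJ1] at h3
      have h4 : ((1 : SpG m F).1 : Matrix (Fin m ⊕ Fin m) (Fin m ⊕ Fin m) F) = 1 := rfl
      rw [h4] at h3
      rcases h3 with h3 | h3
      · have := congrFun (congrFun h3 (Sum.inl i₀)) (Sum.inl i₀)
        rw [ss_J_apply', Matrix.one_apply_eq] at this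
        exact one_ne_zero this
      · have := congrFun (congrFun h3 (Sum.inl i₀)) (Sum.inl i₀)
        rw [Matrix.neg_apply, ss_J_apply', Matrix.one_apply_eq, neg_zero] at this
        exact one_ne_zero this
    have ht2 : t ^ 2 = 1 := by
      have h3 : pr (ss_Psi P P' h1 h2' (sJ * sJ)) = pr (ss_Psi P P' h1 h2' 1) := by
        rw [ss_pr_Psi_eq_iff, Cfsg.Agent.Lib.Helper45.SpAut.pr_eq_iff]
        right
        have h4 : ((1 : SpG m F).1 : Matrix (Fin m ⊕ Fin m) (Fin m ⊕ Fin m) F) = 1 := rfl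
        have h5 : (sJ * sJ).1 = sJ.1 * sJ.1 := rfl
        rw [h4, h5, hsJ1, Matrix.J_squared, neg_neg]
      rw [pow_two, ht, ← map_mul, ← map_mul, h3, map_one, map_one]
    have hord : orderOf t = 2 := orderOf_eq_prime ht2 ht1
    have hdvd := ss_dvd_card_of_mem _ htL hord
    rw [← h] at hdvd
    exact absurd (Nat.Coprime.eq_one_of_dvd hc.symm hdvd) (by norm_num)

end Cfsg.Agent.Lib.Helper5.Bal
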