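import Mathlib
import Cfsg.Prelude.Def_Transfer
import Cfsg.Agent.Lib.Helper15.CycSylDefs

set_option autoImplicit false

/-!
# S4016 hive, leaf W2: the `p'`-part of `|G|` is `≡ 1 mod p` if all Sylow `r`-orders are
-/

namespace Cfsg.Agent.Lib.Helper15.CycSyl

open Subgroup

/-- Pure arithmetic: if every prime power `r ^ v_r(n)`, `r ≠ p`, is `≡ 1 mod p`, then so is the
`p'`-part of `n`. -/
theorem w2_ordCompl_modEq_one (n : ℕ) (hn : n ≠ 0) (p : ℕ)
    (h : ∀ r : ℕ, r.Prime → r ≠ p → r ^ n.factorization r ≡ 1 [MOD p]) :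
    n / p ^ n.factorization p ≡ 1 [MOD p] := by
  have h1 : (n / p ^ n.factorization p) = (n.factorization.erase p).prod (· ^ ·) := by
    rw [← Nat.factorization_ordCompl]
    exact (Nat.prod_factorization_pow_eq_self (Nat.ordCompl_pos p hn).ne').symm
  rw [h1, Finsupp.prod]
  apply Finset.prod_induction _ (fun x => x ≡ 1 [MOD p])
  · intro a b ha hb
    simpa using ha.mul hb
  · rfl
  · intro r hr
    rw [Finsupp.support_erase, Finset.mem_erase] at hr
    rw [Finsupp.erase_ne hr.1]
    exact h r (Nat.prime_of_mem_primeFactors (by simpa using hr.2)) hr.1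

variable {G : Type*} [Group G] [Finite G] {p : ℕ} [Fact p.Prime]

theorem index_sylow_modEq_one (P : Sylow p G)
    (h : ∀ r : ℕ, r.Prime → r ≠ p → ∀ R : Sylow r G, Nat.card (R : Subgroup G) ≡ 1 [MOD p]) :
    (P : Subgroup G).index ≡ 1 [MOD p] := by
  have hp : p.Prime := Fact.out
  have hn : Nat.card G ≠ 0 := Nat.card_pos.ne'
  have hidx : (P : Subgroup G).index = Nat.card G / p ^ (Nat.card G).factorization p := by
    have h1 := Subgroup.card_mul_index (P : Subgroup G)
    rw [Sylow.card_eq_multiplicity] at h1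
    exact (Nat.div_eq_of_eq_mul_right (pow_pos hp.pos _) h1.symm).symm
  rw [hidx]
  apply w2_ordCompl_modEq_one _ hn
  intro r hr hrp
  have : Fact r.Prime := ⟨hr⟩
  have R : Sylow r G := default
  have := h r hr hrp R
  rwa [Sylow.card_eq_multiplicity] at this

end Cfsg.Agent.Lib.Helper15.CycSyl
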