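import Mathlib
import Cfsg.Prelude.Def_Transfer
import Cfsg.Agent.Lib.Helper15.CycSylDefs

set_option autoImplicit false

/-!
# S4016 hive, leaf W3': `C(P) = P` if `C(P)` has no nontrivial `p'`-element
-/

namespace Cfsg.Agent.Lib.Helper15.CycSyl

open Subgroup

variable {G : Type*} [Group G] [Finite G] {p : ℕ} [Fact p.Prime]

omit [Finite G] [Fact p.Prime] in
/-- A cyclic subgroup lies in its centralizer. -/
theorem w3p_le_centralizer (Q : Subgroup G) (hcyc : IsCyclic Q) :
    Q ≤ centralizer (Q : Set G) := by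
  intro a ha
  rw [mem_centralizer_iff]
  intro b hb
  obtain ⟨g, hg⟩ := hcyc.exists_generator
  obtain ⟨m, hm⟩ := Subgroup.mem_zpowers_iff.1 (hg ⟨a, ha⟩)
  obtain ⟨n, hn⟩ := Subgroup.mem_zpowers_iff.1 (hg ⟨b, hb⟩)
  have h1 : a = ((g : G)) ^ m := by
    have := congrArg (Subtype.val) hm
    simpa using this.symm
  have h2 : b = ((g : G)) ^ n := by
    have := congrArg (Subtype.val) hn
    simpa using this.symm
  rw [h1, h2, ← zpow_add, ← zpow_add, add_comm]

theorem centralizer_eq_of_T_trivial (P : Sylow p G) (hcyc : IsCyclic (P : Subgroup G))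
    (hT : ∀ x ∈ centralizer ((P : Subgroup G) : Set G), (orderOf x).Coprime p → x = 1) :
    centralizer ((P : Subgroup G) : Set G) = (P : Subgroup G) := by
  have hp : p.Prime := Fact.out
  have hPC : (P : Subgroup G) ≤ centralizer ((P : Subgroup G) : Set G) :=
    w3p_le_centralizer _ hcyc
  have hpg : IsPGroup p (centralizer ((P : Subgroup G) : Set G)) := by
    rintro ⟨x, hx⟩
    obtain ⟨e, m, hm, hem⟩ :=
      Nat.exists_eq_pow_mul_and_not_dvd (orderOf_pos x).ne' p hp.ne_one
    refine ⟨e, Subtype.ext ?_⟩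
    have hmem : x ^ p ^ e ∈ centralizer ((P : Subgroup G) : Set G) := pow_mem hx _
    have hdvd : orderOf (x ^ p ^ e) ∣ m := by
      apply orderOf_dvd_of_pow_eq_one
      rw [← pow_mul, ← hem, pow_orderOf_eq_one]
    have hcop : (orderOf (x ^ p ^ e)).Coprime p :=
      Nat.Coprime.coprime_dvd_left hdvd ((hp.coprime_iff_not_dvd.2 hm).symm)
    simpa using hT _ hmem hcop
  exact P.3 hpg hPC

end Cfsg.Agent.Lib.Helper15.CycSyl
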