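import Cfsg.Agent.Lib.Helper37.D4O8Defs
import Cfsg.Agent.Lib.Helper37.OmegaFrames

/-! # Do hive (S1082, owner helper37), sub-hive Do-RED (owner helper39): definitions + small tools

`red : ∀ g : OG F, ∃ h ∈ EE F, h * g ∈ DD F ∨ h * g * sw F ∈ DD F`.  Three stages `k = 1, 2, 3`: if `g` scales
`e_j, f_j` (`j < k`), some `h ∈ EE F` makes `h * g` scale `e_k, f_k` too; then `g` or `g * sw` is diagonal. -/

set_option autoImplicit false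
set_option linter.unusedSectionVars false
set_option linter.unusedVariables false

namespace Cfsg.Agent.Lib.Helper37.D4O8

open Matrix Module QuadraticMap
open Cfsg.Agent.Lib.Helper8 Cfsg.Agent.Lib.Helper13 Cfsg.Agent.Lib.Helper37

variable {F : Type*} [Field F]

/-- `h` fixes `e₁` and `f₁` -/
def Fix1 (h : OG F) : Prop := act (Q8 F) h ve1 = ve1 ∧ act (Q8 F) h vf1 = vf1
/-- `h` fixes `e₂` and `f₂` -/
def Fix2 (h : OG F) : Prop := act (Q8 F) h ve2 = ve2 ∧ act (Q8 F) h vf2 = vf2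
/-- `h` fixes `e₃` and `f₃` -/
def Fix3 (h : OG F) : Prop := act (Q8 F) h ve3 = ve3 ∧ act (Q8 F) h vf3 = vf3

/-- `g` scales `e₁, f₁`: `g e₁ = c e₁`, `g f₁ = c⁻¹ f₁` -/
def Sc1 (g : OG F) : Prop := ∃ c : F, c ≠ 0 ∧ act (Q8 F) g ve1 = c • ve1 ∧ act (Q8 F) g vf1 = c⁻¹ • vf1
def Sc2 (g : OG F) : Prop := ∃ c : F, c ≠ 0 ∧ act (Q8 F) g ve2 = c • ve2 ∧ act (Q8 F) g vf2 = c⁻¹ • vf2
def Sc3 (g : OG F) : Prop := ∃ c : F, c ≠ 0 ∧ act (Q8 F) g ve3 = c • ve3 ∧ act (Q8 F) g vf3 = c⁻¹ • vf3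
def Sc4 (g : OG F) : Prop := ∃ c : F, c ≠ 0 ∧ act (Q8 F) g ve4 = c • ve4 ∧ act (Q8 F) g vf4 = c⁻¹ • vf4

theorem polar_ve1 (x : I8 → F) : polar ⇑(Q8 F) x ve1 = cb1 x := by rw [polar_Q8]; simp [ve1]
theorem polar_ve2 (x : I8 → F) : polar ⇑(Q8 F) x ve2 = cb2 x := by rw [polar_Q8]; simp [ve2]
theorem polar_ve3 (x : I8 → F) : polar ⇑(Q8 F) x ve3 = cb3 x := by rw [polar_Q8]; simp [ve3]
theorem polar_ve4 (x : I8 → F) : polar ⇑(Q8 F) x ve4 = cb4 x := by rw [polar_Q8]; simp [ve4]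
theorem polar_vf1 (x : I8 → F) : polar ⇑(Q8 F) x vf1 = ca1 x := by rw [polar_Q8]; simp [vf1]
theorem polar_vf2 (x : I8 → F) : polar ⇑(Q8 F) x vf2 = ca2 x := by rw [polar_Q8]; simp [vf2]
theorem polar_vf3 (x : I8 → F) : polar ⇑(Q8 F) x vf3 = ca3 x := by rw [polar_Q8]; simp [vf3]
theorem polar_vf4 (x : I8 → F) : polar ⇑(Q8 F) x vf4 = ca4 x := by rw [polar_Q8]; simp [vf4]

theorem Q8_ve1 : Q8 F (ve1 : I8 → F) = 0 := by rw [Q8_apply]; simp [ve1]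
theorem Q8_ve2 : Q8 F (ve2 : I8 → F) = 0 := by rw [Q8_apply]; simp [ve2]
theorem Q8_ve3 : Q8 F (ve3 : I8 → F) = 0 := by rw [Q8_apply]; simp [ve3]
theorem Q8_ve4 : Q8 F (ve4 : I8 → F) = 0 := by rw [Q8_apply]; simp [ve4]
theorem Q8_vf1 : Q8 F (vf1 : I8 → F) = 0 := by rw [Q8_apply]; simp [vf1]
theorem Q8_vf2 : Q8 F (vf2 : I8 → F) = 0 := by rw [Q8_apply]; simp [vf2]
theorem Q8_vf3 : Q8 F (vf3 : I8 → F) = 0 := by rw [Q8_apply]; simp [vf3]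
theorem Q8_vf4 : Q8 F (vf4 : I8 → F) = 0 := by rw [Q8_apply]; simp [vf4]

theorem ve1_ne_zero : (ve1 : I8 → F) ≠ 0 := fun h => by simpa [ve1] using congrArg ca1 h
theorem ve2_ne_zero : (ve2 : I8 → F) ≠ 0 := fun h => by simpa [ve2] using congrArg ca2 h
theorem ve3_ne_zero : (ve3 : I8 → F) ≠ 0 := fun h => by simpa [ve3] using congrArg ca3 h
theorem ve4_ne_zero : (ve4 : I8 → F) ≠ 0 := fun h => by simpa [ve4] using congrArg ca4 h

/-- `polar (g x) (g y)` when `g y = c • y'` -/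
theorem polar_act_of_eq (g : OG F) (x y y' : I8 → F) (c : F) (hy : act (Q8 F) g y = c • y') :
    c * polar ⇑(Q8 F) (act (Q8 F) g x) y' = polar ⇑(Q8 F) x y := by
  rw [← polar_act (Q8 F) g x y, hy, polar_smul_right, smul_eq_mul]

end Cfsg.Agent.Lib.Helper37.D4O8
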