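import Cfsg.Agent.Lib.Helper39.E8m_KEYcore
import Cfsg.Agent.Lib.Helper24.E8m_FF
import Cfsg.Agent.Lib.Helper33.E8m_MOVE2
import Cfsg.Agent.Lib.Helper97.E8m_CAN

/-! # E8m hive (S2107, owner helper76), leaf E-KEY (helper39): every decomposition computes the canonical lift. -/

set_option autoImplicit false

namespace Cfsg.Agent.Lib.Helper76.E8m

open Cfsg Cfsg.Lie Cfsg.Agent.Lib.Helper39.Sm
open scoped commutatorElement

section A
variable {D : ChevalleyDatum} {dec : ℕ → ℕ × ℕ} {K : Type*} [Field K] {G : Type*} [Group G]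
  {Y : Type*} [Group Y] (S : SLSys D K G) (φ : Y →* G) (hφ : Function.Surjective φ)

/-- E-KEY. -/
theorem key (T : Tab D dec) (hc : φ.ker ≤ Subgroup.center Y) (hL : LAp S φ) {a b e : ℕ}
    (h : sm D a b = some e) (t u : K) :
    ff S φ hφ a b t u = sl dec S φ hφ e (((ep D a b : ℤ) : K) * t * u) := by
  have he : e < D.nroots := (T.basic.sm_lt a b e h).2.2
  exact key_core S φ hφ T.basic (ff_symm S φ hφ)
    (fun h' => ff_neg_right S φ hφ T.basic hc hL h')
    (fun h' => move_one S φ hφ T.basic hc hL h')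
    (T.dc.dec_sum e he) (ff_dec S φ hφ T hc hL he) (T.conn a b e h) t u

end A

end Cfsg.Agent.Lib.Helper76.E8m
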