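import Cfsg.Agent.Lib.Helper76.E8mDefs

/-! # E8m hive (S2107, owner helper76), leaf E-KEY, core part (helper39).

`key_core` : the statement of `key` with the earlier leaves (`ff_symm`, `ff_neg_right`, `move_one`, `ff_dec`) and the
connectivity alternative as hypotheses. -/

set_option autoImplicit false

namespace Cfsg.Agent.Lib.Helper76.E8m

open Cfsg Cfsg.Lie Cfsg.Agent.Lib.Helper39.Sm
open scoped commutatorElement

theorem key_int {x y z w : ℤ} (hx : x = 1 ∨ x = -1) (hw : w = 1 ∨ w = -1) (h : x * y = z * w) :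
    y * w = x * z := by
  rcases hx with rfl | rfl <;> rcases hw with rfl | rfl <;> linarith

theorem key_cast {K : Type*} [Field K] {x y z w : ℤ} (hx : x = 1 ∨ x = -1) (hw : w = 1 ∨ w = -1)
    (h : x * y = z * w) : ((y : ℤ) : K) * ((w : ℤ) : K) = ((x : ℤ) : K) * ((z : ℤ) : K) := by
  have h1 := key_int hx hw h
  rw [← Int.cast_mul, ← Int.cast_mul, h1]

theorem key_sq {K : Type*} [Field K] {x : ℤ} (hx : x = 1 ∨ x = -1) : ((x : ℤ) : K) * ((x : ℤ) : K) = 1 := by
  rcases hx with rfl | rfl <;> simp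

section A
variable {D : ChevalleyDatum} {K : Type*} [Field K] {G : Type*} [Group G]
  {Y : Type*} [Group Y] (S : SLSys D K G) (φ : Y →* G) (hφ : Function.Surjective φ)

theorem key_core (hB : TabBasic D)
    (Hsymm : ∀ (a b : ℕ) (t u : K), ff S φ hφ b a u t = (ff S φ hφ a b t u)⁻¹)
    (Hneg : ∀ {a b e : ℕ}, sm D a b = some e → ∀ t u : K,
      ff S φ hφ a b t (-u) = (ff S φ hφ a b t u)⁻¹)
    (Hmove : ∀ {p q r pq qr e : ℕ}, A3 D p q r pq qr e → ∀ T w : K,
      ff S φ hφ pq r T w =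
        ff S φ hφ p qr 1 (((ep D q r : ℤ) : K) * ((ep D p q : ℤ) : K) * T * w))
    {c d e : ℕ} (hcd : sm D c d = some e)
    (Hdec : ∀ t u : K, ff S φ hφ c d t u = ff S φ hφ c d 1 (t * u))
    {a b : ℕ}
    (hconn : (a = c ∧ b = d) ∨ (a = d ∧ b = c) ∨ A3 D c (sb D a c) b a d e ∨
      A3 D d (sb D a d) b a c e)
    (t u : K) :
    ff S φ hφ a b t u =
      ff S φ hφ c d 1 (((ep D c d : ℤ) : K) * (((ep D a b : ℤ) : K) * t * u)) := by
  have hcdK : ((ep D c d : ℤ) : K) * ((ep D c d : ℤ) : K) = 1 := key_sq (hB.ep_sq c d e hcd)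
  have hs := hB.sm_symm c d e hcd
  rcases hconn with ⟨h1, h2⟩ | ⟨h1, h2⟩ | h3 | h4
  · -- the canonical decomposition
    subst h1 h2
    rw [Hdec t u]
    congr 1
    calc t * u = (((ep D a b : ℤ) : K) * ((ep D a b : ℤ) : K)) * (t * u) := by rw [hcdK, one_mul]
      _ = ((ep D a b : ℤ) : K) * (((ep D a b : ℤ) : K) * t * u) := by ring
  · -- the swapped decomposition (`subst` turns `d` into `a` and `c` into `b`)
    subst h1 h2
    rw [Hsymm b a u t, Hdec u t, ← Hneg hcd 1 (u * t)]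
    congr 1
    rw [hs.2, Int.cast_neg]
    calc -(u * t) = -((((ep D b a : ℤ) : K) * ((ep D b a : ℤ) : K)) * (u * t)) := by
          rw [hcdK, one_mul]
      _ = ((ep D b a : ℤ) : K) * (-((ep D b a : ℤ) : K) * t * u) := by ring
  · -- one move away from `(c, d)`
    rw [Hmove h3 t u]
    congr 1
    have hk : ((ep D (sb D a c) b : ℤ) : K) * ((ep D c (sb D a c) : ℤ) : K) =
        ((ep D c d : ℤ) : K) * ((ep D a b : ℤ) : K) :=
      key_cast (hB.ep_sq c d e hcd) (hB.ep_sq c (sb D a c) a h3.hpq) h3.sgn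
    calc ((ep D (sb D a c) b : ℤ) : K) * ((ep D c (sb D a c) : ℤ) : K) * t * u
        = (((ep D (sb D a c) b : ℤ) : K) * ((ep D c (sb D a c) : ℤ) : K)) * (t * u) := by ring
      _ = (((ep D c d : ℤ) : K) * ((ep D a b : ℤ) : K)) * (t * u) := by rw [hk]
      _ = ((ep D c d : ℤ) : K) * (((ep D a b : ℤ) : K) * t * u) := by ring
  · -- one move away from `(d, c)`
    rw [Hmove h4 t u, Hsymm c d _ 1, Hdec _ 1, ← Hneg hcd 1]
    congr 1
    have hk : ((ep D (sb D a d) b : ℤ) : K) * ((ep D d (sb D a d) : ℤ) : K) =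
        ((ep D d c : ℤ) : K) * ((ep D a b : ℤ) : K) :=
      key_cast (hB.ep_sq d c e h4.hpqr') (hB.ep_sq d (sb D a d) a h4.hpq) h4.sgn
    rw [hs.2, Int.cast_neg] at hk
    calc -(((ep D (sb D a d) b : ℤ) : K) * ((ep D d (sb D a d) : ℤ) : K) * t * u * 1)
        = -((((ep D (sb D a d) b : ℤ) : K) * ((ep D d (sb D a d) : ℤ) : K)) * (t * u)) := by ring
      _ = -((-((ep D c d : ℤ) : K) * ((ep D a b : ℤ) : K)) * (t * u)) := by rw [hk]
      _ = ((ep D c d : ℤ) : K) * (((ep D a b : ℤ) : K) * t * u) := by ring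

end A

end Cfsg.Agent.Lib.Helper76.E8m
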