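import Cfsg.Agent.Lib.Helper39.E8m_TLA_b2p0
import Cfsg.Agent.Lib.Helper39.E8m_TLA_b2p1
import Cfsg.Agent.Lib.Helper39.E8m_TLA_b2p2
import Cfsg.Agent.Lib.Helper39.E8m_TLA_b2p3

/-! # E8m hive (S2107, owner helper76), leaf T-LA, block k = 2 (helper39): rows 120-179 of `TabLA chevE8`. -/

set_option autoImplicit false

namespace Cfsg.Agent.Lib.Helper76.E8m

open Cfsg Cfsg.Lie

theorem tla_block2 : ∀ a, 120 ≤ a → a < 180 → tla_row chevE8 a = true := by
  intro a h1 h2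
  have hcase : (120 ≤ a ∧ a < 123) ∨
      (123 ≤ a ∧ a < 126) ∨
      (126 ≤ a ∧ a < 129) ∨
      (129 ≤ a ∧ a < 132) ∨
      (132 ≤ a ∧ a < 135) ∨
      (135 ≤ a ∧ a < 138) ∨
      (138 ≤ a ∧ a < 141) ∨
      (141 ≤ a ∧ a < 144) ∨
      (144 ≤ a ∧ a < 147) ∨
      (147 ≤ a ∧ a < 150) ∨
      (150 ≤ a ∧ a < 153) ∨
      (153 ≤ a ∧ a < 156) ∨
      (156 ≤ a ∧ a < 159) ∨
      (159 ≤ a ∧ a < 162) ∨
      (162 ≤ a ∧ a < 165) ∨
      (165 ≤ a ∧ a < 168) ∨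
      (168 ≤ a ∧ a < 171) ∨
      (171 ≤ a ∧ a < 174) ∨
      (174 ≤ a ∧ a < 177) ∨
      (177 ≤ a ∧ a < 180) := by omega
  rcases hcase with h | h | h | h | h | h | h | h | h | h | h | h | h | h | h | h | h | h | h | h
  · exact tla_rows_spec chevE8 120 3 tla_b2_0 a h.1 (by omega)
  · exact tla_rows_spec chevE8 123 3 tla_b2_1 a h.1 (by omega)
  · exact tla_rows_spec chevE8 126 3 tla_b2_2 a h.1 (by omega)
  · exact tla_rows_spec chevE8 129 3 tla_b2_3 a h.1 (by omega)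
  · exact tla_rows_spec chevE8 132 3 tla_b2_4 a h.1 (by omega)
  · exact tla_rows_spec chevE8 135 3 tla_b2_5 a h.1 (by omega)
  · exact tla_rows_spec chevE8 138 3 tla_b2_6 a h.1 (by omega)
  · exact tla_rows_spec chevE8 141 3 tla_b2_7 a h.1 (by omega)
  · exact tla_rows_spec chevE8 144 3 tla_b2_8 a h.1 (by omega)
  · exact tla_rows_spec chevE8 147 3 tla_b2_9 a h.1 (by omega)
  · exact tla_rows_spec chevE8 150 3 tla_b2_10 a h.1 (by omega)
  · exact tla_rows_spec chevE8 153 3 tla_b2_11 a h.1 (by omega)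
  · exact tla_rows_spec chevE8 156 3 tla_b2_12 a h.1 (by omega)
  · exact tla_rows_spec chevE8 159 3 tla_b2_13 a h.1 (by omega)
  · exact tla_rows_spec chevE8 162 3 tla_b2_14 a h.1 (by omega)
  · exact tla_rows_spec chevE8 165 3 tla_b2_15 a h.1 (by omega)
  · exact tla_rows_spec chevE8 168 3 tla_b2_16 a h.1 (by omega)
  · exact tla_rows_spec chevE8 171 3 tla_b2_17 a h.1 (by omega)
  · exact tla_rows_spec chevE8 174 3 tla_b2_18 a h.1 (by omega)
  · exact tla_rows_spec chevE8 177 3 tla_b2_19 a h.1 (by omega)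

end Cfsg.Agent.Lib.Helper76.E8m
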