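import Cfsg.Agent.Lib.Helper76.E8m_TLAdefs
import Cfsg.Prelude.Def_ChevE8

/-! # E8m hive (S2107, owner helper76), leaf T-LA, block k = 2 (rows 120-179), part 0 (helper39):
kernel certificates `tla_rows chevE8 lo 3 = true`, three rows per declaration (memory). -/

set_option autoImplicit false
set_option maxRecDepth 100000

namespace Cfsg.Agent.Lib.Helper76.E8m

open Cfsg Cfsg.Lie

theorem tla_b2_0 : tla_rows chevE8 120 3 = true := by decide +kernel

theorem tla_b2_1 : tla_rows chevE8 123 3 = true := by decide +kernel

theorem tla_b2_2 : tla_rows chevE8 126 3 = true := by decide +kernel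

theorem tla_b2_3 : tla_rows chevE8 129 3 = true := by decide +kernel

theorem tla_b2_4 : tla_rows chevE8 132 3 = true := by decide +kernel

end Cfsg.Agent.Lib.Helper76.E8m
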