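import Cfsg.Agent.Lib.Helper39.E8m_TLA_b3p0
import Cfsg.Agent.Lib.Helper39.E8m_TLA_b3p1
import Cfsg.Agent.Lib.Helper39.E8m_TLA_b3p2
import Cfsg.Agent.Lib.Helper39.E8m_TLA_b3p3

/-! # E8m hive (S2107, owner helper76), leaf T-LA, block k = 3 (helper39): rows 180-239 of `TabLA chevE8`. -/

set_option autoImplicit false

namespace Cfsg.Agent.Lib.Helper76.E8m

open Cfsg Cfsg.Lie

theorem tla_block3 : ∀ a, 180 ≤ a → a < 240 → tla_row chevE8 a = true := by
  intro a h1 h2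
  have hcase : (180 ≤ a ∧ a < 183) ∨
      (183 ≤ a ∧ a < 186) ∨
      (186 ≤ a ∧ a < 189) ∨
      (189 ≤ a ∧ a < 192) ∨
      (192 ≤ a ∧ a < 195) ∨
      (195 ≤ a ∧ a < 198) ∨
      (198 ≤ a ∧ a < 201) ∨
      (201 ≤ a ∧ a < 204) ∨
      (204 ≤ a ∧ a < 207) ∨
      (207 ≤ a ∧ a < 210) ∨
      (210 ≤ a ∧ a < 213) ∨
      (213 ≤ a ∧ a < 216) ∨
      (216 ≤ a ∧ a < 219) ∨
      (219 ≤ a ∧ a < 222) ∨
      (222 ≤ a ∧ a < 225) ∨
      (225 ≤ a ∧ a < 228) ∨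
      (228 ≤ a ∧ a < 231) ∨
      (231 ≤ a ∧ a < 234) ∨
      (234 ≤ a ∧ a < 237) ∨
      (237 ≤ a ∧ a < 240) := by omega
  rcases hcase with h | h | h | h | h | h | h | h | h | h | h | h | h | h | h | h | h | h | h | h
  · exact tla_rows_spec chevE8 180 3 tla_b3_0 a h.1 (by omega)
  · exact tla_rows_spec chevE8 183 3 tla_b3_1 a h.1 (by omega)
  · exact tla_rows_spec chevE8 186 3 tla_b3_2 a h.1 (by omega)
  · exact tla_rows_spec chevE8 189 3 tla_b3_3 a h.1 (by omega)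
  · exact tla_rows_spec chevE8 192 3 tla_b3_4 a h.1 (by omega)
  · exact tla_rows_spec chevE8 195 3 tla_b3_5 a h.1 (by omega)
  · exact tla_rows_spec chevE8 198 3 tla_b3_6 a h.1 (by omega)
  · exact tla_rows_spec chevE8 201 3 tla_b3_7 a h.1 (by omega)
  · exact tla_rows_spec chevE8 204 3 tla_b3_8 a h.1 (by omega)
  · exact tla_rows_spec chevE8 207 3 tla_b3_9 a h.1 (by omega)
  · exact tla_rows_spec chevE8 210 3 tla_b3_10 a h.1 (by omega)
  · exact tla_rows_spec chevE8 213 3 tla_b3_11 a h.1 (by omega)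
  · exact tla_rows_spec chevE8 216 3 tla_b3_12 a h.1 (by omega)
  · exact tla_rows_spec chevE8 219 3 tla_b3_13 a h.1 (by omega)
  · exact tla_rows_spec chevE8 222 3 tla_b3_14 a h.1 (by omega)
  · exact tla_rows_spec chevE8 225 3 tla_b3_15 a h.1 (by omega)
  · exact tla_rows_spec chevE8 228 3 tla_b3_16 a h.1 (by omega)
  · exact tla_rows_spec chevE8 231 3 tla_b3_17 a h.1 (by omega)
  · exact tla_rows_spec chevE8 234 3 tla_b3_18 a h.1 (by omega)
  · exact tla_rows_spec chevE8 237 3 tla_b3_19 a h.1 (by omega)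

end Cfsg.Agent.Lib.Helper76.E8m
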