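import Cfsg.Agent.Lib.Helper39.EqGlue
import Cfsg.Agent.Lib.Helper68.EqB1
import Cfsg.Agent.Lib.Helper76.EqT2
import Cfsg.Agent.Lib.Helper21.EqCONG
import Cfsg.Agent.Lib.Helper55.EqT3
import Cfsg.Agent.Lib.Helper68.EqTPL
import Cfsg.Agent.Lib.Helper55.HySUP

/-! # Generic even-dimensional orthogonal layer (A): assembly (helper39)

`fixes_iff`, `type_fix`, `eq_one_of_small`, `not_dvd_card_of_small` for an isometry of odd prime order
`r ≠ p` of a nondegenerate quadratic space of even dimension, ANY characteristic. -/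

set_option autoImplicit false

namespace Cfsg.Agent.Lib.Helper39.Eq

open Module
open Cfsg.Agent.Lib.Helper2.BG Cfsg.Agent.Lib.Helper99 Cfsg.Agent.Lib.Helper48.Ti
open Cfsg.Agent.Lib.Helper5.Hy

section abstract

variable {F V : Type*} [Field F] [Fintype F] [AddCommGroup V] [Module F V] [FiniteDimensional F V]
variable {Q : QuadraticForm F V}

theorem asm_c_pos (r : ℕ) [Fact r.Prime] (hrq : ¬ r ∣ Fintype.card F) (i c : ℕ)
    (hi : i = orderOf ((Fintype.card F : ℕ) : ZMod r)) (hc : c = if Even i then i else 2 * i) :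
    0 < i ∧ 0 < c ∧ Even c := by
  have hr : r.Prime := Fact.out
  have hq0 : ((Fintype.card F : ℕ) : ZMod r) ≠ 0 := by
    rw [Ne, ZMod.natCast_eq_zero_iff]
    exact hrq
  have hipos : 0 < i := by
    rw [hi]
    apply orderOf_pos_iff.2
    exact isOfFinOrder_iff_pow_eq_one.2 ⟨r - 1, by have := hr.two_le; omega,
      ZMod.pow_card_sub_one_eq_one hq0⟩
  refine ⟨hipos, ?_, ?_⟩
  · rw [hc]; split_ifs <;> omega
  · rw [hc]; split_ifs with h
    · exact h
    · exact even_two_mul i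

/-- orthogonal sum of nondegenerate subspaces -/
theorem ndQ_sup {W₀ W₁ : Submodule F V} (h₀ : NdQ Q W₀) (h₁ : NdQ Q W₁) (ho : OrthQ Q W₀ W₁) :
    NdQ Q (W₀ ⊔ W₁) ∧ W₀ ⊓ W₁ = ⊥ ∧ finrank F ↥(W₀ ⊔ W₁) = finrank F W₀ + finrank F W₁ :=
  nd_sup (pol_symm Q) h₀ h₁ ho

theorem asm_inv_of_le_fix {f : Module.End F V} {W : Submodule F V} (h : W ≤ Fix f) : Inv f W := by
  intro v hv
  have h1 : f v = v := by
    have := LinearMap.mem_ker.1 (h hv)
    rwa [LinearMap.sub_apply, Module.End.one_apply, sub_eq_zero] at this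
  rw [h1]; exact hv

theorem asm_inv_top (f : Module.End F V) : Inv f ⊤ := fun _ _ => Submodule.mem_top

/-- the type of a block sum -/
theorem asm_plusQ_block {f : Module.End F V} (hf : IsoQ Q f) (r : ℕ) [Fact r.Prime]
    (hr2 : r ≠ 2) (hrq : ¬ r ∣ Fintype.card F) (hfr : f ^ r = 1) (i c : ℕ)
    (hi : i = orderOf ((Fintype.card F : ℕ) : ZMod r)) (hc : c = if Even i then i else 2 * i)
    {N : Submodule F V} (hNi : Inv f N) (hN : NdQ Q N) (hfix : N ⊓ Fix f = ⊥) (j : ℕ)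
    (hj : finrank F N = j * c) : PlusQ Q N ↔ tpl i j := by
  rw [plusQ_fpf hf r hr2 hrq hfr hNi hN hfix, hj]
  exact tpl_iff (Fintype.card F) r hr2 hrq i c hi hc j

/-- the structure of `V`: `Fix f ⊥ R`, `R` a sum of `s` blocks -/
theorem asm_top {f : Module.End F V} (hV : NdQ Q ⊤) (hf : IsoQ Q f) (r : ℕ) [Fact r.Prime]
    (hr2 : r ≠ 2) (hrq : ¬ r ∣ Fintype.card F) (hfr : f ^ r = 1) (i c : ℕ)
    (hi : i = orderOf ((Fintype.card F : ℕ) : ZMod r)) (hc : c = if Even i then i else 2 * i)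
    (s : ℕ) (hs : finrank F V = finrank F ↥(Fix f) + s * c) :
    NdQ Q (Fix f) ∧ ∀ j ≤ s, ∃ W₁ : Submodule F V, Inv f W₁ ∧ NdQ Q W₁ ∧ W₁ ⊓ Fix f = ⊥ ∧
        OrthQ Q (Fix f) W₁ ∧ finrank F W₁ = j * c := by
  obtain ⟨hipos, hcpos, hceven⟩ := asm_c_pos (F := F) r hrq i c hi hc
  obtain ⟨hFixNd, s', hs1, hblocks⟩ :=
    blocksQ hf r hr2 hrq hfr i c hi hc (asm_inv_top f) hV
  rw [top_inf_eq] at hs1 hFixNd
  rw [finrank_top] at hs1
  have hss : s' = s := by
    have h1 : s' * c = s * c := by omega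
    exact Nat.eq_of_mul_eq_mul_right hcpos h1
  refine ⟨hFixNd, ?_⟩
  intro j hj
  obtain ⟨W₁, -, h1, h3, h4, h5, h6⟩ := hblocks j (by omega)
  exact ⟨W₁, h1, h3, h4, h5, h6⟩

/-- EQ-ASM (3): the type of the fixed space -/
theorem type_fix (hV : NdQ Q ⊤) (hne : Even (finrank F V)) {f : Module.End F V} (hf : IsoQ Q f)
    (r : ℕ) [Fact r.Prime] (hr2 : r ≠ 2) (hrq : ¬ r ∣ Fintype.card F) (hfr : f ^ r = 1) (i c : ℕ)
    (hi : i = orderOf ((Fintype.card F : ℕ) : ZMod r)) (hc : c = if Even i then i else 2 * i)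
    (s : ℕ) (hs : finrank F V = finrank F ↥(Fix f) + s * c) :
    PlusQ Q (Fix f) ↔ (PlusQ Q ⊤ ↔ tpl i s) := by
  obtain ⟨hipos, hcpos, hceven⟩ := asm_c_pos (F := F) r hrq i c hi hc
  obtain ⟨hFixNd, hblocks⟩ := asm_top hV hf r hr2 hrq hfr i c hi hc s hs
  obtain ⟨R, hRi, hRnd, hRfix, hRorth, hRdim⟩ := hblocks s le_rfl
  obtain ⟨hnd, -, hdim⟩ := ndQ_sup hFixNd hRnd hRorth
  have htop : Fix f ⊔ R = ⊤ := by
    apply Submodule.eq_top_of_finrank_eq
    rw [hdim, hRdim, hs]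
  have hRe : Even (finrank F R) := by rw [hRdim]; exact hceven.mul_left s
  have hFe : Even (finrank F ↥(Fix f)) := by
    have h1 : Even (s * c) := hceven.mul_left s
    rcases hne with ⟨t, ht⟩
    rcases h1 with ⟨u, hu⟩
    exact ⟨t - u, by omega⟩
  have h1 := plusQ_sup hFixNd hRnd hRorth hFe hRe
  rw [htop] at h1
  have h3 := asm_plusQ_block hf r hr2 hrq hfr i c hi hc hRi hRnd hRfix s hRdim
  rw [h1, h3]
  by_cases hA : PlusQ Q (Fix f) <;> by_cases hB : tpl i s <;> simp [hA, hB]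

/-- EQ-ASM (1)+(2): which nondegenerate subspaces of a given dimension and type are fixed -/
theorem fixes_iff (hV : NdQ Q ⊤) (hne : Even (finrank F V)) {f : Module.End F V} (hf : IsoQ Q f)
    (r : ℕ) [Fact r.Prime] (hr2 : r ≠ 2) (hrq : ¬ r ∣ Fintype.card F) (hfr : f ^ r = 1) (i c : ℕ)
    (hi : i = orderOf ((Fintype.card F : ℕ) : ZMod r)) (hc : c = if Even i then i else 2 * i)
    (s : ℕ) (hs : finrank F V = finrank F ↥(Fix f) + s * c)
    (m : ℕ) (hme : Even m) (b : Prop) :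
    FixesQ Q f m b ↔ ∃ j, j ≤ s ∧ j * c ≤ m ∧ m - j * c ≤ finrank F ↥(Fix f) ∧
      (m = j * c → (b ↔ tpl i j)) ∧
      (m - j * c = finrank F ↥(Fix f) → ((b ↔ tpl i j) ↔ (PlusQ Q ⊤ ↔ tpl i s))) := by
  obtain ⟨hipos, hcpos, hceven⟩ := asm_c_pos (F := F) r hrq i c hi hc
  obtain ⟨hFixNd, hblocks⟩ := asm_top hV hf r hr2 hrq hfr i c hi hc s hs
  have htf := type_fix hV hne hf r hr2 hrq hfr i c hi hc s hs
  have hFe : Even (finrank F ↥(Fix f)) := by
    have h1 : Even (s * c) := hceven.mul_left s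
    rcases hne with ⟨t, ht⟩
    rcases h1 with ⟨u, hu⟩
    exact ⟨t - u, by omega⟩
  constructor
  · rintro ⟨W, hWi, hWnd, hWdim, hWt⟩
    obtain ⟨hW₀nd, j, hj1, hWb⟩ := blocksQ hf r hr2 hrq hfr i c hi hc hWi hWnd
    obtain ⟨W₁, hW₁le, hW₁i, hW₁nd, hW₁fix, hW₁orth, hW₁dim⟩ := hWb j le_rfl
    have hale : finrank F ↥(W ⊓ Fix f) ≤ finrank F ↥(Fix f) := Submodule.finrank_mono inf_le_right
    have hjs : j ≤ s := by
      have h1 := Submodule.finrank_sup_add_finrank_inf_eq W₁ (Fix f)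
      rw [hW₁fix, finrank_bot, add_zero, hW₁dim] at h1
      have h3 : finrank F ↥(W₁ ⊔ Fix f) ≤ finrank F V := Submodule.finrank_le _
      have h4 : j * c ≤ s * c := by omega
      exact Nat.le_of_mul_le_mul_right h4 hcpos
    have hW₁t := asm_plusQ_block hf r hr2 hrq hfr i c hi hc hW₁i hW₁nd hW₁fix j hW₁dim
    refine ⟨j, hjs, by omega, by omega, ?_, ?_⟩
    · intro hm
      have ha0 : finrank F ↥(W ⊓ Fix f) = 0 := by omega
      have hbot : W ⊓ Fix f = ⊥ := Submodule.finrank_eq_zero.1 ha0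
      rw [← hWt]
      exact asm_plusQ_block hf r hr2 hrq hfr i c hi hc hWi hWnd hbot j (by omega)
    · intro ha
      have hae : finrank F ↥(W ⊓ Fix f) = finrank F ↥(Fix f) := by omega
      have hfixle : Fix f ≤ W := by
        have h1 : W ⊓ Fix f = Fix f := Submodule.eq_of_le_of_finrank_eq inf_le_right hae
        rw [← h1]; exact inf_le_left
      obtain ⟨-, -, hdim⟩ := ndQ_sup hFixNd hW₁nd hW₁orth
      have hWeq : Fix f ⊔ W₁ = W := by
        apply Submodule.eq_of_le_of_finrank_eq (sup_le hfixle hW₁le)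
        rw [hdim, hW₁dim]; omega
      have hW₁e : Even (finrank F W₁) := by rw [hW₁dim]; exact hceven.mul_left j
      have h1 := plusQ_sup hFixNd hW₁nd hW₁orth hFe hW₁e
      rw [hWeq] at h1
      rw [← hWt, h1, hW₁t, htf]
      by_cases hA : PlusQ Q ⊤ <;> by_cases hB : tpl i s <;> by_cases hC : tpl i j <;>
        simp [hA, hB, hC]
  · rintro ⟨j, hjs, hjm, hale, hcl0, hcle⟩
    obtain ⟨W₁, hW₁i, hW₁nd, hW₁fix, hW₁orth, hW₁dim⟩ := hblocks j hjs
    have hW₁t := asm_plusQ_block hf r hr2 hrq hfr i c hi hc hW₁i hW₁nd hW₁fix j hW₁dim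
    have hW₁e : Even (finrank F W₁) := by rw [hW₁dim]; exact hceven.mul_left j
    set m₀ := m - j * c with hm₀
    have hm₀e : Even m₀ := by
      have h1 : Even (j * c) := hceven.mul_left j
      exact (Nat.even_sub hjm).2 ⟨fun _ => h1, fun _ => hme⟩
    by_cases hm₀0 : m₀ = 0
    · refine ⟨W₁, hW₁i, hW₁nd, by rw [hW₁dim]; omega, ?_⟩
      rw [hW₁t]
      exact (hcl0 (by omega)).symm
    · by_cases hm₀e' : m₀ = finrank F ↥(Fix f)
      · obtain ⟨hnd, -, hdim⟩ := ndQ_sup hFixNd hW₁nd hW₁orth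
        refine ⟨Fix f ⊔ W₁, (asm_inv_of_le_fix le_rfl).sup hW₁i, hnd,
          by rw [hdim, hW₁dim]; omega, ?_⟩
        rw [plusQ_sup hFixNd hW₁nd hW₁orth hFe hW₁e, hW₁t, htf]
        have h9 := hcle hm₀e'
        by_cases hA : PlusQ Q ⊤ <;> by_cases hB : tpl i s <;> by_cases hC : tpl i j <;>
          by_cases hD : b <;> simp [hA, hB, hC, hD] at h9 ⊢
      · obtain ⟨W₀, hW₀le, hW₀nd, hW₀dim, hW₀type⟩ :=
          exists_ndQ_of_type hFixNd m₀ hm₀e (Nat.pos_of_ne_zero hm₀0) (by omega)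
            (PlusQ Q W₁ ↔ b)
        have horth : OrthQ Q W₀ W₁ := fun u hu v hv => hW₁orth u (hW₀le hu) v hv
        obtain ⟨hnd, -, hdim⟩ := ndQ_sup hW₀nd hW₁nd horth
        refine ⟨W₀ ⊔ W₁, (asm_inv_of_le_fix hW₀le).sup hW₁i, hnd,
          by rw [hdim, hW₀dim, hW₁dim]; omega, ?_⟩
        rw [plusQ_sup hW₀nd hW₁nd horth (by rw [hW₀dim]; exact hm₀e) hW₁e, hW₀type]
        by_cases hA : PlusQ Q W₁ <;> by_cases hD : b <;> simp [hA, hD]

/-- EQ-ASM (4a): no isometry of order `r` is supported on a subspace of dimension `< c` -/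
theorem eq_one_of_small (hV : NdQ Q ⊤) (r : ℕ) [Fact r.Prime] (hr2 : r ≠ 2)
    (hrq : ¬ r ∣ Fintype.card F) (i c : ℕ)
    (hi : i = orderOf ((Fintype.card F : ℕ) : ZMod r)) (hc : c = if Even i then i else 2 * i)
    {C : Submodule F V} (hCc : finrank F C < c) (g : Module.End F V) (hg : IsoQ Q g)
    (hgr : g ^ r = 1) (hgC : ∀ v, (∀ u ∈ C, pol Q u v = 0) → g v = v) : g = 1 := by
  obtain ⟨hipos, hcpos, hceven⟩ := asm_c_pos (F := F) r hrq i c hi hc
  obtain ⟨-, s, hs1, -⟩ := blocksQ hg r hr2 hrq hgr i c hi hc (asm_inv_top g) hV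
  rw [top_inf_eq, finrank_top] at hs1
  have hBr : LinearMap.BilinForm.IsRefl (pol Q) := fun u v h => by rw [pol_symm Q v u]; exact h
  have hle : LinearMap.BilinForm.orthogonal (pol Q) C ≤ Fix g := by
    intro v hv
    rw [LinearMap.mem_ker, LinearMap.sub_apply, Module.End.one_apply, sub_eq_zero]
    apply hgC v
    intro u hu
    exact hv u hu
  have h1 := LinearMap.BilinForm.finrank_add_finrank_orthogonal hBr C
  have h3 : finrank F ↥(LinearMap.BilinForm.orthogonal (pol Q) C) ≤ finrank F ↥(Fix g) :=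
    Submodule.finrank_mono hle
  have hs0 : s = 0 := by
    by_contra h
    have : c ≤ s * c := Nat.le_mul_of_pos_left c (Nat.pos_of_ne_zero h)
    omega
  have hfull : finrank F ↥(Fix g) = finrank F V := by rw [hs1, hs0]; simp
  have htop : Fix g = ⊤ := Submodule.eq_top_of_finrank_eq hfull
  ext v
  have hv : v ∈ Fix g := by rw [htop]; exact Submodule.mem_top
  rw [LinearMap.mem_ker, LinearMap.sub_apply, Module.End.one_apply, sub_eq_zero] at hv
  rw [hv, Module.End.one_apply]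

theorem asm_injective {f : Module.End F V} (r : ℕ) (hr : 0 < r) (hfr : f ^ r = 1) :
    Function.Injective f := by
  have h : f ^ (r - 1) * f = 1 := by rw [← pow_succ, Nat.sub_add_cancel hr, hfr]
  intro x y hxy
  have h1 : (f ^ (r - 1) * f) x = (f ^ (r - 1) * f) y := by
    rw [Module.End.mul_apply, Module.End.mul_apply, hxy]
  rwa [h, Module.End.one_apply, Module.End.one_apply] at h1

theorem asm_isoQ_pow {f : Module.End F V} (hf : IsoQ Q f) (n : ℕ) : IsoQ Q (f ^ n) := by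
  induction n with
  | zero => intro v; rw [pow_zero, Module.End.one_apply]
  | succ n ih => intro v; rw [pow_succ, Module.End.mul_apply, ih, hf]

theorem asm_ndQ_map {f : Module.End F V} (hf : IsoQ Q f) {W : Submodule F V} (hW : NdQ Q W) :
    NdQ Q (W.map f) := by
  intro u hu h
  obtain ⟨w, hw, rfl⟩ := Submodule.mem_map.1 hu
  have hw0 : w = 0 := hW w hw (fun v hv => by
    have h1 := h (f v) (Submodule.mem_map_of_mem hv)
    rwa [hf.isom w v] at h1)
  rw [hw0, map_zero]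

theorem asm_finrank_map {f : Module.End F V} (hinj : Function.Injective f) (W : Submodule F V) :
    finrank F ↥(W.map f) = finrank F W :=
  (Submodule.equivMapOfInjective f hinj W).finrank_eq.symm

theorem asm_plusQ_map {f : Module.End F V} (hf : IsoQ Q f) (hinj : Function.Injective f)
    {W : Submodule F V} (h : PlusQ Q W) : PlusQ Q (W.map f) := by
  obtain ⟨U, hU, hts, hd⟩ := h
  refine ⟨U.map f, Submodule.map_mono hU, ?_, ?_⟩
  · intro u hu
    obtain ⟨w, hw, rfl⟩ := Submodule.mem_map.1 hu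
    rw [hf w]; exact hts w hw
  · rw [asm_finrank_map hinj U, asm_finrank_map hinj W]; exact hd

theorem asm_plusQ_map_iff {f : Module.End F V} (hf : IsoQ Q f) (r : ℕ) (hr : 0 < r)
    (hfr : f ^ r = 1) (W : Submodule F V) : PlusQ Q (W.map f) ↔ PlusQ Q W := by
  have hinj := asm_injective r hr hfr
  refine ⟨fun h => ?_, asm_plusQ_map hf hinj⟩
  have hg : IsoQ Q (f ^ (r - 1)) := asm_isoQ_pow hf _
  have hgr : (f ^ (r - 1)) ^ r = 1 := by rw [← pow_mul, mul_comm, pow_mul, hfr, one_pow]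
  have h1 := asm_plusQ_map hg (asm_injective r hr hgr) h
  have h3 : (W.map f).map (f ^ (r - 1)) = W := by
    rw [← Submodule.map_comp]
    have h4 : (f ^ (r - 1)).comp f = LinearMap.id := by
      have h : f ^ (r - 1) * f = 1 := by rw [← pow_succ, Nat.sub_add_cancel hr, hfr]
      rw [← Module.End.mul_eq_comp, h]; rfl
    rw [h4, Submodule.map_id]
  rwa [h3] at h1

/-- EQ-ASM (4)+(5): if `m < c` and the fixed space of `f` has dimension `< c`, and `f` fixes a member of the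
family of nondegenerate `m`-spaces of type `b`, then the size of the family is prime to `r`
(`f = 1` is allowed: then `dim V < c` and no isometry of order `r` exists at all). -/
theorem not_dvd_card_of_small (hV : NdQ Q ⊤) {f : Module.End F V} (hf : IsoQ Q f)
    (r : ℕ) [Fact r.Prime] (hr2 : r ≠ 2) (hrq : ¬ r ∣ Fintype.card F) (hfr : f ^ r = 1) (i c : ℕ)
    (hi : i = orderOf ((Fintype.card F : ℕ) : ZMod r)) (hc : c = if Even i then i else 2 * i)
    (m : ℕ) (hme : Even m) (h0 : 0 < m) (hmc : m < c) (hCc : finrank F ↥(Fix f) < c) (b : Prop)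
    (hfix : FixesQ Q f m b) :
    ¬ r ∣ Nat.card {W : Submodule F V // NdQ Q W ∧ finrank F W = m ∧ (PlusQ Q W ↔ b)} := by
  have hr : r.Prime := Fact.out
  obtain ⟨hipos, hcpos, hceven⟩ := asm_c_pos (F := F) r hrq i c hi hc
  have hinj := asm_injective r hr.pos hfr
  obtain ⟨hFixNd, s, hs1, -⟩ := blocksQ hf r hr2 hrq hfr i c hi hc (asm_inv_top f) hV
  rw [top_inf_eq] at hs1 hFixNd
  have hkey : ∀ W : Submodule F V, Inv f W → NdQ Q W → finrank F W = m → W ≤ Fix f := by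
    intro W hWi hWnd hWdim
    obtain ⟨-, j, hj1, -⟩ := blocksQ hf r hr2 hrq hfr i c hi hc hWi hWnd
    have hj0 : j = 0 := by
      by_contra h
      have : c ≤ j * c := Nat.le_mul_of_pos_left c (Nat.pos_of_ne_zero h)
      omega
    have hdimeq : finrank F ↥(W ⊓ Fix f) = finrank F W := by rw [hj1, hj0]; simp
    have heq : W ⊓ Fix f = W := Submodule.eq_of_le_of_finrank_eq inf_le_left hdimeq
    rw [← heq]; exact inf_le_right
  have hcong := card_modEq_fixedQ f r hfr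
    (fun W => NdQ Q W ∧ finrank F W = m ∧ (PlusQ Q W ↔ b))
    (fun W h => ⟨asm_ndQ_map hf h.1, by rw [asm_finrank_map hinj]; exact h.2.1,
      by rw [asm_plusQ_map_iff hf r hr.pos hfr]; exact h.2.2⟩)
  have hcard : Nat.card {W : Submodule F V //
        (NdQ Q W ∧ finrank F W = m ∧ (PlusQ Q W ↔ b)) ∧ Inv f W} =
      Nat.card {W : Submodule F V //
        W ≤ Fix f ∧ NdQ Q W ∧ finrank F W = m ∧ (PlusQ Q W ↔ b)} := by
    apply Nat.card_congr
    exact Equiv.subtypeEquivRight (fun W =>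
      ⟨fun h => ⟨hkey W h.2 h.1.1 h.1.2.1, h.1⟩, fun h => ⟨h.2, asm_inv_of_le_fix h.1⟩⟩)
  intro hdvd
  have h1 : r ∣ Nat.card {W : Submodule F V //
        W ≤ Fix f ∧ NdQ Q W ∧ finrank F W = m ∧ (PlusQ Q W ↔ b)} := by
    rw [← hcard]
    exact (Nat.modEq_zero_iff_dvd.1 ((hcong.symm).trans (Nat.modEq_zero_iff_dvd.2 hdvd)))
  obtain ⟨W, hWi, hWnd, hWdim, hWt⟩ := hfix
  have hWle := hkey W hWi hWnd hWdim
  have hme' : m ≤ finrank F ↥(Fix f) := by rw [← hWdim]; exact Submodule.finrank_mono hWle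
  rcases Nat.lt_or_ge m (finrank F ↥(Fix f)) with hlt | hge
  · exact not_dvd_card_typeQ hV hFixNd r
      (fun g hg hgr hgC => eq_one_of_small hV r hr2 hrq i c hi hc hCc g hg hgr hgC)
      m hme h0 hlt b h1
  · have hone : Nat.card {W : Submodule F V //
        W ≤ Fix f ∧ NdQ Q W ∧ finrank F W = m ∧ (PlusQ Q W ↔ b)} = 1 := by
      rw [Nat.card_eq_one_iff_unique]
      refine ⟨⟨?_⟩, ⟨⟨W, hWle, hWnd, hWdim, hWt⟩⟩⟩
      rintro ⟨A, hA1, -, hA3, -⟩ ⟨B, hB1, -, hB3, -⟩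
      have hA : A = Fix f := Submodule.eq_of_le_of_finrank_eq hA1 (by omega)
      have hB : B = Fix f := Submodule.eq_of_le_of_finrank_eq hB1 (by omega)
      exact Subtype.ext (hA.trans hB.symm)
    rw [hone] at h1
    exact hr.one_lt.ne' (Nat.dvd_one.1 h1)

/-- the number `s` of blocks exists -/
theorem exists_blocks_count (hV : NdQ Q ⊤) {f : Module.End F V} (hf : IsoQ Q f)
    (r : ℕ) [Fact r.Prime] (hr2 : r ≠ 2) (hrq : ¬ r ∣ Fintype.card F) (hfr : f ^ r = 1) (i c : ℕ)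
    (hi : i = orderOf ((Fintype.card F : ℕ) : ZMod r)) (hc : c = if Even i then i else 2 * i) :
    ∃ s : ℕ, finrank F V = finrank F ↥(Fix f) + s * c := by
  obtain ⟨-, s, hs1, -⟩ := blocksQ hf r hr2 hrq hfr i c hi hc (asm_inv_top f) hV
  rw [top_inf_eq, finrank_top] at hs1
  exact ⟨s, hs1⟩

end abstract

end Cfsg.Agent.Lib.Helper39.Eq
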