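import Mathlib
import Cfsg.Prelude.Def_ClassicalGeometry
import Cfsg.Prelude.Def_GeometricClasses
import Cfsg.Agent.Lib.Helper39.EqDefs

/-! # Generic bridges from the frozen vocabulary to the Eq layer (helper39)

For `Q : (ι → F) → F` the function of a quadratic form `QF` (`⇑QF = Q`): the frozen predicates
`Cfsg.Geo.IsNondegenerateOn (QuadraticMap.polar Q)`, `Cfsg.Geo.IsPlusTypeOn Q`, membership in
`Cfsg.isometryGroup F Q` / `Cfsg.Geo.omegaGL Q` and `W.map (toLin' x) ≤ W` in terms of `NdQ`, `PlusQ`,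
`IsoQ`, `Inv`, `FixesQ`.  No assumption on the characteristic or on `Q`. -/

set_option autoImplicit false

namespace Cfsg.Agent.Lib.Helper39.Eq

open Module
open Cfsg.Agent.Lib.Helper2.BG Cfsg.Agent.Lib.Helper99 Cfsg.Agent.Lib.Helper48.Ti
open Cfsg.Agent.Lib.Helper5.Hy

section bridge

variable {ι : Type} [Fintype ι] [DecidableEq ι] {F : Type*} [Field F]

theorem bridge_polar (QF : QuadraticForm F (ι → F)) (Q : (ι → F) → F) (hQ : ⇑QF = Q)
    (u v : ι → F) : QuadraticMap.polar Q u v = pol QF u v := by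
  rw [pol_apply, ← hQ]

theorem bridge_nd (QF : QuadraticForm F (ι → F)) (Q : (ι → F) → F) (hQ : ⇑QF = Q)
    (W : Submodule F (ι → F)) :
    Cfsg.Geo.IsNondegenerateOn (QuadraticMap.polar Q) W ↔ NdQ QF W := by
  constructor
  · intro h u hu hall
    by_contra hne
    obtain ⟨-, x, hx, hx0⟩ := h u hu hne
    apply hx0
    rw [bridge_polar QF Q hQ]
    exact hall x hx
  · intro h w hw hne
    have h1 : ¬ ∀ v ∈ W, pol QF w v = 0 := fun hall => hne (h w hw hall)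
    push Not at h1
    obtain ⟨x, hx, hx0⟩ := h1
    refine ⟨⟨x, hx, ?_⟩, ⟨x, hx, ?_⟩⟩
    · rw [bridge_polar QF Q hQ, pol_symm]; exact hx0
    · rw [bridge_polar QF Q hQ]; exact hx0

theorem bridge_plus (QF : QuadraticForm F (ι → F)) (Q : (ι → F) → F) (hQ : ⇑QF = Q)
    (W : Submodule F (ι → F)) : Cfsg.Geo.IsPlusTypeOn Q W ↔ PlusQ QF W := by
  constructor
  · rintro ⟨U, hU, hts, hd⟩
    exact ⟨U, hU, fun u hu => by rw [hQ]; exact hts u hu, hd⟩
  · rintro ⟨U, hU, hts, hd⟩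
    exact ⟨U, hU, fun u hu => by rw [← hQ]; exact hts u hu, hd⟩

theorem bridge_inv (x : GL ι F) (W : Submodule F (ι → F)) :
    W.map (Matrix.toLin' (x : Matrix ι ι F)) ≤ W ↔ Inv (Matrix.toLin' (x : Matrix ι ι F)) W := by
  rw [Submodule.map_le_iff_le_comap]
  exact Iff.rfl

theorem bridge_iso (QF : QuadraticForm F (ι → F)) (Q : (ι → F) → F) (hQ : ⇑QF = Q) (x : GL ι F)
    (hx : x ∈ Cfsg.isometryGroup F Q) : IsoQ QF (Matrix.toLin' (x : Matrix ι ι F)) := by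
  intro v
  have h := hx v v
  rw [Matrix.toLin'_apply, hQ]
  exact h

theorem bridge_iso_iff (QF : QuadraticForm F (ι → F)) (Q : (ι → F) → F) (hQ : ⇑QF = Q) (x : GL ι F) :
    x ∈ Cfsg.isometryGroup F Q ↔ IsoQ QF (Matrix.toLin' (x : Matrix ι ι F)) := by
  refine ⟨bridge_iso QF Q hQ x, fun h u _ => ?_⟩
  have h1 := h u
  rw [Matrix.toLin'_apply, hQ] at h1
  exact h1

theorem bridge_omega (QF : QuadraticForm F (ι → F)) (Q : (ι → F) → F) (hQ : ⇑QF = Q) (x : GL ι F)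
    (hx : x ∈ Cfsg.Geo.omegaGL Q) : IsoQ QF (Matrix.toLin' (x : Matrix ι ι F)) := by
  obtain ⟨y, -, rfl⟩ := hx
  exact bridge_iso QF Q hQ _ y.2

/-- the frozen "fixes a nondegenerate `m`-space of plus type" -/
theorem bridge_fixes_plus (QF : QuadraticForm F (ι → F)) (Q : (ι → F) → F) (hQ : ⇑QF = Q)
    (x : GL ι F) (m : ℕ) :
    (∃ W : Submodule F (ι → F), (finrank F ↥W = m ∧
        Cfsg.Geo.IsNondegenerateOn (QuadraticMap.polar Q) W ∧ Cfsg.Geo.IsPlusTypeOn Q W) ∧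
        W.map (Matrix.toLin' (x : Matrix ι ι F)) ≤ W) ↔
      FixesQ QF (Matrix.toLin' (x : Matrix ι ι F)) m True := by
  constructor
  · rintro ⟨W, ⟨h1, h3, h4⟩, h5⟩
    exact ⟨W, (bridge_inv x W).1 h5, (bridge_nd QF Q hQ W).1 h3, h1,
      iff_true_intro ((bridge_plus QF Q hQ W).1 h4)⟩
  · rintro ⟨W, h1, h3, h4, h5⟩
    exact ⟨W, ⟨h4, (bridge_nd QF Q hQ W).2 h3, (bridge_plus QF Q hQ W).2 (h5.2 trivial)⟩,
      (bridge_inv x W).2 h1⟩

/-- the frozen "fixes a nondegenerate `m`-space of minus type" -/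
theorem bridge_fixes_minus (QF : QuadraticForm F (ι → F)) (Q : (ι → F) → F) (hQ : ⇑QF = Q)
    (x : GL ι F) (m : ℕ) :
    (∃ W : Submodule F (ι → F), (finrank F ↥W = m ∧
        Cfsg.Geo.IsNondegenerateOn (QuadraticMap.polar Q) W ∧ ¬ Cfsg.Geo.IsPlusTypeOn Q W) ∧
        W.map (Matrix.toLin' (x : Matrix ι ι F)) ≤ W) ↔
      FixesQ QF (Matrix.toLin' (x : Matrix ι ι F)) m False := by
  constructor
  · rintro ⟨W, ⟨h1, h3, h4⟩, h5⟩
    exact ⟨W, (bridge_inv x W).1 h5, (bridge_nd QF Q hQ W).1 h3, h1,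
      iff_false_intro (fun h => h4 ((bridge_plus QF Q hQ W).2 h))⟩
  · rintro ⟨W, h1, h3, h4, h5⟩
    exact ⟨W, ⟨h4, (bridge_nd QF Q hQ W).2 h3, fun h => h5.1 ((bridge_plus QF Q hQ W).1 h)⟩,
      (bridge_inv x W).2 h1⟩

/-- the frozen family of plus type in the Eq vocabulary -/
theorem bridge_card_plus (QF : QuadraticForm F (ι → F)) (Q : (ι → F) → F) (hQ : ⇑QF = Q) (m : ℕ) :
    Nat.card {W : Submodule F (ι → F) // finrank F ↥W = m ∧
        Cfsg.Geo.IsNondegenerateOn (QuadraticMap.polar Q) W ∧ Cfsg.Geo.IsPlusTypeOn Q W} =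
      Nat.card {W : Submodule F (ι → F) // NdQ QF W ∧ finrank F W = m ∧ (PlusQ QF W ↔ True)} := by
  apply Nat.card_congr
  exact Equiv.subtypeEquivRight (fun W =>
    ⟨fun h => ⟨(bridge_nd QF Q hQ W).1 h.2.1, h.1, iff_true_intro ((bridge_plus QF Q hQ W).1 h.2.2)⟩,
      fun h => ⟨h.2.1, (bridge_nd QF Q hQ W).2 h.1, (bridge_plus QF Q hQ W).2 (h.2.2.2 trivial)⟩⟩)

/-- the frozen family of minus type in the Eq vocabulary -/
theorem bridge_card_minus (QF : QuadraticForm F (ι → F)) (Q : (ι → F) → F) (hQ : ⇑QF = Q) (m : ℕ) :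
    Nat.card {W : Submodule F (ι → F) // finrank F ↥W = m ∧
        Cfsg.Geo.IsNondegenerateOn (QuadraticMap.polar Q) W ∧ ¬ Cfsg.Geo.IsPlusTypeOn Q W} =
      Nat.card {W : Submodule F (ι → F) // NdQ QF W ∧ finrank F W = m ∧ (PlusQ QF W ↔ False)} := by
  apply Nat.card_congr
  exact Equiv.subtypeEquivRight (fun W =>
    ⟨fun h => ⟨(bridge_nd QF Q hQ W).1 h.2.1, h.1,
        iff_false_intro (fun h' => h.2.2 ((bridge_plus QF Q hQ W).2 h'))⟩,
      fun h => ⟨h.2.1, (bridge_nd QF Q hQ W).2 h.1,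
        fun h' => h.2.2.1 ((bridge_plus QF Q hQ W).1 h')⟩⟩)

/-- `toLin'` of an element with `x ^ r = 1` -/
theorem bridge_pow (x : GL ι F) (r : ℕ) (hx : x ^ r = 1) :
    (Matrix.toLin' (x : Matrix ι ι F)) ^ r = 1 := by
  have h1 : ((x ^ r : GL ι F) : Matrix ι ι F) = 1 := by rw [hx]; rfl
  rw [Units.val_pow_eq_pow_val] at h1
  have h3 : (Matrix.toLin' (x : Matrix ι ι F)) ^ r =
      (Matrix.toLinAlgEquiv' (x : Matrix ι ι F)) ^ r := rfl
  rw [h3, ← map_pow, h1, map_one]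

/-- `toLin' x = 1` iff `x = 1` -/
theorem bridge_ne_one (x : GL ι F) (hx : x ≠ 1) : Matrix.toLin' (x : Matrix ι ι F) ≠ 1 := by
  intro h
  apply hx
  apply Units.ext
  have h1 : Matrix.toLinAlgEquiv' (x : Matrix ι ι F) = Matrix.toLinAlgEquiv' 1 := by
    rw [map_one]; exact h
  exact Matrix.toLinAlgEquiv'.injective h1

end bridge

end Cfsg.Agent.Lib.Helper39.Eq
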