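import Cfsg.Agent.Lib.Helper39.EqMain
import Cfsg.Agent.Lib.Helper39.EqBridge
import Cfsg.Agent.Lib.Helper23.TqSCAL
import Cfsg.Agent.Lib.Helper59.TqOMEGA

/-! # Generic even-dimensional orthogonal layer (A): the frozen form of `odd_main` (helper39)

For `Q : (ι → F) → F` with `Tq.Std Q d` (the function of a nondegenerate quadratic form `QF` on `ι → F`,
`card ι = 2 d`), `d ≥ 3`, `r` an odd prime `≠ p`: the condition of the frozen statements S5974 / S5988 /
S5990 "every `x ∈ Ω` with `x ^ r` scalar, `x` not scalar, fixes a member" in terms of `Gd`. -/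

set_option autoImplicit false

namespace Cfsg.Agent.Lib.Helper39.Eq

open Module Matrix
open Cfsg.Agent.Lib.Helper2.BG Cfsg.Agent.Lib.Helper99 Cfsg.Agent.Lib.Helper48.Ti
open Cfsg.Agent.Lib.Helper5.Hy Cfsg.Agent.Lib.Helper59.Tq

section frozen

variable {ι : Type} [Fintype ι] [DecidableEq ι] {F : Type*} [Field F] [Fintype F]

theorem frz_not_dvd_card {p : ℕ} [Fact p.Prime] [CharP F p] (r : ℕ) [Fact r.Prime] (hrp : r ≠ p) :
    ¬ r ∣ Fintype.card F := by
  obtain ⟨n, hp, hn⟩ := FiniteField.card F p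
  rw [hn]
  intro h
  have hr : r.Prime := Fact.out
  have h1 := hr.dvd_of_dvd_pow h
  exact hrp ((Nat.prime_dvd_prime_iff_eq hr hp).1 h1)

theorem frz_ndQ_top (QF : QuadraticForm F (ι → F))
    (hnd : (QuadraticMap.polarBilin QF).Nondegenerate) : NdQ QF ⊤ := by
  intro u _ hu
  exact hnd.1 u (fun v => hu v Submodule.mem_top)

theorem frz_finrank (d : ℕ) (hcard : Fintype.card ι = 2 * d) : finrank F (ι → F) = 2 * d := by
  rw [Module.finrank_pi, hcard]

/-- an endomorphism of finite order as an element of `GL` -/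
theorem frz_exists_GL (f : Module.End F (ι → F)) (r : ℕ) (hr : 0 < r) (hfr : f ^ r = 1) :
    ∃ x : GL ι F, Matrix.toLin' (x : Matrix ι ι F) = f ∧ x ^ r = 1 := by
  set M : Matrix ι ι F := LinearMap.toMatrix' f with hM
  have hMr : M ^ r = 1 := by
    have h1 : M = LinearMap.toMatrixAlgEquiv' f := rfl
    rw [h1, ← map_pow, hfr, map_one]
  have h1 : M * M ^ (r - 1) = 1 := by rw [← pow_succ', Nat.sub_add_cancel hr, hMr]
  have h3 : M ^ (r - 1) * M = 1 := by rw [← pow_succ, Nat.sub_add_cancel hr, hMr]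
  refine ⟨⟨M, M ^ (r - 1), h1, h3⟩, ?_, ?_⟩
  · show Matrix.toLin' M = f
    rw [hM, Matrix.toLin'_toMatrix']
  · apply Units.ext
    rw [Units.val_pow_eq_pow_val]
    exact hMr

theorem frz_scalar_mulVec (z : F) (v : ι → F) : (z • (1 : Matrix ι ι F)) *ᵥ v = z • v := by
  rw [Matrix.smul_mulVec, Matrix.one_mulVec]

/-- the scalar reduction: `x ^ r = z • 1` with `x` a nonscalar isometry, `r` odd: `y = z • x` has
`y ^ r = 1`, `y ≠ 1` and the same invariant subspaces -/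
theorem frz_exists_pm (Q : (ι → F) → F) (d : ℕ) (hd : 1 ≤ d) (hS : Std Q d) (r : ℕ) (hr : Odd r)
    (x : GL ι F) (hx : x ∈ Cfsg.isometryGroup F Q)
    (hxr : ∃ z : F, ((x ^ r : GL ι F) : Matrix ι ι F) = z • 1)
    (hns : ∀ z : F, (x : Matrix ι ι F) ≠ z • (1 : Matrix ι ι F)) :
    ∃ y : GL ι F, y ∈ Cfsg.isometryGroup F Q ∧ y ^ r = 1 ∧ y ≠ 1 ∧
      ∀ W : Submodule F (ι → F), Inv (Matrix.toLin' (y : Matrix ι ι F)) W ↔
        Inv (Matrix.toLin' (x : Matrix ι ι F)) W := by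
  obtain ⟨z, hz⟩ := hxr
  have hzz : z * z = 1 := scalar_sq_eq_one Q d hd hS (x ^ r) (Subgroup.pow_mem _ hx r) z hz
  have hz0 : z ≠ 0 := by
    intro h; rw [h, zero_mul] at hzz; exact zero_ne_one hzz
  obtain ⟨QF, hQF, -⟩ := hS.exists_form
  have huu : (z • (1 : Matrix ι ι F)) * (z • (1 : Matrix ι ι F)) = 1 := by
    rw [Matrix.smul_mul, Matrix.mul_smul, Matrix.one_mul, smul_smul, hzz, one_smul]
  set u : GL ι F := ⟨z • 1, z • 1, huu, huu⟩ with hu
  have hu_mem : u ∈ Cfsg.isometryGroup F Q := by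
    intro v _
    show Q ((z • (1 : Matrix ι ι F)) *ᵥ v) = Q v
    rw [frz_scalar_mulVec, ← hQF, QuadraticMap.map_smul, smul_eq_mul, hzz, one_mul]
  have hyval : ((u * x : GL ι F) : Matrix ι ι F) = z • (x : Matrix ι ι F) := by
    show (z • (1 : Matrix ι ι F)) * (x : Matrix ι ι F) = _
    rw [Matrix.smul_mul, Matrix.one_mul]
  have hzr : z ^ (r + 1) = 1 := by
    obtain ⟨k, hk⟩ := hr
    have : r + 1 = 2 * (k + 1) := by omega
    rw [this, pow_mul, pow_two, hzz, one_pow]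
  refine ⟨u * x, Subgroup.mul_mem _ hu_mem hx, ?_, ?_, ?_⟩
  · apply Units.ext
    rw [Units.val_pow_eq_pow_val, hyval, smul_pow, ← Units.val_pow_eq_pow_val, hz, smul_smul,
      ← pow_succ, hzr, one_smul]
    rfl
  · intro h
    have h1 : z • (x : Matrix ι ι F) = 1 := by rw [← hyval, h]; rfl
    apply hns z
    have h3 : z • (z • (x : Matrix ι ι F)) = z • (1 : Matrix ι ι F) := by rw [h1]
    rwa [smul_smul, hzz, one_smul] at h3
  · intro W
    have h1 : Matrix.toLin' ((u * x : GL ι F) : Matrix ι ι F) =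
        z • Matrix.toLin' (x : Matrix ι ι F) := by
      rw [hyval, map_smul]
    rw [h1]
    constructor
    · intro h v hv
      have h3 := h v hv
      rw [LinearMap.smul_apply] at h3
      exact (W.smul_mem_iff hz0).1 h3
    · intro h v hv
      rw [LinearMap.smul_apply]
      exact W.smul_mem z (h v hv)

/-- EQ-FROZEN: the `r` odd, `r ≠ p` part of S5974 / S5988 / S5990 in the Eq vocabulary.
`b = True`: members of plus type, `b = False`: members of minus type (use `bridge_fixes_plus/minus`,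
`bridge_card_plus/minus` to pass to the frozen text). -/
theorem odd_frozen {p : ℕ} [Fact p.Prime] [CharP F p] (Q : (ι → F) → F) (d : ℕ) (hd : 3 ≤ d)
    (hS : Std Q d) (QF : QuadraticForm F (ι → F)) (hQF : ⇑QF = Q)
    (hnd : (QuadraticMap.polarBilin QF).Nondegenerate)
    (r : ℕ) [Fact r.Prime] (hr2 : r ≠ 2) (hrp : r ≠ p) (i c : ℕ)
    (hi : i = orderOf ((Fintype.card F : ℕ) : ZMod r)) (hc : c = if Even i then i else 2 * i)
    (m : ℕ) (hme : Even m) (h0 : 0 < m) (hmn : m < 2 * d) (b : Prop)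
    (hrΩ : r ∣ Nat.card {W : Submodule F (ι → F) // NdQ QF W ∧ finrank F W = m ∧ (PlusQ QF W ↔ b)})
    (htest : c ≤ 2 * d → ((2 * d) % c = 0 → (PlusQ QF ⊤ ↔ tpl i (2 * d / c))) →
      ∃ x : GL ι F, x ∈ Cfsg.isometryGroup F Q ∧ x ^ r = 1 ∧
        finrank F ↥(Fix (Matrix.toLin' (x : Matrix ι ι F))) = (2 * d) % c) :
    (∀ x : GL ι F, x ∈ Cfsg.Geo.omegaGL Q →
      (∃ z : F, ((x ^ r : GL ι F) : Matrix ι ι F) = z • (1 : Matrix ι ι F)) →
      (∀ z : F, (x : Matrix ι ι F) ≠ z • (1 : Matrix ι ι F)) →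
      FixesQ QF (Matrix.toLin' (x : Matrix ι ι F)) m b) ↔
    (((2 * d) % c = 0 → (PlusQ QF ⊤ ↔ tpl i (2 * d / c))) →
      Gd (PlusQ QF ⊤) b (2 * d) m i c (2 * d / c) ∧ (c ≤ m ∨ (2 * d) % c = 0)) := by
  have hr : r.Prime := Fact.out
  have hrodd : Odd r := hr.odd_of_ne_two hr2
  have hrq := frz_not_dvd_card (F := F) r hrp
  have hV := frz_ndQ_top QF hnd
  have hfr := frz_finrank (F := F) d hS.card
  have hne : Even (finrank F (ι → F)) := by rw [hfr]; exact even_two_mul d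
  have hmain := odd_main (Q := QF) hV hne r hr2 hrq i c hi hc m hme h0 (by rw [hfr]; exact hmn) b hrΩ
    (by
      rw [hfr]
      intro h1 h3
      obtain ⟨x, hx, hxr, hxd⟩ := htest h1 h3
      exact ⟨Matrix.toLin' (x : Matrix ι ι F), bridge_iso QF Q hQF x hx, bridge_pow x r hxr, hxd⟩)
  rw [hfr] at hmain
  rw [← hmain]
  constructor
  · intro hall f hf hfr' hf1
    obtain ⟨x, hxf, hxr⟩ := frz_exists_GL f r hr.pos hfr'
    have hx : x ∈ Cfsg.isometryGroup F Q := by
      rw [bridge_iso_iff QF Q hQF, hxf]; exact hf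
    have hx1 : x ≠ 1 := by
      intro h
      apply hf1
      rw [← hxf, h]
      show Matrix.toLin' (1 : Matrix ι ι F) = 1
      exact Matrix.toLin'_one
    have hxΩ := mem_omegaGL_of_odd Q d hd hS x hx r hrodd hxr
    have hns := nonScalar_of_pow_eq_one Q d (by omega) hS r hrodd x hx hxr hx1
    have h1 := hall x hxΩ ⟨1, by rw [hxr, one_smul]; rfl⟩ hns
    rwa [hxf] at h1
  · intro hall x hxΩ hxr hns
    have hx : x ∈ Cfsg.isometryGroup F Q := omegaGL_le Q hxΩ
    obtain ⟨y, hy, hyr, hy1, hyW⟩ := frz_exists_pm Q d (by omega) hS r hrodd x hx hxr hns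
    obtain ⟨W, h1, h3, h4, h5⟩ := hall (Matrix.toLin' (y : Matrix ι ι F))
      (bridge_iso QF Q hQF y hy) (bridge_pow y r hyr) (bridge_ne_one y hy1)
    exact ⟨W, (hyW W).1 h1, h3, h4, h5⟩

end frozen

end Cfsg.Agent.Lib.Helper39.Eq
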