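import Cfsg.Agent.Lib.Helper39.EqDefs
import Cfsg.Agent.Lib.Helper65.QeLayer

/-! # Eq generic layer: EQ-T1 and EQ-T5 as wrappers of helper65's all-`q` glue layer (helper39) -/

set_option autoImplicit false

namespace Cfsg.Agent.Lib.Helper39.Eq

open Module
open Cfsg.Agent.Lib.Helper2.BG Cfsg.Agent.Lib.Helper99 Cfsg.Agent.Lib.Helper48.Ti
open Cfsg.Agent.Lib.Helper5.Hy

section abstract

variable {F V : Type*} [Field F] [Fintype F] [AddCommGroup V] [Module F V] [FiniteDimensional F V]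
variable {Q : QuadraticForm F V}

/-- EQ-T1: the type of an orthogonal sum is the product of the types (all `q`) -/
theorem plusQ_sup {W₀ W₁ : Submodule F V} (h₀ : NdQ Q W₀) (h₁ : NdQ Q W₁) (ho : OrthQ Q W₀ W₁)
    (he₀ : Even (finrank F W₀)) (he₁ : Even (finrank F W₁)) :
    PlusQ Q (W₀ ⊔ W₁) ↔ (PlusQ Q W₀ ↔ PlusQ Q W₁) :=
  Cfsg.Agent.Lib.Helper65.Qe.plusQ_sup h₀ h₁ ho he₀ he₁

/-- EQ-T5: Witt transitivity + Cauchy (all `q`) -/
theorem not_dvd_card_typeQ (hV : NdQ Q ⊤) {C : Submodule F V} (hC : NdQ Q C) (r : ℕ)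
    [Fact r.Prime]
    (hno : ∀ g : Module.End F V, IsoQ Q g → g ^ r = 1 →
      (∀ v, (∀ u ∈ C, pol Q u v = 0) → g v = v) → g = 1)
    (m : ℕ) (hme : Even m) (h0 : 0 < m) (hlt : m < finrank F C) (b : Prop) :
    ¬ r ∣ Nat.card {W : Submodule F V // W ≤ C ∧ NdQ Q W ∧ finrank F W = m ∧ (PlusQ Q W ↔ b)} :=
  Cfsg.Agent.Lib.Helper65.Qe.not_dvd_card_typeQ hV hC r hno m hme h0 hlt b

end abstract

end Cfsg.Agent.Lib.Helper39.Eq
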