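import Cfsg.Agent.Lib.Helper39.EqAsm

/-! # Generic even-dimensional orthogonal layer (A): the main theorem for `r` odd, `r ≠ p` (helper39)

`odd_main`: every isometry `f ≠ 1` with `f ^ r = 1` fixes a nondegenerate `m`-space of type `b` iff the
isometry with the largest possible number `n / c` of blocks (if it exists) does, plus `c ≤ m ∨ c ∣ n`.
All of it in terms of `Gd`, a statement about natural numbers and the two types. -/

set_option autoImplicit false

namespace Cfsg.Agent.Lib.Helper39.Eq

open Module
open Cfsg.Agent.Lib.Helper2.BG Cfsg.Agent.Lib.Helper99 Cfsg.Agent.Lib.Helper48.Ti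
open Cfsg.Agent.Lib.Helper5.Hy

/-- the combinatorial goodness of an isometry with `s` blocks on a space of dimension `n` and type `ε`,
for the family of nondegenerate `m`-spaces of type `b` -/
def Gd (ε b : Prop) (n m i c s : ℕ) : Prop :=
  ∃ j, j ≤ s ∧ j * c ≤ m ∧ m - j * c ≤ n - s * c ∧ (m = j * c → (b ↔ tpl i j)) ∧
    (m - j * c = n - s * c → ((b ↔ tpl i j) ↔ (ε ↔ tpl i s)))

theorem tpl_pred (i j : ℕ) (hj : 1 ≤ j) (hi : ¬ Odd i) : tpl i (j - 1) ↔ ¬ tpl i j := by
  unfold tpl
  have h1 : Even (j - 1) ↔ ¬ Even j := by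
    rw [Nat.even_iff, Nat.even_iff]; omega
  constructor
  · rintro (h | h)
    · exact absurd h hi
    · rintro (h' | h')
      · exact hi h'
      · exact (h1.1 h) h'
  · intro h
    right
    rw [h1]
    intro h'
    exact h (Or.inr h')

/-- an isometry with fewer than the maximal number of blocks is good as soon as the one with the maximal
number is (when that one exists) -/
theorem gd_of_lt (ε b : Prop) (n m i c s : ℕ) (hc : 0 < c) (hm0 : 0 < m) (hmn : m < n)
    (hs1 : 1 ≤ s) (hs : s < n / c)
    (hmax : (n % c = 0 → (ε ↔ tpl i (n / c))) → Gd ε b n m i c (n / c)) :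
    Gd ε b n m i c s := by
  have hn := Nat.div_add_mod n c
  have hm := Nat.div_add_mod m c
  have hkc : n % c < c := Nat.mod_lt _ hc
  have hlc : m % c < c := Nat.mod_lt _ hc
  set M := n / c with hM
  set m' := m / c with hm'
  have hsc : (s + 1) * c ≤ M * c := Nat.mul_le_mul_right c hs
  have hMc : M * c = c * M := Nat.mul_comm _ _
  have hm'c : m' * c = c * m' := Nat.mul_comm _ _
  have hs1c : (s + 1) * c = s * c + c := by ring
  by_cases hl : m % c = 0
  · -- m = m' * c
    have hm'1 : 1 ≤ m' := by
      rcases Nat.eq_zero_or_pos m' with h | h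
      · rw [h] at hm; omega
      · exact h
    have hmm : m = m' * c := by omega
    by_cases hsm : s + 1 < m'
    · -- j = s
      have h1 : (s + 1) * c < m' * c := Nat.mul_lt_mul_of_pos_right hsm hc
      refine ⟨s, le_rfl, by omega, by omega, ?_, ?_⟩
      · intro h; omega
      · intro h; omega
    · have hm's : m' ≤ s + 1 := by omega
      have hpred : (m' - 1) * c + c = m' * c := by
        have : m' - 1 + 1 = m' := by omega
        calc (m' - 1) * c + c = (m' - 1 + 1) * c := by ring
          _ = m' * c := by rw [this]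
      by_cases he : c < n - s * c
      · -- j = m' - 1
        refine ⟨m' - 1, by omega, by omega, by omega, ?_, ?_⟩
        · intro h; omega
        · intro h; omega
      · -- e = c: n = (s + 1) * c
        have hnc : n = (s + 1) * c := by omega
        have hk0 : n % c = 0 := by rw [hnc]; exact Nat.mul_mod_left _ _
        have hMs : M = s + 1 := by
          have h1 : M * c = (s + 1) * c := by omega
          exact Nat.eq_of_mul_eq_mul_right hc h1
        have hm'M : m' < M := by
          by_contra h
          have h1 : M * c ≤ m' * c := Nat.mul_le_mul_right c (by omega)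
          omega
        have hm's' : m' ≤ s := by omega
        by_cases hv : (ε ↔ tpl i M)
        · obtain ⟨j₀, hj₀M, hj₀m, hj₀e, hj₀0, -⟩ := hmax (fun _ => hv)
          have hj₀ : m = j₀ * c := by omega
          have hjm' : j₀ = m' := Nat.eq_of_mul_eq_mul_right hc (by omega)
          have hb := hj₀0 hj₀
          rw [hjm'] at hb
          refine ⟨m', hm's', by omega, by omega, fun _ => hb, ?_⟩
          intro h; omega
        · by_cases hb : (b ↔ tpl i m')
          · refine ⟨m', hm's', by omega, by omega, fun _ => hb, ?_⟩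
            intro h; omega
          · refine ⟨m' - 1, by omega, by omega, by omega, ?_, ?_⟩
            · intro h; omega
            · intro _
              have hsM : s = M - 1 := by omega
              by_cases hi : Odd i
              · have t1 : tpl i (m' - 1) := Or.inl hi
                have t2 : tpl i m' := Or.inl hi
                have t3 : tpl i s := Or.inl hi
                have t4 : tpl i M := Or.inl hi
                simp only [t1, t2, t3, t4, iff_true] at hb hv ⊢
                exact ⟨fun h => absurd h hb, fun h => absurd h hv⟩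
              · rw [hsM, tpl_pred i m' hm'1 hi, tpl_pred i M (by omega) hi]
                by_cases hA : b <;> by_cases hB : tpl i m' <;> by_cases hC : ε <;>
                  by_cases hD : tpl i M <;> simp [hA, hB, hC, hD] at hb hv ⊢
  · -- m % c > 0
    by_cases hsm : m' ≤ s
    · refine ⟨m', hsm, by omega, by omega, ?_, ?_⟩
      · intro h
        exfalso; apply hl
        rw [h]; exact Nat.mul_mod_left _ _
      · intro h; omega
    · have h1 : s * c ≤ m' * c := Nat.mul_le_mul_right c (by omega)
      refine ⟨s, le_rfl, by omega, by omega, ?_, ?_⟩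
      · intro h
        exfalso; apply hl
        rw [h]; exact Nat.mul_mod_left _ _
      · intro h; omega

section abstract

variable {F V : Type*} [Field F] [Fintype F] [AddCommGroup V] [Module F V] [FiniteDimensional F V]
variable {Q : QuadraticForm F V}

theorem asm_fix_one : Fix (1 : Module.End F V) = ⊤ := by
  show LinearMap.ker ((1 : Module.End F V) - 1) = ⊤
  rw [sub_self]
  exact LinearMap.ker_zero

theorem asm_isoQ_one : IsoQ Q (1 : Module.End F V) := fun _ => rfl

/-- `r ∣ #family` forces `c ≤ dim V` -/
theorem c_le_of_dvd (hV : NdQ Q ⊤) (r : ℕ) [Fact r.Prime] (hr2 : r ≠ 2)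
    (hrq : ¬ r ∣ Fintype.card F) (i c : ℕ)
    (hi : i = orderOf ((Fintype.card F : ℕ) : ZMod r)) (hc : c = if Even i then i else 2 * i)
    (m : ℕ) (hme : Even m) (h0 : 0 < m) (hmn : m < finrank F V) (b : Prop)
    (hrΩ : r ∣ Nat.card {W : Submodule F V // NdQ Q W ∧ finrank F W = m ∧ (PlusQ Q W ↔ b)}) :
    c ≤ finrank F V := by
  by_contra hlt
  have hlt' : finrank F V < c := by omega
  obtain ⟨W₀, -, hW₀nd, hW₀dim, hW₀t⟩ :=
    exists_ndQ_of_type hV m hme h0 (by rw [finrank_top]; exact hmn) b
  have hfix : FixesQ Q (1 : Module.End F V) m b :=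
    ⟨W₀, fun v hv => by rw [Module.End.one_apply]; exact hv, hW₀nd, hW₀dim, hW₀t⟩
  exact not_dvd_card_of_small hV asm_isoQ_one r hr2 hrq (one_pow r) i c hi hc m hme h0
    (by omega) (by rw [asm_fix_one, finrank_top]; exact hlt') b hfix hrΩ

/-- EQ-MAIN: the main theorem for `r` odd, `r ≠ p` -/
theorem odd_main (hV : NdQ Q ⊤) (hne : Even (finrank F V)) (r : ℕ) [Fact r.Prime] (hr2 : r ≠ 2)
    (hrq : ¬ r ∣ Fintype.card F) (i c : ℕ)
    (hi : i = orderOf ((Fintype.card F : ℕ) : ZMod r)) (hc : c = if Even i then i else 2 * i)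
    (m : ℕ) (hme : Even m) (h0 : 0 < m) (hmn : m < finrank F V) (b : Prop)
    (hrΩ : r ∣ Nat.card {W : Submodule F V // NdQ Q W ∧ finrank F W = m ∧ (PlusQ Q W ↔ b)})
    (htest : c ≤ finrank F V →
      (finrank F V % c = 0 → (PlusQ Q ⊤ ↔ tpl i (finrank F V / c))) →
      ∃ f : Module.End F V, IsoQ Q f ∧ f ^ r = 1 ∧ finrank F ↥(Fix f) = finrank F V % c) :
    (∀ f : Module.End F V, IsoQ Q f → f ^ r = 1 → f ≠ 1 → FixesQ Q f m b) ↔
      ((finrank F V % c = 0 → (PlusQ Q ⊤ ↔ tpl i (finrank F V / c))) →
        Gd (PlusQ Q ⊤) b (finrank F V) m i c (finrank F V / c) ∧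
          (c ≤ m ∨ finrank F V % c = 0)) := by
  obtain ⟨hipos, hcpos, hceven⟩ := asm_c_pos (F := F) r hrq i c hi hc
  have hcn := c_le_of_dvd hV r hr2 hrq i c hi hc m hme h0 hmn b hrΩ
  set n := finrank F V with hn
  have hdm := Nat.div_add_mod n c
  have hMc : n / c * c = c * (n / c) := Nat.mul_comm _ _
  have hkc : n % c < c := Nat.mod_lt _ hcpos
  constructor
  · intro hall hval
    obtain ⟨f₀, hf₀, hf₀r, hf₀d⟩ := htest hcn hval
    have hf₀1 : f₀ ≠ 1 := by
      intro h
      rw [h, asm_fix_one, finrank_top] at hf₀d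
      have : n % c ≤ n - c := by
        have h1 : c * 1 ≤ c * (n / c) :=
          Nat.mul_le_mul_left c (Nat.div_pos hcn hcpos)
        omega
      omega
    have hfx := hall f₀ hf₀ hf₀r hf₀1
    have hs : finrank F V = finrank F ↥(Fix f₀) + n / c * c := by rw [hf₀d]; omega
    refine ⟨?_, ?_⟩
    · obtain ⟨j, h1, h3, h4, h5, h6⟩ :=
        (fixes_iff hV hne hf₀ r hr2 hrq hf₀r i c hi hc (n / c) hs m hme b).1 hfx
      rw [hf₀d] at h4 h6
      have he : n - n / c * c = n % c := by omega
      exact ⟨j, h1, h3, by rw [he]; exact h4, h5, by rw [he]; exact h6⟩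
    · by_contra hcon
      push Not at hcon
      exact not_dvd_card_of_small hV hf₀ r hr2 hrq hf₀r i c hi hc m hme h0 hcon.1
        (by rw [hf₀d]; exact hkc) b hfx hrΩ
  · intro hcomb f hf hfr hf1
    obtain ⟨s, hs⟩ := exists_blocks_count hV hf r hr2 hrq hfr i c hi hc
    have hs1 : 1 ≤ s := by
      rcases Nat.eq_zero_or_pos s with h | h
      · exfalso
        apply hf1
        rw [h, zero_mul, add_zero] at hs
        have htop : Fix f = ⊤ := Submodule.eq_top_of_finrank_eq hs.symm
        ext v
        have hv : v ∈ Fix f := by rw [htop]; exact Submodule.mem_top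
        rw [LinearMap.mem_ker, LinearMap.sub_apply, Module.End.one_apply, sub_eq_zero] at hv
        rw [hv, Module.End.one_apply]
      · exact h
    have hsn : s * c ≤ n := by omega
    have hsM : s ≤ n / c := (Nat.le_div_iff_mul_le hcpos).2 hsn
    have hfe : n - s * c = finrank F ↥(Fix f) := by omega
    have hgd : Gd (PlusQ Q ⊤) b n m i c s := by
      rcases Nat.lt_or_ge s (n / c) with hlt | hge
      · exact gd_of_lt _ _ n m i c s hcpos h0 hmn hs1 hlt (fun hv => (hcomb hv).1)
      · have hsM' : s = n / c := le_antisymm hsM hge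
        have hval : n % c = 0 → (PlusQ Q ⊤ ↔ tpl i (n / c)) := by
          intro hk
          have hbot : Fix f = ⊥ := by
            apply Submodule.finrank_eq_zero.1
            rw [← hfe, hsM']; omega
          have h1 := type_fix hV hne hf r hr2 hrq hfr i c hi hc s hs
          rw [hbot] at h1
          rw [← hsM']
          exact h1.1 (plusQ_bot Q)
        rw [hsM']
        exact (hcomb hval).1
    obtain ⟨j, h1, h3, h4, h5, h6⟩ := hgd
    rw [hfe] at h4 h6
    exact (fixes_iff hV hne hf r hr2 hrq hfr i c hi hc s hs m hme b).2 ⟨j, h1, h3, h4, h5, h6⟩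

end abstract

end Cfsg.Agent.Lib.Helper39.Eq
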