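import Cfsg.Agent.Lib.Helper6.FH.BDefs
import Cfsg.Agent.Lib.Helper39.FH_B2

/-! # Feit–Higman hive, leaf FH-B3: the quadratic relation `T_s² = q_s T_1 + (q_s - 1) T_s` -/

set_option autoImplicit false
set_option linter.unusedSectionVars false
set_option linter.unusedVariables false

namespace Cfsg.Agent.Lib.Helper6.FH

open Cfsg Cfsg.Agent.Lib.Helper6 Cfsg.Agent.Lib.Helper6.St Cfsg.Agent.S0320 Cfsg.Agent.Lib.Helper6.Exch

section B3

variable {G : Type*} [Group G] [Fintype G] (P : Cfsg.BNPair G)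

lemma b3_sig_mul_sig (s : P.S) : sig P s * sig P s = 1 := (exSys_sig P).sq s

lemma b3_sig_inv (s : P.S) : (sig P s)⁻¹ = sig P s :=
  inv_eq_of_mul_eq_one_left (b3_sig_mul_sig P s)

lemma b3_sig_ne_one (s : P.S) : sig P s ≠ 1 := by
  intro h
  have h1 := two_le_qidx_sig P s
  rw [h, qidx_one] at h1
  omega

lemma b3_disjoint (s : P.S) : Disjoint (b2_cell P 1) (b2_cell P (sig P s)) := by
  rw [Finset.disjoint_left]
  intro k h1 h2
  rw [b2_mem_cell] at h1 h2
  obtain ⟨w, -, hw⟩ := exists_unique_Cw P k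
  exact b3_sig_ne_one P s ((hw _ h2).trans (hw _ h1).symm)

open Classical in
/-- for `k ∈ B` every `g ∈ C(s)` gives a factorisation -/
lemma b3_r_of_mem_B (s : P.S) {k : G} (hk : k ∈ b2_cell P 1) :
    b2_r (b2_cell P (sig P s)) (b2_cell P (sig P s)) k = (b2_cell P (sig P s)).card := by
  unfold b2_r
  congr 1
  rw [Finset.filter_eq_self]
  intro g hg
  rw [b2_mem_cell] at hg hk ⊢
  rw [Cw_one] at hk
  have h1 := Cw_inv P _ hg
  rw [b3_sig_inv] at h1
  exact mul_mem_C_right P hk h1

open Classical in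
/-- the number of factorisations `k = g h` (`g, h ∈ C(s)`) of an element `k` of `C(s)` -/
noncomputable def b3_rr (s : P.S) : ℕ :=
  b2_r (b2_cell P (sig P s)) (b2_cell P (sig P s)) ((Quotient.out (sig P s) : P.N) : G)

open Classical in
lemma b3_split (s : P.S) {M : Type*} [AddCommMonoid M] (f : G → M) :
    ∑ k : G, b2_r (b2_cell P (sig P s)) (b2_cell P (sig P s)) k • f k =
      (b2_cell P (sig P s)).card • ∑ k ∈ b2_cell P 1, f k +
        b3_rr P s • ∑ k ∈ b2_cell P (sig P s), f k := by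
  have hzero : ∀ k, k ∉ b2_cell P 1 ∪ b2_cell P (sig P s) →
      b2_r (b2_cell P (sig P s)) (b2_cell P (sig P s)) k = 0 := by
    intro k hk
    apply b2_r_eq_zero
    intro g hg h hh e
    apply hk
    rw [b2_mem_cell] at hg hh
    have := Cw_mul_subset P s (sig P s) hg hh
    rw [b3_sig_mul_sig] at this
    rw [Finset.mem_union, b2_mem_cell, b2_mem_cell, ← e]
    exact this.symm
  have hrs : ∀ k ∈ b2_cell P (sig P s),
      b2_r (b2_cell P (sig P s)) (b2_cell P (sig P s)) k = b3_rr P s := by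
    intro k hk
    exact b2_r_const P _ _ (sig P s) ((b2_mem_cell P).1 hk) (self_mem_C P _)
  rw [← Finset.sum_subset (Finset.subset_univ (b2_cell P 1 ∪ b2_cell P (sig P s)))
    (fun k _ hk => by rw [hzero k hk, zero_smul]), Finset.sum_union (b3_disjoint P s),
    Finset.smul_sum, Finset.smul_sum]
  congr 1
  · exact Finset.sum_congr rfl (fun k hk => by rw [b3_r_of_mem_B P s hk])
  · exact Finset.sum_congr rfl (fun k hk => by rw [hrs k hk])

lemma b3_rr_val (s : P.S) : b3_rr P s + Nat.card P.B = qidx P (sig P s) * Nat.card P.B := by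
  classical
  have hB : 0 < Nat.card P.B := Nat.card_pos
  have hq := qidx_pos P (sig P s)
  have h1 := b2_sum_r (b2_cell P (sig P s)) (b2_cell P (sig P s))
  have h2 := b3_split P s (fun _ : G => (1 : ℕ))
  simp only [Finset.sum_const, smul_eq_mul, mul_one] at h2
  rw [h2, b2_card_cell, b2_card_cell, qidx_one, one_mul] at h1
  have h3 : (qidx P (sig P s) * Nat.card P.B) * (Nat.card P.B + b3_rr P s) =
      (qidx P (sig P s) * Nat.card P.B) * (qidx P (sig P s) * Nat.card P.B) := by
    rw [← h1]; ring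
  have h4 := Nat.eq_of_mul_eq_mul_left (by positivity) h3
  omega

variable {V : Type*} [AddCommGroup V] [Module ℂ V] (ρ : Representation ℂ G V)

/-- FH-B3 -/
theorem hop_sig_sq (s : P.S) :
    hop P ρ (sig P s) * hop P ρ (sig P s) =
      (qidx P (sig P s) : ℂ) • hop P ρ 1 + ((qidx P (sig P s) : ℂ) - 1) • hop P ρ (sig P s) := by
  classical
  have hr'C : (b3_rr P s : ℂ) = ((qidx P (sig P s) : ℂ) - 1) * (Nat.card P.B : ℂ) := by
    have : ((b3_rr P s + Nat.card P.B : ℕ) : ℂ) = ((qidx P (sig P s) * Nat.card P.B : ℕ) : ℂ) := by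
      rw [b3_rr_val]
    push_cast at this
    linear_combination this
  rw [b2_hop_mul, b2_sum_sum, b3_split, b2_hop_eq, b2_hop_eq, b2_card_cell,
    ← Nat.cast_smul_eq_nsmul ℂ, ← Nat.cast_smul_eq_nsmul ℂ, smul_add, smul_smul, smul_smul,
    smul_smul, smul_smul, hr'C]
  have := b2_cardB_ne_zero P
  congr 2
  · push_cast
    field_simp
  · field_simp

end B3

end Cfsg.Agent.Lib.Helper6.FH
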