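import Mathlib
import Cfsg.Prelude.Def_Characters
import Cfsg.Agent.Lib.Helper3.CharOps
import Cfsg.Agent.Lib.Helper3.Induced
import Cfsg.Agent.Lib.Helper3.IndAlg
import Cfsg.Agent.Lib.Helper25.Ind
import Cfsg.Agent.Lib.Helper15.IrrCrit
import Cfsg.Agent.Lib.Helper15.LinearChar
import Cfsg.Agent.Lib.Helper16.OrbitBlock
import Cfsg.Agent.Lib.Helper75.Clifford
import Cfsg.Agent.Lib.Helper75.CliffordCorr
import Cfsg.Agent.Lib.Helper75.GaloisTwist
import Cfsg.Agent.Lib.Helper79.CliffordCorr
import Cfsg.Agent.Lib.Helper80.JointEigen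

/-!
# Products of Galois conjugate characters, part A (character-level lemmas)

* `exists_add_of_constituent`: a character having the irreducible `η` as a constituent is
  `η + Δ` for a character `Δ`.
* `not_isIrr_add`: a sum of two characters with non-zero degrees is not irreducible.
* `invariant_of_mul_pow_irr`: if `χ · χ^(k)` is irreducible then `χ` is quasi-primitive.
* `le_center_of_mul_pow_irr`: under the same hypothesis and faithfulness, abelian normal
  subgroups are central.
-/

set_option autoImplicit false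

namespace Cfsg.Agent.Lib.Helper39.GalProd

open Cfsg Cfsg.Agent.Lib.Helper3
open scoped ComplexConjugate

universe u

section Basic

variable {T : Type u} [Group T] [Fintype T]

/-- A character with the irreducible character `η` as a constituent is `η + Δ` with `Δ` a
character. -/
theorem exists_add_of_constituent {X η : T → ℂ} (hX : IsCharacter T X)
    (hη : IsIrrCharacter T η) (h : classInner X η ≠ 0) :
    ∃ Δ : T → ℂ, IsCharacter T Δ ∧ X = η + Δ := by
  classical
  letI : Fintype (IrrCharacter T) := Fintype.ofFinite _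
  obtain ⟨m, hm, hsum⟩ := IsCharacter.exists_mult hX
  set η' : IrrCharacter T := ⟨η, hη⟩ with hη'
  have hmη : m η' ≠ 0 := by
    intro h0
    apply h
    have := hm η'
    rw [h0] at this
    simpa using this
  refine ⟨∑ ψ : IrrCharacter T, ((if ψ = η' then m ψ - 1 else m ψ : ℕ) : ℂ) • (ψ : T → ℂ),
    ?_, ?_⟩
  · apply IsCharacter.sum
    intro ψ _
    exact IsCharacter.nsmul (IsIrrCharacter.isCharacter ψ.2) _
  · have h1 : η = ∑ ψ : IrrCharacter T, ((if ψ = η' then 1 else 0 : ℕ) : ℂ) • (ψ : T → ℂ) := by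
      rw [Finset.sum_eq_single η']
      · simp [hη']
      · intro b _ hb
        simp [hb]
      · intro hn
        exact absurd (Finset.mem_univ _) hn
    conv_lhs => rw [hsum]
    conv_rhs => rw [h1]
    rw [← Finset.sum_add_distrib]
    apply Finset.sum_congr rfl
    intro ψ _
    rw [← add_smul]
    congr 1
    by_cases hψ : ψ = η'
    · subst hψ
      simp only [if_true]
      have : 1 ≤ m η' := Nat.one_le_iff_ne_zero.mpr hmη
      push_cast [Nat.cast_sub this]
      ring
    · simp [hψ]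

/-- A sum of two characters with non-zero degree is not irreducible. -/
theorem not_isIrr_add {a b : T → ℂ} (ha : IsCharacter T a) (hb : IsCharacter T b)
    (ha1 : a 1 ≠ 0) (hb1 : b 1 ≠ 0) : ¬ IsIrrCharacter T (a + b) := by
  intro h
  have h1 : classInner (a + b) (a + b) = 1 := by
    rw [classInner_irr h h, if_pos rfl]
  rw [classInner_add_left, classInner_add_right, classInner_add_right] at h1
  obtain ⟨n1, hn1⟩ := Cfsg.Agent.Lib.Helper15.exists_nat_classInner ha ha
  obtain ⟨n2, hn2⟩ := Cfsg.Agent.Lib.Helper15.exists_nat_classInner ha hb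
  obtain ⟨n3, hn3⟩ := Cfsg.Agent.Lib.Helper15.exists_nat_classInner hb ha
  obtain ⟨n4, hn4⟩ := Cfsg.Agent.Lib.Helper15.exists_nat_classInner hb hb
  have hn1' : n1 ≠ 0 := by
    intro h0
    have := Cfsg.Agent.Lib.Helper75.classInner_self_ne_zero (f := a) (g := 1) ha1
    rw [hn1, h0] at this
    simp at this
  have hn4' : n4 ≠ 0 := by
    intro h0
    have := Cfsg.Agent.Lib.Helper75.classInner_self_ne_zero (f := b) (g := 1) hb1
    rw [hn4, h0] at this
    simp at this
  rw [hn1, hn2, hn3, hn4] at h1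
  have : n1 + n2 + (n3 + n4) = 1 := by exact_mod_cast h1
  omega

end Basic

section QP

variable {G : Type u} [Group G] [Fintype G]

/-- If `χ · χ^(k)` is irreducible (`k` prime to `|G|`), then `χ` is quasi-primitive: every
irreducible constituent of the restriction of `χ` to a normal subgroup is `G`-invariant. -/
theorem invariant_of_mul_pow_irr {χ : G → ℂ} (hχ : IsIrrCharacter G χ) (k : ℕ)
    (hk : Nat.Coprime k (Nat.card G)) (hirr : IsIrrCharacter G (fun g => χ g * χ (g ^ k)))
    (N : Subgroup G) [hN : N.Normal] [Fintype N] {θ : N → ℂ} (hθ : IsIrrCharacter N θ)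
    (hcon : classInner (fun n : N => χ n) θ ≠ 0) (g : G) (n : N) :
    θ ⟨g * n * g⁻¹, hN.conj_mem n n.2 g⟩ = θ n := by
  classical
  set T : Subgroup G := Cfsg.Agent.Lib.Helper79.inertia N θ with hTdef
  have hT : ∀ g : G, g ∈ T ↔ ∀ h : N, θ ⟨g * h * g⁻¹, hN.conj_mem h h.2 g⟩ = θ h := by
    intro g
    rw [hTdef, Cfsg.Agent.Lib.Helper79.mem_inertia]
    constructor
    · intro h x
      have := congrFun h x
      rwa [Cfsg.Agent.Lib.Helper75.conjFun_apply] at this
    · intro h
      funext x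
      rw [Cfsg.Agent.Lib.Helper75.conjFun_apply]
      exact h x
  have hNT : N ≤ T :=
    Cfsg.Agent.Lib.Helper79.le_inertia N (IsCharacter.isClassFunction (IsIrrCharacter.isCharacter hθ))
  suffices htop : T = ⊤ by
    have : g ∈ T := by rw [htop]; exact Subgroup.mem_top g
    exact (hT g).1 this n
  by_contra hne
  letI : Fintype T := Fintype.ofFinite _
  obtain ⟨ψ, hψ, hind, -, -⟩ :=
    Cfsg.Agent.Lib.Helper75.clifford_corr_surjective N T θ hθ hT hNT χ hχ hcon
  have hχc : IsCharacter G χ := IsIrrCharacter.isCharacter hχ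
  have hχcf : IsClassFunction G χ := IsCharacter.isClassFunction hχc
  -- the restriction of χ to T contains ψ
  have hresT : IsCharacter T (fun t : T => χ t) := IsCharacter.restrict hχc T
  have hinner : classInner (fun t : T => χ t) ψ ≠ 0 := by
    rw [← Cfsg.Agent.Lib.Helper25.frobenius_reciprocity' T ψ χ hχcf, hind,
      classInner_irr hχ hχ, if_pos rfl]
    exact one_ne_zero
  obtain ⟨Δ, hΔ, hsum⟩ := exists_add_of_constituent hresT hψ hinner
  have hψ1 : ψ 1 ≠ 0 := Cfsg.Agent.Lib.Helper79.irr_one_ne_zero ⟨ψ, hψ⟩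
  have hidx : (T.index : ℂ) - 1 ≠ 0 := by
    have h1 : T.index ≠ 1 := fun h => hne (Subgroup.index_eq_one.mp h)
    intro h0
    apply h1
    have : (T.index : ℂ) = 1 := by linear_combination h0
    exact_mod_cast this
  have hΔ1 : Δ 1 ≠ 0 := by
    have h1 : χ 1 = (T.index : ℂ) * ψ 1 := by
      rw [← hind]; exact Cfsg.Agent.Lib.Helper75.indFun_apply_one T ψ
    have h2 : χ 1 = ψ 1 + Δ 1 := by
      have := congrFun hsum 1
      simpa using this
    have h3 : Δ 1 = ((T.index : ℂ) - 1) * ψ 1 := by linear_combination h1 - h2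
    rw [h3]
    exact mul_ne_zero hidx hψ1
  -- twisted characters of T
  have hkT : Nat.Coprime k (Nat.card T) :=
    Nat.Coprime.coprime_dvd_right (Subgroup.card_subgroup_dvd_card T) hk
  have hψk : IsCharacter T (fun t : T => ψ (t ^ k)) :=
    Cfsg.Agent.Lib.Helper75.isCharacter_pow (IsIrrCharacter.isCharacter hψ) k hkT
  have hΔk : IsCharacter T (fun t : T => Δ (t ^ k)) :=
    Cfsg.Agent.Lib.Helper75.isCharacter_pow hΔ k hkT
  have hχk : IsCharacter G (fun g => χ (g ^ k)) :=
    Cfsg.Agent.Lib.Helper75.isCharacter_pow hχc k hk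
  -- the product formula
  have hprod : (fun g => χ g * χ (g ^ k)) =
      indFun T (fun t : T => ψ t * ψ (t ^ k)) + indFun T (fun t : T => ψ t * Δ (t ^ k)) := by
    have h1 : (fun g => χ g * χ (g ^ k)) = indFun T ψ * (fun g => χ (g ^ k)) := by
      rw [hind]; rfl
    rw [h1, ← Cfsg.Agent.Lib.Helper3.indFun_mul_restrict T ψ
      (IsCharacter.isClassFunction hχk), ← Cfsg.Agent.Lib.Helper3.indFun_add]
    congr 1
    funext t
    have h2 : χ ((t : G) ^ k) = ψ (t ^ k) + Δ (t ^ k) := by
      have := congrFun hsum (t ^ k)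
      simpa using this
    simp only [Pi.add_apply]
    rw [h2]
    ring
  have ha : IsCharacter G (indFun T (fun t : T => ψ t * ψ (t ^ k))) :=
    isCharacter_indFun T (IsCharacter.mul (IsIrrCharacter.isCharacter hψ) hψk)
  have hb : IsCharacter G (indFun T (fun t : T => ψ t * Δ (t ^ k))) :=
    isCharacter_indFun T (IsCharacter.mul (IsIrrCharacter.isCharacter hψ) hΔk)
  have hidx0 : (T.index : ℂ) ≠ 0 := by
    have : T.index ≠ 0 := Subgroup.index_ne_zero_of_finite
    exact_mod_cast this
  have ha1 : indFun T (fun t : T => ψ t * ψ (t ^ k)) 1 ≠ 0 := by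
    rw [Cfsg.Agent.Lib.Helper75.indFun_apply_one]
    simp only [one_pow]
    exact mul_ne_zero hidx0 (mul_ne_zero hψ1 hψ1)
  have hb1 : indFun T (fun t : T => ψ t * Δ (t ^ k)) 1 ≠ 0 := by
    rw [Cfsg.Agent.Lib.Helper75.indFun_apply_one]
    simp only [one_pow]
    exact mul_ne_zero hidx0 (mul_ne_zero hψ1 hΔ1)
  rw [hprod] at hirr
  exact not_isIrr_add ha hb ha1 hb1 hirr

end QP

section Central

variable {G : Type u} [Group G] [Fintype G]

/-- If `χ` is faithful and `χ · χ^(k)` is irreducible, every abelian normal subgroup is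
central. -/
theorem le_center_of_mul_pow_irr {χ : G → ℂ} (hχ : IsIrrCharacter G χ)
    (hfaith : ∀ g : G, χ g = χ 1 → g = 1) (k : ℕ)
    (hk : Nat.Coprime k (Nat.card G)) (hirr : IsIrrCharacter G (fun g => χ g * χ (g ^ k)))
    (A : Subgroup G) [hA : A.Normal] (hcomm : ∀ a ∈ A, ∀ b ∈ A, a * b = b * a) :
    A ≤ Subgroup.center G := by
  classical
  letI : Fintype A := Fintype.ofFinite _
  haveI : IsMulCommutative A := ⟨⟨fun a b => Subtype.ext (hcomm a a.2 b b.2)⟩⟩
  letI : Fintype (IrrCharacter A) := Fintype.ofFinite _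
  obtain ⟨lam, hlam⟩ := Cfsg.Agent.Lib.Helper16.exists_constituent A ⟨χ, hχ⟩
  have hlin := Cfsg.Agent.Lib.Helper80.irr_isLinear_of_comm lam
  have hinv : ∀ (g : G) (a : A), (lam : A → ℂ) ⟨g * a * g⁻¹, hA.conj_mem a a.2 g⟩ = (lam : A → ℂ) a :=
    fun g a => invariant_of_mul_pow_irr hχ k hk hirr A lam.2 hlam g a
  have hχc : IsCharacter G χ := IsIrrCharacter.isCharacter hχ
  -- χ restricted to A is a multiple of lam
  obtain ⟨m, hm, hsum⟩ := IsCharacter.exists_mult (IsCharacter.restrict hχc A)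
  have hzero : ∀ φ : IrrCharacter A, φ ≠ lam → m φ = 0 := by
    intro φ hφ
    by_contra hne
    have hφc : classInner (fun n : A => χ n) (φ : A → ℂ) ≠ 0 := by
      rw [hm φ]; exact_mod_cast hne
    obtain ⟨g, hg⟩ := Cfsg.Agent.Lib.Helper75.clifford_conj A hχ lam.2 φ.2 hlam hφc
    apply hφ
    apply Subtype.ext
    rw [hg]
    funext a
    rw [Cfsg.Agent.Lib.Helper75.conjFun_apply]
    exact hinv g a
  have hres : ∀ a : A, χ a = (m lam : ℂ) * (lam : A → ℂ) a := by
    intro a
    have := congrFun hsum a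
    simp only [Finset.sum_apply, Pi.smul_apply, smul_eq_mul] at this
    rw [this, Finset.sum_eq_single lam]
    · intro φ _ hφ
      rw [hzero φ hφ]; simp
    · intro hn
      exact absurd (Finset.mem_univ _) hn
  have hdeg : χ 1 = (m lam : ℂ) := by
    have := hres 1
    rw [hlin.2, mul_one] at this
    exact this
  intro a ha
  rw [Subgroup.mem_center_iff]
  intro g
  have hc : a⁻¹ * (g * a * g⁻¹) ∈ A := A.mul_mem (A.inv_mem ha) (hA.conj_mem a ha g)
  have h1 : χ (a⁻¹ * (g * a * g⁻¹)) = χ 1 := by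
    have := hres ⟨a⁻¹ * (g * a * g⁻¹), hc⟩
    simp only at this
    rw [this, hdeg]
    have hmul : (lam : A → ℂ) ⟨a⁻¹ * (g * a * g⁻¹), hc⟩ =
        (lam : A → ℂ) (⟨a, ha⟩⁻¹) * (lam : A → ℂ) ⟨g * a * g⁻¹, hA.conj_mem a ha g⟩ := by
      rw [← Cfsg.Agent.Lib.Helper15.linChar_mul hlin]
      rfl
    rw [hmul, hinv g ⟨a, ha⟩, Cfsg.Agent.Lib.Helper15.linChar_inv hlin,
      inv_mul_cancel₀ (Cfsg.Agent.Lib.Helper15.linChar_ne_zero hlin _), mul_one]
  have h2 := hfaith _ h1
  have h3 : g * a * g⁻¹ = a := by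
    have : a * (a⁻¹ * (g * a * g⁻¹)) = a * 1 := by rw [h2]
    simpa [mul_assoc] using this
  calc g * a = g * a * g⁻¹ * g := by group
    _ = a * g := by rw [h3]

end Central

end Cfsg.Agent.Lib.Helper39.GalProd
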