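import Mathlib
import Cfsg.Prelude.Def_Characters
import Cfsg.Agent.Lib.Helper3.CharOps
import Cfsg.Agent.Lib.Helper16.Schur

/-!
# Products of Galois conjugate characters, part B (an equivariant projector)

Let `ρ` be an irreducible complex matrix representation of the finite group `G` with
character `χ`, and `M` a normal subgroup such that `χ` vanishes on `M ∖ Z(G)`.  The operator
`T A = c₀ ∑_{x ∈ M} tr (A ρ(x⁻¹)) ρ(x)` is a `G`-equivariant projector of `End V` onto the span
of `ρ(M)`.  It splits the conjugation character `χ conj χ` as `α + β` with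
`α g = c₀ ∑_{x ∈ M} χ (g x g⁻¹ x⁻¹)`.
-/

set_option autoImplicit false

namespace Cfsg.Agent.Lib.Helper39.GalProd

open Cfsg Cfsg.Agent.Lib.Helper3
open scoped ComplexConjugate

universe u

section General

variable {G : Type u} [Group G] {E : Type*} [AddCommGroup E] [Module ℂ E] [FiniteDimensional ℂ E]

/-- The trace of `c g ∘ P`, for an equivariant idempotent `P`, is a character (that of the
subrepresentation on the range of `P`). -/
theorem isCharacter_trace_comp_proj (c : Representation ℂ G E) (P : Module.End ℂ E)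
    (hP : IsIdempotentElem P) (hc : ∀ (g : G) (A : E), c g (P A) = P (c g A)) :
    IsCharacter G (fun g => LinearMap.trace ℂ E (c g ∘ₗ P)) := by
  let S : Subrepresentation c :=
    ⟨LinearMap.range P, fun g v hv => by
      obtain ⟨w, rfl⟩ := hv
      exact ⟨c g w, (hc g w).symm⟩⟩
  have h := isCharacter_character S.toRepresentation
  convert h using 1
  funext g
  have hf : ∀ x, (c g ∘ₗ P) x ∈ LinearMap.range P := by
    intro x
    exact ⟨c g x, (hc g x).symm⟩
  rw [← LinearMap.trace_restrict_eq_of_forall_mem (LinearMap.range P) (c g ∘ₗ P) hf]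
  unfold Representation.character
  congr 1
  ext ⟨v, hv⟩
  have hv' : P v = v := (LinearMap.IsIdempotentElem.mem_range_iff hP).1 hv
  simp [Subrepresentation.toRepresentation, LinearMap.restrict_apply, hv', S]

end General

section UComm

variable {G : Type*} [Group G]

/-- `g x g⁻¹ x⁻¹`. -/
def ucomm (g x : G) : G := g * x * g⁻¹ * x⁻¹

theorem ucomm_one_right (g : G) : ucomm g 1 = 1 := by simp [ucomm]

theorem conj_eq_ucomm_mul (g x : G) : g * x * g⁻¹ = ucomm g x * x := by
  simp [ucomm]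

theorem ucomm_mul (g x y : G) (hy : ucomm g y ∈ Subgroup.center G) :
    ucomm g (x * y) = ucomm g x * ucomm g y := by
  have hc := Subgroup.mem_center_iff.mp hy
  calc ucomm g (x * y) = g * x * g⁻¹ * (ucomm g y * x⁻¹) := by
        simp only [ucomm]; group
    _ = g * x * g⁻¹ * (x⁻¹ * ucomm g y) := by rw [hc x⁻¹]
    _ = ucomm g x * ucomm g y := by simp only [ucomm]; group

theorem ucomm_inv (g x : G) (hx : ucomm g x ∈ Subgroup.center G) :
    ucomm g x⁻¹ = (ucomm g x)⁻¹ := by
  have h1 : ucomm g (x⁻¹ * x) = ucomm g x⁻¹ * ucomm g x := ucomm_mul g x⁻¹ x hx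
  rw [inv_mul_cancel, ucomm_one_right] at h1
  exact eq_inv_of_mul_eq_one_left h1.symm

theorem ucomm_pow_right (g x : G) (hx : ucomm g x ∈ Subgroup.center G) (j : ℕ) :
    ucomm g (x ^ j) = (ucomm g x) ^ j := by
  induction j with
  | zero => simp [ucomm_one_right]
  | succ j ih => rw [pow_succ, ucomm_mul g (x ^ j) x hx, ih, pow_succ]

theorem ucomm_pow_left (g x : G) (hx : ucomm g x ∈ Subgroup.center G) (j : ℕ) :
    ucomm (g ^ j) x = (ucomm g x) ^ j := by
  have hc := Subgroup.mem_center_iff.mp hx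
  induction j with
  | zero => simp [ucomm]
  | succ j ih =>
    calc ucomm (g ^ (j + 1)) x = g ^ j * (g * x * g⁻¹) * (g ^ j)⁻¹ * x⁻¹ := by
          simp only [ucomm, pow_succ]; group
      _ = g ^ j * (ucomm g x * x) * (g ^ j)⁻¹ * x⁻¹ := by rw [conj_eq_ucomm_mul g x]
      _ = (g ^ j * ucomm g x) * x * (g ^ j)⁻¹ * x⁻¹ := by group
      _ = (ucomm g x * g ^ j) * x * (g ^ j)⁻¹ * x⁻¹ := by rw [hc (g ^ j)]
      _ = ucomm g x * ucomm (g ^ j) x := by simp only [ucomm]; group
      _ = (ucomm g x) ^ (j + 1) := by rw [ih, pow_succ']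


/-- The subgroup of `x ∈ M` with `g x g⁻¹ x⁻¹` central. -/
def SG (M : Subgroup G) (g : G) : Subgroup G where
  carrier := {x | x ∈ M ∧ ucomm g x ∈ Subgroup.center G}
  one_mem' := ⟨M.one_mem, by rw [ucomm_one_right]; exact Subgroup.one_mem _⟩
  mul_mem' := fun {a b} ha hb =>
    ⟨M.mul_mem ha.1 hb.1, by rw [ucomm_mul g a b hb.2]; exact Subgroup.mul_mem _ ha.2 hb.2⟩
  inv_mem' := fun {a} ha =>
    ⟨M.inv_mem ha.1, by rw [ucomm_inv g a ha.2]; exact Subgroup.inv_mem _ ha.2⟩

theorem mem_SG (M : Subgroup G) (g x : G) :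
    x ∈ SG M g ↔ x ∈ M ∧ ucomm g x ∈ Subgroup.center G := Iff.rfl

theorem SG_le (M : Subgroup G) (g : G) : SG M g ≤ M := fun _ hx => hx.1

theorem SG_le_pow (M : Subgroup G) (g : G) (j : ℕ) : SG M g ≤ SG M (g ^ j) := by
  intro x hx
  refine ⟨hx.1, ?_⟩
  rw [ucomm_pow_left g x hx.2 j]
  exact Subgroup.pow_mem _ hx.2 j

theorem SG_pow_eq [Finite G] (M : Subgroup G) (g : G) (k : ℕ)
    (hk : Nat.Coprime k (Nat.card G)) : SG M (g ^ k) = SG M g := by
  apply le_antisymm
  · have hk' : Nat.Coprime k (orderOf g) :=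
      Nat.Coprime.coprime_dvd_right (orderOf_dvd_natCard g) hk
    obtain ⟨m, hm⟩ := exists_pow_eq_self_of_coprime hk'
    have := SG_le_pow M (g ^ k) m
    rwa [hm] at this
  · exact SG_le_pow M g k

theorem sum_subgroup_eq [Fintype G] (M S : Subgroup G) (hSM : S ≤ M) [Fintype M] [Fintype S]
    (F : G → ℂ) (h0 : ∀ x ∈ M, x ∉ S → F x = 0) :
    ∑ x : M, F x = ∑ s : S, F s := by
  classical
  rw [← Finset.sum_subtype (Finset.univ.filter (· ∈ M)) (by simp) F,
    ← Finset.sum_subtype (Finset.univ.filter (· ∈ S)) (by simp) F]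
  symm
  apply Finset.sum_subset
  · intro x hx
    simp only [Finset.mem_filter, Finset.mem_univ, true_and] at hx ⊢
    exact hSM hx
  · intro x hxM hxS
    simp only [Finset.mem_filter, Finset.mem_univ, true_and] at hxM hxS
    exact h0 x hxM hxS

/-- The sum of `f (g x g⁻¹ x⁻¹)` over `x ∈ M` does not change when `g` is replaced by `g ^ k`,
`k` prime to the group order, for `f` vanishing on `M ∖ Z(G)`. -/
theorem sum_ucomm_pow [Fintype G] (M : Subgroup G) [hM : M.Normal] [Fintype M] (f : G → ℂ)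
    (hf : ∀ x ∈ M, x ∉ Subgroup.center G → f x = 0) (g : G) (k : ℕ)
    (hk : Nat.Coprime k (Nat.card G)) :
    ∑ x : M, f (ucomm (g ^ k) x) = ∑ x : M, f (ucomm g x) := by
  classical
  letI : Fintype (SG M g) := Fintype.ofFinite _
  have hmemM : ∀ (h : G) (x : G), x ∈ M → ucomm h x ∈ M := by
    intro h x hx
    exact M.mul_mem (hM.conj_mem x hx h) (M.inv_mem hx)
  rw [sum_subgroup_eq M (SG M g) (SG_le M g) (fun x => f (ucomm (g ^ k) x)),
    sum_subgroup_eq M (SG M g) (SG_le M g) (fun x => f (ucomm g x))]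
  · have hkS : Nat.Coprime (Nat.card (SG M g)) k :=
      (Nat.Coprime.coprime_dvd_right (Subgroup.card_subgroup_dvd_card (SG M g)) hk).symm
    rw [← Equiv.sum_comp (powCoprime hkS) (fun s : SG M g => f (ucomm g s))]
    apply Finset.sum_congr rfl
    intro s _
    congr 1
    rw [ucomm_pow_left g s s.2.2 k, powCoprime_apply, Subgroup.coe_pow,
      ucomm_pow_right g s s.2.2 k]
  · intro x hxM hxS
    apply hf _ (hmemM g x hxM)
    intro hc
    exact hxS ⟨hxM, hc⟩
  · intro x hxM hxS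
    apply hf _ (hmemM (g ^ k) x hxM)
    intro hc
    apply hxS
    rw [← SG_pow_eq M g k hk]
    exact ⟨hxM, hc⟩


end UComm

section Proj

variable {G : Type u} [Group G] [Fintype G] {n : ℕ} (ρ : Representation ℂ G (Fin n → ℂ))
  (M : Subgroup G) [Fintype M]

open Classical in
/-- The number of central elements of `M`. -/
noncomputable def zc : ℕ :=
  (Finset.univ.filter (fun w : M => (w : G) ∈ Subgroup.center G)).card

/-- The normalising constant. -/
noncomputable def c0 : ℂ := ((n : ℂ) * (zc M : ℂ))⁻¹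

/-- The functional `A ↦ tr (A ρ(x⁻¹))`. -/
noncomputable def phi (x : G) : Module.End ℂ (Fin n → ℂ) →ₗ[ℂ] ℂ :=
  (LinearMap.trace ℂ (Fin n → ℂ)) ∘ₗ (LinearMap.mulRight ℂ (ρ x⁻¹))

theorem phi_apply (x : G) (A : Module.End ℂ (Fin n → ℂ)) :
    phi ρ x A = LinearMap.trace ℂ (Fin n → ℂ) (A * ρ x⁻¹) := rfl

/-- The projector. -/
noncomputable def projT : Module.End ℂ (Module.End ℂ (Fin n → ℂ)) :=
  c0 (n := n) M • ∑ x : M, (phi ρ (x : G)).smulRight (ρ (x : G))

theorem projT_apply (A : Module.End ℂ (Fin n → ℂ)) :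
    projT ρ M A = c0 (n := n) M • ∑ x : M, (phi ρ (x : G) A) • ρ (x : G) := by
  simp [projT, LinearMap.sum_apply, LinearMap.smulRight_apply]

theorem zc_ne_zero : zc M ≠ 0 := by
  classical
  unfold zc
  rw [Finset.card_ne_zero]
  exact ⟨1, by simp⟩

variable {ρ}

/-- Schur: central elements act as scalars, and `χ(z) ρ(z⁻¹) = n`. -/
theorem char_smul_central (hirr : ρ.IsIrreducible) {z : G} (hz : z ∈ Subgroup.center G) :
    ρ.character z • ρ z⁻¹ = (n : ℂ) • (1 : Module.End ℂ (Fin n → ℂ)) := by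
  have hcomm : ∀ g, ρ z ∘ₗ ρ g = ρ g ∘ₗ ρ z := by
    intro g
    rw [← Module.End.mul_eq_comp, ← Module.End.mul_eq_comp, ← map_mul, ← map_mul]
    congr 1
    exact ((Subgroup.mem_center_iff.mp hz) g).symm
  obtain ⟨a, ha⟩ := Cfsg.Agent.Lib.Helper16.schur_scalar ρ hirr (ρ z) hcomm
  have hchar : ρ.character z = (n : ℂ) * a := by
    unfold Representation.character
    rw [ha, map_smul]
    simp [LinearMap.trace_id, mul_comm]
  have h1 : ρ z * ρ z⁻¹ = 1 := by rw [← map_mul, mul_inv_cancel, map_one]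
  rw [hchar, mul_smul]
  congr 1
  have : a • ρ z⁻¹ = (a • (LinearMap.id : Module.End ℂ (Fin n → ℂ))) * ρ z⁻¹ := by
    rw [smul_mul_assoc]; rfl
  rw [this, ← ha, h1]

omit [Fintype G] in
/-- For central `z`, `n χ(z x) = χ(z) χ(x)`. -/
theorem char_central_mul (hirr : ρ.IsIrreducible) {z : G} (hz : z ∈ Subgroup.center G) (x : G) :
    (n : ℂ) * ρ.character (z * x) = ρ.character z * ρ.character x := by
  have hcomm : ∀ g, ρ z ∘ₗ ρ g = ρ g ∘ₗ ρ z := by
    intro g
    rw [← Module.End.mul_eq_comp, ← Module.End.mul_eq_comp, ← map_mul, ← map_mul]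
    congr 1
    exact ((Subgroup.mem_center_iff.mp hz) g).symm
  obtain ⟨a, ha⟩ := Cfsg.Agent.Lib.Helper16.schur_scalar ρ hirr (ρ z) hcomm
  have hchar : ρ.character z = (n : ℂ) * a := by
    unfold Representation.character
    rw [ha, map_smul]
    simp [LinearMap.trace_id, mul_comm]
  have h2 : ρ.character (z * x) = a * ρ.character x := by
    unfold Representation.character
    rw [map_mul, ha]
    have : (a • (LinearMap.id : Module.End ℂ (Fin n → ℂ))) * ρ x = a • ρ x := by
      rw [smul_mul_assoc]; rfl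
    rw [this, map_smul, smul_eq_mul]
  rw [h2, hchar]
  ring

/-- `T` fixes `ρ(y)` for `y ∈ M`. -/
theorem projT_rho (hirr : ρ.IsIrreducible)
    (hvan : ∀ x ∈ M, x ∉ Subgroup.center G → ρ.character x = 0) {y : G} (hy : y ∈ M) :
    projT ρ M (ρ y) = ρ y := by
  classical
  rw [projT_apply]
  have h1 : ∀ x : M, phi ρ (x : G) (ρ y) = ρ.character (y * (x : G)⁻¹) := by
    intro x
    rw [phi_apply, ← map_mul]
    rfl
  simp only [h1]
  -- reindex
  let e : M ≃ M := (Equiv.inv M).trans (Equiv.mulRight ⟨y, hy⟩)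
  have he : ∀ w : M, ((e w : M) : G) = (w : G)⁻¹ * y := by
    intro w; rfl
  rw [← Equiv.sum_comp e]
  have h2 : ∀ w : M, ρ.character (y * ((e w : M) : G)⁻¹) • ρ ((e w : M) : G) =
      (if (w : G) ∈ Subgroup.center G then (n : ℂ) • ρ y else 0) := by
    intro w
    rw [he]
    have : y * ((w : G)⁻¹ * y)⁻¹ = (w : G) := by group
    rw [this, map_mul]
    split_ifs with hw
    · rw [← smul_mul_assoc, char_smul_central hirr hw, smul_mul_assoc, one_mul]
    · rw [hvan _ w.2 hw, zero_smul]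
  simp only [h2]
  rw [Finset.sum_ite, Finset.sum_const_zero, add_zero, Finset.sum_const]
  have hcard : (Finset.univ.filter (fun w : M => (w : G) ∈ Subgroup.center G)).card = zc M := by
    unfold zc
    congr
  rw [hcard, ← Nat.cast_smul_eq_nsmul ℂ, smul_smul, smul_smul]
  have hn : (n : ℂ) ≠ 0 := by
    exact_mod_cast Cfsg.Agent.Lib.Helper16.dim_ne_zero ρ hirr
  have hz : (zc M : ℂ) ≠ 0 := by exact_mod_cast zc_ne_zero M
  have : c0 (n := n) M * ((zc M : ℂ) * (n : ℂ)) = 1 := by
    unfold c0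
    field_simp
  rw [mul_assoc, this, one_smul]

/-- `T` is idempotent. -/
theorem projT_idem (hirr : ρ.IsIrreducible)
    (hvan : ∀ x ∈ M, x ∉ Subgroup.center G → ρ.character x = 0) :
    IsIdempotentElem (projT ρ M) := by
  unfold IsIdempotentElem
  ext1 A
  rw [Module.End.mul_apply]
  conv_lhs => rw [projT_apply ρ M A]
  rw [map_smul, map_sum]
  simp only [map_smul, projT_rho M hirr hvan (SetLike.coe_mem _)]
  rw [← projT_apply]

theorem phi_conj (g x : G) (A : Module.End ℂ (Fin n → ℂ)) :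
    phi ρ (g * x * g⁻¹) (ρ g * A * ρ g⁻¹) = phi ρ x A := by
  rw [phi_apply, phi_apply]
  have h1 : (g * x * g⁻¹)⁻¹ = g * x⁻¹ * g⁻¹ := by group
  have h2 : ρ g⁻¹ * ρ g = 1 := by rw [← map_mul, inv_mul_cancel, map_one]
  rw [h1, map_mul ρ, map_mul ρ]
  have h3 : ρ g * A * ρ g⁻¹ * (ρ g * ρ x⁻¹ * ρ g⁻¹) = ρ g * (A * ρ x⁻¹ * ρ g⁻¹) := by
    calc ρ g * A * ρ g⁻¹ * (ρ g * ρ x⁻¹ * ρ g⁻¹)
        = ρ g * A * (ρ g⁻¹ * ρ g) * ρ x⁻¹ * ρ g⁻¹ := by noncomm_ring
      _ = ρ g * (A * ρ x⁻¹ * ρ g⁻¹) := by rw [h2]; noncomm_ring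
  rw [h3, LinearMap.trace_mul_comm, mul_assoc, h2, mul_one]

theorem linHom_eq (g : G) (B : Module.End ℂ (Fin n → ℂ)) :
    Representation.linHom ρ ρ g B = ρ g * B * ρ g⁻¹ := by
  rw [Representation.linHom_apply]
  rfl

/-- `T` commutes with the conjugation action. -/
theorem projT_equivariant [hM : M.Normal] (g : G) (A : Module.End ℂ (Fin n → ℂ)) :
    (Representation.linHom ρ ρ g) (projT ρ M A) = projT ρ M (Representation.linHom ρ ρ g A) := by
  classical
  rw [projT_apply, projT_apply, map_smul, map_sum]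
  congr 1
  let e : M ≃ M := (MulAut.conjNormal g : M ≃* M).toEquiv
  have he : ∀ w : M, ((e w : M) : G) = g * (w : G) * g⁻¹ := by
    intro w; rfl
  rw [← Equiv.sum_comp e (fun x : M => phi ρ (x : G) (Representation.linHom ρ ρ g A) • ρ (x : G))]
  apply Finset.sum_congr rfl
  intro w _
  rw [map_smul, he, linHom_eq g A, phi_conj, linHom_eq g (ρ (w : G)), map_mul ρ, map_mul ρ]

variable (ρ)

/-- The subcharacter `α` afforded by the span of `ρ(M)`. -/
noncomputable def alphaFun (g : G) : ℂ :=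
  LinearMap.trace ℂ (Module.End ℂ (Fin n → ℂ)) (Representation.linHom ρ ρ g ∘ₗ projT ρ M)

/-- The complementary character `β`. -/
noncomputable def betaFun (g : G) : ℂ :=
  LinearMap.trace ℂ (Module.End ℂ (Fin n → ℂ)) (Representation.linHom ρ ρ g ∘ₗ (1 - projT ρ M))

variable {ρ}

theorem isCharacter_alphaFun [hM : M.Normal] (hirr : ρ.IsIrreducible)
    (hvan : ∀ x ∈ M, x ∉ Subgroup.center G → ρ.character x = 0) :
    IsCharacter G (alphaFun ρ M) :=
  isCharacter_trace_comp_proj (Representation.linHom ρ ρ) (projT ρ M) (projT_idem M hirr hvan)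
    (fun g A => projT_equivariant M g A)

theorem isCharacter_betaFun [hM : M.Normal] (hirr : ρ.IsIrreducible)
    (hvan : ∀ x ∈ M, x ∉ Subgroup.center G → ρ.character x = 0) :
    IsCharacter G (betaFun ρ M) := by
  have hT : projT ρ M * projT ρ M = projT ρ M := projT_idem M hirr hvan
  have hid : IsIdempotentElem (1 - projT ρ M) := by
    unfold IsIdempotentElem
    ext1 A
    have hTA : projT ρ M (projT ρ M A) = projT ρ M A := by
      have := congrArg (fun f => f A) hT
      simpa [Module.End.mul_apply] using this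
    simp only [Module.End.mul_apply, LinearMap.sub_apply, Module.End.one_apply, map_sub, hTA]
    abel
  refine isCharacter_trace_comp_proj (Representation.linHom ρ ρ) (1 - projT ρ M) hid
    (fun g A => ?_)
  simp only [LinearMap.sub_apply, Module.End.one_apply, map_sub, projT_equivariant M g A]

theorem alpha_add_beta (g : G) :
    alphaFun ρ M g + betaFun ρ M g = ρ.character g⁻¹ * ρ.character g := by
  unfold alphaFun betaFun
  rw [← map_add, ← LinearMap.comp_add]
  have h1 : projT ρ M + (1 - projT ρ M) = 1 := by abel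
  rw [h1, ← Representation.char_linHom]
  rfl

theorem alphaFun_eq (g : G) :
    alphaFun ρ M g = c0 (n := n) M * ∑ x : M, ρ.character (g * (x : G) * g⁻¹ * (x : G)⁻¹) := by
  unfold alphaFun projT
  have h0 : Representation.linHom ρ ρ g ∘ₗ
      (c0 (n := n) M • ∑ x : M, (phi ρ (x : G)).smulRight (ρ (x : G))) =
      c0 (n := n) M • ∑ x : M,
        (phi ρ (x : G)).smulRight (Representation.linHom ρ ρ g (ρ (x : G))) := by
    ext1 A
    simp only [LinearMap.comp_apply, LinearMap.smul_apply, LinearMap.sum_apply,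
      LinearMap.smulRight_apply, map_smul, map_sum]
  rw [h0, map_smul, smul_eq_mul, map_sum]
  congr 1
  apply Finset.sum_congr rfl
  intro x _
  rw [LinearMap.trace_smulRight, phi_apply, linHom_eq, ← map_mul, ← map_mul, ← map_mul]
  rfl

/-- For central `z`, `χ(z) χ(z⁻¹) = n²`. -/
theorem char_mul_char_inv_central (hirr : ρ.IsIrreducible) {z : G}
    (hz : z ∈ Subgroup.center G) : ρ.character z * ρ.character z⁻¹ = (n : ℂ) * (n : ℂ) := by
  have h := congrArg (LinearMap.trace ℂ (Fin n → ℂ)) (char_smul_central hirr hz)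
  rw [map_smul, map_smul, smul_eq_mul, smul_eq_mul] at h
  have h1 : LinearMap.trace ℂ (Fin n → ℂ) (1 : Module.End ℂ (Fin n → ℂ)) = (n : ℂ) := by
    rw [LinearMap.trace_one]; simp
  rw [h1] at h
  exact h

/-- The sum over `G` of `χ (g x g⁻¹ x⁻¹)`. -/
theorem sum_char_commutator (hirr : ρ.IsIrreducible) (x : G) :
    (n : ℂ) * ∑ g : G, ρ.character (g * x * g⁻¹ * x⁻¹) =
      (Nat.card G : ℂ) * (ρ.character x * ρ.character x⁻¹) := by
  obtain ⟨a, ha, hna⟩ := Cfsg.Agent.Lib.Helper16.classOp_scalar ρ hirr x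
  have h1 : ∑ g : G, ρ.character (g * x * g⁻¹ * x⁻¹) =
      LinearMap.trace ℂ (Fin n → ℂ) (Cfsg.Agent.Lib.Helper16.classOp ρ x * ρ x⁻¹) := by
    unfold Cfsg.Agent.Lib.Helper16.classOp
    rw [Finset.sum_mul, map_sum]
    apply Finset.sum_congr rfl
    intro g _
    rw [← map_mul]
    rfl
  rw [h1, ha]
  have h2 : (a • (LinearMap.id : Module.End ℂ (Fin n → ℂ))) * ρ x⁻¹ = a • ρ x⁻¹ := by
    rw [smul_mul_assoc]; rfl
  rw [h2, map_smul, smul_eq_mul, ← mul_assoc, hna]
  have : LinearMap.trace ℂ (Fin n → ℂ) (ρ x⁻¹) = ρ.character x⁻¹ := rfl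
  rw [this]
  ring

/-- `α` contains the trivial character exactly once. -/
theorem classInner_alphaFun_one (hirr : ρ.IsIrreducible)
    (hvan : ∀ x ∈ M, x ∉ Subgroup.center G → ρ.character x = 0) :
    classInner (alphaFun ρ M) (fun _ => (1 : ℂ)) = 1 := by
  classical
  have hn : (n : ℂ) ≠ 0 := by
    exact_mod_cast Cfsg.Agent.Lib.Helper16.dim_ne_zero ρ hirr
  have hz : (zc M : ℂ) ≠ 0 := by exact_mod_cast zc_ne_zero M
  have hG : (Nat.card G : ℂ) ≠ 0 := by
    have : Nat.card G ≠ 0 := Nat.card_pos.ne'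
    exact_mod_cast this
  unfold classInner
  simp only [map_one, mul_one, alphaFun_eq]
  rw [← Finset.mul_sum, Finset.sum_comm]
  have h1 : ∀ x : M, ∑ g : G, ρ.character (g * (x : G) * g⁻¹ * (x : G)⁻¹) =
      (if (x : G) ∈ Subgroup.center G then (Nat.card G : ℂ) * (n : ℂ) else 0) := by
    intro x
    have h := sum_char_commutator hirr (x : G)
    split_ifs with hx
    · rw [char_mul_char_inv_central hirr hx] at h
      have : (n : ℂ) * ∑ g : G, ρ.character (g * (x : G) * g⁻¹ * (x : G)⁻¹) =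
          (n : ℂ) * ((Nat.card G : ℂ) * (n : ℂ)) := by rw [h]; ring
      exact mul_left_cancel₀ hn this
    · rw [hvan _ x.2 hx, zero_mul, mul_zero] at h
      exact (mul_eq_zero.mp h).resolve_left hn
  simp only [h1]
  rw [Finset.sum_ite, Finset.sum_const_zero, add_zero, Finset.sum_const]
  have hcard : (Finset.univ.filter (fun w : M => (w : G) ∈ Subgroup.center G)).card = zc M := by
    unfold zc
    congr
  rw [hcard, ← Nat.cast_smul_eq_nsmul ℂ, smul_eq_mul]
  unfold c0
  field_simp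

/-- `α` is invariant under the power maps prime to the group order. -/
theorem alphaFun_pow [hM : M.Normal]
    (hvan : ∀ x ∈ M, x ∉ Subgroup.center G → ρ.character x = 0) (g : G) (k : ℕ)
    (hk : Nat.Coprime k (Nat.card G)) : alphaFun ρ M (g ^ k) = alphaFun ρ M g := by
  rw [alphaFun_eq, alphaFun_eq]
  congr 1
  exact sum_ucomm_pow M ρ.character hvan g k hk

/-- The degree of `α` is not `1` when `M` is not central. -/
theorem alphaFun_one_ne_one (hirr : ρ.IsIrreducible)
    (hex : ∃ x ∈ M, x ∉ Subgroup.center G) : alphaFun ρ M 1 ≠ 1 := by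
  classical
  have hn : (n : ℂ) ≠ 0 := by
    exact_mod_cast Cfsg.Agent.Lib.Helper16.dim_ne_zero ρ hirr
  have hz : (zc M : ℂ) ≠ 0 := by exact_mod_cast zc_ne_zero M
  rw [alphaFun_eq]
  have h1 : ∀ x : M, ρ.character (1 * (x : G) * 1⁻¹ * (x : G)⁻¹) = (n : ℂ) := by
    intro x
    have : 1 * (x : G) * 1⁻¹ * (x : G)⁻¹ = 1 := by group
    rw [this, Representation.char_one]
    simp
  simp only [h1]
  rw [Finset.sum_const, Finset.card_univ, ← Nat.cast_smul_eq_nsmul ℂ, smul_eq_mul]
  have hlt : zc M < Fintype.card M := by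
    unfold zc
    rw [← Finset.card_univ]
    apply Finset.card_lt_card
    rw [Finset.filter_ssubset]
    obtain ⟨x, hxM, hxc⟩ := hex
    exact ⟨⟨x, hxM⟩, Finset.mem_univ _, hxc⟩
  intro h
  unfold c0 at h
  have h2 : (Fintype.card M : ℂ) = (zc M : ℂ) := by
    field_simp at h
    linear_combination h
  have : Fintype.card M = zc M := by exact_mod_cast h2
  omega

/-- Packaged statement. -/
theorem exists_sub_character [hM : M.Normal] (hirr : ρ.IsIrreducible)
    (hvan : ∀ x ∈ M, x ∉ Subgroup.center G → ρ.character x = 0)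
    (hex : ∃ x ∈ M, x ∉ Subgroup.center G) (k : ℕ) (hk : Nat.Coprime k (Nat.card G)) :
    ∃ α β : G → ℂ, IsCharacter G α ∧ IsCharacter G β ∧
      (∀ g, α g + β g = ρ.character g⁻¹ * ρ.character g) ∧ (∀ g, α (g ^ k) = α g) ∧
      classInner α (fun _ => (1 : ℂ)) = 1 ∧ α 1 ≠ 1 :=
  ⟨alphaFun ρ M, betaFun ρ M, isCharacter_alphaFun M hirr hvan, isCharacter_betaFun M hirr hvan,
    alpha_add_beta M, fun g => alphaFun_pow M hvan g k hk, classInner_alphaFun_one M hirr hvan,
    alphaFun_one_ne_one M hirr hex⟩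

end Proj

end Cfsg.Agent.Lib.Helper39.GalProd
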