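import Mathlib
import Cfsg.Prelude.Def_Characters
import Cfsg.Agent.Lib.Helper81.Brauer
import Cfsg.Agent.Lib.Helper80.Conv
import Cfsg.Agent.Lib.Helper3.CharBasic

set_option autoImplicit false
open Cfsg

namespace Cfsg.Agent.Lib.Helper39.LinTwist

open scoped ComplexConjugate

variable {G : Type*} [Group G]

/-- the group of linear characters -/
abbrev Lin (G : Type*) [Group G] := G →* ℂˣ

/-- value of a linear character -/
noncomputable def lv (φ : Lin G) (g : G) : ℂ := ((φ g : ℂˣ) : ℂ)

theorem lv_mul_apply (φ ψ : Lin G) (g : G) : lv (φ * ψ) g = lv φ g * lv ψ g := by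
  simp [lv]

theorem lv_one_apply (g : G) : lv (1 : Lin G) g = 1 := by
  simp [lv]

theorem lv_map_mul (φ : Lin G) (g h : G) : lv φ (g * h) = lv φ g * lv φ h := by
  simp [lv]

theorem lv_map_one (φ : Lin G) : lv φ 1 = 1 := by
  simp [lv]

theorem lv_ne_zero (φ : Lin G) (g : G) : lv φ g ≠ 0 := Units.ne_zero _

theorem lv_ext {φ ψ : Lin G} (h : ∀ g, lv φ g = lv ψ g) : φ = ψ := by
  apply MonoidHom.ext
  intro g
  apply Units.ext
  exact h g

theorem lv_pow_apply (φ : Lin G) (n : ℕ) (g : G) : lv (φ ^ n) g = lv φ g ^ n := by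
  simp [lv]

variable [Fintype G]

/-- twist of an irreducible character by a linear character -/
noncomputable def tw (φ : Lin G) (χ : IrrCharacter G) : IrrCharacter G :=
  ⟨fun g => lv φ g * (χ : G → ℂ) g,
    Cfsg.Agent.Lib.Helper81.isIrrCharacter_hom_mul φ χ.2⟩

noncomputable instance linAction : MulAction (Lin G) (IrrCharacter G) where
  smul := tw
  one_smul χ := by
    apply Subtype.ext
    funext g
    show lv 1 g * (χ : G → ℂ) g = (χ : G → ℂ) g
    rw [lv_one_apply, one_mul]
  mul_smul φ ψ χ := by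
    apply Subtype.ext
    funext g
    show lv (φ * ψ) g * (χ : G → ℂ) g = lv φ g * (lv ψ g * (χ : G → ℂ) g)
    rw [lv_mul_apply, mul_assoc]

theorem smul_apply (φ : Lin G) (χ : IrrCharacter G) (g : G) :
    ((φ • χ : IrrCharacter G) : G → ℂ) g = lv φ g * (χ : G → ℂ) g := rfl

omit [Fintype G] in
theorem sum_lv_subgroup (S : Subgroup (Lin G)) [Fintype S] (g : G) :
    (∀ φ ∈ S, lv φ g = 1) ∨ ∑ φ : S, lv (φ : Lin G) g = 0 := by
  by_cases h : ∀ φ ∈ S, lv φ g = 1
  · exact Or.inl h
  · right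
    push Not at h
    obtain ⟨φ₀, hφ₀, hne⟩ := h
    have := Equiv.sum_comp (Equiv.mulLeft (⟨φ₀, hφ₀⟩ : S)) (fun φ : S => lv (φ : Lin G) g)
    simp only [Equiv.coe_mulLeft, Subgroup.coe_mul, lv_mul_apply] at this
    rw [← Finset.mul_sum] at this
    have h2 : (lv φ₀ g - 1) * ∑ φ : S, lv (φ : Lin G) g = 0 := by
      rw [sub_mul, this, one_mul, sub_self]
    rcases mul_eq_zero.1 h2 with h3 | h3
    · exact absurd (sub_eq_zero.1 h3) hne
    · exact h3

theorem sum_lv_group (φ : Lin G) (hφ : φ ≠ 1) : ∑ g : G, lv φ g = 0 := by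
  have : ∃ g₀, lv φ g₀ ≠ 1 := by
    by_contra h
    push Not at h
    exact hφ (lv_ext fun g => by rw [h g, lv_one_apply])
  obtain ⟨g₀, hne⟩ := this
  have := Equiv.sum_comp (Equiv.mulLeft g₀) (fun g : G => lv φ g)
  simp only [Equiv.coe_mulLeft, lv_map_mul] at this
  rw [← Finset.mul_sum] at this
  have h2 : (lv φ g₀ - 1) * ∑ g : G, lv φ g = 0 := by
    rw [sub_mul, this, one_mul, sub_self]
  rcases mul_eq_zero.1 h2 with h3 | h3
  · exact absurd (sub_eq_zero.1 h3) hne
  · exact h3

/-- a finite group of linear characters fixing `χ` has order at most `χ(1)^2` -/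
theorem card_le_of_le_stabilizer (χ : IrrCharacter G) (d : ℕ)
    (hd : (χ : G → ℂ) 1 = d) (S : Subgroup (Lin G)) [Finite S]
    (hS : S ≤ MulAction.stabilizer (Lin G) χ) :
    Nat.card S ≤ d ^ 2 := by
  classical
  haveI : Fintype S := Fintype.ofFinite S
  let K : Finset G := Finset.univ.filter (fun g => ∀ φ ∈ S, lv φ g = 1)
  have hvan : ∀ g, g ∉ K → (χ : G → ℂ) g = 0 := by
    intro g hg
    simp only [K, Finset.mem_filter, Finset.mem_univ, true_and] at hg
    push Not at hg
    obtain ⟨φ, hφ, hne⟩ := hg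
    have hfix : φ • χ = χ := MulAction.mem_stabilizer_iff.1 (hS hφ)
    have := congrArg (fun ψ : IrrCharacter G => (ψ : G → ℂ) g) hfix
    simp only [smul_apply] at this
    have h2 : (lv φ g - 1) * (χ : G → ℂ) g = 0 := by
      rw [sub_mul, this, one_mul, sub_self]
    rcases mul_eq_zero.1 h2 with h3 | h3
    · exact absurd (sub_eq_zero.1 h3) hne
    · exact h3
  have h1 : (K.card : ℂ) * (Fintype.card S : ℂ) = (Fintype.card G : ℂ) := by
    have hA : ∑ g : G, ∑ φ : S, lv (φ : Lin G) g = (K.card : ℂ) * Fintype.card S := by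
      rw [← Finset.sum_filter_add_sum_filter_not Finset.univ (fun g => ∀ φ ∈ S, lv φ g = 1)]
      have e1 : ∑ g ∈ Finset.univ.filter (fun g => ∀ φ ∈ S, lv φ g = 1), ∑ φ : S, lv (φ : Lin G) g
          = ∑ g ∈ K, (Fintype.card S : ℂ) := by
        refine Finset.sum_congr rfl fun g hg => ?_
        have hg' : ∀ φ ∈ S, lv φ g = 1 := (Finset.mem_filter.1 hg).2
        rw [Finset.sum_congr rfl (fun φ _ => hg' φ.1 φ.2)]
        simp
      have e2 : ∑ g ∈ Finset.univ.filter (fun g => ¬ ∀ φ ∈ S, lv φ g = 1), ∑ φ : S, lv (φ : Lin G) g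
          = 0 := by
        refine Finset.sum_eq_zero fun g hg => ?_
        simp only [Finset.mem_filter, Finset.mem_univ, true_and] at hg
        exact (sum_lv_subgroup S g).resolve_left hg
      rw [e1, e2, add_zero, Finset.sum_const, nsmul_eq_mul]
    have hB : ∑ g : G, ∑ φ : S, lv (φ : Lin G) g = Fintype.card G := by
      rw [Finset.sum_comm]
      rw [Finset.sum_eq_single (1 : S)]
      · simp [lv_one_apply]
      · intro φ _ hφ
        apply sum_lv_group
        intro h
        apply hφ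
        exact Subtype.ext h
      · intro h; exact absurd (Finset.mem_univ _) h
    rw [← hA, hB]
  have h1' : K.card * Fintype.card S = Fintype.card G := by exact_mod_cast h1
  have h2 : ∑ g : G, ‖(χ : G → ℂ) g‖ ^ 2 = (Fintype.card G : ℝ) := by
    have hci := Cfsg.Agent.Lib.Helper3.classInner_irr χ.2 χ.2
    rw [if_pos rfl] at hci
    unfold classInner at hci
    have hne : (Nat.card G : ℂ) ≠ 0 := by
      have : Nat.card G ≠ 0 := Nat.card_pos.ne'
      exact_mod_cast this
    have hsum : ∑ g : G, (χ : G → ℂ) g * conj ((χ : G → ℂ) g) = (Nat.card G : ℂ) := by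
      field_simp at hci
      exact hci
    apply Complex.ofReal_injective
    rw [Complex.ofReal_sum]
    rw [Nat.card_eq_fintype_card] at hsum
    rw [Complex.ofReal_natCast, ← hsum]
    refine Finset.sum_congr rfl fun g _ => ?_
    rw [Complex.mul_conj, Complex.normSq_eq_norm_sq]
  have h3 : ∑ g ∈ K, ‖(χ : G → ℂ) g‖ ^ 2 = (Fintype.card G : ℝ) := by
    rw [← h2]
    refine Finset.sum_subset (Finset.subset_univ K) ?_
    intro g _ hg
    rw [hvan g hg]
    simp
  have h4 : ∑ g ∈ K, ‖(χ : G → ℂ) g‖ ^ 2 ≤ K.card * (d : ℝ) ^ 2 := by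
    have := Finset.sum_le_card_nsmul K (fun g => ‖(χ : G → ℂ) g‖ ^ 2) ((d : ℝ) ^ 2) ?_
    · simpa using this
    · intro g _
      have hb := Cfsg.Agent.Lib.Helper80.irr_norm_le χ g
      rw [hd, Complex.norm_natCast] at hb
      exact pow_le_pow_left₀ (norm_nonneg _) hb 2
  have hKpos : 0 < K.card := by
    apply Finset.card_pos.2
    refine ⟨1, ?_⟩
    simp only [K, Finset.mem_filter, Finset.mem_univ, true_and]
    intro φ _
    exact lv_map_one φ
  have h5 : (K.card * Fintype.card S : ℝ) ≤ K.card * (d : ℝ) ^ 2 := by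
    calc (K.card * Fintype.card S : ℝ) = (Fintype.card G : ℝ) := by exact_mod_cast h1'
      _ = ∑ g ∈ K, ‖(χ : G → ℂ) g‖ ^ 2 := h3.symm
      _ ≤ _ := h4
  have h6 : K.card * Fintype.card S ≤ K.card * d ^ 2 := by exact_mod_cast h5
  rw [Nat.card_eq_fintype_card]
  exact Nat.le_of_mul_le_mul_left h6 hKpos

omit [Fintype G] in
/-- the number of linear characters is the index of the commutator subgroup -/
theorem card_Lin [Finite G] : Nat.card (Lin G) = (commutator G).index := by
  have e : Lin G ≃ (Abelianization G →* ℂˣ) := Abelianization.lift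
  rw [Nat.card_congr e]
  haveI : NeZero ((Monoid.exponent (Abelianization G) : ℕ) : ℂ) := by
    refine ⟨?_⟩
    have : Monoid.exponent (Abelianization G) ≠ 0 := Monoid.exponent_ne_zero_of_finite
    exact_mod_cast this
  rw [CommGroup.card_monoidHom_of_hasEnoughRootsOfUnity (Abelianization G) ℂ]
  rfl

end Cfsg.Agent.Lib.Helper39.LinTwist
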