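import Mathlib
import Cfsg.Agent.Lib.Helper5.AutPSLnSylow

set_option autoImplicit false
set_option linter.unusedSimpArgs false
set_option linter.unusedVariables false
set_option linter.unnecessarySeqFocus false
set_option linter.unusedSectionVars false
set_option linter.style.haveILetI false

/-!
# Two complete flags: a common transvection or opposite position

For an invertible matrix `A` (inverse `B`) either the standard flag and its image under `A`
share a transvection, or `A` lies in the big Bruhat cell.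
-/

namespace Cfsg.Agent.Lib.Helper39.LnTwo

open Matrix Cfsg.Agent.Lib.Helper5.AutPSLn

variable {n : ℕ} {K : Type*} [Field K]

/-- the standard flag: vectors whose coordinates of index `≥ j` vanish -/
def Vf (n : ℕ) (K : Type*) [Field K] (j : ℕ) : Submodule K (Fin n → K) where
  carrier := {v | ∀ k : Fin n, j ≤ k.val → v k = 0}
  add_mem' := by
    intro v w hv hw k hk
    simp [hv k hk, hw k hk]
  zero_mem' := by
    intro k _
    rfl
  smul_mem' := by
    intro c v hv k hk
    simp [hv k hk]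

lemma mem_Vf {j : ℕ} {v : Fin n → K} : v ∈ Vf n K j ↔ ∀ k : Fin n, j ≤ k.val → v k = 0 :=
  Iff.rfl

lemma Vf_mono {i j : ℕ} (h : i ≤ j) : Vf n K i ≤ Vf n K j := by
  intro v hv k hk
  exact hv k (h.trans hk)

lemma single_mem_Vf {j : ℕ} (l : Fin n) (hl : l.val < j) :
    (Pi.single l (1 : K) : Fin n → K) ∈ Vf n K j := by
  intro k hk
  have : k ≠ l := by
    intro h
    rw [h] at hk
    omega
  simp [Pi.single_apply, this]

lemma finrank_Vf {j : ℕ} (hj : j ≤ n) : Module.finrank K (Vf n K j) = j := by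
  classical
  let f : Fin (n - j) → Fin n := fun i => ⟨j + i.val, by omega⟩
  have hf : Function.Injective f := by
    intro a b hab
    have := congrArg Fin.val hab
    simp only [f] at this
    exact Fin.ext (by omega)
  let L : (Fin n → K) →ₗ[K] (Fin (n - j) → K) := LinearMap.funLeft K K f
  have hker : LinearMap.ker L = Vf n K j := by
    ext v
    rw [LinearMap.mem_ker, mem_Vf]
    constructor
    · intro h k hk
      have h1 := congrFun h ⟨k.val - j, by omega⟩
      simp only [L, LinearMap.funLeft_apply, f, Pi.zero_apply] at h1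
      have h2 : (⟨j + (k.val - j), by omega⟩ : Fin n) = k := Fin.ext (by simp; omega)
      rw [h2] at h1
      exact h1
    · intro h
      funext i
      simp only [L, LinearMap.funLeft_apply, f, Pi.zero_apply]
      exact h _ (by simp)
  have hsurj : LinearMap.range L = ⊤ :=
    LinearMap.range_eq_top.2 (LinearMap.funLeft_surjective_of_injective K K f hf)
  have h1 := LinearMap.finrank_range_add_finrank_ker L
  rw [hsurj, finrank_top, Module.finrank_fin_fun, Module.finrank_fin_fun, hker] at h1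
  omega


/-- the linear equivalence given by an invertible matrix -/
noncomputable def mEquiv {A B : Matrix (Fin n) (Fin n) K} (hAB : A * B = 1) (hBA : B * A = 1) :
    (Fin n → K) ≃ₗ[K] (Fin n → K) :=
  Matrix.toLin'OfInv hBA hAB

lemma mEquiv_apply {A B : Matrix (Fin n) (Fin n) K} (hAB : A * B = 1) (hBA : B * A = 1)
    (x : Fin n → K) : mEquiv hAB hBA x = A *ᵥ x := rfl

lemma isUni_one_add_vecMulVec {a : ℕ} {v φ : Fin n → K} (hv : v ∈ Vf n K a)
    (hφ : ∀ l : Fin n, l.val < a → φ l = 0) :
    IsUni (1 + Matrix.vecMulVec v φ) := by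
  intro i j hji
  rw [Matrix.add_apply, Matrix.vecMulVec_apply]
  by_cases hi : a ≤ i.val
  · rw [hv i hi, zero_mul, add_zero]
  · have hj : j.val < a := by
      have : j.val ≤ i.val := hji
      omega
    rw [hφ j hj, mul_zero, add_zero]

/-- Case 1: a nonzero vector in `V_b ∩ A⁻¹ V_a` with `a + b = n` gives a common transvection. -/
theorem exists_transvection {A B : Matrix (Fin n) (Fin n) K} (hAB : A * B = 1) (hBA : B * A = 1)
    {a b : ℕ} (hab : a + b = n) {x : Fin n → K} (hx0 : x ≠ 0) (hx : x ∈ Vf n K b)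
    (hAx : A *ᵥ x ∈ Vf n K a) :
    ∃ T : Matrix (Fin n) (Fin n) K, T ≠ 1 ∧ IsUni T ∧ IsUni (B * T * A) := by
  classical
  set E := mEquiv hAB hBA with hE
  set X : Submodule K (Fin n → K) := Vf n K a ⊔ (Vf n K b).map (E : (Fin n → K) →ₗ[K] (Fin n → K))
    with hX
  have hv0 : A *ᵥ x ≠ 0 := by
    intro h
    apply hx0
    have : B *ᵥ (A *ᵥ x) = x := by
      rw [Matrix.mulVec_mulVec, hBA, Matrix.one_mulVec]
    rw [← this, h, Matrix.mulVec_zero]
  have hvW : A *ᵥ x ∈ (Vf n K b).map (E : (Fin n → K) →ₗ[K] (Fin n → K)) :=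
    Submodule.mem_map.2 ⟨x, hx, rfl⟩
  have hinf : (Vf n K a ⊓ (Vf n K b).map (E : (Fin n → K) →ₗ[K] (Fin n → K))) ≠ ⊥ := by
    intro h
    have : A *ᵥ x ∈ (⊥ : Submodule K (Fin n → K)) := by
      rw [← h]
      exact ⟨hAx, hvW⟩
    exact hv0 ((Submodule.mem_bot K).1 this)
  have hXlt : X < ⊤ := by
    rw [lt_top_iff_ne_top]
    intro htop
    have h1 := Submodule.finrank_sup_add_finrank_inf_eq (Vf n K a)
      ((Vf n K b).map (E : (Fin n → K) →ₗ[K] (Fin n → K)))
    rw [← hX, htop, finrank_top, Module.finrank_fin_fun, finrank_Vf (by omega),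
      LinearEquiv.finrank_map_eq, finrank_Vf (by omega)] at h1
    have h2 : Module.finrank K ↥(Vf n K a ⊓
        (Vf n K b).map (E : (Fin n → K) →ₗ[K] (Fin n → K))) = 0 := by omega
    exact hinf (Submodule.finrank_eq_zero.1 h2)
  obtain ⟨f, hf0, hfX⟩ := Submodule.exists_le_ker_of_lt_top X hXlt
  set φ : Fin n → K := fun j => f (Pi.single j 1) with hφdef
  have hfφ : ∀ w : Fin n → K, f w = w ⬝ᵥ φ := by
    intro w
    rw [LinearMap.pi_apply_eq_sum_univ f w]
    simp only [dotProduct, hφdef, smul_eq_mul]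
    apply Finset.sum_congr rfl
    intro i _
    congr 2
    funext j
    simp [Pi.single_apply, eq_comm]
  have hφ0 : φ ≠ 0 := by
    intro h
    apply hf0
    refine LinearMap.ext fun w => ?_
    rw [hfφ, h]
    simp
  have hφa : ∀ l : Fin n, l.val < a → φ l = 0 := by
    intro l hl
    have : (Pi.single l (1 : K) : Fin n → K) ∈ X :=
      Submodule.mem_sup_left (single_mem_Vf l hl)
    exact LinearMap.mem_ker.1 (hfX this)
  have hφb : ∀ l : Fin n, l.val < b → (φ ᵥ* A) l = 0 := by
    intro l hl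
    have h1 : A *ᵥ (Pi.single l (1 : K) : Fin n → K) ∈ X :=
      Submodule.mem_sup_right (Submodule.mem_map.2 ⟨_, single_mem_Vf l hl, rfl⟩)
    have h2 := LinearMap.mem_ker.1 (hfX h1)
    rw [hfφ] at h2
    rw [← h2]
    simp only [Matrix.vecMul, dotProduct, Matrix.mulVec]
    apply Finset.sum_congr rfl
    intro k _
    rw [Finset.sum_eq_single l]
    · simp [mul_comm]
    · intro j _ hj
      simp [Pi.single_apply, hj]
    · intro h; exact absurd (Finset.mem_univ _) h
  refine ⟨1 + Matrix.vecMulVec (A *ᵥ x) φ, ?_, isUni_one_add_vecMulVec hAx hφa, ?_⟩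
  · intro h
    have h1 : Matrix.vecMulVec (A *ᵥ x) φ = 0 := by
      have := congrArg (fun M => M - 1) h
      simpa using this
    obtain ⟨i, hi⟩ : ∃ i, (A *ᵥ x) i ≠ 0 := by
      by_contra hcon
      push Not at hcon
      exact hv0 (funext hcon)
    obtain ⟨j, hj⟩ : ∃ j, φ j ≠ 0 := by
      by_contra hcon
      push Not at hcon
      exact hφ0 (funext hcon)
    have h2 := congrFun (congrFun h1 i) j
    rw [Matrix.vecMulVec_apply] at h2
    exact mul_ne_zero hi hj h2
  · have h1 : B * (1 + Matrix.vecMulVec (A *ᵥ x) φ) * A = 1 + Matrix.vecMulVec x (φ ᵥ* A) := by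
      rw [Matrix.mul_add, Matrix.add_mul, Matrix.mul_one, hBA, Matrix.mul_vecMulVec,
        Matrix.vecMulVec_mul, Matrix.mulVec_mulVec, hBA, Matrix.one_mulVec]
    rw [h1]
    exact isUni_one_add_vecMulVec hx hφb


/-! ### The reversal permutation matrix -/

/-- the reversal permutation matrix -/
def W0 (n : ℕ) (K : Type*) [Field K] : Matrix (Fin n) (Fin n) K :=
  Matrix.of fun k l => if k = Fin.rev l then 1 else 0

lemma W0_apply (k l : Fin n) : W0 n K k l = if k = Fin.rev l then 1 else 0 := rfl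

lemma mul_W0_apply (M : Matrix (Fin n) (Fin n) K) (k l : Fin n) :
    (M * W0 n K) k l = M k (Fin.rev l) := by
  rw [Matrix.mul_apply]
  simp only [W0_apply]
  simp

lemma W0_mul_apply (M : Matrix (Fin n) (Fin n) K) (k l : Fin n) :
    (W0 n K * M) k l = M (Fin.rev k) l := by
  rw [Matrix.mul_apply]
  simp only [W0_apply]
  rw [Finset.sum_eq_single (Fin.rev k)]
  · simp
  · intro j _ hj
    have : k ≠ Fin.rev j := by
      intro h
      apply hj
      rw [h, Fin.rev_rev]
    simp [this]
  · intro h; exact absurd (Finset.mem_univ _) h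

lemma W0_mul_W0 : W0 n K * W0 n K = 1 := by
  ext k l
  rw [mul_W0_apply, W0_apply, Matrix.one_apply]
  simp [Fin.rev_inj]

lemma W0_transpose : (W0 n K)ᵀ = W0 n K := by
  ext k l
  rw [Matrix.transpose_apply, W0_apply, W0_apply]
  have : l = Fin.rev k ↔ k = Fin.rev l := by
    constructor
    · intro h; rw [h, Fin.rev_rev]
    · intro h; rw [h, Fin.rev_rev]
  simp only [this]

lemma zmod2_eq_one {x : ZMod 2} (h : x ≠ 0) : x = 1 := by
  fin_cases x
  · exact absurd rfl h
  · rfl

lemma W0_det : (W0 n (ZMod 2)).det = 1 := by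
  apply zmod2_eq_one
  intro h
  have := congrArg Matrix.det (W0_mul_W0 (n := n) (K := ZMod 2))
  rw [Matrix.det_mul, h, Matrix.det_one] at this
  simp at this

/-- Case 2: opposite flags give the big cell. -/
theorem exists_bigcell {A B : Matrix (Fin n) (Fin n) (ZMod 2)} (hAB : A * B = 1)
    (hBA : B * A = 1)
    (hopp : ∀ a b : ℕ, a + b = n → ∀ x : Fin n → ZMod 2, x ∈ Vf n (ZMod 2) b →
      A *ᵥ x ∈ Vf n (ZMod 2) a → x = 0) :
    ∃ P : Matrix (Fin n) (Fin n) (ZMod 2), IsUni P ∧ IsUni (B * P * W0 n (ZMod 2)) := by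
  classical
  set E := mEquiv hAB hBA with hE
  have hBAv : ∀ y : Fin n → ZMod 2, B *ᵥ (A *ᵥ y) = y := by
    intro y
    rw [Matrix.mulVec_mulVec, hBA, Matrix.one_mulVec]
  have hABv : ∀ y : Fin n → ZMod 2, A *ᵥ (B *ᵥ y) = y := by
    intro y
    rw [Matrix.mulVec_mulVec, hAB, Matrix.one_mulVec]
  have hex : ∀ i : Fin n, ∃ f : Fin n → ZMod 2, f ∈ Vf n (ZMod 2) (i.val + 1) ∧
      B *ᵥ f ∈ Vf n (ZMod 2) (n - i.val) ∧ f ≠ 0 := by
    intro i
    have hi := i.isLt
    have hne : (Vf n (ZMod 2) (i.val + 1) ⊓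
        (Vf n (ZMod 2) (n - i.val)).map (E : (Fin n → ZMod 2) →ₗ[ZMod 2] (Fin n → ZMod 2)))
        ≠ ⊥ := by
      intro hbot
      have h1 := Submodule.finrank_sup_add_finrank_inf_eq (Vf n (ZMod 2) (i.val + 1))
        ((Vf n (ZMod 2) (n - i.val)).map
          (E : (Fin n → ZMod 2) →ₗ[ZMod 2] (Fin n → ZMod 2)))
      rw [hbot, finrank_bot, finrank_Vf (by omega), LinearEquiv.finrank_map_eq,
        finrank_Vf (by omega)] at h1
      have h2 := Submodule.finrank_le (Vf n (ZMod 2) (i.val + 1) ⊔
        (Vf n (ZMod 2) (n - i.val)).map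
          (E : (Fin n → ZMod 2) →ₗ[ZMod 2] (Fin n → ZMod 2)))
      rw [Module.finrank_fin_fun] at h2
      omega
    obtain ⟨f, hf, hf0⟩ := Submodule.exists_mem_ne_zero_of_ne_bot hne
    obtain ⟨hf1, hf2⟩ := hf
    obtain ⟨y, hy, hyf⟩ := Submodule.mem_map.1 hf2
    refine ⟨f, hf1, ?_, hf0⟩
    have : f = A *ᵥ y := hyf.symm
    rw [this, hBAv]
    exact hy
  choose F hF1 hF2 hF0 using hex
  have hFii : ∀ i : Fin n, F i i ≠ 0 := by
    intro i h
    have hmem : F i ∈ Vf n (ZMod 2) i.val := by
      intro k hk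
      rcases hk.lt_or_eq with hlt | heq
      · exact hF1 i k (by omega)
      · have : k = i := Fin.ext heq.symm
        rw [this]; exact h
    have hy := hopp i.val (n - i.val) (by have := i.isLt; omega) (B *ᵥ F i) (hF2 i)
      (by rw [hABv]; exact hmem)
    apply hF0 i
    rw [← hABv (F i), hy, Matrix.mulVec_zero]
  have hFrev : ∀ i : Fin n, (B *ᵥ F i) (Fin.rev i) ≠ 0 := by
    intro i h
    have hi := i.isLt
    have hmem : B *ᵥ F i ∈ Vf n (ZMod 2) (n - i.val - 1) := by
      intro k hk
      by_cases hk' : n - i.val ≤ k.val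
      · exact hF2 i k hk'
      · have : k = Fin.rev i := by
          apply Fin.ext
          rw [Fin.val_rev]
          omega
        rw [this]; exact h
    have hy := hopp (i.val + 1) (n - i.val - 1) (by omega) (B *ᵥ F i) hmem
      (by rw [hABv]; exact hF1 i)
    apply hF0 i
    rw [← hABv (F i), hy, Matrix.mulVec_zero]
  refine ⟨Matrix.of fun k i => F i k, ?_, ?_⟩
  · intro k i hik
    rw [Matrix.of_apply]
    rcases hik.lt_or_eq with hlt | heq
    · rw [Matrix.one_apply_ne hlt.ne']
      exact hF1 i k (by have : i.val < k.val := hlt; omega)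
    · subst heq
      rw [Matrix.one_apply_eq]
      exact zmod2_eq_one (hFii i)
  · intro k l hlk
    rw [mul_W0_apply]
    have hentry : (B * Matrix.of fun k i => F i k) k (Fin.rev l) = (B *ᵥ F (Fin.rev l)) k := by
      rw [Matrix.mul_apply]
      rfl
    rw [hentry]
    rcases hlk.lt_or_eq with hlt | heq
    · rw [Matrix.one_apply_ne hlt.ne']
      apply hF2 (Fin.rev l) k
      rw [Fin.val_rev]
      have h1 : l.val < k.val := hlt
      have h2 := k.isLt
      omega
    · subst heq
      rw [Matrix.one_apply_eq]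
      apply zmod2_eq_one
      have := hFrev (Fin.rev l)
      rwa [Fin.rev_rev] at this

end Cfsg.Agent.Lib.Helper39.LnTwo
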