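import Mathlib
import Cfsg.Agent.Lib.Helper39.LnTwoA
import Cfsg.Agent.Lib.Helper5.AutPSLnMain

set_option autoImplicit false
set_option linter.unusedSimpArgs false
set_option linter.unusedVariables false
set_option linter.unnecessarySeqFocus false
set_option linter.unusedSectionVars false
set_option linter.style.haveILetI false

/-!
# `SL_n(2)`: the big-cell dichotomy and the automorphisms
-/

namespace Cfsg.Agent.Lib.Helper39.LnTwo

open Matrix Cfsg.Agent.Lib.Helper5.AutPSLn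

variable {n : ℕ}

/-- the reversal permutation matrix as an element of `SL_n(2)` -/
def w0 (n : ℕ) : SpecialLinearGroup (Fin n) (ZMod 2) := ⟨W0 n (ZMod 2), W0_det⟩

lemma w0_val : (w0 n).1 = W0 n (ZMod 2) := rfl

lemma w0_mul_w0 : w0 n * w0 n = 1 := by
  apply Subtype.ext
  show W0 n (ZMod 2) * W0 n (ZMod 2) = 1
  exact W0_mul_W0

lemma w0_inv : (w0 n)⁻¹ = w0 n := inv_eq_of_mul_eq_one_right w0_mul_w0

lemma invT_w0 : invT (w0 n) = w0 n := by
  rw [invT_apply, w0_inv]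
  apply Subtype.ext
  rw [Matrix.SpecialLinearGroup.coe_transpose, w0_val, W0_transpose]

/-- the dichotomy in `SL_n(2)` -/
theorem dichotomy (g : SpecialLinearGroup (Fin n) (ZMod 2)) :
    (∃ u ∈ Uni n (ZMod 2), u ≠ 1 ∧ g⁻¹ * u * g ∈ Uni n (ZMod 2)) ∨
    (∃ u₁ ∈ Uni n (ZMod 2), ∃ u₂ ∈ Uni n (ZMod 2), g = u₁ * w0 n * u₂) := by
  have hAB : g.1 * (g⁻¹).1 = 1 := by
    rw [← Matrix.SpecialLinearGroup.coe_mul, mul_inv_cancel]; rfl
  have hBA : (g⁻¹).1 * g.1 = 1 := by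
    rw [← Matrix.SpecialLinearGroup.coe_mul, inv_mul_cancel]; rfl
  by_cases h : ∃ a b : ℕ, a + b = n ∧ ∃ x : Fin n → ZMod 2, x ≠ 0 ∧ x ∈ Vf n (ZMod 2) b ∧
      g.1 *ᵥ x ∈ Vf n (ZMod 2) a
  · left
    obtain ⟨a, b, hab, x, hx0, hx, hAx⟩ := h
    obtain ⟨T, hT1, hTU, hTU'⟩ := exists_transvection hAB hBA hab hx0 hx hAx
    have hex : ∃ u : SpecialLinearGroup (Fin n) (ZMod 2), u.1 = T := ⟨⟨T, det_of_isUni hTU⟩, rfl⟩
    obtain ⟨u, huT⟩ := hex
    refine ⟨u, mem_Uni.2 (by rw [huT]; exact hTU), ?_, ?_⟩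
    · intro h1
      apply hT1
      rw [← huT, h1, Matrix.SpecialLinearGroup.coe_one]
    · rw [mem_Uni, Matrix.SpecialLinearGroup.coe_mul, Matrix.SpecialLinearGroup.coe_mul, huT]
      exact hTU'
  · right
    push Not at h
    have hopp : ∀ a b : ℕ, a + b = n → ∀ x : Fin n → ZMod 2, x ∈ Vf n (ZMod 2) b →
        g.1 *ᵥ x ∈ Vf n (ZMod 2) a → x = 0 := by
      intro a b hab x hx hAx
      by_contra hx0
      exact h a b hab x hx0 hx hAx
    obtain ⟨P, hP, hQ⟩ := exists_bigcell hAB hBA hopp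
    set u₁ : SpecialLinearGroup (Fin n) (ZMod 2) := ⟨P, det_of_isUni hP⟩ with hu₁
    set q : SpecialLinearGroup (Fin n) (ZMod 2) :=
      ⟨(g⁻¹).1 * P * W0 n (ZMod 2), det_of_isUni hQ⟩ with hq
    have hqU : q ∈ Uni n (ZMod 2) := mem_Uni.2 hQ
    refine ⟨u₁, mem_Uni.2 hP, q⁻¹, (Uni n (ZMod 2)).inv_mem hqU, ?_⟩
    rw [eq_mul_inv_iff_mul_eq]
    apply Subtype.ext
    rw [Matrix.SpecialLinearGroup.coe_mul, Matrix.SpecialLinearGroup.coe_mul]
    show g.1 * ((g⁻¹).1 * P * W0 n (ZMod 2)) = P * W0 n (ZMod 2)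
    rw [← Matrix.mul_assoc, ← Matrix.mul_assoc, hAB, Matrix.one_mul]

/-- the graph automorphism composed with `w0` normalizes the unitriangular group -/
theorem w0_invT_mem_Uni {u : SpecialLinearGroup (Fin n) (ZMod 2)} (hu : u ∈ Uni n (ZMod 2)) :
    w0 n * invT u * (w0 n)⁻¹ ∈ Uni n (ZMod 2) := by
  rw [w0_inv]
  have hinv : IsUni (u⁻¹).1 := mem_Uni.1 ((Uni n (ZMod 2)).inv_mem hu)
  rw [mem_Uni, Matrix.SpecialLinearGroup.coe_mul, Matrix.SpecialLinearGroup.coe_mul, w0_val,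
    invT_coe]
  intro k l hlk
  rw [mul_W0_apply, W0_mul_apply, Matrix.transpose_apply]
  have h1 : Fin.rev k ≤ Fin.rev l := Fin.rev_le_rev.2 hlk
  rw [hinv (Fin.rev l) (Fin.rev k) h1, Matrix.one_apply, Matrix.one_apply]
  simp [Fin.rev_inj, eq_comm]


/-! ### Automorphisms of `SL_n(2)` -/

lemma pr_injective_two (hn : 1 ≤ n) :
    Function.Injective
      (pr : SpecialLinearGroup (Fin n) (ZMod 2) →* Matrix.ProjectiveSpecialLinearGroup (Fin n) (ZMod 2)) := by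
  intro x y hxy
  obtain ⟨r, hr, hr2⟩ := exists_smul_of_pr_eq hxy
  have hr1 : r = 1 := by
    apply zmod2_eq_one
    intro h0
    rw [h0, Fintype.card_fin, zero_pow (by omega)] at hr
    exact zero_ne_one hr
  apply Subtype.ext
  rw [hr2, hr1, one_smul]

/-- every automorphism of `SL_n(2)`, `n ≥ 3`, is inner or inner composed with
inverse-transpose -/
theorem aut_SL_two (hn : 3 ≤ n) (α : MulAut (SpecialLinearGroup (Fin n) (ZMod 2))) :
    ∃ s : SpecialLinearGroup (Fin n) (ZMod 2),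
      (∀ y, α y = s * y * s⁻¹) ∨ (∀ y, α y = s * invT y * s⁻¹) := by
  haveI : Fact (Nat.Prime 2) := ⟨Nat.prime_two⟩
  have hinj := pr_injective_two (n := n) (by omega)
  set prE : SpecialLinearGroup (Fin n) (ZMod 2) ≃*
      Matrix.ProjectiveSpecialLinearGroup (Fin n) (ZMod 2) :=
    MulEquiv.ofBijective pr ⟨hinj, pr_surjective⟩ with hprE
  have hprE_apply : ∀ y, prE y = pr y := fun y => rfl
  set β : MulAut (Matrix.ProjectiveSpecialLinearGroup (Fin n) (ZMod 2)) :=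
    (prE.symm.trans α).trans prE with hβdef
  have hβpr : ∀ y, β (pr y) = pr (α y) := by
    intro y
    show prE (α (prE.symm (pr y))) = pr (α y)
    rw [← hprE_apply y, MulEquiv.symm_apply_apply]
    rfl
  obtain ⟨g, σ, γ, hγ, hβ⟩ := exists_Gam_Phi_Iota hn 2 β
  have hσ : σ = 1 := Subsingleton.elim _ _
  have hdet : g.1.det = 1 := by
    apply zmod2_eq_one
    intro h0
    have h1 : g.1 * (g⁻¹).1 = 1 := by
      rw [← Units.val_mul, mul_inv_cancel]; rfl
    have h2 := congrArg Matrix.det h1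
    rw [Matrix.det_mul, h0, zero_mul, Matrix.det_one] at h2
    exact zero_ne_one h2
  obtain ⟨s₀, hs₀⟩ : ∃ s₀ : SpecialLinearGroup (Fin n) (ZMod 2), s₀.1 = g.1 :=
    ⟨⟨g.1, hdet⟩, rfl⟩
  have hg : Matrix.SpecialLinearGroup.toGL s₀ = g := by
    apply Units.ext
    rw [← hs₀]
    rfl
  have hGam : (Gam g : MulAut (Matrix.ProjectiveSpecialLinearGroup (Fin n) (ZMod 2)))
      = MulAut.conj (pr s₀) := by
    rw [conj_pr, hg]
  refine ⟨s₀, ?_⟩
  rcases hγ with hγ1 | hγI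
  · left
    intro y
    apply hinj
    rw [← hβpr, hβ, hσ, map_one, mul_one, hγ1, mul_one, hGam, MulAut.conj_apply,
      ← map_inv, ← map_mul, ← map_mul]
  · right
    intro y
    apply hinj
    rw [← hβpr, hβ, hσ, map_one, mul_one, hγI, MulAut.mul_apply, Iota_pr, hGam,
      MulAut.conj_apply, ← map_inv, ← map_mul, ← map_mul]

end Cfsg.Agent.Lib.Helper39.LnTwo
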