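import Mathlib
import Cfsg.Agent.Lib.Helper39.LnTwoB

set_option autoImplicit false
set_option linter.unusedSimpArgs false
set_option linter.unusedVariables false
set_option linter.unnecessarySeqFocus false
set_option linter.unusedSectionVars false
set_option linter.style.haveILetI false

/-!
# Extensions of `SL_n(2)` by an outer automorphism: a 2-subgroup meeting all its conjugates
-/

namespace Cfsg.Agent.Lib.Helper39.LnTwo

open Matrix Cfsg.Agent.Lib.Helper5.AutPSLn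

variable {G : Type*} [Group G] {n : ℕ}

/-- the embedding of `SL_n(2)` in `G` given by an isomorphism with a subgroup -/
def iotaHom (N : Subgroup G) (e : N ≃* SpecialLinearGroup (Fin n) (ZMod 2)) :
    SpecialLinearGroup (Fin n) (ZMod 2) →* G :=
  N.subtype.comp e.symm.toMonoidHom

lemma iotaHom_apply (N : Subgroup G) (e : N ≃* SpecialLinearGroup (Fin n) (ZMod 2))
    (s : SpecialLinearGroup (Fin n) (ZMod 2)) : iotaHom N e s = (e.symm s : G) := rfl

lemma iotaHom_mem (N : Subgroup G) (e : N ≃* SpecialLinearGroup (Fin n) (ZMod 2))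
    (s : SpecialLinearGroup (Fin n) (ZMod 2)) : iotaHom N e s ∈ N := (e.symm s).2

lemma iotaHom_injective (N : Subgroup G) (e : N ≃* SpecialLinearGroup (Fin n) (ZMod 2)) :
    Function.Injective (iotaHom N e) := by
  intro s t h
  have : e.symm s = e.symm t := Subtype.ext h
  exact e.symm.injective this

lemma exists_iotaHom_eq (N : Subgroup G) (e : N ≃* SpecialLinearGroup (Fin n) (ZMod 2))
    {m : G} (hm : m ∈ N) : ∃ s, iotaHom N e s = m :=
  ⟨e ⟨m, hm⟩, by rw [iotaHom_apply, MulEquiv.symm_apply_apply]⟩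

/-- conjugation by an element of `G` transported to `SL_n(2)` -/
lemma exists_aut (N : Subgroup G) [N.Normal] (e : N ≃* SpecialLinearGroup (Fin n) (ZMod 2))
    (x : G) : ∃ α : MulAut (SpecialLinearGroup (Fin n) (ZMod 2)),
      ∀ s, iotaHom N e (α s) = x * iotaHom N e s * x⁻¹ := by
  refine ⟨(e.symm.trans (MulAut.conjNormal x)).trans e, ?_⟩
  intro s
  show ((e.symm (e (MulAut.conjNormal x (e.symm s))) : N) : G) = x * (e.symm s : G) * x⁻¹
  rw [MulEquiv.symm_apply_apply, MulAut.conjNormal_apply]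

/-- The key structural statement: there is a 2-subgroup `H₀` of `G` meeting each of its
conjugates non-trivially. -/
theorem exists_two_subgroup [Finite G] (hn : 3 ≤ n) (N : Subgroup G) [N.Normal]
    (e : N ≃* SpecialLinearGroup (Fin n) (ZMod 2)) (hidx : N.index = 2)
    (hC : Subgroup.centralizer (N : Set G) = ⊥) :
    ∃ H₀ : Subgroup G, IsPGroup 2 H₀ ∧
      ∀ x : G, ∃ z : G, z ≠ 1 ∧ z ∈ H₀ ∧ x⁻¹ * z * x ∈ H₀ := by
  haveI : Fact (Nat.Prime 2) := ⟨Nat.prime_two⟩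
  set ι := iotaHom N e with hι
  have hιN : ∀ s, ι s ∈ N := iotaHom_mem N e
  have hιinj : Function.Injective ι := iotaHom_injective N e
  -- elements centralizing the image of `ι` are trivial
  have hcent : ∀ z : G, (∀ s, z * ι s * z⁻¹ = ι s) → z = 1 := by
    intro z hz
    have : z ∈ Subgroup.centralizer (N : Set G) := by
      rw [Subgroup.mem_centralizer_iff]
      intro m hm
      obtain ⟨s, rfl⟩ := exists_iotaHom_eq N e hm
      have := hz s
      rw [mul_inv_eq_iff_eq_mul] at this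
      exact this.symm
    rw [hC] at this
    exact (Subgroup.mem_bot).1 this
  -- an element outside `N`
  obtain ⟨x₀, hx₀⟩ : ∃ x₀ : G, x₀ ∉ N := by
    by_contra hcon
    push Not at hcon
    have : N = ⊤ := (Subgroup.eq_top_iff' N).2 hcon
    rw [this, Subgroup.index_top] at hidx
    omega
  -- the element `τ` acting as inverse-transpose
  obtain ⟨τ, hτN, hτ⟩ : ∃ τ : G, τ ∉ N ∧ ∀ s, τ * ι s * τ⁻¹ = ι (invT s) := by
    obtain ⟨α, hα⟩ : ∃ α : MulAut (SpecialLinearGroup (Fin n) (ZMod 2)),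
        ∀ s, ι (α s) = x₀ * ι s * x₀⁻¹ := exists_aut N e x₀
    obtain ⟨s₀, hs₀ | hs₀⟩ := aut_SL_two hn α
    · exfalso
      apply hx₀
      have h1 : (ι s₀)⁻¹ * x₀ = 1 := by
        apply hcent
        intro s
        have h2 := hα s
        rw [hs₀ s, map_mul, map_mul, map_inv] at h2
        calc (ι s₀)⁻¹ * x₀ * ι s * ((ι s₀)⁻¹ * x₀)⁻¹
            = (ι s₀)⁻¹ * (x₀ * ι s * x₀⁻¹) * ι s₀ := by group
          _ = ι s := by rw [← h2]; group
      have h3 : x₀ = ι s₀ := by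
        rw [inv_mul_eq_one] at h1
        exact h1.symm
      rw [h3]
      exact hιN s₀
    · refine ⟨(ι s₀)⁻¹ * x₀, ?_, ?_⟩
      · intro h
        apply hx₀
        have := N.mul_mem (hιN s₀) h
        rwa [mul_inv_cancel_left] at this
      · intro s
        have h2 := hα s
        rw [hs₀ s, map_mul, map_mul, map_inv] at h2
        calc (ι s₀)⁻¹ * x₀ * ι s * ((ι s₀)⁻¹ * x₀)⁻¹
            = (ι s₀)⁻¹ * (x₀ * ι s * x₀⁻¹) * ι s₀ := by group
          _ = ι (invT s) := by rw [← h2]; group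
  -- `τ` is an involution
  have hτ2 : τ * τ = 1 := by
    apply hcent
    intro s
    calc τ * τ * ι s * (τ * τ)⁻¹ = τ * (τ * ι s * τ⁻¹) * τ⁻¹ := by group
      _ = ι s := by rw [hτ, hτ, invT_invT]
  -- the element `σ₀`
  set σ₀ : G := ι (w0 n) * τ with hσ₀
  have hσ₀N : σ₀ ∉ N := by
    intro h
    apply hτN
    have := N.mul_mem (N.inv_mem (hιN (w0 n))) h
    rwa [hσ₀, inv_mul_cancel_left] at this
  have hσ₀conj : ∀ s, σ₀ * ι s * σ₀⁻¹ = ι (w0 n * invT s * (w0 n)⁻¹) := by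
    intro s
    calc σ₀ * ι s * σ₀⁻¹ = ι (w0 n) * (τ * ι s * τ⁻¹) * (ι (w0 n))⁻¹ := by
          rw [hσ₀]; group
      _ = ι (w0 n * invT s * (w0 n)⁻¹) := by
          rw [hτ, map_mul, map_mul, map_inv]
  have hτw : τ * ι (w0 n) = ι (w0 n) * τ := by
    have := hτ (w0 n)
    rw [invT_w0, mul_inv_eq_iff_eq_mul] at this
    exact this
  have hσ₀2 : σ₀ * σ₀ = 1 := by
    calc σ₀ * σ₀ = ι (w0 n) * (τ * ι (w0 n)) * τ := by rw [hσ₀]; group
      _ = ι (w0 n) * (ι (w0 n) * τ) * τ := by rw [hτw]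
      _ = ι (w0 n * w0 n) * (τ * τ) := by rw [map_mul]; group
      _ = 1 := by rw [w0_mul_w0, map_one, hτ2, one_mul]
  have hσ₀inv : σ₀⁻¹ = σ₀ := inv_eq_of_mul_eq_one_right hσ₀2
  have hσ₀1 : σ₀ ≠ 1 := by
    intro h
    apply hσ₀N
    rw [h]
    exact N.one_mem
  have hσ₀w : σ₀ * ι (w0 n) = ι (w0 n) * σ₀ := by
    have := hσ₀conj (w0 n)
    rw [invT_w0, mul_inv_cancel_right, mul_inv_eq_iff_eq_mul] at this
    exact this
  -- the unitriangular subgroup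
  set UG : Subgroup G := (Uni n (ZMod 2)).map ι with hUG
  have hUGp : IsPGroup 2 UG := (Uni_isPGroup (n := n) (F := ZMod 2) 2).map ι
  have hσ₀U : ∀ h ∈ UG, σ₀ * h * σ₀⁻¹ ∈ UG := by
    intro h hh
    obtain ⟨u, hu, rfl⟩ := Subgroup.mem_map.1 hh
    rw [hσ₀conj]
    exact Subgroup.mem_map.2 ⟨_, w0_invT_mem_Uni hu, rfl⟩
  have hσ₀norm : σ₀ ∈ Subgroup.normalizer (UG : Set G) := by
    rw [Subgroup.mem_normalizer_iff]
    intro h
    constructor
    · exact hσ₀U h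
    · intro hh
      have := hσ₀U _ hh
      have h2 : σ₀ * (σ₀ * h * σ₀⁻¹) * σ₀⁻¹ = h := by
        rw [hσ₀inv]
        calc σ₀ * (σ₀ * h * σ₀) * σ₀ = (σ₀ * σ₀) * h * (σ₀ * σ₀) := by group
          _ = h := by rw [hσ₀2, one_mul, mul_one]
      rwa [h2] at this
  have hZp : IsPGroup 2 (Subgroup.zpowers σ₀) := by
    apply IsPGroup.of_card (n := 1)
    rw [Nat.card_zpowers, pow_one]
    exact orderOf_eq_prime (by rw [pow_two]; exact hσ₀2) hσ₀1
  set H₀ : Subgroup G := Subgroup.zpowers σ₀ ⊔ UG with hH₀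
  have hH₀p : IsPGroup 2 H₀ :=
    IsPGroup.to_sup_of_normal_right' hZp hUGp
      ((Subgroup.zpowers_le).2 hσ₀norm)
  have hσ₀H : σ₀ ∈ H₀ := Subgroup.mem_sup_left (Subgroup.mem_zpowers σ₀)
  have hUH : ∀ u ∈ Uni n (ZMod 2), ι u ∈ H₀ := fun u hu =>
    Subgroup.mem_sup_right (Subgroup.mem_map.2 ⟨u, hu, rfl⟩)
  -- the case `x ∈ N`
  have hcaseN : ∀ g : SpecialLinearGroup (Fin n) (ZMod 2),
      ∃ z : G, z ≠ 1 ∧ z ∈ H₀ ∧ (ι g)⁻¹ * z * ι g ∈ H₀ := by
    intro g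
    rcases dichotomy g with ⟨u, hu, hu1, hgu⟩ | ⟨u₁, hu₁, u₂, hu₂, hg⟩
    · refine ⟨ι u, ?_, hUH u hu, ?_⟩
      · intro h
        apply hu1
        apply hιinj
        rw [h, map_one]
      · have : (ι g)⁻¹ * ι u * ι g = ι (g⁻¹ * u * g) := by
          rw [map_mul, map_mul, map_inv]
        rw [this]
        exact hUH _ hgu
    · refine ⟨ι u₁ * σ₀ * (ι u₁)⁻¹, ?_, ?_, ?_⟩
      · intro h
        apply hσ₀1
        have : σ₀ = (ι u₁)⁻¹ * (ι u₁ * σ₀ * (ι u₁)⁻¹) * ι u₁ := by group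
        rw [this, h]
        group
      · exact H₀.mul_mem (H₀.mul_mem (hUH u₁ hu₁) hσ₀H) (H₀.inv_mem (hUH u₁ hu₁))
      · have h1 : (ι g)⁻¹ * (ι u₁ * σ₀ * (ι u₁)⁻¹) * ι g = (ι u₂)⁻¹ * σ₀ * ι u₂ := by
          rw [hg, map_mul, map_mul]
          calc (ι u₁ * ι (w0 n) * ι u₂)⁻¹ * (ι u₁ * σ₀ * (ι u₁)⁻¹) * (ι u₁ * ι (w0 n) * ι u₂)
              = (ι u₂)⁻¹ * ((ι (w0 n))⁻¹ * (σ₀ * ι (w0 n))) * ι u₂ := by group
            _ = (ι u₂)⁻¹ * σ₀ * ι u₂ := by rw [hσ₀w]; group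
        rw [h1]
        exact H₀.mul_mem (H₀.mul_mem (H₀.inv_mem (hUH u₂ hu₂)) hσ₀H) (hUH u₂ hu₂)
  refine ⟨H₀, hH₀p, ?_⟩
  intro x
  by_cases hx : x ∈ N
  · obtain ⟨g, rfl⟩ := exists_iotaHom_eq N e hx
    exact hcaseN g
  · have hxσ : x * σ₀ ∈ N := by
      rw [Subgroup.mul_mem_iff_of_index_two hidx]
      exact ⟨fun h => absurd h hx, fun h => absurd h hσ₀N⟩
    obtain ⟨g, hg⟩ := exists_iotaHom_eq N e hxσ
    obtain ⟨z, hz1, hzH, hzg⟩ := hcaseN g
    refine ⟨z, hz1, hzH, ?_⟩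
    have hg' : ι g = x * σ₀ := hg
    rw [hg'] at hzg
    have h2 : x⁻¹ * z * x = σ₀ * ((x * σ₀)⁻¹ * z * (x * σ₀)) * σ₀⁻¹ := by group
    rw [h2]
    exact H₀.mul_mem (H₀.mul_mem hσ₀H hzg) (H₀.inv_mem hσ₀H)

end Cfsg.Agent.Lib.Helper39.LnTwo
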