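import Mathlib
import Cfsg.Prelude.Def_GeometricClasses
import Cfsg.Agent.Lib.Helper44.UfDefs
import Cfsg.Agent.Lib.Helper83.TnsO2b

/-! # S5981 hive (helper44), leaf OF-F1 (helper39): an element `A ≠ 1` with `A ^ r = 1` (`r` an odd prime, `r ≠ p`,
`i = ord_r(q)` odd) whose polynomial ranks are reverse-symmetric has `rank (A - 1) ≥ 2 i`.

NOTE: the skeleton statement is FALSE for `r = 2` (`F = 𝔽₃`, `A = diag(-1, 1)`), so the hypothesis
`hr2 : r ≠ 2` is added. -/

set_option autoImplicit false
set_option linter.unusedVariables false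
open scoped MatrixGroups
open Matrix Polynomial Module

namespace Cfsg.Agent.Lib.Helper44.Of

universe v

variable {F : Type v} [Field F]

section core

variable {V : Type*} [AddCommGroup V] [Module F V]

/-- if every irreducible factor of `p ≠ 0` acts invertibly, so does `p` -/
theorem f1_isUnit_aeval (f : Module.End F V) (p : F[X]) :
    p ≠ 0 → (∀ g : F[X], Irreducible g → g ∣ p → IsUnit (aeval f g)) → IsUnit (aeval f p) := by
  refine WfDvdMonoid.induction_on_irreducible p ?_ ?_ ?_
  · intro h; exact absurd rfl h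
  · intro u hu _ _; exact hu.map (aeval f)
  · intro a i ha hi ih _ hall
    rw [map_mul]
    exact (hall i hi (dvd_mul_right i a)).mul
      (ih ha (fun g hg hga => hall g hg (hga.trans (dvd_mul_left a i))))

/-- some irreducible factor of the cyclotomic polynomial has a nonzero kernel -/
theorem f1_exists_factor [FiniteDimensional F V] (r : ℕ) [Fact r.Prime] (f : Module.End F V)
    (hf : f ^ r = 1) (hf1 : f ≠ 1) :
    ∃ g : F[X], Irreducible g ∧ g ∣ cyclotomic r F ∧ LinearMap.ker (aeval f g) ≠ ⊥ := by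
  by_contra hcon
  push Not at hcon
  have hΦ0 : cyclotomic r F ≠ 0 := cyclotomic_ne_zero r F
  have hu : IsUnit (aeval f (cyclotomic r F)) := by
    apply f1_isUnit_aeval f _ hΦ0
    intro g hg hgd
    exact (LinearMap.isUnit_iff_ker_eq_bot _).mpr (hcon g hg hgd)
  have h0 : aeval f (cyclotomic r F) * (f - 1) = 0 := by
    have := congrArg (aeval f) (cyclotomic_prime_mul_X_sub_one F r)
    simpa [hf] using this
  apply hf1
  exact sub_eq_zero.mp ((hu.mul_right_eq_zero).mp h0)

/-- the kernel of an irreducible polynomial in `f`, if nonzero, has dimension at least its degree -/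
theorem f1_le_finrank_ker [FiniteDimensional F V] (f : Module.End F V) (g : F[X])
    (hg : Irreducible g) (hK : LinearMap.ker (aeval f g) ≠ ⊥) :
    g.natDegree ≤ finrank F (LinearMap.ker (aeval f g)) := by
  obtain ⟨v, hvK, hv0⟩ := (Submodule.ne_bot_iff _).mp hK
  set i := g.natDegree with hi
  let φ : degreeLT F i →ₗ[F] V :=
    ((LinearMap.applyₗ v) ∘ₗ (aeval f).toLinearMap) ∘ₗ (degreeLT F i).subtype
  have hφ : ∀ p : degreeLT F i, φ p = aeval f (p : F[X]) v := fun p => rfl
  have hinj : Function.Injective φ := by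
    rw [← LinearMap.ker_eq_bot, LinearMap.ker_eq_bot']
    intro p hp
    rw [hφ] at hp
    by_contra hp0
    have hp0' : (p : F[X]) ≠ 0 := fun h => hp0 (Subtype.ext h)
    have hdeg : (p : F[X]).degree < g.degree := by
      have := Polynomial.mem_degreeLT.mp p.2
      rw [Polynomial.degree_eq_natDegree hg.ne_zero]
      exact this
    have hnd : ¬ g ∣ (p : F[X]) := Polynomial.not_dvd_of_degree_lt hp0' hdeg
    have hcop : IsCoprime g (p : F[X]) := (Irreducible.coprime_iff_not_dvd hg).mpr hnd
    have hdisj := Polynomial.disjoint_ker_aeval_of_isCoprime f hcop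
    have hmem : v ∈ LinearMap.ker (aeval f g) ⊓ LinearMap.ker (aeval f (p : F[X])) := ⟨hvK, hp⟩
    rw [hdisj.eq_bot] at hmem
    exact hv0 ((Submodule.mem_bot F).mp hmem)
  have hrange : LinearMap.range φ ≤ LinearMap.ker (aeval f g) := by
    rintro _ ⟨p, rfl⟩
    rw [hφ, LinearMap.mem_ker, ← Module.End.mul_apply, ← map_mul, mul_comm, map_mul,
      Module.End.mul_apply, LinearMap.mem_ker.mp hvK, map_zero]
  calc i = finrank F (degreeLT F i) := by
        rw [LinearEquiv.finrank_eq (degreeLTEquiv F i), Module.finrank_fin_fun]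
    _ = finrank F (LinearMap.range φ) := (LinearMap.finrank_range_of_inj hinj).symm
    _ ≤ _ := Submodule.finrank_mono hrange

end core

/-- the alternating sum of a palindromic sequence of even length vanishes -/
theorem f1_alt_sum {R : Type*} [CommRing R] (j : ℕ) (a : ℕ → R)
    (ha : ∀ k, k ≤ 2 * j + 1 → a (2 * j + 1 - k) = a k) :
    ∑ k ∈ Finset.range (2 * j + 2), a k * (-1) ^ k = 0 := by
  have h1 : 2 * j + 2 = (j + 1) + (j + 1) := by ring
  rw [h1, Finset.sum_range_add]
  have h2 : ∑ x ∈ Finset.range (j + 1), a (j + 1 + x) * (-1) ^ (j + 1 + x)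
      = - ∑ x ∈ Finset.range (j + 1), a x * (-1) ^ x := by
    have hr := Finset.sum_range_reflect (fun x => a (j + 1 + x) * (-1 : R) ^ (j + 1 + x)) (j + 1)
    rw [← hr, ← Finset.sum_neg_distrib]
    apply Finset.sum_congr rfl
    intro x hx
    rw [Finset.mem_range] at hx
    have e1 : j + 1 + (j + 1 - 1 - x) = 2 * j + 1 - x := by omega
    simp only [e1]
    rw [ha x (by omega)]
    have e2 : (-1 : R) ^ (2 * j + 1 - x) = - (-1) ^ x := by
      have hsum : 2 * j + 1 - x + x = 2 * j + 1 := by omega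
      have h3 : (-1 : R) ^ (2 * j + 1 - x) * (-1) ^ x = -1 := by
        rw [← pow_add, hsum, pow_succ, pow_mul]; simp
      have h4 : ((-1 : R) ^ x) * (-1) ^ x = 1 := by rw [← mul_pow]; simp
      calc (-1 : R) ^ (2 * j + 1 - x)
          = (-1 : R) ^ (2 * j + 1 - x) * ((-1) ^ x * (-1) ^ x) := by rw [h4, mul_one]
        _ = - (-1) ^ x := by rw [← mul_assoc, h3]; ring
    rw [e2]; ring
  rw [h2]; ring

/-- `Σ_{k < 2m+1} (-1)^k = 1` -/
theorem f1_geom_neg_one {R : Type*} [CommRing R] (m : ℕ) :
    ∑ k ∈ Finset.range (2 * m + 1), (-1 : R) ^ k = 1 := by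
  induction m with
  | zero => simp
  | succ m ih =>
    have : 2 * (m + 1) + 1 = (2 * m + 1) + 1 + 1 := by ring
    rw [this, Finset.sum_range_succ, Finset.sum_range_succ, ih]
    have h1 : (-1 : R) ^ (2 * m + 1) = -1 := by rw [pow_succ, pow_mul]; simp
    have h2 : (-1 : R) ^ (2 * m + 1 + 1) = 1 := by rw [pow_succ, h1]; simp
    rw [h1, h2]; ring

/-- a self-reciprocal polynomial of odd degree vanishes at `-1` -/
theorem f1_eval_neg_one (g : F[X]) (hrev : g.reverse = g) (hodd : Odd g.natDegree) :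
    g.eval (-1) = 0 := by
  obtain ⟨j, hj⟩ := hodd
  rw [Polynomial.eval_eq_sum_range, hj]
  apply f1_alt_sum j (fun k => g.coeff k)
  intro k hk
  have h1 : g.coeff k = g.reverse.coeff k := by rw [hrev]
  rw [h1, Polynomial.coeff_reverse, hj, Polynomial.revAt_le hk]

/-- `reverse` does not change the value at `1` -/
theorem f1_eval_one_reverse (g : F[X]) : g.reverse.eval 1 = g.eval 1 := by
  let _ : Invertible (1 : F) := invertibleOne
  have h := Polynomial.eval₂_reverse_mul_pow (RingHom.id F) (1 : F) g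
  rw [invOf_one, one_pow, mul_one] at h
  exact h

/-- an irreducible factor of odd degree of `Φ_r` (`r` an odd prime, `r ≠ 0` in `F`) is coprime to its reverse -/
theorem f1_coprime_reverse (r : ℕ) [Fact r.Prime] (hr2 : r ≠ 2) (hrF : (r : F) ≠ 0) (g : F[X])
    (hg : Irreducible g) (hgd : g ∣ cyclotomic r F) (hodd : Odd g.natDegree) :
    g.eval 1 ≠ 0 ∧ IsCoprime g g.reverse := by
  have hg1 : g.eval 1 ≠ 0 := by
    obtain ⟨q, hq⟩ := hgd
    have h1 := congrArg (Polynomial.eval 1) hq
    rw [Polynomial.eval_one_cyclotomic_prime, Polynomial.eval_mul] at h1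
    intro h0
    rw [h0, zero_mul] at h1
    exact hrF h1
  refine ⟨hg1, (Irreducible.coprime_iff_not_dvd hg).mpr ?_⟩
  rintro ⟨q, hq⟩
  have hrev0 : g.reverse ≠ 0 := by
    rw [Ne, Polynomial.reverse_eq_zero]; exact hg.ne_zero
  have hq0 : q ≠ 0 := by
    rintro rfl
    rw [mul_zero] at hq
    exact hrev0 hq
  have hdeg : g.reverse.natDegree = g.natDegree + q.natDegree := by
    rw [hq, Polynomial.natDegree_mul hg.ne_zero hq0]
  have hle := Polynomial.reverse_natDegree_le g
  have hq1 : q.natDegree = 0 := by omega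
  obtain ⟨c, hc⟩ : ∃ c : F, q = C c := ⟨q.coeff 0, Polynomial.eq_C_of_natDegree_eq_zero hq1⟩
  have hc1 : c = 1 := by
    have h1 := congrArg (Polynomial.eval 1) hq
    rw [f1_eval_one_reverse, hc, Polynomial.eval_mul, Polynomial.eval_C] at h1
    have h2 : g.eval 1 * (c - 1) = 0 := by rw [mul_sub, mul_one, ← h1, sub_self]
    rcases mul_eq_zero.mp h2 with h3 | h3
    · exact absurd h3 hg1
    · exact sub_eq_zero.mp h3
  have hrev : g.reverse = g := by rw [hq, hc, hc1, map_one, mul_one]
  have hm1 : g.eval (-1) = 0 := f1_eval_neg_one g hrev hodd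
  obtain ⟨q', hq'⟩ := hgd
  have h5 := congrArg (Polynomial.eval (-1)) hq'
  rw [Polynomial.eval_mul, hm1, zero_mul, Polynomial.cyclotomic_prime, Polynomial.eval_finsetSum] at h5
  simp only [Polynomial.eval_pow, Polynomial.eval_X] at h5
  have hrodd : Odd r := (Fact.out : r.Prime).odd_of_ne_two hr2
  obtain ⟨m, hm⟩ := hrodd
  rw [hm, f1_geom_neg_one] at h5
  exact one_ne_zero h5

section core2

variable {V : Type*} [AddCommGroup V] [Module F V]

/-- the core statement for an endomorphism of a finite-dimensional space -/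
theorem f1_core [Fintype F] [FiniteDimensional F V] (r : ℕ) [Fact r.Prime] (hr2 : r ≠ 2)
    (hrF : (r : F) ≠ 0) (hi : Odd (orderOf ((Fintype.card F : ℕ) : ZMod r)))
    (f : Module.End F V) (hf : f ^ r = 1) (hf1 : f ≠ 1)
    (hsym : ∀ g : F[X], finrank F (LinearMap.ker (aeval f g))
      = finrank F (LinearMap.ker (aeval f g.reverse))) :
    2 * orderOf ((Fintype.card F : ℕ) : ZMod r) + finrank F (LinearMap.ker (f - 1))
      ≤ finrank F V := by
  obtain ⟨g, hg, hgd, hK⟩ := f1_exists_factor r f hf hf1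
  obtain ⟨p, hp⟩ := CharP.exists F
  have := hp
  have : Fact p.Prime := ⟨CharP.char_is_prime F p⟩
  have hrp : r ≠ p := by
    rintro rfl
    exact hrF (CharP.cast_eq_zero F r)
  have hdeg : g.natDegree = orderOf ((Fintype.card F : ℕ) : ZMod r) :=
    Cfsg.Agent.Lib.Helper44.Tns.o2b_natDegree_of_dvd_cyclotomic (p := p) r hrp hgd hg
  have hodd : Odd g.natDegree := by rw [hdeg]; exact hi
  obtain ⟨hg1, hcop⟩ := f1_coprime_reverse r hr2 hrF g hg hgd hodd
  have hk1 : g.natDegree ≤ finrank F (LinearMap.ker (aeval f g)) := f1_le_finrank_ker f g hg hK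
  have hk2 : finrank F (LinearMap.ker (aeval f g)) = finrank F (LinearMap.ker (aeval f g.reverse)) :=
    hsym g
  -- `K₁ ⊔ K₂ = ker (g * g.reverse)(f)`
  have hsup := Polynomial.sup_ker_aeval_eq_ker_aeval_mul_of_coprime f hcop
  have hdisj := Polynomial.disjoint_ker_aeval_of_isCoprime f hcop
  have hdim12 := Submodule.finrank_sup_add_finrank_inf_eq (LinearMap.ker (aeval f g))
    (LinearMap.ker (aeval f g.reverse))
  rw [hdisj.eq_bot, finrank_bot, add_zero, hsup] at hdim12
  -- coprimality with `X - 1`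
  have hX1 : ∀ q : F[X], q.eval 1 ≠ 0 → IsCoprime q (X - C (1 : F)) := by
    intro q hq
    apply IsCoprime.symm
    apply (Irreducible.coprime_iff_not_dvd (Polynomial.irreducible_X_sub_C (1 : F))).mpr
    rw [Polynomial.dvd_iff_isRoot]
    exact hq
  have hcop3 : IsCoprime (g * g.reverse) (X - C (1 : F)) :=
    IsCoprime.mul_left (hX1 g hg1) (hX1 g.reverse (by rw [f1_eval_one_reverse]; exact hg1))
  have hdisj3 := Polynomial.disjoint_ker_aeval_of_isCoprime f hcop3
  have hdim3 := Submodule.finrank_sup_add_finrank_inf_eq (LinearMap.ker (aeval f (g * g.reverse)))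
    (LinearMap.ker (aeval f (X - C (1 : F))))
  rw [hdisj3.eq_bot, finrank_bot, add_zero] at hdim3
  have hle := Submodule.finrank_le (LinearMap.ker (aeval f (g * g.reverse)) ⊔
    LinearMap.ker (aeval f (X - C (1 : F))))
  have hker1 : aeval f (X - C (1 : F)) = f - 1 := by simp
  rw [hker1] at hdim3 hle
  omega

end core2

/-- rank–nullity for a square matrix, via `Matrix.toLinAlgEquiv'` -/
theorem f1_rank_add_ker {n : ℕ} (M : Matrix (Fin n) (Fin n) F) :
    M.rank + finrank F (LinearMap.ker (Matrix.toLinAlgEquiv' M)) = n := by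
  have h := LinearMap.finrank_range_add_finrank_ker (Matrix.toLinAlgEquiv' M)
  rw [Module.finrank_fin_fun] at h
  have h2 : (Matrix.toLinAlgEquiv' M : (Fin n → F) →ₗ[F] (Fin n → F)) = M.mulVecLin := by
    apply LinearMap.ext
    intro v
    rw [Matrix.toLinAlgEquiv'_apply, Matrix.mulVecLin_apply]
  unfold Matrix.rank
  rw [← h2]
  exact h

/-- OF-F1 (with the necessary extra hypothesis `hr2 : r ≠ 2`) -/
theorem two_mul_le_rank_of_odd [Fintype F] {n : ℕ} (r : ℕ) [Fact r.Prime] (hr2 : r ≠ 2)
    (hrF : (r : F) ≠ 0)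
    (hi : Odd (orderOf ((Fintype.card F : ℕ) : ZMod r))) (A : Matrix (Fin n) (Fin n) F)
    (hA : A ^ r = 1) (hA1 : A ≠ 1)
    (hsym : ∀ g : F[X], (aeval A g).rank = (aeval A g.reverse).rank) :
    2 * orderOf ((Fintype.card F : ℕ) : ZMod r) ≤ (A - 1).rank := by
  set f : Module.End F (Fin n → F) := Matrix.toLinAlgEquiv' A with hfdef
  have hae : ∀ p : F[X], aeval f p = Matrix.toLinAlgEquiv' (aeval A p) := by
    intro p
    rw [hfdef]
    exact Polynomial.aeval_algHom_apply (Matrix.toLinAlgEquiv' (R := F) (n := Fin n)) A p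
  have hf : f ^ r = 1 := by
    rw [hfdef, ← map_pow, hA, map_one]
  have hf1 : f ≠ 1 := by
    intro h
    apply hA1
    apply (Matrix.toLinAlgEquiv' (R := F) (n := Fin n)).injective
    rw [map_one]
    exact h
  have hsym' : ∀ g : F[X], finrank F (LinearMap.ker (aeval f g))
      = finrank F (LinearMap.ker (aeval f g.reverse)) := by
    intro g
    rw [hae, hae]
    have h1 := f1_rank_add_ker (aeval A g)
    have h2 := f1_rank_add_ker (aeval A g.reverse)
    have h3 := hsym g
    omega
  have hcore := f1_core r hr2 hrF hi f hf hf1 hsym'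
  rw [Module.finrank_fin_fun] at hcore
  have hsub : f - 1 = Matrix.toLinAlgEquiv' (A - 1) := by
    rw [hfdef, map_sub, map_one]
  rw [hsub] at hcore
  have h4 := f1_rank_add_ker (A - 1)
  omega

end Cfsg.Agent.Lib.Helper44.Of
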