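import Mathlib
import Cfsg.Prelude.Def_GeometricClasses
import Cfsg.Agent.Lib.Helper44.UfDefs

/-! # S5981 hive (helper44), leaf OF-HSPOW (helper39): the `(q - 1)`-th power of a similitude of a
quadratic form is an isometry -/

set_option autoImplicit false
set_option linter.unusedVariables false
open scoped MatrixGroups
open Matrix Polynomial

namespace Cfsg.Agent.Lib.Helper44.Of

universe v

variable {F : Type v} [Field F]

/-- the `k`-th power of a similitude with multiplier `c` has multiplier `c ^ k` -/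
theorem hspow_pow {n : ℕ} (Q : (Fin n → F) → F) (h : GL (Fin n) F) (c : F)
    (hc : ∀ v, Q ((h : Matrix (Fin n) (Fin n) F) *ᵥ v) = c * Q v) (k : ℕ) :
    ∀ v, Q (((h ^ k : GL (Fin n) F) : Matrix (Fin n) (Fin n) F) *ᵥ v) = c ^ k * Q v := by
  induction k with
  | zero => intro v; simp
  | succ k ih =>
    intro v
    rw [pow_succ', Units.val_mul, ← Matrix.mulVec_mulVec, hc, ih, pow_succ', mul_assoc]

/-- OF-HSPOW : the `(q - 1)`-th power of a similitude is an isometry -/
theorem pow_mem_isometry [Fintype F] {n : ℕ} (hn : 1 ≤ n) (Q : (Fin n → F) → F)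
    (hQ : Cfsg.Geo.IsNondegenerateQuadraticForm Q) (h : GL (Fin n) F)
    (hh : h ∈ Cfsg.Geo.quadSimilarityGroup Q) :
    ∀ v, Q (((h ^ (Fintype.card F - 1) : GL (Fin n) F) : Matrix (Fin n) (Fin n) F) *ᵥ v) = Q v := by
  obtain ⟨c, hc⟩ := hh
  intro v
  rw [hspow_pow Q h (c : F) hc, FiniteField.pow_card_sub_one_eq_one _ c.ne_zero, one_mul]

end Cfsg.Agent.Lib.Helper44.Of
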