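import Mathlib
import Cfsg.Prelude.Def_GeometricClasses
import Cfsg.Agent.Lib.Helper44.UfDefs

/-! # S5981 hive (helper44), leaf OF-SPEC (helper39): similitudes of a nondegenerate quadratic form
are spectrally symmetric -/

set_option autoImplicit false
set_option linter.unusedVariables false
open scoped MatrixGroups
open Matrix Polynomial

namespace Cfsg.Agent.Lib.Helper44.Of

universe v

variable {F : Type v} [Field F]

open Cfsg.Agent.Lib.Helper44.Uf

/-- a similitude (multiplier `c`) of a right-nondegenerate bilinear form on `F^n` is spectrally symmetric -/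
theorem spec_main {n : ℕ} (B : LinearMap.BilinForm F (Fin n → F))
    (hB : ∀ v, v ≠ 0 → ∃ x, B x v ≠ 0)
    (A : Matrix (Fin n) (Fin n) F) (hA : IsUnit A.det) (c : F) (hc0 : c ≠ 0)
    (hc : ∀ u v, B (A *ᵥ u) (A *ᵥ v) = c * B u v) :
    ∀ μ : F, μ ≠ 0 → (A - μ • (1 : Matrix (Fin n) (Fin n) F)).rank
      = (A - (c / μ) • (1 : Matrix (Fin n) (Fin n) F)).rank := by
  set G : Matrix (Fin n) (Fin n) F := LinearMap.BilinForm.toMatrix' B with hG
  have hBG : ∀ x v, B x v = x ⬝ᵥ (G *ᵥ v) := by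
    intro x v
    have h1 : Matrix.toBilin' G = B := Matrix.toBilin'_toMatrix' B
    rw [← h1, Matrix.toBilin'_apply']
  have hGdet : IsUnit G.det := by
    rw [isUnit_iff_ne_zero]
    intro h0
    obtain ⟨v, hv0, hv⟩ := Matrix.exists_mulVec_eq_zero_iff.mpr h0
    obtain ⟨x, hx⟩ := hB v hv0
    apply hx
    rw [hBG, hv, dotProduct_zero]
  have hgram : Aᵀ * G * A = c • G := by
    have h1 := LinearMap.BilinForm.mul_toMatrix'_mul B Aᵀ A
    rw [Matrix.transpose_transpose] at h1
    rw [hG, h1]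
    have h2 : B.comp (Matrix.toLin' A) (Matrix.toLin' A) = c • B := by
      refine LinearMap.ext fun u => LinearMap.ext fun v => ?_
      simp only [LinearMap.BilinForm.comp_apply, Matrix.toLin'_apply, LinearMap.smul_apply,
        smul_eq_mul]
      exact hc _ _
    rw [h2]
    exact map_smul _ c B
  intro μ hμ
  have hprod : (A - μ • (1 : Matrix (Fin n) (Fin n) F))ᵀ * (G * A)
      = (-μ) • (G * (A - (c / μ) • (1 : Matrix (Fin n) (Fin n) F))) := by
    rw [Matrix.transpose_sub, Matrix.transpose_smul, Matrix.transpose_one, Matrix.sub_mul,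
      ← Matrix.mul_assoc, hgram, Matrix.smul_mul, Matrix.one_mul, Matrix.mul_sub, Matrix.mul_smul,
      Matrix.mul_one, smul_sub, smul_smul]
    have : -μ * (c / μ) = -c := by field_simp
    rw [this]
    simp only [neg_smul, sub_neg_eq_add]
    abel
  have hGA : IsUnit (G * A).det := by
    rw [Matrix.det_mul]
    exact hGdet.mul hA
  have hμ' : (-μ) ∈ nonZeroDivisors F := mem_nonZeroDivisors_of_ne_zero (neg_ne_zero.mpr hμ)
  calc (A - μ • (1 : Matrix (Fin n) (Fin n) F)).rank
      = ((A - μ • (1 : Matrix (Fin n) (Fin n) F))ᵀ).rank := (Matrix.rank_transpose _).symm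
    _ = ((A - μ • (1 : Matrix (Fin n) (Fin n) F))ᵀ * (G * A)).rank :=
        (Matrix.rank_mul_eq_left_of_isUnit_det _ _ hGA).symm
    _ = (G * (A - (c / μ) • (1 : Matrix (Fin n) (Fin n) F))).rank := by
        rw [hprod, Matrix.rank_smul_of_mem_nonZeroDivisors _ hμ']
    _ = (A - (c / μ) • (1 : Matrix (Fin n) (Fin n) F)).rank :=
        Matrix.rank_mul_eq_right_of_isUnit_det _ _ hGdet

/-- OF-SPEC : similitudes of a nondegenerate quadratic form are spectrally symmetric -/
theorem spec_specSym_of_mem {n : ℕ} (Q : (Fin n → F) → F) (hQ : Cfsg.Geo.IsNondegenerateQuadraticForm Q)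
    (h : GL (Fin n) F) (hh : h ∈ Cfsg.Geo.quadSimilarityGroup Q) :
    SpecSym 1 (h : Matrix (Fin n) (Fin n) F) := by
  obtain ⟨c, hc⟩ := hh
  have hbil := hQ.polar_bilinear
  set B : LinearMap.BilinForm F (Fin n → F) :=
    LinearMap.mk₂ F (QuadraticMap.polar Q) hbil.add_left hbil.smul_left hbil.add_right
      hbil.smul_right with hBdef
  have hBapp : ∀ u v, B u v = QuadraticMap.polar Q u v := fun u v => rfl
  refine ⟨(c : F), c.ne_zero, pow_one _, ?_⟩
  intro μ hμ
  rw [pow_one]
  refine spec_main B ?_ (h : Matrix (Fin n) (Fin n) F) ?_ (c : F) c.ne_zero ?_ μ hμ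
  · intro v hv
    obtain ⟨⟨x, hx⟩, -⟩ := hQ.nondegenerate v hv
    exact ⟨x, by rw [hBapp]; exact hx⟩
  · exact (Matrix.isUnit_iff_isUnit_det _).mp h.isUnit
  · intro u v
    rw [hBapp, hBapp]
    unfold QuadraticMap.polar
    rw [← Matrix.mulVec_add, hc, hc, hc]
    ring

end Cfsg.Agent.Lib.Helper44.Of
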