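import Mathlib
import Cfsg.Agent.Lib.Helper67.OgDefs
import Cfsg.Agent.Lib.Helper37.OrthMinus
import Cfsg.Agent.Lib.Helper43.OrthCardMinus
import Cfsg.Agent.Lib.Helper39.SLPerfect
import Cfsg.Agent.Lib.Helper54.OgEE
import Cfsg.Agent.Lib.Helper82.OgDEC
import Cfsg.Agent.Lib.Helper97.OgLTV
import Cfsg.Agent.Lib.Helper27.OgSCAL
import Cfsg.Agent.Lib.Helper64.OgCL
import Cfsg.Agent.Lib.Helper74.OgRF

/-! # OG-SIDE (Og hive S2413-S2415, owner helper67): one side of the generation criterion (helper39) -/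

set_option autoImplicit false
set_option linter.unusedSectionVars false
set_option linter.unusedVariables false

namespace Cfsg.Agent.Lib.Helper67.Og

open Matrix Module QuadraticMap
open Cfsg.Agent.Lib.Helper37 Cfsg.Agent.Lib.Helper8 Cfsg.Agent.Lib.Helper43
open Cfsg.Agent.Lib.Helper37.OrthField
open scoped commutatorElement

section abstract

variable {ι : Type} [Fintype ι] [DecidableEq ι] {F : Type*} [Field F]
variable (Q : QuadraticForm F (ι → F)) (hQ : (QuadraticMap.polarBilin Q).Nondegenerate)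
variable {k : ℕ} {e f : Fin k → ι → F}
variable {L : Matrix.SpecialLinearGroup (Fin k) F →* ↥(Cfsg.isometryGroup F ⇑Q)}

/-- `InW` is closed under addition -/
theorem side_inW_add {w w' : ι → F} (hw : InW Q e f w) (hw' : InW Q e f w') :
    InW Q e f (w + w') := by
  intro i
  constructor
  · rw [polar_add_right, (hw i).1, (hw' i).1, add_zero]
  · rw [polar_add_right, (hw i).2, (hw' i).2, add_zero]

/-- `InW` is closed under scalar multiplication -/
theorem side_inW_smul {w : ι → F} (hw : InW Q e f w) (c : F) : InW Q e f (c • w) := by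
  intro i
  constructor
  · rw [polar_smul_right, (hw i).1, smul_zero]
  · rw [polar_smul_right, (hw i).2, smul_zero]

theorem side_inW_zero : InW Q e f (0 : ι → F) := by
  intro i
  constructor <;> simp [polar]

/-- the conjugate of a Levi transvection by an element fixing `e i0` -/
theorem side_conj_mem (D : LeviData Q k e f L)
    (H : Subgroup ↥(Cfsg.isometryGroup F ⇑Q)) (hLH : ∀ A, L A ∈ H)
    (i0 i2 : Fin k) (h02 : i0 ≠ i2) (t : ↥(Cfsg.isometryGroup F ⇑Q)) (htH : t ∈ H)
    (hte : act Q t (e i0) = e i0) :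
    Ee Q hQ (e i0) (act Q t (f i2)) ∈ H := by
  have h1 : L (Matrix.SpecialLinearGroup.transvection h02 (-1)) ∈ H := hLH _
  rw [levi_transvection Q hQ D h02 (-1)] at h1
  have h2 : t * Ee Q hQ (e i0) ((-(-1 : F)) • f i2) * t⁻¹ ∈ H :=
    H.mul_mem (H.mul_mem htH h1) (H.inv_mem htH)
  rw [Ee_conj, hte, neg_neg, one_smul] at h2
  exact h2

/-- own copy of OG-LFS (`long_of_short`), so that `side` does not wait for that leaf:
`g = L (x_{l i}(1))` maps `e i` to `e i + e l` and fixes `W`, so `Ee (e i + e l) w' ∈ H`, and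
`⁅Ee (e i + e l) w', Ee (e i) (c' • w)⁆ = Ee (e i) (a • (e i + e l)) = Ee (e i) (a • e l)`. -/
theorem side_long_of_short (D : LeviData Q k e f L) (hk : 2 ≤ k)
    (H : Subgroup ↥(Cfsg.isometryGroup F ⇑Q)) (hLH : ∀ A, L A ∈ H) (i : Fin k) {w w' : ι → F}
    (hw : InW Q e f w) (hw' : InW Q e f w') (hne : polar ⇑Q w w' ≠ 0)
    (h1 : Ee Q hQ (e i) w ∈ H) (h2 : Ee Q hQ (e i) w' ∈ H) (l : Fin k) (c : F) :
    Ee Q hQ (e i) (c • e l) ∈ H := by
  classical
  have hfam := D.fam
  by_cases hli : l = i
  · subst hli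
    have h := Ee_add_smul Q hQ (u := e l) (v := 0) (hfam.qe l) (by simp [polar]) c
    rw [zero_add, Ee_zero] at h
    rw [h]
    exact H.one_mem
  · -- the Levi element
    set g := L (Matrix.SpecialLinearGroup.transvection hli (1 : F)) with hg
    have hgH : g ∈ H := hLH _
    have hge : act Q g (e i) = e i + e l := by
      rw [hg, D.act_e]
      have : ∀ j : Fin k, ((Matrix.SpecialLinearGroup.transvection hli (1 : F) :
          Matrix.SpecialLinearGroup (Fin k) F) : Matrix (Fin k) (Fin k) F) j i • e j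
          = (if j = i then e i else 0) + (if j = l then e l else 0) := by
        intro j
        rw [Matrix.SpecialLinearGroup.transvection_coe, Matrix.add_apply,
          Matrix.one_apply, Matrix.single_apply, add_smul]
        congr 1
        · split_ifs with h
          · rw [h, one_smul]
          · rw [zero_smul]
        · by_cases h : j = l
          · subst h
            simp
          · have h' : ¬ (l = j ∧ i = i) := fun hh => h hh.1.symm
            rw [if_neg h', if_neg h, zero_smul]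
      simp_rw [this]
      rw [Finset.sum_add_distrib, Finset.sum_ite_eq' Finset.univ i, Finset.sum_ite_eq' Finset.univ l]
      simp
    have hgw : act Q g w' = w' := D.act_w _ w' hw'
    have ht' : Ee Q hQ (e i + e l) w' ∈ H := by
      have h := H.mul_mem (H.mul_mem hgH h2) (H.inv_mem hgH)
      rwa [Ee_conj, hge, hgw] at h
    -- scaling
    set c' : F := - c / polar ⇑Q w' w with hc'
    have hne' : polar ⇑Q w' w ≠ 0 := by rwa [polar_comm]
    have h1c : Ee Q hQ (e i) (c' • w) ∈ H := Ee_smul_W_mem Q hQ D hk H hLH i hw h1 c'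
    have hcomm : ⁅Ee Q hQ (e i + e l) w', Ee Q hQ (e i) (c' • w)⁆ ∈ H := by
      rw [commutatorElement_def]
      exact H.mul_mem (H.mul_mem (H.mul_mem ht' h1c) (H.inv_mem ht')) (H.inv_mem h1c)
    have hQil : Q (e i + e l) = 0 := by
      rw [QuadraticMap.map_add Q, hfam.qe, hfam.qe, hfam.ee]
      simp
    have hformula := Ee_commutator Q hQ (e₁ := e i) (e₂ := e i + e l) (w := c' • w) (w' := w')
      (hfam.qe i) hQil
      (by rw [polar_add_right, hfam.ee, hfam.ee, add_zero])
      (by rw [polar_smul_right, (hw i).1, smul_zero])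
      (by rw [polar_add_left, polar_smul_right, polar_smul_right, (hw i).1, (hw l).1]; simp)
      (hw' i).1
      (by rw [polar_add_left, (hw' i).1, (hw' l).1, add_zero])
    rw [hformula] at hcomm
    have hval : (- polar ⇑Q w' (c' • w)) = c := by
      rw [polar_smul_right, hc', smul_eq_mul]
      field_simp
    rw [hval, smul_add, add_comm, Ee_add_smul Q hQ (hfam.qe i)
      (by rw [polar_smul_right, hfam.ee, smul_zero])] at hcomm
    exact hcomm

theorem side (D : LeviData Q k e f L) (hk : 3 ≤ k)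
    (H : Subgroup ↥(Cfsg.isometryGroup F ⇑Q)) (hLH : ∀ A, L A ∈ H)
    (i0 i2 : Fin k) (h02 : i0 ≠ i2) (T : Set ↥(Cfsg.isometryGroup F ⇑Q))
    (hT : ∀ t ∈ T, t ∈ H ∧ act Q t (e i0) = e i0 ∧ act Q t (f i0) = f i0)
    (hWe : ∀ w, InW Q e f w →
      w ∈ Submodule.span F {y | ∃ t ∈ T, y = Wpart Q e f (act Q t (f i2))})
    (hLe : (∃ t ∈ T, ∃ j, polar ⇑Q (f j) (act Q t (f i2)) ≠ 0) ∨
      (∃ w w', InW Q e f w ∧ InW Q e f w' ∧ polar ⇑Q w w' ≠ 0)) :
    rootFull Q hQ H (e i0) := by
  have hfam := D.fam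
  -- orthogonality of `e i0` and `t (f i2)`
  have horth : ∀ t ∈ T, polar ⇑Q (e i0) (act Q t (f i2)) = 0 := by
    intro t ht
    have h := polar_act Q t (e i0) (f i2)
    rw [(hT t ht).2.1, hfam.ef, if_neg h02] at h
    exact h
  -- the basic elements
  have hbase : ∀ t ∈ T, Ee Q hQ (e i0) (act Q t (f i2)) ∈ H := fun t ht =>
    side_conj_mem Q hQ D H hLH i0 i2 h02 t (hT t ht).1 (hT t ht).2.1
  -- their `W`-parts
  have hbaseW : ∀ t ∈ T, Ee Q hQ (e i0) (Wpart Q e f (act Q t (f i2))) ∈ H := fun t ht =>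
    closure_W Q hQ D hk H hLH i0 (horth t ht) (hbase t ht)
  -- all of `W`
  have hW : ∀ w, InW Q e f w → Ee Q hQ (e i0) w ∈ H := by
    intro w hw
    have key : ∀ x ∈ Submodule.span F {y | ∃ t ∈ T, y = Wpart Q e f (act Q t (f i2))},
        InW Q e f x ∧ Ee Q hQ (e i0) x ∈ H := by
      intro x hx
      induction hx using Submodule.span_induction with
      | mem y hy =>
        obtain ⟨t, ht, rfl⟩ := hy
        exact ⟨wpart_inW Q hfam _, hbaseW t ht⟩
      | zero =>
        refine ⟨side_inW_zero Q, ?_⟩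
        rw [Ee_zero]
        exact H.one_mem
      | add x y _ _ hx hy =>
        refine ⟨side_inW_add Q hx.1 hy.1, ?_⟩
        rw [← Ee_mul Q hQ (hfam.qe i0) (hx.1 i0).1 (hy.1 i0).1]
        exact H.mul_mem hx.2 hy.2
      | smul c x _ hx =>
        exact ⟨side_inW_smul Q hx.1 c, Ee_smul_W_mem Q hQ D (by omega) H hLH i0 hx.1 hx.2 c⟩
    exact (key w (hWe w hw)).2
  -- the long root elements
  have hlong : ∀ (l : Fin k) (c : F), Ee Q hQ (e i0) (c • e l) ∈ H := by
    intro l c
    rcases hLe with ⟨t, ht, j, hj⟩ | ⟨w, w', hw, hw', hne⟩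
    · have hji : j ≠ i0 := by
        rintro rfl
        apply hj
        have h := polar_act Q t (f j) (f i2)
        rw [(hT t ht).2.2, hfam.ff] at h
        exact h
      exact closure_long Q hQ D hk H hLH i0 (horth t ht) (hbase t ht) j hji hj l c
    · exact side_long_of_short Q hQ D (by omega) H hLH i0 hw hw' hne (hW w hw) (hW w' hw') l c
  exact rootFull_of_gens Q hQ D H hLH i0 hlong hW

end abstract

end Cfsg.Agent.Lib.Helper67.Og
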