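import Mathlib
import Cfsg.Agent.Lib.Helper39.OoDefs
import Cfsg.Agent.Lib.Helper8.CartanDieudonne
import Cfsg.Agent.Lib.Helper43.OrthCardForms

/-! # S2547 hive (helper39), leaves OO-CD and OO-INVOL: `O_{2m+1}(F)` is generated by reflections, hence by
involutions (transport of helper8's Cartan–Dieudonné theorem through helper43's `oddForm_coe`). -/

set_option autoImplicit false
set_option linter.unusedVariables false
set_option linter.unusedSectionVars false

namespace Cfsg.Agent.Lib.Helper39.OoBN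

open Matrix Cfsg QuadraticMap

variable {F : Type*} [Field F] {m : ℕ}

/-- Cartan–Dieudonné for a function `Q` that is the coercion of a nondegenerate quadratic form -/
theorem cd_transfer {ι : Type} [Fintype ι] [DecidableEq ι] (Q : (ι → F) → F)
    (Q' : QuadraticForm F (ι → F)) (hcoe : Q = ⇑Q') (h2 : (2 : F) ≠ 0)
    (hQ' : (QuadraticMap.polarBilin Q').Nondegenerate) :
    Subgroup.closure {g : ↥(Cfsg.isometryGroup F Q) | ∃ v : ι → F, Q v ≠ 0 ∧
      ((g : GL ι F) : Matrix ι ι F) = Cfsg.reflectionMatrix Q v} = ⊤ := by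
  subst hcoe
  exact Cfsg.Agent.Lib.Helper8.closure_reflSet_eq_top h2 Q' hQ'

/-- the polar form of `oddForm` is nondegenerate in odd characteristic -/
theorem cd_nondeg (h2 : (2 : F) ≠ 0) :
    (QuadraticMap.polarBilin (Cfsg.Agent.Lib.Helper43.oddForm m F)).Nondegenerate := by
  have key : ∀ x : Unit ⊕ (Fin m ⊕ Fin m) → F,
      (∀ y, polar (⇑(Cfsg.Agent.Lib.Helper43.oddForm m F)) x y = 0) → x = 0 := by
    intro x hx
    funext a
    rcases a with u | i | i
    · have h := hx (Pi.single (Sum.inl ()) 1)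
      rw [Cfsg.Agent.Lib.Helper43.polar_oddForm] at h
      simp at h
      rcases h with h | h
      · exact absurd h h2
      · exact h
    · have h := hx (Pi.single (Sum.inr (Sum.inr i)) 1)
      rw [polar_comm, Cfsg.Agent.Lib.Helper43.polar_oddForm_inr] at h
      exact h
    · have h := hx (Pi.single (Sum.inr (Sum.inl i)) 1)
      rw [polar_comm, Cfsg.Agent.Lib.Helper43.polar_oddForm_inl] at h
      exact h
  constructor
  · intro x hx
    exact key x hx
  · intro x hx
    apply key x
    intro y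
    rw [polar_comm]
    exact hx y

/-- LEAF CD: `O_{2m+1}(F)` is generated by reflections. -/
theorem closure_refl (h2 : (2 : F) ≠ 0) :
    Subgroup.closure {g : OG F m | ∃ v : Idx m → F, Cfsg.quadFormOdd m F v ≠ 0 ∧
      mat g = Cfsg.reflectionMatrix (Cfsg.quadFormOdd m F) v} = ⊤ :=
  cd_transfer (Cfsg.quadFormOdd m F) (Cfsg.Agent.Lib.Helper43.oddForm m F)
    (Cfsg.Agent.Lib.Helper43.oddForm_coe m F) h2 (cd_nondeg h2)

/-- reflections are involutions -/
theorem cd_refl_mul_self {ι : Type} [Fintype ι] [DecidableEq ι] (Q : (ι → F) → F)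
    (Q' : QuadraticForm F (ι → F)) (hcoe : Q = ⇑Q') (v : ι → F) (hv : Q v ≠ 0) :
    Cfsg.reflectionMatrix Q v * Cfsg.reflectionMatrix Q v = 1 := by
  subst hcoe
  exact Cfsg.Agent.Lib.Helper8.reflectionMatrix_mul_self Q' v hv

/-- LEAF INVOL: `O_{2m+1}(F)` is generated by involutions. -/
theorem closure_invol (h2 : (2 : F) ≠ 0) :
    Subgroup.closure {g : OG F m | g * g = 1} = ⊤ := by
  rw [eq_top_iff, ← closure_refl h2]
  apply Subgroup.closure_mono
  rintro g ⟨v, hv, hg⟩
  show g * g = 1
  apply mat_ext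
  rw [mat_mul, mat_one, hg]
  exact cd_refl_mul_self _ _ (Cfsg.Agent.Lib.Helper43.oddForm_coe m F) v hv

end Cfsg.Agent.Lib.Helper39.OoBN
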