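import Mathlib
import Cfsg.Agent.Lib.Helper39.OoDefs
import Cfsg.Agent.Lib.Helper41.SpBNCrit
import Cfsg.Agent.Lib.Helper43.SpBN_DC
import Cfsg.Agent.Lib.Helper6.St.Main2
import Cfsg.Agent.Lib.Helper42.OmegaDescent
import Cfsg.Agent.Lib.Helper39.OoINVF
import Cfsg.Agent.Lib.Helper39.OoCD
import Cfsg.Agent.Lib.Helper55.OoTORP
import Cfsg.Agent.Lib.Helper13.OoMONO
import Cfsg.Agent.Lib.Helper13.OoTCONJ
import Cfsg.Agent.Lib.Helper53.OoOPP
import Cfsg.Agent.Lib.Helper95.OoCONJA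
import Cfsg.Agent.Lib.Helper95.OoCONJB
import Cfsg.Agent.Lib.Helper55.OoTORUS
import Cfsg.Agent.Lib.Helper35.OoDIAG
import Cfsg.Agent.Lib.Helper85.OoROOTA
import Cfsg.Agent.Lib.Helper85.OoROOTB
import Cfsg.Agent.Lib.Helper45.OoUNI
import Cfsg.Agent.Lib.Helper10.OoWEYL
import Cfsg.Agent.Lib.Helper53.OoFACA
import Cfsg.Agent.Lib.Helper97.OoGEN
import Cfsg.Agent.Lib.Helper61.OoREFL
import Cfsg.Agent.Lib.Helper87.OoCENTER
import Cfsg.Agent.Lib.Helper53.OoFACB
import Cfsg.Agent.Lib.Helper1.OoRK1A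
import Cfsg.Agent.Lib.Helper1.OoRK1B
import Cfsg.Agent.Lib.Helper32.OoABS
import Cfsg.Agent.Lib.Helper95.OoCONJNE

/-! # S2547 (helper39 hive): the (B,N)-pair of the full orthogonal group `O_{2m+1}(F)`, `q` odd, its Steinberg
character, and the descent to `PΩ_{2m+1}(F)` (helper42 `pomega_steinberg_descent`).  Assembly of the 30 hive leaves
(skeleton: `tools/helper39/OoSkel.lean.txt`; leaves by helper1, 10, 13, 32, 35, 39, 45, 53, 55, 61, 85, 87, 95, 97). -/

set_option autoImplicit false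
set_option linter.unusedVariables false
set_option linter.unusedSectionVars false
set_option linter.style.haveILetI false

namespace Cfsg.Agent.Lib.Helper39.OoBN

open Matrix Cfsg

variable {F : Type*} [Field F] {m : ℕ}

/-! ## Assembly (helper39) -/

theorem S_subset_N : So F m ⊆ (No F m : Set (OG F m)) := by
  rintro s ⟨σ, -, hs⟩
  exact ⟨σ, fun _ => 1, by rw [hs]; exact permMat_isMonoG σ⟩

theorem B_sup_N (h2 : (2 : F) ≠ 0) : Bo F m ⊔ No F m = ⊤ := by
  rw [eq_top_iff, ← closure_refl h2, Subgroup.closure_le]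
  rintro g ⟨v, hv, hg⟩
  exact refl_mem_sup h2 g v hv hg

theorem mul_mem_union_o (h2 : (2 : F) ≠ 0) : ∀ s ∈ So F m, ∀ n ∈ No F m, ∀ b ∈ Bo F m,
    s * b * n ∈ DoubleCoset.doubleCoset (s * n) (Bo F m : Set (OG F m)) (Bo F m) ∪
      DoubleCoset.doubleCoset n (Bo F m : Set (OG F m)) (Bo F m) := by
  rintro s ⟨σ, hσ, hs⟩ n hn b hb
  rcases hσ with ⟨k, k', hkk, rfl⟩ | ⟨k, hk, rfl⟩
  · have hne : k ≠ k' := by
      intro h
      rw [h] at hkk
      omega
    exact Cfsg.Agent.Lib.Helper41.SpBN.bn_crit (Bo F m) s n (XA F m k k') (XA F m k' k)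
      (facA h2 hkk hs) (rk1A h2 hkk hs) (conjA h2 hne n hn) b hb
  · exact Cfsg.Agent.Lib.Helper41.SpBN.bn_crit (Bo F m) s n (XB F m k) (XBm F m k)
      (facB h2 hk hs) (rk1B h2 hk hs) (conjB h2 k n hn) b hb

variable (F m) in
/-- **The (B,N)-pair of `O_{2m+1}(F)`**, `2 ≠ 0`. -/
def bnPairOo (h2 : (2 : F) ≠ 0) : Cfsg.BNPair (OG F m) where
  B := Bo F m
  N := No F m
  S := So F m
  sup_eq_top := B_sup_N h2
  conj_mem := T_conj
  subset := S_subset_N
  sq_mem := S_sq_mem
  inj := S_inj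
  closure_sup := closure_S_sup h2
  mul_mem_union := mul_mem_union_o h2
  conj_ne := S_conj_ne h2

theorem T_le_conj {n : OG F m} (hn : n ∈ No F m) :
    Bo F m ⊓ No F m ≤ Bo F m ⊓ (Bo F m).map (MulAut.conj n).toMonoidHom := by
  intro t ht
  refine Subgroup.mem_inf.mpr ⟨ht.1, ?_⟩
  rw [Subgroup.mem_map]
  refine ⟨n⁻¹ * t * n, ?_, ?_⟩
  · have := T_conj n⁻¹ ((No F m).inv_mem hn) t ht
    rwa [inv_inv] at this
  · simp only [MulEquiv.coe_toMonoidHom, MulAut.conj_apply]
    group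

/-- a central element in `H` has the same number of fixed cosets as `1` -/
theorem fpc_central_o {G : Type*} [Group G] (H : Subgroup G) {z : G} (hz : z ∈ Subgroup.center G)
    (hzH : z ∈ H) : Cfsg.fixedPointCharacter H z = Cfsg.fixedPointCharacter H 1 := by
  unfold Cfsg.fixedPointCharacter
  have hset : MulAction.fixedBy (G ⧸ H) z = MulAction.fixedBy (G ⧸ H) (1 : G) := by
    ext x
    simp only [MulAction.mem_fixedBy, one_smul, iff_true]
    induction x using QuotientGroup.induction_on with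
    | H a =>
      change ((z * a : G) : G ⧸ H) = (a : G ⧸ H)
      rw [QuotientGroup.eq]
      have h1 : z * a = a * z := (Subgroup.mem_center_iff.mp hz a).symm
      rw [h1]
      have : (a * z)⁻¹ * a = z⁻¹ := by group
      rw [this]
      exact H.inv_mem hzH
  rw [hset]

/-- `± 1` is central and upper triangular -/
theorem pm_one_mem (g : OG F m) (h : mat g = 1 ∨ mat g = -1) :
    g ∈ Subgroup.center (OG F m) ∧ g ∈ Bo F m := by
  constructor
  · rw [Subgroup.mem_center_iff]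
    intro x
    apply mat_ext
    rw [mat_mul, mat_mul]
    rcases h with h | h <;> rw [h] <;> simp
  · rw [mem_Bo_iff]
    intro a b hab
    have hne : a ≠ b := by
      rintro rfl
      exact lt_irrefl _ hab
    rcases h with h | h <;> rw [h] <;> simp [hne]

open Cfsg.Agent.Lib.Helper6 Cfsg.Agent.Lib.Helper6.St in
/-- **The Steinberg character of `O_{2m+1}(F)`**: irreducible, of degree `[B : T]`, with `χ (±1) = χ 1`. -/
theorem exists_steinberg_oo [Fintype F] (h2 : (2 : F) ≠ 0) (m : ℕ) :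
    ∃ χ : OG F m → ℂ, Cfsg.IsIrrCharacter (OG F m) χ ∧
      χ 1 = ((((Bo F m ⊓ No F m).subgroupOf (Bo F m)).index : ℕ) : ℂ) ∧
      ∀ z : OG F m, (mat z = 1 ∨ mat z = -1) → χ z = χ 1 := by
  classical
  have : Fintype (OG F m) := Fintype.ofFinite _
  set P := bnPairOo F m h2 with hP
  have hfin : (P.S).Finite := Set.toFinite _
  set T : Finset (OG F m) := hfin.toFinset with hTdef
  have hT : (↑T : Set (OG F m)) = P.S := hfin.coe_toFinset
  have hTpos : 0 < Nat.card (Bo F m ⊓ No F m : Subgroup (OG F m)) := Nat.card_pos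
  obtain ⟨w, hw⟩ := exists_perm (F := F) (w0perm m) rfl (fun a => rfl)
  have hJ : w ∈ P.N := ⟨w0perm m, fun _ => 1, by rw [hw]; exact permMat_isMonoG _⟩
  have hmax : ∀ n ∈ P.N, Nat.card (C P n) ≤ Nat.card (C P w) := by
    intro n hn
    have h1 := Cfsg.Agent.Lib.Helper41.SpBN.card_doubleCoset_mul (Bo F m) n
    have h2' := Cfsg.Agent.Lib.Helper41.SpBN.card_doubleCoset_mul (Bo F m) w
    rw [B_inf_conj_w0 hw] at h2'
    have h3 : Nat.card (Bo F m ⊓ No F m : Subgroup (OG F m)) ≤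
        Nat.card (Bo F m ⊓ (Bo F m).map (MulAut.conj n).toMonoidHom : Subgroup (OG F m)) :=
      Subgroup.card_le_of_le (T_le_conj hn)
    have h4 : Nat.card (C P n) * Nat.card (Bo F m ⊓ No F m : Subgroup (OG F m)) ≤
        Nat.card (C P w) * Nat.card (Bo F m ⊓ No F m : Subgroup (OG F m)) := by
      calc Nat.card (C P n) * Nat.card (Bo F m ⊓ No F m : Subgroup (OG F m))
          ≤ Nat.card (C P n) *
            Nat.card (Bo F m ⊓ (Bo F m).map (MulAut.conj n).toMonoidHom : Subgroup (OG F m)) :=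
            Nat.mul_le_mul_left _ h3
        _ = Nat.card (Bo F m) * Nat.card (Bo F m) := h1
        _ = _ := h2'.symm
    exact Nat.le_of_mul_le_mul_right h4 hTpos
  refine ⟨stChar P T, isIrrCharacter_stChar P T hT, ?_, ?_⟩
  · have h := stChar_borel P T hT hJ hmax (1 : P.B)
    rw [Subgroup.coe_one] at h
    rw [h, fixedPointCharacter_one]
    congr 2
    change (Bo F m ⊓ (Bo F m).map (MulAut.conj w).toMonoidHom).subgroupOf (Bo F m) = _
    rw [B_inf_conj_w0 hw]
  · intro z hz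
    obtain ⟨hzc, hzB⟩ := pm_one_mem z hz
    unfold stChar
    apply Finset.sum_congr rfl
    intro J _
    congr 1
    exact fpc_central_o _ hzc (le_sup_left (a := P.B) hzB)

/-- **S2547**: the Steinberg character of `PΩ_{2m+1}(F)`, `q` odd. -/
theorem steinberg_pomega_odd [Fintype F] (p : ℕ) [Fact p.Prime] [CharP F p]
    (hodd : Odd (Fintype.card F)) (m : ℕ) (hm : 1 ≤ m) :
    ∃ χ : Cfsg.POmega F (Cfsg.quadFormOdd m F) → ℂ,
      Cfsg.IsIrrCharacter (Cfsg.POmega F (Cfsg.quadFormOdd m F)) χ ∧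
      ∀ P : Sylow p (Cfsg.POmega F (Cfsg.quadFormOdd m F)), χ 1 = Nat.card P ∧
        ∀ x : Cfsg.POmega F (Cfsg.quadFormOdd m F), x ∈ P → x ≠ 1 → χ x = 0 := by
  classical
  have hp : p.Prime := Fact.out
  obtain ⟨f, _, hf⟩ := FiniteField.card F p
  have hpodd : Odd p := by
    rw [hf] at hodd
    exact (Nat.odd_pow_iff (PNat.ne_zero f)).mp hodd
  have h2 : (2 : F) ≠ 0 := by
    intro h
    have h3 : ((2 : ℕ) : F) = 0 := by exact_mod_cast h
    have h4 : p ∣ 2 := (CharP.cast_eq_zero_iff F p 2).mp h3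
    have h5 : p = 2 := (Nat.prime_dvd_prime_iff_eq hp Nat.prime_two).mp h4
    rw [h5] at hpodd
    exact absurd hpodd (by decide)
  obtain ⟨χ, hχ, h1, hz⟩ := exists_steinberg_oo (F := F) h2 m
  obtain ⟨e, he⟩ := index_T_eq_pow (F := F) (m := m) p h2
  set d := p ^ e with hd
  set k := (Bo F m).index * Nat.card (Bo F m ⊓ No F m : Subgroup (OG F m)) with hk
  have hcard : Nat.card (OG F m) = d * k := by
    have e1 := Subgroup.card_mul_index (Bo F m)
    have e2 := Subgroup.card_mul_index ((Bo F m ⊓ No F m).subgroupOf (Bo F m))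
    rw [Nat.card_congr (Subgroup.subgroupOfEquivOfLe
      (inf_le_left : Bo F m ⊓ No F m ≤ Bo F m)).toEquiv, he] at e2
    rw [← e1, ← e2, hk, hd]
    ring
  have hpk : ¬ p ∣ k := by
    rw [hk, hp.dvd_mul]
    rintro (h | h)
    · exact not_dvd_index_B (bnPairOo F m h2) p (fun n hn => T_le_conj hn) e he h
    · exact not_dvd_card_T p h
  exact Cfsg.Agent.Lib.Helper42.OmDesc.pomega_steinberg_descent p (Cfsg.quadFormOdd m F)
    (closure_invol h2) χ hχ d k e (hpodd.pow) hd (by rw [h1, he]) hcard hpk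
    (fun z hzc => hz z (center_omega h2 hm z hzc))

end Cfsg.Agent.Lib.Helper39.OoBN
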