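import Mathlib
import Cfsg.Agent.Lib.Helper39.OoDefs
import Cfsg.Agent.Lib.Helper39.OoINVF
import Cfsg.Agent.Lib.Helper8.OrthTransp
import Cfsg.Agent.Lib.Helper37.Eichler2
import Cfsg.Agent.Lib.Helper43.OrthCardForms

/-! # S2547 hive (helper39), BACKUP of leaf OO-REFL (the assembly uses helper61's `Lib/Helper61/OoREFL.lean`; this copy lives in its own
namespace `OoREFLalt` to avoid name clashes): every reflection of `O_{2m+1}(F)` lies in `B N B`. -/

set_option autoImplicit false
set_option linter.unusedVariables false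
set_option linter.unusedSectionVars false

namespace Cfsg.Agent.Lib.Helper39.OoREFLalt

open Cfsg.Agent.Lib.Helper39.OoBN

open Matrix Cfsg QuadraticMap
open Cfsg.Agent.Lib.Helper43 (oddForm oddForm_coe polar_oddForm polar_oddForm_inl polar_oddForm_inr)

variable {F : Type*} [Field F] {m : ℕ}

/-- transport an isometry of `oddForm` to `OG F m` -/
def refl_ofOdd (g' : ↥(Cfsg.isometryGroup F ⇑(oddForm m F))) : OG F m :=
  ⟨g'.1, by rw [oddForm_coe]; exact g'.2⟩

theorem refl_mat_ofOdd (g' : ↥(Cfsg.isometryGroup F ⇑(oddForm m F))) :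
    mat (refl_ofOdd g') = ((g' : GL (Idx m) F) : Matrix (Idx m) (Idx m) F) := rfl

theorem refl_R_eq : Cfsg.reflectionMatrix (Cfsg.quadFormOdd m F) =
    Cfsg.reflectionMatrix ⇑(oddForm m F) := by rw [oddForm_coe]

theorem refl_Q_eq (v : Idx m → F) : Cfsg.quadFormOdd m F v = oddForm m F v :=
  congrFun (oddForm_coe m F) v

/-- conjugating a reflection -/
theorem refl_conj (b g : OG F m) (v : Idx m → F)
    (hg : mat g = Cfsg.reflectionMatrix (Cfsg.quadFormOdd m F) v) :
    mat (b * g * b⁻¹) = Cfsg.reflectionMatrix (Cfsg.quadFormOdd m F) (mat b *ᵥ v) := by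
  rw [mat_mul, mat_mul, hg, refl_R_eq]
  have hb : ∀ x, oddForm m F (mat b *ᵥ x) = oddForm m F x := by
    intro x
    rw [← refl_Q_eq, ← refl_Q_eq]
    exact mat_preserves b x
  rw [Cfsg.Agent.Lib.Helper8.mul_reflectionMatrix (oddForm m F) (mat b) hb v, Matrix.mul_assoc,
    mat_mul_inv, Matrix.mul_one]

/-- the Eichler transformation as an element of `OG F m` -/
noncomputable def refl_E (u w : Idx m → F) (hu : oddForm m F u = 0)
    (huw : polar ⇑(oddForm m F) u w = 0) : OG F m :=
  refl_ofOdd (Cfsg.Agent.Lib.Helper37.eichler (oddForm m F) u w hu huw)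

theorem refl_E_mulVec (u w : Idx m → F) (hu : oddForm m F u = 0)
    (huw : polar ⇑(oddForm m F) u w = 0) (x : Idx m → F) :
    mat (refl_E u w hu huw) *ᵥ x =
      x + polar ⇑(oddForm m F) x w • u - polar ⇑(oddForm m F) x u • w -
        (oddForm m F w * polar ⇑(oddForm m F) x u) • u := by
  have h := Cfsg.Agent.Lib.Helper37.act_eichler (oddForm m F) u w hu huw x
  rw [Cfsg.Agent.Lib.Helper37.eichlerLin_apply] at h
  exact h

theorem refl_polar_x (j : Fin m) (y : Idx m → F) :
    polar ⇑(oddForm m F) (Pi.single (xi j) 1) y = y (yi j) := polar_oddForm_inl m F j y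

theorem refl_polar_y (j : Fin m) (y : Idx m → F) :
    polar ⇑(oddForm m F) (Pi.single (yi j) 1) y = y (xi j) := polar_oddForm_inr m F j y

theorem refl_polar_e0 (y : Idx m → F) :
    polar ⇑(oddForm m F) (Pi.single e0 1) y = 2 * y e0 := by
  rw [polar_oddForm]
  have h1 : ∀ i : Fin m, (Pi.single (e0 : Idx m) (1 : F) : Idx m → F) (Sum.inr (Sum.inl i)) = 0 :=
    fun i => Pi.single_eq_of_ne (by simp [e0]) _
  have h2 : ∀ i : Fin m, (Pi.single (e0 : Idx m) (1 : F) : Idx m → F) (Sum.inr (Sum.inr i)) = 0 :=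
    fun i => Pi.single_eq_of_ne (by simp [e0]) _
  have h3 : (Pi.single (e0 : Idx m) (1 : F) : Idx m → F) (Sum.inl ()) = 1 := Pi.single_eq_same _ _
  simp only [h1, h2, h3, zero_mul, mul_zero, add_zero, Finset.sum_const_zero, mul_one]
  rfl

/-- an Eichler transformation `E_{u,w}` with `u` in the span of the `x`'s ... is upper triangular as soon as the
images of the `x_j` are -/
theorem refl_E_mem_Bo (h2 : (2 : F) ≠ 0) (u w : Idx m → F) (hu : oddForm m F u = 0)
    (huw : polar ⇑(oddForm m F) u w = 0)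
    (h : ∀ (a : Idx m) (j : Fin m), (j : ℕ) < rk a →
      (w (yi j) * u a - u (yi j) * w a - (oddForm m F w * u (yi j)) * u a) = 0) :
    refl_E u w hu huw ∈ Bo F m := by
  apply mem_Bo_of_flag h2
  intro a j hja
  have h1 : mat (refl_E u w hu huw) a (xi j) =
      (mat (refl_E u w hu huw) *ᵥ Pi.single (xi j) 1) a := by
    rw [Matrix.mulVec_single_one, Matrix.col_apply]
  rw [h1, refl_E_mulVec, refl_polar_x, refl_polar_x]
  simp only [Pi.add_apply, Pi.sub_apply, Pi.smul_apply, smul_eq_mul]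
  have hne : (Pi.single (xi j) (1 : F) : Idx m → F) a = 0 := by
    apply Pi.single_eq_of_ne
    rintro rfl
    simp at hja
  rw [hne, zero_add]
  exact h a j hja

theorem refl_Q_single_e0 : oddForm m F (Pi.single (e0 : Idx m) 1) = 1 := by
  rw [← refl_Q_eq]
  unfold Cfsg.quadFormOdd
  have h1 : ∀ i : Fin m, (Pi.single (e0 : Idx m) (1 : F) : Idx m → F) (Sum.inr (Sum.inl i)) = 0 :=
    fun i => Pi.single_eq_of_ne (by simp [e0]) _
  have h3 : (Pi.single (e0 : Idx m) (1 : F) : Idx m → F) (Sum.inl ()) = 1 := Pi.single_eq_same _ _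
  simp only [h1, h3, zero_mul, Finset.sum_const_zero, add_zero, one_pow]

theorem refl_Q_pair (k : Fin m) (α β : F) :
    oddForm m F (α • Pi.single (xi k) 1 + β • Pi.single (yi k) 1) = α * β := by
  rw [QuadraticMap.map_add (oddForm m F), QuadraticMap.map_smul, QuadraticMap.map_smul,
    show oddForm m F (Pi.single (xi k) 1) = 0 from Cfsg.Agent.Lib.Helper43.oddForm_single_inl m F k,
    show oddForm m F (Pi.single (yi k) 1) = 0 from Cfsg.Agent.Lib.Helper43.oddForm_single_inr m F k,
    polar_smul_left, polar_smul_right, refl_polar_x, Pi.single_eq_same]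
  simp only [smul_eq_mul]
  ring

/-- final step: if `b ∈ Bo` moves `v` to a vector whose reflection is monomial, the reflection in `v` lies in `B ⊔ N` -/
theorem refl_finish (b g : OG F m) (hb : b ∈ Bo F m) (v : Idx m → F)
    (hg : mat g = Cfsg.reflectionMatrix (Cfsg.quadFormOdd m F) v)
    (π : Equiv.Perm (Idx m)) (d : Idx m → F)
    (hmono : IsMonoG (Cfsg.reflectionMatrix ⇑(oddForm m F) (mat b *ᵥ v)) π d) :
    g ∈ Bo F m ⊔ No F m := by
  have h1 : b * g * b⁻¹ ∈ No F m := by
    refine ⟨π, d, ?_⟩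
    rw [refl_conj b g v hg, refl_R_eq]
    exact hmono
  have hbB : b ∈ Bo F m ⊔ No F m := Subgroup.mem_sup_left hb
  have h2 : b * g * b⁻¹ ∈ Bo F m ⊔ No F m := Subgroup.mem_sup_right h1
  have h3 : g = b⁻¹ * (b * g * b⁻¹) * b := by group
  rw [h3]
  exact Subgroup.mul_mem _ (Subgroup.mul_mem _ (Subgroup.inv_mem _ hbB) h2) hbB

/-- the reflection in `c e₀` is diagonal -/
theorem refl_mono_e0 (h2 : (2 : F) ≠ 0) (c : F) (hc : c ≠ 0) :
    IsMonoG (Cfsg.reflectionMatrix ⇑(oddForm m F) (c • Pi.single (e0 : Idx m) 1)) 1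
      (fun a => if a = e0 then -1 else 1) := by
  apply isMonoG_of_mulVec_single
  intro s
  rw [Cfsg.Agent.Lib.Helper13.reflectionMatrix_mulVec, QuadraticMap.map_smul, refl_Q_single_e0,
    polar_smul_left, refl_polar_e0, Equiv.Perm.one_apply]
  simp only [smul_eq_mul]
  by_cases hs : s = e0
  · subst hs
    rw [if_pos rfl, Pi.single_eq_same, smul_smul]
    have : (c * c * 1)⁻¹ * (c * (2 * 1)) * c = 2 := by field_simp
    rw [this, two_smul]
    simp
  · rw [if_neg hs, Pi.single_eq_of_ne (Ne.symm hs), one_smul]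
    simp

/-- the reflection in `α x_k + β y_k` is monomial -/
theorem refl_mono_pair (k : Fin m) (α β : F) (hα : α ≠ 0) (hβ : β ≠ 0) :
    IsMonoG (Cfsg.reflectionMatrix ⇑(oddForm m F)
      (α • Pi.single (xi k) 1 + β • Pi.single (yi k) 1)) (Equiv.swap (xi k) (yi k))
      (fun a => if a = xi k then -(β / α) else if a = yi k then -(α / β) else 1) := by
  have hxy : (xi k : Idx m) ≠ yi k := by simp [xi, yi]
  apply isMonoG_of_mulVec_single
  intro s
  rw [Cfsg.Agent.Lib.Helper13.reflectionMatrix_mulVec, refl_Q_pair, polar_add_left, polar_smul_left,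
    polar_smul_left, refl_polar_x, refl_polar_y]
  simp only [smul_eq_mul]
  by_cases hs1 : s = xi k
  · subst hs1
    rw [if_pos rfl, Equiv.swap_apply_left, Pi.single_eq_of_ne (Ne.symm hxy), Pi.single_eq_same]
    have h1 : (α * β)⁻¹ * (α * 0 + β * 1) = α⁻¹ := by
      rw [mul_zero, zero_add, mul_one]; field_simp
    rw [h1, smul_add, smul_smul, smul_smul, inv_mul_cancel₀ hα, one_smul]
    rw [show -(β / α) = -(α⁻¹ * β) by rw [div_eq_inv_mul]]
    module
  · by_cases hs2 : s = yi k
    · subst hs2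
      rw [if_neg hs1, if_pos rfl, Equiv.swap_apply_right, Pi.single_eq_same,
        Pi.single_eq_of_ne hxy]
      have h1 : (α * β)⁻¹ * (α * 1 + β * 0) = β⁻¹ := by
        rw [mul_zero, add_zero, mul_one]; field_simp
      rw [h1, smul_add, smul_smul, smul_smul, inv_mul_cancel₀ hβ, one_smul]
      rw [show -(α / β) = -(β⁻¹ * α) by rw [div_eq_inv_mul]]
      module
    · rw [if_neg hs1, if_neg hs2, Equiv.swap_apply_of_ne_of_ne hs1 hs2,
        Pi.single_eq_of_ne (Ne.symm hs2), Pi.single_eq_of_ne (Ne.symm hs1)]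
      simp

/-- case (b): all `y`-coordinates of `v` vanish -/
theorem refl_case_b (h2 : (2 : F) ≠ 0) (g : OG F m) (v : Idx m → F)
    (hv : Cfsg.quadFormOdd m F v ≠ 0)
    (hg : mat g = Cfsg.reflectionMatrix (Cfsg.quadFormOdd m F) v)
    (hy0 : ∀ j : Fin m, v (yi j) = 0) : g ∈ Bo F m ⊔ No F m := by
  have hv0 : v e0 ≠ 0 := by
    intro h0
    apply hv
    show v (Sum.inl ()) ^ 2 + ∑ i : Fin m, v (Sum.inr (Sum.inl i)) * v (Sum.inr (Sum.inr i)) = 0
    rw [show v (Sum.inl ()) = 0 from h0]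
    have : ∀ i : Fin m, v (Sum.inr (Sum.inl i)) * v (Sum.inr (Sum.inr i)) = 0 := fun i => by
      rw [show v (Sum.inr (Sum.inr i)) = 0 from hy0 i, mul_zero]
    simp only [this, Finset.sum_const_zero]
    ring
  set u : Idx m → F :=
    Sum.elim (fun _ => 0) (Sum.elim (fun j => -(v (xi j) / (2 * v e0))) (fun _ => 0)) with hu_def
  have hu0 : u e0 = 0 := rfl
  have huy : ∀ j : Fin m, u (yi j) = 0 := fun j => rfl
  have hux : ∀ j : Fin m, u (xi j) = -(v (xi j) / (2 * v e0)) := fun j => rfl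
  have hu : oddForm m F u = 0 := by
    rw [← refl_Q_eq]
    show u (Sum.inl ()) ^ 2 + ∑ i : Fin m, u (Sum.inr (Sum.inl i)) * u (Sum.inr (Sum.inr i)) = 0
    have : ∀ i : Fin m, u (Sum.inr (Sum.inl i)) * u (Sum.inr (Sum.inr i)) = 0 := fun i => by
      rw [show u (Sum.inr (Sum.inr i)) = 0 from huy i, mul_zero]
    simp only [this, Finset.sum_const_zero, show u (Sum.inl ()) = 0 from hu0]
    ring
  set w : Idx m → F := Pi.single e0 1 with hw_def
  have huw : polar ⇑(oddForm m F) u w = 0 := by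
    rw [polar_comm, refl_polar_e0, hu0, mul_zero]
  have hwy : ∀ j : Fin m, w (yi j) = 0 := fun j => Pi.single_eq_of_ne (by simp [yi, e0]) _
  have hE : refl_E u w hu huw ∈ Bo F m := by
    apply refl_E_mem_Bo h2
    intro a j _
    rw [hwy, huy]
    ring
  have hpvu : polar ⇑(oddForm m F) v u = 0 := by
    rw [polar_oddForm]
    have h1 : ∀ i : Fin m, v (Sum.inr (Sum.inl i)) * u (Sum.inr (Sum.inr i)) +
        u (Sum.inr (Sum.inl i)) * v (Sum.inr (Sum.inr i)) = 0 := fun i => by
      rw [show u (Sum.inr (Sum.inr i)) = 0 from huy i, show v (Sum.inr (Sum.inr i)) = 0 from hy0 i]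
      ring
    simp only [h1, Finset.sum_const_zero, show u (Sum.inl ()) = 0 from hu0]
    ring
  have hEv : mat (refl_E u w hu huw) *ᵥ v = v e0 • Pi.single e0 1 := by
    rw [refl_E_mulVec, hpvu, polar_comm, refl_polar_e0]
    funext a
    simp only [Pi.add_apply, Pi.sub_apply, Pi.smul_apply, smul_eq_mul, mul_zero, zero_mul, sub_zero]
    rcases a with a | j | j
    · show v e0 + 2 * v e0 * u e0 = v e0 * (Pi.single (e0 : Idx m) (1 : F) : Idx m → F) e0
      rw [hu0, Pi.single_eq_same]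
      ring
    · show v (xi j) + 2 * v e0 * u (xi j) = v e0 * (Pi.single (e0 : Idx m) (1 : F) : Idx m → F) (xi j)
      rw [hux, Pi.single_eq_of_ne (by simp [xi, e0])]
      field_simp
      ring
    · show v (yi j) + 2 * v e0 * u (yi j) = v e0 * (Pi.single (e0 : Idx m) (1 : F) : Idx m → F) (yi j)
      rw [huy, hy0, Pi.single_eq_of_ne (by simp [yi, e0])]
      ring
  exact refl_finish _ g hE v hg 1 _ (by rw [hEv]; exact refl_mono_e0 h2 (v e0) hv0)

/-- case (a): `k` is the smallest index with `v (y_k) ≠ 0` -/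
theorem refl_case_a (h2 : (2 : F) ≠ 0) (g : OG F m) (v : Idx m → F)
    (hv : Cfsg.quadFormOdd m F v ≠ 0)
    (hg : mat g = Cfsg.reflectionMatrix (Cfsg.quadFormOdd m F) v)
    (k : Fin m) (hk : v (yi k) ≠ 0) (hmin : ∀ j : Fin m, (j : ℕ) < (k : ℕ) → v (yi j) = 0) :
    g ∈ Bo F m ⊔ No F m := by
  have hxy : (xi k : Idx m) ≠ yi k := by simp [xi, yi]
  set β : F := v (yi k) with hβ
  set u : Idx m → F := Pi.single (xi k) 1 with hu_def
  set v' : Idx m → F := v - v (xi k) • Pi.single (xi k) 1 - β • Pi.single (yi k) 1 with hv'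
  set w : Idx m → F := β⁻¹ • v' with hw_def
  have hu : oddForm m F u = 0 := Cfsg.Agent.Lib.Helper43.oddForm_single_inl m F k
  have hv'y : ∀ j : Fin m, v' (yi j) = if j = k then 0 else v (yi j) := by
    intro j
    simp only [hv', Pi.sub_apply, Pi.smul_apply, smul_eq_mul]
    rw [Pi.single_eq_of_ne (show (yi j : Idx m) ≠ xi k by simp [xi, yi])]
    by_cases hjk : j = k
    · subst hjk
      rw [if_pos rfl, Pi.single_eq_same]
      ring
    · rw [if_neg hjk, Pi.single_eq_of_ne (show (yi j : Idx m) ≠ yi k by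
        intro h; apply hjk; simpa [yi] using h)]
      ring
  have huy : ∀ j : Fin m, u (yi j) = 0 := fun j =>
    Pi.single_eq_of_ne (show (yi j : Idx m) ≠ xi k by simp [xi, yi]) _
  have huw : polar ⇑(oddForm m F) u w = 0 := by
    rw [refl_polar_x, hw_def, Pi.smul_apply, hv'y, if_pos rfl, smul_zero]
  have hE : refl_E u w hu huw ∈ Bo F m := by
    apply refl_E_mem_Bo h2
    intro a j hja
    rw [huy]
    by_cases ha : a = xi k
    · subst ha
      have hjk : (j : ℕ) < (k : ℕ) := hja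
      have hjk' : j ≠ k := by
        rintro rfl
        exact lt_irrefl _ hjk
      rw [hw_def, Pi.smul_apply, hv'y, if_neg hjk', hmin j hjk]
      simp
    · rw [show u a = 0 from Pi.single_eq_of_ne ha _]
      ring
  have hpvu : polar ⇑(oddForm m F) v u = β := by
    rw [polar_comm, refl_polar_x]
  set α : F := v (xi k) + (polar ⇑(oddForm m F) v w - oddForm m F w * β) with hα_def
  have hEv : mat (refl_E u w hu huw) *ᵥ v =
      α • Pi.single (xi k) 1 + β • Pi.single (yi k) 1 := by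
    rw [refl_E_mulVec, hpvu]
    have h1 : β • w = v' := by
      rw [hw_def, smul_smul, mul_inv_cancel₀ hk, one_smul]
    rw [h1, hv', hα_def]
    module
  have hαβ : α * β ≠ 0 := by
    have h1 := mat_preserves (refl_E u w hu huw) v
    rw [hEv, refl_Q_eq, refl_Q_pair] at h1
    rw [h1]
    exact hv
  have hα : α ≠ 0 := left_ne_zero_of_mul hαβ
  exact refl_finish _ g hE v hg _ _ (by rw [hEv]; exact refl_mono_pair k α β hα hk)

/-- LEAF REFL: every reflection lies in `B N B`. -/
theorem refl_mem_sup (h2 : (2 : F) ≠ 0) (g : OG F m) (v : Idx m → F)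
    (hv : Cfsg.quadFormOdd m F v ≠ 0)
    (hg : mat g = Cfsg.reflectionMatrix (Cfsg.quadFormOdd m F) v) : g ∈ Bo F m ⊔ No F m := by
  classical
  by_cases h : ∃ j : Fin m, v (yi j) ≠ 0
  · obtain ⟨k, hk, hmin⟩ : ∃ k : Fin m, v (yi k) ≠ 0 ∧
        ∀ j : Fin m, (j : ℕ) < (k : ℕ) → v (yi j) = 0 := by
      obtain ⟨j0, hj0⟩ := h
      have hne : (Finset.univ.filter (fun j : Fin m => v (yi j) ≠ 0)).Nonempty :=
        ⟨j0, Finset.mem_filter.mpr ⟨Finset.mem_univ _, hj0⟩⟩
      obtain ⟨k, hk, hkmin⟩ := Finset.exists_min_image _ (fun j : Fin m => (j : ℕ)) hne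
      refine ⟨k, (Finset.mem_filter.mp hk).2, fun j hj => ?_⟩
      by_contra hne'
      have := hkmin j (Finset.mem_filter.mpr ⟨Finset.mem_univ _, hne'⟩)
      omega
    exact refl_case_a h2 g v hv hg k hk hmin
  · push Not at h
    exact refl_case_b h2 g v hv hg h

end Cfsg.Agent.Lib.Helper39.OoREFLalt
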