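import Cfsg.Agent.Lib.Helper39.SchurBoundA
import Cfsg.Agent.Lib.Helper80.JointEigen
import Cfsg.Agent.Lib.Helper25.CharBound

/-!
# Schur's bound, part B: congruences and bounds for values at `p`-elements
-/

set_option autoImplicit false

namespace Cfsg.Agent.Lib.Helper39

open Cfsg

section SchurBoundB

/-- Freshman's dream for finite sums, up to a multiple of `p`. -/
theorem exists_sum_pow_prime_eq {R : Type*} [CommRing R] {p : ℕ} (hp : p.Prime) {ι : Type*}
    (s : Finset ι) (f : ι → R) :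
    ∃ r : R, (∑ i ∈ s, f i) ^ p = ∑ i ∈ s, f i ^ p + p * r := by
  classical
  induction s using Finset.induction_on with
  | empty => exact ⟨0, by simp [hp.ne_zero]⟩
  | insert a s ha ih =>
    obtain ⟨r₂, hr₂⟩ := ih
    obtain ⟨r₁, hr₁⟩ := exists_add_pow_prime_eq hp (f a) (∑ i ∈ s, f i)
    refine ⟨f a * (∑ i ∈ s, f i) * r₁ + r₂, ?_⟩
    rw [Finset.sum_insert ha, Finset.sum_insert ha, hr₁, hr₂]; ring

theorem sum_range_pow_of_pow_eq_one {α : ℂ} {N : ℕ} (hα : α ^ N = 1) :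
    ∑ j ∈ Finset.range N, α ^ j = if α = 1 then (N : ℂ) else 0 := by
  split_ifs with h
  · subst h; simp
  · rw [geom_sum_eq h, hα, sub_self, zero_div]

theorem sum_range_mul_split (p M : ℕ) (hp : 0 < p) (f : ℕ → ℤ) :
    ∑ j ∈ Finset.range (p * M), f j = ∑ q ∈ Finset.range M, f (p * q) +
      ∑ j ∈ (Finset.range (p * M)).filter (fun j => ¬ p ∣ j), f j := by
  classical
  rw [← Finset.sum_filter_add_sum_filter_not (Finset.range (p * M)) (fun j => p ∣ j)]
  congr 1
  have himg : (Finset.range (p * M)).filter (fun j => p ∣ j) =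
      (Finset.range M).image (fun q => p * q) := by
    ext j
    simp only [Finset.mem_filter, Finset.mem_range, Finset.mem_image]
    constructor
    · rintro ⟨hj, q, rfl⟩
      exact ⟨q, Nat.lt_of_mul_lt_mul_left hj, rfl⟩
    · rintro ⟨q, hq, rfl⟩
      exact ⟨Nat.mul_lt_mul_of_pos_left hq hp, dvd_mul_right _ _⟩
  rw [himg, Finset.sum_image]
  intro a _ b _ hab
  exact Nat.eq_of_mul_eq_mul_left hp hab

theorem card_filter_not_dvd (p M : ℕ) (hp : 0 < p) :
    (((Finset.range (p * M)).filter (fun j => ¬ p ∣ j)).card : ℤ) = (p : ℤ) * M - M := by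
  classical
  have h1 := Finset.card_filter_add_card_filter_not (s := Finset.range (p * M))
    (fun j => p ∣ j)
  have himg : (Finset.range (p * M)).filter (fun j => p ∣ j) =
      (Finset.range M).image (fun q => p * q) := by
    ext j
    simp only [Finset.mem_filter, Finset.mem_range, Finset.mem_image]
    constructor
    · rintro ⟨hj, q, rfl⟩
      exact ⟨q, Nat.lt_of_mul_lt_mul_left hj, rfl⟩
    · rintro ⟨q, hq, rfl⟩
      exact ⟨Nat.mul_lt_mul_of_pos_left hq hp, dvd_mul_right _ _⟩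
  have h2 : ((Finset.range (p * M)).filter (fun j => p ∣ j)).card = M := by
    rw [himg, Finset.card_image_of_injective _ (fun a b hab => Nat.eq_of_mul_eq_mul_left hp hab),
      Finset.card_range]
  rw [h2, Finset.card_range] at h1
  have : (((Finset.range (p * M)).filter (fun j => ¬ p ∣ j)).card : ℤ) + M = (p : ℤ) * M := by
    exact_mod_cast (by omega : ((Finset.range (p * M)).filter (fun j => ¬ p ∣ j)).card + M = p * M)
  linarith

variable {G : Type*} [Group G] [Finite G]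

/-- Eigenvalues of a single element. -/
theorem exists_eigenvalues {χ : G → ℂ} (hχ : IsCharacter G χ) (x : G) :
    ∃ (n : ℕ) (α : Fin n → ℂ), (∀ i, α i ^ orderOf x = 1) ∧
      ∀ a : ℕ, χ (x ^ a) = ∑ i, α i ^ a := by
  obtain ⟨n, α, β, hα, hβ, h⟩ :=
    Cfsg.Agent.Lib.Helper80.exists_joint_eigenvalues hχ x 1 (by simp)
  refine ⟨n, α, hα, fun a => ?_⟩
  have := h a 0
  simpa using this

omit [Finite G] in
theorem char_one_natCast {χ : G → ℂ} (hχ : IsCharacter G χ) (n : ℕ)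
    (hn : Cfsg.charDegree χ = n) : χ 1 = (n : ℂ) := by
  obtain ⟨m, ρ, rfl⟩ := hχ
  have h1 : ρ.character 1 = (m : ℂ) := by
    rw [Representation.char_one]; simp
  unfold Cfsg.charDegree at hn
  rw [h1] at hn ⊢
  simp at hn
  rw [hn]

/-- One step of the congruence: `χ(x) ≡ χ(x ^ p) (mod p)` when both are integers. -/
theorem int_dvd_sub_of_char {p : ℕ} (hp : p.Prime) {χ : G → ℂ} (hχ : IsCharacter G χ) (x : G)
    (z₁ z₂ : ℤ) (h1 : (z₁ : ℂ) = χ x) (h2 : (z₂ : ℂ) = χ (x ^ p)) : (p : ℤ) ∣ z₁ - z₂ := by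
  obtain ⟨n, α, hα, hval⟩ := exists_eigenvalues hχ x
  have hint : ∀ i, IsIntegral ℤ (α i) := fun i =>
    IsIntegral.of_pow (orderOf_pos x) (by rw [hα i]; exact isIntegral_one)
  let a : Fin n → integralClosure ℤ ℂ := fun i => ⟨α i, hint i⟩
  obtain ⟨r, hr⟩ := exists_sum_pow_prime_eq hp Finset.univ a
  have hr' : (∑ i, α i) ^ p = ∑ i, α i ^ p + p * (r : ℂ) := by
    have := congrArg (fun t : integralClosure ℤ ℂ => (t : ℂ)) hr
    simpa [a] using this
  have hrint : IsIntegral ℤ (r : ℂ) := r.2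
  have hx1 : χ x = ∑ i, α i := by
    have := hval 1
    simpa using this
  have e1 : ((z₁ ^ p - z₂ : ℤ) : ℂ) = p * (r : ℂ) := by
    push_cast
    rw [h1, h2, hval p, hx1, hr']; ring
  have hpne : (p : ℂ) ≠ 0 := by exact_mod_cast hp.ne_zero
  have e2 : (r : ℂ) = (((z₁ ^ p - z₂ : ℤ) : ℚ) / (p : ℚ) : ℚ) := by
    push_cast
    rw [eq_div_iff hpne, mul_comm]
    rw [← e1]; push_cast; ring
  rw [e2] at hrint
  obtain ⟨w, hw⟩ := Cfsg.Agent.Lib.Helper3.int_of_isIntegral_ratCast hrint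
  have hpq : (p : ℚ) ≠ 0 := by exact_mod_cast hp.ne_zero
  have e3 : z₁ ^ p - z₂ = p * w := by
    have : ((z₁ ^ p - z₂ : ℤ) : ℚ) = (p : ℚ) * w := by
      rw [hw]; field_simp
    exact_mod_cast this
  have := Fact.mk hp
  have e4 : (p : ℤ) ∣ z₁ ^ p - z₁ := by
    have : ((z₁ ^ p - z₁ : ℤ) : ZMod p) = 0 := by
      push_cast
      rw [ZMod.pow_card]; ring
    exact (ZMod.intCast_zmod_eq_zero_iff_dvd _ p).mp this
  have : z₁ - z₂ = (z₁ ^ p - z₂) - (z₁ ^ p - z₁) := by ring
  rw [this]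
  exact dvd_sub ⟨w, e3⟩ e4

end SchurBoundB

end Cfsg.Agent.Lib.Helper39
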