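import Mathlib
import Cfsg.Prelude.Def_Characters
import Cfsg.Agent.Lib.Helper75.GaloisTwist
import Cfsg.Agent.Lib.Helper75.GaloisExt
import Cfsg.Agent.Lib.Helper39.SchurBoundB

/-!
# Field of values of a character and units of `ZMod N`

If all elements of `G` have order dividing `N`, the subgroup of `Gal(ℚ(ζ_N)/ℚ) ≃ (ZMod N)ˣ`
fixing the field of values `ℚ(χ)` has order `φ(N) / [ℚ(χ) : ℚ]` and each of its elements `u`
satisfies `χ (x ^ u) = χ x`.
-/

set_option autoImplicit false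

namespace Cfsg.Agent.Lib.Helper39

open Cfsg

section PGFieldA

variable {G : Type*} [Group G] [Finite G]

/-- Character values lie in the `N`-th cyclotomic field when `N` kills `G`. -/
theorem char_mem_cyclotomic {χ : G → ℂ} (hχ : IsCharacter G χ) (N : ℕ) (hN0 : N ≠ 0)
    (hN : ∀ g : G, g ^ N = 1) (g : G) :
    χ g ∈ IntermediateField.adjoin ℚ
      {b : ℂ | ∃ m ∈ ({N} : Set ℕ), m ≠ 0 ∧ b ^ m = 1} := by
  obtain ⟨n, α, hα, h⟩ := exists_eigenvalues hχ g
  have h1 := h 1
  rw [pow_one] at h1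
  rw [h1]
  apply sum_mem
  intro i _
  rw [pow_one]
  have hαN : α i ^ N = 1 := by
    obtain ⟨c, hc⟩ := orderOf_dvd_of_pow_eq_one (hN g)
    rw [hc, pow_mul, hα i, one_pow]
  exact IntermediateField.subset_adjoin ℚ _ ⟨N, rfl, hN0, hαN⟩

/-- The Galois group of the `N`-th cyclotomic field over the field of values, as a subgroup of
`(ZMod N)ˣ`. -/
theorem exists_units_subgroup_fixing {χ : G → ℂ} (hχ : IsCharacter G χ) (N : ℕ) [NeZero N]
    (hN : ∀ g : G, g ^ N = 1) :
    ∃ R : Subgroup (ZMod N)ˣ, (∀ u ∈ R, ∀ x : G, χ (x ^ (u : ZMod N).val) = χ x) ∧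
      Nat.card R * Module.finrank ℚ (IntermediateField.adjoin ℚ (Set.range χ)) =
        N.totient := by
  classical
  have hN0 : N ≠ 0 := NeZero.ne N
  have hex : ∀ m ∈ ({N} : Set ℕ), m ≠ 0 → ∃ r : ℂ, IsPrimitiveRoot r m := by
    intro m hm hm0
    exact ⟨_, Complex.isPrimitiveRoot_exp m hm0⟩
  let L : IntermediateField ℚ ℂ :=
    IntermediateField.adjoin ℚ {b : ℂ | ∃ m ∈ ({N} : Set ℕ), m ≠ 0 ∧ b ^ m = 1}
  have hcyc : IsCyclotomicExtension {N} ℚ L :=
    IntermediateField.isCyclotomicExtension_adjoin_of_exists_isPrimitiveRoot {N} ℚ ℂ hex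
  have hirr : Irreducible (Polynomial.cyclotomic N ℚ) :=
    Polynomial.cyclotomic.irreducible_rat (Nat.pos_of_ne_zero hN0)
  have hgal : IsGalois ℚ L := IsCyclotomicExtension.isGalois {N} ℚ L
  have hfd : FiniteDimensional ℚ L := IsCyclotomicExtension.finiteDimensional {N} ℚ L
  have hfin : Module.finrank ℚ L = N.totient := IsCyclotomicExtension.finrank L hirr
  let K : IntermediateField ℚ ℂ := IntermediateField.adjoin ℚ (Set.range χ)
  have hKL : K ≤ L := by
    rw [IntermediateField.adjoin_le_iff]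
    rintro _ ⟨g, rfl⟩
    exact char_mem_cyclotomic hχ N hN0 hN g
  let K' : IntermediateField ℚ L := IntermediateField.restrict hKL
  have hK'fin : Module.finrank ℚ K' = Module.finrank ℚ K :=
    (IntermediateField.restrictAlgEquiv hKL).toLinearEquiv.finrank_eq.symm
  let H : Subgroup (L ≃ₐ[ℚ] L) := K'.fixingSubgroup
  have hH : Nat.card H = Module.finrank K' L := IsGalois.card_fixingSubgroup_eq_finrank K'
  have hmul : Module.finrank ℚ K' * Module.finrank K' L = Module.finrank ℚ L :=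
    Module.finrank_mul_finrank ℚ K' L
  let e : (L ≃ₐ[ℚ] L) ≃* (ZMod N)ˣ := IsCyclotomicExtension.autEquivPow L hirr
  refine ⟨H.map e.toMonoidHom, ?_, ?_⟩
  · rintro u ⟨σ, hσ, rfl⟩ x
    set k : ℕ := ((e.toMonoidHom σ : (ZMod N)ˣ) : ZMod N).val with hk
    have hz : IsPrimitiveRoot (IsCyclotomicExtension.zeta N ℚ L) N :=
      IsCyclotomicExtension.zeta_spec N ℚ L
    have hσz : σ (IsCyclotomicExtension.zeta N ℚ L) = (IsCyclotomicExtension.zeta N ℚ L) ^ k := by
      have := IsPrimitiveRoot.autToPow_spec ℚ hz σ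
      rw [← this]
      rfl
    obtain ⟨τ, hτ⟩ := Helper75.exists_ringEquiv_extending (F := L) (K := ℂ) σ.toRingEquiv
    set z : ℂ := ((IsCyclotomicExtension.zeta N ℚ L : L) : ℂ) with hzdef
    have hzC : IsPrimitiveRoot z N :=
      hz.map_of_injective (f := algebraMap L ℂ) (algebraMap L ℂ).injective
    have hτz : τ z = z ^ k := by
      have := hτ (IsCyclotomicExtension.zeta N ℚ L)
      have h2 : σ.toRingEquiv (IsCyclotomicExtension.zeta N ℚ L) =
          σ (IsCyclotomicExtension.zeta N ℚ L) := rfl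
      rw [h2, hσz, map_pow] at this
      exact this
    have hτμ : ∀ μ : ℂ, μ ^ N = 1 → τ μ = μ ^ k := by
      intro μ hμ
      obtain ⟨i, _, rfl⟩ := hzC.eq_pow_of_pow_eq_one hμ
      rw [map_pow, hτz, ← pow_mul, ← pow_mul, mul_comm]
    obtain ⟨n, ρ, rfl⟩ := hχ
    have h1 := Helper75.ringEquiv_character_eq_pow ρ τ N k hτμ x (hN x)
    rw [← h1]
    have hxK : ρ.character x ∈ K := IntermediateField.subset_adjoin ℚ _ ⟨x, rfl⟩
    let ℓ : L := ⟨ρ.character x, hKL hxK⟩
    have hℓ : ℓ ∈ K' := (IntermediateField.mem_restrict hKL ℓ).2 hxK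
    have hσℓ : σ ℓ = ℓ := (IntermediateField.mem_fixingSubgroup_iff K' σ).1 hσ ℓ hℓ
    have := hτ ℓ
    rw [show σ.toRingEquiv ℓ = σ ℓ from rfl, hσℓ] at this
    exact this
  · have hinj : Function.Injective (e.toMonoidHom : (L ≃ₐ[ℚ] L) →* (ZMod N)ˣ) := e.injective
    rw [Subgroup.card_map_of_injective hinj, hH, ← hK'fin, mul_comm, hmul, hfin]

end PGFieldA

end Cfsg.Agent.Lib.Helper39
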