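import Mathlib
import Cfsg.Prelude.Def_Characters
import Cfsg.Agent.Lib.Helper3.CharOps
import Cfsg.Agent.Lib.Helper3.ProperInduced
import Cfsg.Agent.Lib.Helper3.TIInd
import Cfsg.Agent.Lib.Helper75.Clifford
import Cfsg.Agent.Lib.Helper75.GaloisTwist
import Cfsg.Agent.Lib.Helper75.Twist
import Cfsg.Agent.Lib.Helper79.CliffordCorr

/-!
# Nonlinear irreducible characters of `p`-groups are induced from a normal subgroup of index `p`
-/

set_option autoImplicit false
set_option linter.style.haveILetI false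

namespace Cfsg.Agent.Lib.Helper39

open Cfsg Cfsg.Agent.Lib.Helper3 Cfsg.Agent.Lib.Helper75 Cfsg.Agent.Lib.Helper79
open scoped ComplexConjugate

universe u

section PGFieldB

/-- A proper subgroup of a finite `p`-group lies in a normal subgroup of index `p`. -/
theorem exists_normal_index_p_of_ne_top {E : Type*} [Group E] [Finite E] {p : ℕ}
    [hp : Fact p.Prime] (hE : IsPGroup p E) (H : Subgroup E) (hH : H ≠ ⊤) :
    ∃ E₁ : Subgroup E, E₁.Normal ∧ E₁.index = p ∧ H ≤ E₁ := by
  obtain ⟨k, hk⟩ := IsPGroup.iff_card.mp hE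
  obtain ⟨n, hn⟩ := IsPGroup.iff_card.mp (hE.to_subgroup H)
  have hlt : n < k := by
    have h1 : Nat.card H < Nat.card E := by
      by_contra hc
      have hge : Nat.card E ≤ Nat.card H := Nat.le_of_not_lt hc
      exact hH (Subgroup.eq_top_of_card_eq H (le_antisymm (Subgroup.card_le_card_group H) hge))
    rw [hn, hk] at h1
    exact (Nat.pow_lt_pow_iff_right hp.out.one_lt).mp h1
  obtain ⟨E₁, hE₁c, hHE₁⟩ := Sylow.exists_subgroup_card_pow_prime_le p (n := n) (m := k - 1)
    (by rw [hk]; exact pow_dvd_pow p (Nat.sub_le k 1)) H hn (by omega)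
  have hidx : E₁.index = p := by
    have h1 := E₁.card_mul_index
    rw [hE₁c, hk] at h1
    have hk1 : k = (k - 1) + 1 := by omega
    have h2 : p ^ k = p ^ (k - 1) * p := by rw [← pow_succ, ← hk1]
    rw [h2] at h1
    exact Nat.eq_of_mul_eq_mul_left (pow_pos hp.out.pos _) h1
  refine ⟨E₁, ?_, hidx, hHE₁⟩
  apply Subgroup.normal_of_index_eq_minFac_card
  rw [hidx, hk]
  exact (Nat.Prime.pow_minFac hp.out (by omega)).symm

/-- A nonlinear irreducible character of a finite `p`-group is induced from an irreducible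
character of a normal subgroup of index `p`. -/
theorem exists_index_p_induced {X : Type u} [Group X] [Fintype X] (p : ℕ) [hp : Fact p.Prime]
    (hX : IsPGroup p X) {χ : X → ℂ} (hχ : IsIrrCharacter X χ) (h1 : χ 1 ≠ 1) :
    ∃ M : Subgroup X, M.Normal ∧ M.index = p ∧
      ∃ θ : M → ℂ, IsIrrCharacter M θ ∧ χ = indFun M θ := by
  classical
  obtain ⟨k, hk⟩ := IsPGroup.iff_card.mp hX
  obtain ⟨T, ψ, hT, hψ, hχT⟩ := exists_proper_induced p (⊥ : Subgroup X)
    (fun a ha b hb => by rw [Subgroup.mem_bot] at ha hb; rw [ha, hb])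
    ⟨k, by rw [Subgroup.index_bot, hk]⟩ hχ h1
  obtain ⟨M, hMn, hMi, hTM⟩ := exists_normal_index_p_of_ne_top hX T hT
  haveI := hMn
  refine ⟨M, hMn, hMi, ?_⟩
  haveI : Fintype M := Fintype.ofFinite M
  haveI : Fintype (IrrCharacter M) := Fintype.ofFinite _
  have hvan : ∀ g, g ∉ M → χ g = 0 := by
    intro g hg
    rw [hχT]
    apply indFun_eq_zero_of_forall_not_mem T (T : Set X) ψ (fun c hc => absurd c.2 hc) g
    intro y hy
    apply hg
    have h2 := hMn.conj_mem _ (hTM hy) y
    simpa [mul_assoc] using h2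
  have hnorm : classInner (fun m : M => χ m) (fun m : M => χ m) = (p : ℂ) := by
    rw [classInner_restrict_eq]
    have : χ * indFun M (fun _ => (1:ℂ)) = (p : ℂ) • χ := by
      funext g
      rw [Pi.mul_apply, indFun_const_one_apply, Pi.smul_apply, smul_eq_mul]
      by_cases hg : g ∈ M
      · rw [if_pos hg, hMi]; ring
      · rw [if_neg hg, hvan g hg]; ring
    rw [this, classInner_smul_right, classInner_irr hχ hχ, if_pos rfl]
    simp
  obtain ⟨m, hm, hdec⟩ := IsCharacter.exists_mult (IsCharacter.restrict (IsIrrCharacter.isCharacter hχ) M)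
  have hsum : ∑ ψ : IrrCharacter M, ((m ψ : ℂ)) * conj (m ψ : ℂ) = p := by
    rw [← classInner_sum_sum, ← hdec]
    exact hnorm
  have hex : ∃ θ : IrrCharacter M, m θ ≠ 0 := by
    by_contra hcon
    push Not at hcon
    have : ∑ ψ : IrrCharacter M, ((m ψ : ℂ)) * conj (m ψ : ℂ) = 0 :=
      Finset.sum_eq_zero (fun ψ _ => by rw [hcon ψ]; simp)
    rw [this] at hsum
    exact hp.out.ne_zero (by exact_mod_cast hsum.symm)
  obtain ⟨θ, hθm⟩ := hex
  have hθc : classInner (fun m : M => χ m) (θ : M → ℂ) ≠ 0 := by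
    rw [hm θ]; exact_mod_cast hθm
  have hI : inertia M (θ : M → ℂ) = M := by
    have hle : M ≤ inertia M (θ : M → ℂ) := le_inertia M (IsCharacter.isClassFunction (IsIrrCharacter.isCharacter θ.2))
    by_contra hne
    have htop : inertia M (θ : M → ℂ) = ⊤ := by
      have h1 := Subgroup.relIndex_mul_index hle
      rw [hMi] at h1
      have h2 : (inertia M (θ : M → ℂ)).index ∣ p := Dvd.intro_left _ h1
      rcases (Nat.dvd_prime hp.out).1 h2 with h3 | h3
      · exact Subgroup.index_eq_one.1 h3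
      · exfalso; apply hne
        rw [h3] at h1
        have h4 : M.relIndex (inertia M (θ : M → ℂ)) = 1 := by
          have := hp.out.pos; nlinarith
        exact le_antisymm (Subgroup.relIndex_eq_one.1 h4) hle
    have hall : ∀ ψ : IrrCharacter M, m ψ ≠ 0 → ψ = θ := by
      intro ψ hψ
      have hψc : classInner (fun m : M => χ m) (ψ : M → ℂ) ≠ 0 := by
        rw [hm ψ]; exact_mod_cast hψ
      obtain ⟨g, hg⟩ := clifford_conj M hχ θ.2 ψ.2 hθc hψc
      have : g ∈ inertia M (θ : M → ℂ) := htop ▸ Subgroup.mem_top g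
      rw [mem_inertia] at this
      apply Subtype.ext
      rw [hg, this]
    have hs1 : ∑ ψ : IrrCharacter M, ((m ψ : ℂ)) * conj (m ψ : ℂ) =
        (m θ : ℂ) * conj (m θ : ℂ) := by
      apply Finset.sum_eq_single θ
      · intro ψ _ hne
        have : m ψ = 0 := by
          by_contra h; exact hne (hall ψ h)
        rw [this]; simp
      · intro h; exact absurd (Finset.mem_univ θ) h
    rw [hs1] at hsum
    have h5 : m θ * m θ = p := by
      have : ((m θ * m θ : ℕ) : ℂ) = (p : ℂ) := by
        push_cast; rw [← hsum]; simp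
      exact_mod_cast this
    have h6 : m θ ∣ p := Dvd.intro _ h5
    rcases (Nat.dvd_prime hp.out).1 h6 with h7 | h7
    · rw [h7] at h5; have := hp.out.one_lt; omega
    · rw [h7] at h5; have := hp.out.one_lt; nlinarith
  obtain ⟨ψ', hψ', hχψ', -⟩ := clifford_correspondence M hχ θ.2 hθc
  have key : ∀ (I : Subgroup X) (_ : I = M) (ψ' : I → ℂ), IsIrrCharacter I ψ' →
      χ = indFun I ψ' → ∃ θ' : M → ℂ, IsIrrCharacter M θ' ∧ χ = indFun M θ' := by
    intro I hI
    subst hI
    exact fun ψ' h1 h2 => ⟨ψ', h1, h2⟩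
  exact key _ hI ψ' hψ' hχψ'

end PGFieldB

end Cfsg.Agent.Lib.Helper39
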