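import Mathlib
import Cfsg.Prelude.Def_Characters
import Cfsg.Agent.Lib.Helper3.CharOps
import Cfsg.Agent.Lib.Helper75.GaloisTwist

/-!
# The power twist of functions on a group by units of `ZMod N`
-/

set_option autoImplicit false
set_option linter.style.haveILetI false

namespace Cfsg.Agent.Lib.Helper39

open Cfsg Cfsg.Agent.Lib.Helper3 Cfsg.Agent.Lib.Helper75
open scoped ComplexConjugate

section PGFieldC

variable {X : Type*} [Group X] {N : ℕ}

theorem pow_unit_one (hX : ∀ x : X, x ^ N = 1) (x : X) :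
    x ^ (((1 : (ZMod N)ˣ) : ZMod N)).val = x := by
  rw [Units.val_one, ZMod.val_one_eq_one_mod, ← pow_eq_pow_mod 1 (hX x), pow_one]

theorem pow_unit_mul (hX : ∀ x : X, x ^ N = 1) (u v : (ZMod N)ˣ) (x : X) :
    x ^ (((u * v : (ZMod N)ˣ) : ZMod N)).val = (x ^ (u : ZMod N).val) ^ (v : ZMod N).val := by
  rw [Units.val_mul, ZMod.val_mul, ← pow_eq_pow_mod _ (hX x), pow_mul]

/-- The power-twist action of the units of `ZMod N` on complex functions on a group killed by
`N`. -/
@[reducible] def twAction (hX : ∀ x : X, x ^ N = 1) : MulAction (ZMod N)ˣ (X → ℂ) where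
  smul u ψ := fun x => ψ (x ^ (u : ZMod N).val)
  one_smul ψ := by
    funext x
    show ψ (x ^ (((1 : (ZMod N)ˣ) : ZMod N)).val) = ψ x
    rw [pow_unit_one hX]
  mul_smul u v ψ := by
    funext x
    show ψ (x ^ (((u * v : (ZMod N)ˣ) : ZMod N)).val) =
      ψ ((x ^ (u : ZMod N).val) ^ (v : ZMod N).val)
    rw [pow_unit_mul hX]

theorem twAction_smul_apply (hX : ∀ x : X, x ^ N = 1) (u : (ZMod N)ˣ) (ψ : X → ℂ) (x : X) :
    (letI := twAction hX; u • ψ) x = ψ (x ^ (u : ZMod N).val) := rfl

/-- The exponent attached to a unit of `ZMod N` is prime to the order of a group killed by `N`. -/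
theorem coprime_unit_card [Finite X] (hX : ∀ x : X, x ^ N = 1) (u : (ZMod N)ˣ) :
    Nat.Coprime (u : ZMod N).val (Nat.card X) := by
  apply Nat.coprime_of_dvd
  intro q hq hqk hqX
  haveI : Fact q.Prime := ⟨hq⟩
  obtain ⟨x, hx⟩ := exists_prime_orderOf_dvd_card' q hqX
  have h1 : q ∣ N := by
    rw [← hx]
    exact orderOf_dvd_of_pow_eq_one (hX x)
  have h2 := ZMod.val_coe_unit_coprime u
  have h3 : q ∣ Nat.gcd (u : ZMod N).val N := Nat.dvd_gcd hqk h1
  rw [h2] at h3
  exact hq.one_lt.ne' (Nat.dvd_one.1 h3)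

/-- Power maps prime to the group order preserve the inner product. -/
theorem classInner_pow_pow [Fintype X] (k : ℕ) (hk : Nat.Coprime k (Nat.card X))
    (φ ψ : X → ℂ) :
    classInner (fun x => φ (x ^ k)) (fun x => ψ (x ^ k)) = classInner φ ψ := by
  unfold classInner
  congr 1
  have h := Equiv.sum_comp (powCoprime hk.symm) (fun x : X => φ x * conj (ψ x))
  simp only [powCoprime_apply] at h
  exact h

end PGFieldC

end Cfsg.Agent.Lib.Helper39
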