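import Mathlib
import Cfsg.Prelude.Def_Characters
import Cfsg.Agent.Lib.Helper39.PGFieldB
import Cfsg.Agent.Lib.Helper39.PGFieldC
import Cfsg.Agent.Lib.Helper15.LinearChar
import Cfsg.Agent.Lib.Helper25.CharUtil
import Cfsg.Agent.Lib.Helper25.Ind
import Cfsg.Agent.Lib.Helper79.Basic
import Cfsg.Agent.Lib.Helper80.Kernel

/-!
# Faithful irreducible characters of `p`-groups: order bound by degree and Galois stabilizer
-/

set_option autoImplicit false
set_option linter.style.haveILetI false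

namespace Cfsg.Agent.Lib.Helper39

open Cfsg Cfsg.Agent.Lib.Helper3 Cfsg.Agent.Lib.Helper75 Cfsg.Agent.Lib.Helper79
open scoped ComplexConjugate

universe u

section PGFieldD

/-- Arithmetic for the case where the stabilizer does not shrink. -/
theorem pgf_arith1 (p g b b' E : ℕ) (hp : 2 ≤ p) (hg : 1 ≤ g) (h1 : b ≤ 1 + p * b')
    (h2 : (p - 1) * b' ≤ (g - 1) + (p - 1) * E * g) :
    (p - 1) * b ≤ (p * g - 1) + (p - 1) * E * (p * g) := by
  obtain ⟨P, rfl⟩ : ∃ P, p = P + 1 := ⟨p - 1, by omega⟩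
  obtain ⟨G, rfl⟩ : ∃ G, g = G + 1 := ⟨g - 1, by omega⟩
  simp only [Nat.add_sub_cancel] at h2 ⊢
  have h3 : (P + 1) * (G + 1) - 1 = P + (P + 1) * G := by
    have : (P + 1) * (G + 1) = P + (P + 1) * G + 1 := by ring
    omega
  rw [h3]
  have h4 := Nat.mul_le_mul_left (P + 1) h2
  have h5 := Nat.mul_le_mul_left P h1
  nlinarith [h4, h5]

/-- Arithmetic for the case where the stabilizer shrinks by `p`. -/
theorem pgf_arith2 (p g b E : ℕ) (hp : 2 ≤ p) (hg : 1 ≤ g) (hE : 1 ≤ E) (hb : 1 ≤ b)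
    (h : (p - 1) * (b - 1) ≤ (g - 1) + (p - 1) * (E + 1) * g) :
    (p - 1) * b ≤ (p * g - 1) + (p - 1) * E * (p * g) := by
  obtain ⟨P, rfl⟩ : ∃ P, p = P + 1 := ⟨p - 1, by omega⟩
  obtain ⟨G, rfl⟩ : ∃ G, g = G + 1 := ⟨g - 1, by omega⟩
  obtain ⟨B, rfl⟩ : ∃ B, b = B + 1 := ⟨b - 1, by omega⟩
  simp only [Nat.add_sub_cancel] at h ⊢
  have h3 : (P + 1) * (G + 1) - 1 = P + (P + 1) * G := by
    have : (P + 1) * (G + 1) = P + (P + 1) * G + 1 := by ring
    omega
  rw [h3]
  have hP : 1 ≤ P := by omega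
  have h4 : 1 ≤ P * E * (G + 1) := by
    have : 0 < P * E * (G + 1) := by positivity
    omega
  have h5 := Nat.mul_le_mul_left P h4
  nlinarith [h, h5]

/-- The linear case: a faithful linear character forces the group to be cyclic, and a subgroup
of units fixing it lies in the kernel of the reduction map. -/
theorem pgf_base {X : Type*} [Group X] [Finite X] (p : ℕ) [hp : Fact p.Prime] (e b : ℕ)
    (hcard : Nat.card X = p ^ b) (hX : ∀ x : X, x ^ (p ^ e) = 1)
    {ψ : X → ℂ} (hψ : IsCharacter X ψ) (h1 : ψ 1 = 1) (hfaith : ∀ x, ψ x = ψ 1 → x = 1)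
    (R : Subgroup (ZMod (p ^ e))ˣ) (s : ℕ) (hR : Nat.card R = p ^ s)
    (hfix : ∀ u ∈ R, ∀ x, ψ (x ^ ((u : (ZMod (p ^ e))ˣ) : ZMod (p ^ e)).val) = ψ x) :
    (p - 1) * b ≤ (p - 1) * (e - s) := by
  classical
  haveI : NeZero p := ⟨hp.out.ne_zero⟩
  rcases Nat.eq_zero_or_pos b with hb | hb
  · rw [hb]; simp
  have hmul := Cfsg.Agent.Lib.Helper15.linChar_mul ⟨hψ, h1⟩
  have hinj : ∀ x y, ψ x = ψ y → x = y := by
    intro x y hxy
    have h2 : ψ (x * y⁻¹) = ψ 1 := by
      rw [hmul, hxy, ← hmul, mul_inv_cancel]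
    exact mul_inv_eq_one.1 (hfaith _ h2)
  let φ : X →* ℂ := { toFun := ψ, map_one' := h1, map_mul' := hmul }
  have hcyc : IsCyclic X := isCyclic_of_injective_ringHom φ (fun x y h => hinj x y h)
  obtain ⟨x₀, hx₀⟩ := hcyc.exists_generator
  have hord : orderOf x₀ = p ^ b := by
    rw [orderOf_eq_card_of_forall_mem_zpowers hx₀, hcard]
  have hbe : b ≤ e := by
    have : p ^ b ∣ p ^ e := by
      rw [← hord]; exact orderOf_dvd_of_pow_eq_one (hX x₀)
    exact (Nat.pow_dvd_pow_iff_le_right hp.out.one_lt).1 this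
  have hdvd : p ^ b ∣ p ^ e := pow_dvd_pow p hbe
  have hle : R ≤ (ZMod.unitsMap hdvd).ker := by
    intro u hu
    rw [MonoidHom.mem_ker]
    have h2 := hinj _ _ (hfix u hu x₀)
    have h3 : x₀ ^ ((u : ZMod (p ^ e)).val) = x₀ ^ 1 := by rw [pow_one]; exact h2
    rw [pow_eq_pow_iff_modEq, hord] at h3
    apply Units.ext
    rw [ZMod.unitsMap_val, Units.val_one, ← ZMod.natCast_val,
      ← Nat.cast_one (R := ZMod (p ^ b)), ZMod.natCast_eq_natCast_iff]
    exact h3
  have hker : Nat.card (ZMod.unitsMap hdvd).ker * p ^ (b - 1) = p ^ (e - 1) := by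
    have h1 := Subgroup.card_mul_index (ZMod.unitsMap hdvd).ker
    have hU : ∀ (n : ℕ) [NeZero n], Nat.card (ZMod n)ˣ = n.totient := fun n _ => by
      rw [Nat.card_eq_fintype_card, ZMod.card_units_eq_totient]
    rw [Subgroup.index_ker, MonoidHom.range_eq_top.2 (ZMod.unitsMap_surjective hdvd),
      Subgroup.card_top, hU (p ^ b), hU (p ^ e),
      Nat.totient_prime_pow hp.out hb, Nat.totient_prime_pow hp.out (lt_of_lt_of_le hb hbe)] at h1
    have hp1 : 0 < p - 1 := Nat.sub_pos_of_lt hp.out.one_lt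
    rw [← mul_assoc] at h1
    exact Nat.eq_of_mul_eq_mul_right hp1 h1
  have hRdvd : p ^ s ∣ Nat.card (ZMod.unitsMap hdvd).ker := by
    rw [← hR]; exact Subgroup.card_dvd_of_le hle
  have h5 : p ^ s * p ^ (b - 1) ∣ p ^ (e - 1) := by
    rw [← hker]; exact Nat.mul_dvd_mul_right hRdvd _
  rw [← pow_add] at h5
  have h4 : s + (b - 1) ≤ e - 1 := (Nat.pow_dvd_pow_iff_le_right hp.out.one_lt).1 h5
  apply Nat.mul_le_mul_left
  omega

/-- The main inductive bound: for a faithful irreducible character `χ` of degree `f` of a group of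
order `p ^ b` killed by `p ^ e`, fixed by a subgroup of order `p ^ s` of the units of
`ZMod (p ^ e)`, one has `(p - 1) b ≤ (f - 1) + (p - 1) (e - s) f`. -/
theorem pgf_main (p : ℕ) [hp : Fact p.Prime] (e : ℕ) :
    ∀ (b : ℕ) (X : Type u) [Group X] [Fintype X], Nat.card X = p ^ b →
      (∀ x : X, x ^ (p ^ e) = 1) →
      ∀ (χ : X → ℂ), IsIrrCharacter X χ → (∀ x, χ x = χ 1 → x = 1) →
      ∀ f : ℕ, χ 1 = (f : ℂ) →
      ∀ (R : Subgroup (ZMod (p ^ e))ˣ) (s : ℕ), Nat.card R = p ^ s →
      (∀ u ∈ R, ∀ x, χ (x ^ ((u : (ZMod (p ^ e))ˣ) : ZMod (p ^ e)).val) = χ x) →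
      (p - 1) * b ≤ (f - 1) + (p - 1) * (e - s) * f := by
  intro b
  induction b using Nat.strong_induction_on with
  | _ b ih =>
  intro X _ _ hcard hX χ hχ hfaith f hf R s hR hfix
  classical
  haveI : NeZero p := ⟨hp.out.ne_zero⟩
  have hp2 : 2 ≤ p := hp.out.two_le
  have hXp : IsPGroup p X := IsPGroup.of_card hcard
  by_cases hf1 : f = 1
  · subst hf1
    have h := pgf_base p e b hcard hX (IsIrrCharacter.isCharacter hχ) (by simpa using hf)
      hfaith R s hR hfix
    simpa using h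
  have h1 : χ 1 ≠ 1 := by
    rw [hf]; intro h; apply hf1; exact_mod_cast h
  obtain ⟨M, hMn, hMi, θ, hθ, hχθ⟩ := exists_index_p_induced p hXp hχ h1
  haveI := hMn
  haveI : Fintype M := Fintype.ofFinite M
  have hb : 0 < b := by
    rcases Nat.eq_zero_or_pos b with hb | hb
    · exfalso
      rw [hb, pow_zero] at hcard
      have : M.index ∣ Nat.card X := Subgroup.index_dvd_card M
      rw [hMi, hcard] at this
      exact hp.out.one_lt.ne' (Nat.dvd_one.1 this)
    · exact hb
  have hMcard : Nat.card M = p ^ (b - 1) := by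
    have h := Subgroup.card_mul_index M
    rw [hMi, hcard] at h
    have h2 : p ^ b = p ^ (b - 1) * p := by
      rw [← pow_succ]; congr 1; omega
    rw [h2] at h
    exact Nat.eq_of_mul_eq_mul_right hp.out.pos h
  obtain ⟨g, hg0, hg⟩ := Cfsg.Agent.Lib.Helper25.irr_degree hθ
  have hfg : f = p * g := by
    have h := Cfsg.Agent.Lib.Helper75.indFun_apply_one M θ
    rw [← hχθ, hf, hg, hMi] at h
    exact_mod_cast h
  have hMX : ∀ m : M, m ^ (p ^ e) = 1 := by
    intro m
    apply Subtype.ext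
    rw [Subgroup.coe_pow, hX]; rfl
  have hχcl : IsClassFunction X χ := IsCharacter.isClassFunction (IsIrrCharacter.isCharacter hχ)
  have hθc : classInner (fun m : M => χ m) θ = 1 := by
    rw [← Cfsg.Agent.Lib.Helper25.frobenius_reciprocity' M θ χ hχcl, ← hχθ,
      classInner_irr hχ hχ, if_pos rfl]
  -- the orbit of `θ` under `R` consists of conjugates
  have horb : ∀ u ∈ R, ∃ y : X,
      (fun m : M => θ (m ^ ((u : (ZMod (p ^ e))ˣ) : ZMod (p ^ e)).val)) = conjFun M y θ := by
    intro u hu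
    set k := ((u : (ZMod (p ^ e))ˣ) : ZMod (p ^ e)).val with hk
    have hkc : Nat.Coprime k (Nat.card M) := coprime_unit_card hMX u
    have hθu : IsIrrCharacter M (fun m => θ (m ^ k)) := isIrrCharacter_pow hθ k hkc
    have h2 : classInner (fun m : M => χ m) (fun m => θ (m ^ k)) ≠ 0 := by
      have h3 := classInner_pow_pow k hkc (fun m : M => χ m) θ
      have h4 : (fun x : M => (fun m : M => χ m) (x ^ k)) = fun m : M => χ m := by
        funext m
        show χ ((m ^ k : M) : X) = χ m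
        rw [Subgroup.coe_pow]
        exact hfix u hu m
      rw [h4] at h3
      rw [h3, hθc]
      exact one_ne_zero
    exact clifford_conj M hχ hθ hθu (by rw [hθc]; exact one_ne_zero) h2
  -- an element on which all conjugates of `θ` are trivial is trivial
  have hL1 : ∀ m : M, (∀ y : X, conjFun M y θ m = θ 1) → m = 1 := by
    intro m hm
    have h2 : χ m = χ 1 := by
      have e1 := indFun_restrict_normal M θ m
      have e2 := indFun_restrict_normal M θ 1
      rw [← hχθ] at e1 e2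
      rw [show ((1 : M) : X) = 1 from rfl] at e2
      rw [e1, e2]
      congr 1
      apply Finset.sum_congr rfl
      intro x _
      rw [hm, conjFun_apply_one]
    exact Subtype.ext (hfaith _ h2)
  -- the conjugates of `θ`
  have hΘ : Set.ncard {ψ : M → ℂ | ∃ y : X, ψ = conjFun M y θ} ∣ p := by
    rw [ncard_conj_eq_index]
    have hle : M ≤ inertia M θ :=
      le_inertia M (IsCharacter.isClassFunction (IsIrrCharacter.isCharacter hθ))
    have := Subgroup.relIndex_mul_index hle
    rw [hMi] at this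
    exact Dvd.intro_left _ this
  have hΘfin : Set.Finite {ψ : M → ℂ | ∃ y : X, ψ = conjFun M y θ} := by
    apply Set.finite_of_ncard_ne_zero
    intro h0
    rw [h0] at hΘ
    exact hp.out.ne_zero (Nat.eq_zero_of_zero_dvd hΘ)
  -- the kernel of `θ`
  obtain ⟨K, hKn, hK, -⟩ := Cfsg.Agent.Lib.Helper80.irr_exists_ker (⟨θ, hθ⟩ : IrrCharacter M)
  replace hK : ∀ m : M, m ∈ K ↔ θ m = θ 1 := hK
  haveI := hKn
  -- orbit and stabilizer
  letI act : MulAction (ZMod (p ^ e))ˣ (M → ℂ) := twAction hMX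
  have hsub : MulAction.orbit R θ ⊆ {ψ : M → ℂ | ∃ y : X, ψ = conjFun M y θ} := by
    rintro _ ⟨r, rfl⟩
    obtain ⟨y, hy⟩ := horb r.1 r.2
    exact ⟨y, hy⟩
  have hidx := MulAction.index_stabilizer R θ
  have hcm := Subgroup.card_mul_index (MulAction.stabilizer R θ)
  rw [hR] at hcm
  have hle_p : (MulAction.orbit R θ).ncard ≤ p :=
    le_trans (Set.ncard_le_ncard hsub hΘfin) (Nat.le_of_dvd hp.out.pos hΘ)
  obtain ⟨j, hjs, hj⟩ := (Nat.dvd_prime_pow hp.out).1 (Dvd.intro_left _ hcm)
  have hj1 : j ≤ 1 := by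
    rw [hidx] at hj
    rw [hj] at hle_p
    have : p ^ j ≤ p ^ 1 := by rw [pow_one]; exact hle_p
    exact (Nat.pow_le_pow_iff_right hp.out.one_lt).1 this
  rcases Nat.le_one_iff_eq_zero_or_eq_one.1 hj1 with hj0 | hj0
  · -- the whole of `R` fixes `θ`
    rw [hj0, pow_zero] at hj
    have hstab : MulAction.stabilizer R θ = ⊤ := Subgroup.index_eq_one.1 hj
    have hfixθ : ∀ u ∈ R, ∀ m : M,
        θ (m ^ ((u : (ZMod (p ^ e))ˣ) : ZMod (p ^ e)).val) = θ m := by
      intro u hu m
      have h2 : (⟨u, hu⟩ : R) ∈ MulAction.stabilizer R θ := hstab ▸ Subgroup.mem_top _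
      exact congrFun (MulAction.mem_stabilizer_iff.1 h2) m
    obtain ⟨ψ, hψ, hψθ⟩ := isIrrCharacter_deflate hθ K (fun x hx => (hK x).1 hx)
    haveI : Fintype (M ⧸ K) := Fintype.ofFinite _
    obtain ⟨b', hb'le, hb'⟩ : ∃ b', b' ≤ b - 1 ∧ K.index = p ^ b' := by
      have : K.index ∣ p ^ (b - 1) := hMcard ▸ Subgroup.index_dvd_card K
      exact (Nat.dvd_prime_pow hp.out).1 this
    have hQcard : Nat.card (M ⧸ K) = p ^ b' := by
      rw [← Subgroup.index_eq_card, hb']
    have hQX : ∀ q : M ⧸ K, q ^ (p ^ e) = 1 := by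
      intro q
      induction q using QuotientGroup.induction_on with
      | H m => rw [← QuotientGroup.mk_pow, hMX]; rfl
    have hψ1 : ψ 1 = (g : ℂ) := by
      rw [← hg, ← hψθ 1]; rfl
    have hψfaith : ∀ q, ψ q = ψ 1 → q = 1 := by
      intro q
      induction q using QuotientGroup.induction_on with
      | H m =>
        intro h
        have h2 : θ m = θ 1 := by
          rw [← hψθ m, h, ← hψθ 1]; rfl
        exact (QuotientGroup.eq_one_iff m).2 ((hK m).2 h2)
    have hψfix : ∀ u ∈ R, ∀ q : M ⧸ K,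
        ψ (q ^ ((u : (ZMod (p ^ e))ˣ) : ZMod (p ^ e)).val) = ψ q := by
      intro u hu q
      induction q using QuotientGroup.induction_on with
      | H m =>
        rw [← QuotientGroup.mk_pow, hψθ, hψθ]
        exact hfixθ u hu m
    have hIH := ih b' (by omega) (M ⧸ K) hQcard hQX ψ hψ hψfaith g hψ1 R s hR hψfix
    have hbound : Nat.card M ≤ K.index ^ p := by
      let Kc : X ⧸ M → Subgroup M := fun c =>
        K.comap (MulAut.conjNormal (c.out) : M ≃* M).toMonoidHom
      have hKc : ∀ c, (Kc c).index = K.index := fun c =>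
        Subgroup.index_comap_of_surjective K (MulEquiv.surjective _)
      have hinf : (⨅ c, Kc c) = ⊥ := by
        rw [eq_bot_iff]
        intro m hm
        rw [Subgroup.mem_iInf] at hm
        rw [Subgroup.mem_bot]
        apply hL1
        intro y
        obtain ⟨n, hn⟩ := QuotientGroup.mk_out_eq_mul M y
        have h3 := hm (y : X ⧸ M)
        have h4 : θ (MulAut.conjNormal ((y : X ⧸ M).out) m) = θ 1 := (hK _).1 h3
        have h5 : conjFun M (y * n) θ = conjFun M y θ := by
          rw [← conjFun_conjFun]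
          exact conjFun_of_mem M n.2
            (IsCharacter.isClassFunction (IsIrrCharacter.isCharacter
              (conjFun_isIrrCharacter M y hθ)))
        rw [← h5, conjFun_eq_comp, ← hn]
        exact h4
      haveI : Fintype (X ⧸ M) := Fintype.ofFinite _
      have h6 := Subgroup.index_iInf_le Kc
      rw [hinf, Subgroup.index_bot] at h6
      simp only [hKc, Finset.prod_const, Finset.card_univ] at h6
      have h7 : Fintype.card (X ⧸ M) = p := by
        rw [← Nat.card_eq_fintype_card, ← Subgroup.index_eq_card, hMi]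
      rw [h7] at h6
      exact h6
    have hbb : b ≤ 1 + p * b' := by
      rw [hMcard, hb', ← pow_mul] at hbound
      have := (Nat.pow_le_pow_iff_right hp.out.one_lt).1 hbound
      rw [mul_comm] at this
      omega
    rw [hfg]
    exact pgf_arith1 p g b b' (e - s) hp2 hg0 hbb hIH
  · -- the stabilizer of `θ` has index `p` in `R`
    rw [hj0, pow_one] at hj
    rw [hj0] at hjs
    have horbeq : MulAction.orbit R θ = {ψ : M → ℂ | ∃ y : X, ψ = conjFun M y θ} := by
      apply Set.eq_of_subset_of_ncard_le hsub _ hΘfin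
      rw [← hidx, hj]
      exact Nat.le_of_dvd hp.out.pos hΘ
    have hconj : ∀ y : X, ∃ r : R, r • θ = conjFun M y θ := by
      intro y
      have : conjFun M y θ ∈ MulAction.orbit R θ := by
        rw [horbeq]; exact ⟨y, rfl⟩
      exact this
    have hθfaith : ∀ m : M, θ m = θ 1 → m = 1 := by
      intro m hm
      apply hL1
      intro y
      obtain ⟨r, hr⟩ := hconj y
      rw [← hr]
      show θ (m ^ (((r : (ZMod (p ^ e))ˣ) : ZMod (p ^ e))).val) = θ 1
      exact (hK _).1 (pow_mem ((hK m).2 hm) _)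
    have hR' : Nat.card ((MulAction.stabilizer R θ).map R.subtype) = p ^ (s - 1) := by
      rw [Subgroup.card_map_of_injective R.subtype_injective]
      rw [hj] at hcm
      have h2 : p ^ s = p ^ (s - 1) * p := by
        rw [← pow_succ]; congr 1; omega
      rw [h2] at hcm
      exact Nat.eq_of_mul_eq_mul_right hp.out.pos hcm
    have hfix' : ∀ u ∈ (MulAction.stabilizer R θ).map R.subtype, ∀ m : M,
        θ (m ^ ((u : (ZMod (p ^ e))ˣ) : ZMod (p ^ e)).val) = θ m := by
      rintro u ⟨r, hr, rfl⟩ m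
      exact congrFun (MulAction.mem_stabilizer_iff.1 hr) m
    have hIH := ih (b - 1) (by omega) M hMcard hMX θ hθ hθfaith g hg _ (s - 1) hR' hfix'
    have he0 : e ≠ 0 := by
      intro he0
      rw [he0, pow_zero] at hX
      have h2 : ∀ x : X, x = 1 := fun x => by simpa using hX x
      have h3 : Nat.card X = 1 := by
        rw [Nat.card_eq_one_iff_unique]
        exact ⟨⟨fun a b => by rw [h2 a, h2 b]⟩, ⟨1⟩⟩
      rw [hcard] at h3
      have := (Nat.pow_eq_one.1 h3).resolve_left hp.out.one_lt.ne'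
      omega
    have hse : s ≤ e - 1 := by
      have h2 : Nat.card R ∣ Nat.card (ZMod (p ^ e))ˣ := Subgroup.card_subgroup_dvd_card R
      rw [hR, Nat.card_eq_fintype_card, ZMod.card_units_eq_totient,
        Nat.totient_prime_pow hp.out (Nat.pos_of_ne_zero he0)] at h2
      have hcop : Nat.Coprime (p ^ s) (p - 1) := by
        apply Nat.Coprime.pow_left
        rw [Nat.Prime.coprime_iff_not_dvd hp.out]
        exact Nat.not_dvd_of_pos_of_lt (by omega) (by omega)
      have h3 : p ^ s ∣ p ^ (e - 1) := hcop.dvd_of_dvd_mul_right h2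
      exact (Nat.pow_dvd_pow_iff_le_right hp.out.one_lt).1 h3
    have hes : e - (s - 1) = (e - s) + 1 := by omega
    rw [hes] at hIH
    rw [hfg]
    exact pgf_arith2 p g b (e - s) hp2 hg0 (by omega) hb hIH

end PGFieldD

end Cfsg.Agent.Lib.Helper39
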