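import Mathlib

/-!
# Two by two complex matrices with distinct eigenvalues

`disc2 M = (tr M)² - 4 det M`.  If it is nonzero, the centralizer of `M` is spanned by `1` and `M`.
-/

set_option autoImplicit false

namespace Cfsg.Agent.Lib.Helper39.PrimTwo

/-- The discriminant of the characteristic polynomial of a two by two matrix. -/
def disc2 (M : Matrix (Fin 2) (Fin 2) ℂ) : ℂ := (M.trace) ^ 2 - 4 * M.det

theorem disc2_eq (M : Matrix (Fin 2) (Fin 2) ℂ) :
    disc2 M = (M 0 0 - M 1 1) ^ 2 + 4 * (M 0 1 * M 1 0) := by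
  unfold disc2
  rw [Matrix.trace_fin_two, Matrix.det_fin_two]
  ring

theorem smul_one_add_smul_apply (α β : ℂ) (M : Matrix (Fin 2) (Fin 2) ℂ) (i j : Fin 2) :
    (α • (1 : Matrix (Fin 2) (Fin 2) ℂ) + β • M) i j = (if i = j then α else 0) + β * M i j := by
  rw [Matrix.add_apply, Matrix.smul_apply, Matrix.smul_apply, Matrix.one_apply, smul_eq_mul,
    smul_eq_mul]
  split_ifs <;> ring

/-- A matrix commuting with a matrix of nonzero discriminant is a linear combination of `1` and
that matrix. -/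
theorem exists_eq_of_commute {M X : Matrix (Fin 2) (Fin 2) ℂ} (hM : disc2 M ≠ 0)
    (h : X * M = M * X) : ∃ α β : ℂ, X = α • (1 : Matrix (Fin 2) (Fin 2) ℂ) + β • M := by
  rw [disc2_eq] at hM
  have h00 := congrFun (congrFun h 0) 0
  have h01 := congrFun (congrFun h 0) 1
  have h10 := congrFun (congrFun h 1) 0
  have h11 := congrFun (congrFun h 1) 1
  simp only [Matrix.mul_apply, Fin.sum_univ_two] at h00 h01 h10 h11
  set D := (M 0 0 - M 1 1) ^ 2 + 4 * (M 0 1 * M 1 0) with hD
  set β := ((X 0 0 - X 1 1) * (M 0 0 - M 1 1) + 2 * (X 0 1 * M 1 0 + X 1 0 * M 0 1)) / D with hβ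
  have hβD : β * D = (X 0 0 - X 1 1) * (M 0 0 - M 1 1) + 2 * (X 0 1 * M 1 0 + X 1 0 * M 0 1) := by
    rw [hβ]; field_simp
  have e01 : X 0 1 = β * M 0 1 := by
    apply mul_right_cancel₀ hM
    rw [mul_right_comm, hβD, hD]
    linear_combination (-(M 0 0 - M 1 1)) * h01 + ((2 : ℂ) * M 0 1) * h00
  have e10 : X 1 0 = β * M 1 0 := by
    apply mul_right_cancel₀ hM
    rw [mul_right_comm, hβD, hD]
    linear_combination (M 0 0 - M 1 1) * h10 + (-(2 : ℂ) * M 1 0) * h00
  have ediff : X 0 0 - X 1 1 = β * (M 0 0 - M 1 1) := by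
    apply mul_right_cancel₀ hM
    rw [mul_right_comm, hβD, hD]
    linear_combination ((2 : ℂ) * M 1 0) * h01 + (-(2 : ℂ) * M 0 1) * h10
  refine ⟨(X 0 0 + X 1 1) / 2 - β * (M 0 0 + M 1 1) / 2, β, ?_⟩
  ext i j
  rw [smul_one_add_smul_apply]
  fin_cases i <;> fin_cases j
  · simp only [Fin.zero_eta, Fin.isValue, if_true]
    linear_combination (1 / 2 : ℂ) * ediff
  · simp only [Fin.zero_eta, Fin.isValue, Fin.mk_one, zero_ne_one, if_false, zero_add]
    exact e01
  · simp only [Fin.zero_eta, Fin.isValue, Fin.mk_one, one_ne_zero, if_false, zero_add]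
    exact e10
  · simp only [Fin.isValue, Fin.mk_one, if_true]
    linear_combination (-(1 / 2 : ℂ)) * ediff


/-- Two matrices commuting with a matrix of nonzero discriminant commute. -/
theorem commute_of_commute {M X Y : Matrix (Fin 2) (Fin 2) ℂ} (hM : disc2 M ≠ 0)
    (hX : X * M = M * X) (hY : Y * M = M * Y) : X * Y = Y * X := by
  obtain ⟨α, β, rfl⟩ := exists_eq_of_commute hM hX
  obtain ⟨α', β', rfl⟩ := exists_eq_of_commute hM hY
  simp only [add_mul, mul_add, Matrix.smul_mul, Matrix.mul_smul, Matrix.one_mul, Matrix.mul_one,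
    smul_smul]
  rw [mul_comm α α', mul_comm β β', mul_comm β α', mul_comm α β']
  abel

/-- A matrix commuting with `M` and with the same trace and determinant is `M` or
`tr M - M`. -/
theorem eq_or_eq_of_commute {M Y : Matrix (Fin 2) (Fin 2) ℂ} (hM : disc2 M ≠ 0)
    (hY : Y * M = M * Y) (htr : Y.trace = M.trace) (hdet : Y.det = M.det) :
    Y = M ∨ Y = M.trace • (1 : Matrix (Fin 2) (Fin 2) ℂ) - M := by
  obtain ⟨α, β, rfl⟩ := exists_eq_of_commute hM hY
  have hM' := hM
  unfold disc2 at hM'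
  simp only [Matrix.trace_fin_two, Matrix.det_fin_two] at hM' htr hdet
  rw [Matrix.trace_fin_two]
  simp only [smul_one_add_smul_apply, if_true, Fin.isValue, zero_ne_one, one_ne_zero, if_false,
    zero_add] at htr hdet
  have hα : 2 * α = (M 0 0 + M 1 1) * (1 - β) := by linear_combination htr
  have hβ : (1 - β) * (1 + β) = 0 := by
    have h1 : (1 - β) * (1 + β) * ((M 0 0 + M 1 1) ^ 2 - 4 * (M 0 0 * M 1 1 - M 0 1 * M 1 0)) = 0 := by
      linear_combination (4 : ℂ) * hdet - (2 * α + (M 0 0 + M 1 1) * (1 + β)) * hα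
    rcases mul_eq_zero.1 h1 with h2 | h2
    · exact h2
    · exact absurd h2 hM'
  rcases mul_eq_zero.1 hβ with h1 | h1
  · left
    have hβ1 : β = 1 := by linear_combination -h1
    have hα0 : α = 0 := by
      rw [hβ1] at hα
      have : 2 * α = 0 := by rw [hα]; ring
      simpa using this
    rw [hβ1, hα0]
    simp
  · right
    have hβ1 : β = -1 := by linear_combination h1
    have hα0 : α = M 0 0 + M 1 1 := by
      rw [hβ1] at hα
      linear_combination (1 / 2 : ℂ) * hα
    rw [hβ1, hα0]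
    simp [sub_eq_add_neg]

/-- Powers of `λ + N` with `N² = 0`. -/
theorem pow_succ_of_sq_zero (l : ℂ) (N : Matrix (Fin 2) (Fin 2) ℂ) (hN : N * N = 0) (k : ℕ) :
    (l • (1 : Matrix (Fin 2) (Fin 2) ℂ) + N) ^ (k + 1) =
      (l ^ (k + 1)) • (1 : Matrix (Fin 2) (Fin 2) ℂ) + (((k : ℂ) + 1) * l ^ k) • N := by
  induction k with
  | zero => simp
  | succ k ih =>
    rw [pow_succ, ih]
    simp only [add_mul, mul_add, Matrix.smul_mul, Matrix.mul_smul, Matrix.one_mul, Matrix.mul_one,
      smul_smul, hN, smul_zero, add_zero]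
    rw [add_assoc, ← add_smul]
    congr 1
    · congr 1
      ring
    · congr 1
      push_cast
      ring

/-- A non-scalar two by two matrix of finite order has nonzero discriminant. -/
theorem disc2_ne_zero_of_pow_eq_one {M : Matrix (Fin 2) (Fin 2) ℂ} {k : ℕ} (hk : 0 < k)
    (hpow : M ^ k = 1) (hns : ¬ ∃ c : ℂ, M = c • (1 : Matrix (Fin 2) (Fin 2) ℂ)) :
    disc2 M ≠ 0 := by
  intro h0
  rw [disc2_eq] at h0
  set l : ℂ := (M 0 0 + M 1 1) / 2 with hl
  set N : Matrix (Fin 2) (Fin 2) ℂ := M - l • (1 : Matrix (Fin 2) (Fin 2) ℂ) with hN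
  have hMN : M = l • (1 : Matrix (Fin 2) (Fin 2) ℂ) + N := by rw [hN]; abel
  have hN00 : N 0 0 = (M 0 0 - M 1 1) / 2 := by
    rw [hN, Matrix.sub_apply, Matrix.smul_apply, Matrix.one_apply_eq, hl]; simp; ring
  have hN11 : N 1 1 = -(M 0 0 - M 1 1) / 2 := by
    rw [hN, Matrix.sub_apply, Matrix.smul_apply, Matrix.one_apply_eq, hl]; simp; ring
  have hN01 : N 0 1 = M 0 1 := by
    rw [hN, Matrix.sub_apply, Matrix.smul_apply, Matrix.one_apply_ne (by decide)]; simp
  have hN10 : N 1 0 = M 1 0 := by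
    rw [hN, Matrix.sub_apply, Matrix.smul_apply, Matrix.one_apply_ne (by decide)]; simp
  have hNN : N * N = 0 := by
    ext i j
    fin_cases i <;> fin_cases j <;>
      simp only [Fin.zero_eta, Fin.mk_one, Fin.isValue, Matrix.mul_apply, Fin.sum_univ_two,
        Matrix.zero_apply, hN00, hN01, hN10, hN11]
    · linear_combination (1 / 4 : ℂ) * h0
    · ring
    · ring
    · linear_combination (1 / 4 : ℂ) * h0
  obtain ⟨j, rfl⟩ : ∃ j, k = j + 1 := ⟨k - 1, by omega⟩
  have hpow0 := hpow
  rw [hMN, pow_succ_of_sq_zero l N hNN j] at hpow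
  have e01 := congrFun (congrFun hpow 0) 1
  have e10 := congrFun (congrFun hpow 1) 0
  have e00 := congrFun (congrFun hpow 0) 0
  have e11 := congrFun (congrFun hpow 1) 1
  simp only [Fin.isValue, Matrix.add_apply, Matrix.smul_apply, ne_eq, zero_ne_one,
    not_false_eq_true, Matrix.one_apply_ne, smul_eq_mul, mul_zero, zero_add, one_ne_zero,
    Matrix.one_apply_eq, mul_one, hN00, hN01, hN10, hN11] at e01 e10 e00 e11
  have hj1 : ((j : ℂ) + 1) ≠ 0 := by exact_mod_cast Nat.succ_ne_zero j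
  by_cases hl0 : l = 0
  · -- `M = N` is nilpotent
    rcases Nat.eq_zero_or_pos j with hj | hj
    · subst hj
      apply hns
      refine ⟨1, ?_⟩
      rw [one_smul]
      simpa using hpow0
    · rw [hl0, zero_pow (by omega), zero_pow (by omega)] at e00
      simp at e00
  · have hc : ((j : ℂ) + 1) * l ^ j ≠ 0 := mul_ne_zero hj1 (pow_ne_zero _ hl0)
    have h01 : M 0 1 = 0 := by
      rcases mul_eq_zero.1 e01 with h | h
      · exact absurd h hc
      · exact h
    have h10 : M 1 0 = 0 := by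
      rcases mul_eq_zero.1 e10 with h | h
      · exact absurd h hc
      · exact h
    have hdiff : M 0 0 = M 1 1 := by
      have : ((j : ℂ) + 1) * l ^ j * (M 0 0 - M 1 1) = 0 := by
        linear_combination e00 - e11
      rcases mul_eq_zero.1 this with h | h
      · exact absurd h hc
      · linear_combination h
    apply hns
    refine ⟨M 0 0, ?_⟩
    ext a b
    fin_cases a <;> fin_cases b <;>
      simp [Matrix.smul_apply, h01, h10, hdiff]

end Cfsg.Agent.Lib.Helper39.PrimTwo
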