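import Mathlib

/-!
# Groups in which centralizers of non-central elements are abelian with small automizer

For such a group `G` the non-central elements are partitioned by the centralizers, and a double
count gives, for every non-central `g`, the number of non-central elements conjugate into the
centralizer of `g`.
-/

set_option autoImplicit false
set_option linter.style.haveILetI false

namespace Cfsg.Agent.Lib.Helper39.PrimTwo

open Finset

variable {G : Type*} [Group G]

/-- The centralizer of an element. -/
def cent (g : G) : Subgroup G := Subgroup.centralizer {g}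

theorem mem_cent {g x : G} : x ∈ cent g ↔ Commute x g := by
  unfold cent
  rw [Subgroup.mem_centralizer_iff]
  constructor
  · intro h
    exact (h g rfl).symm
  · intro h k hk
    rw [Set.mem_singleton_iff] at hk
    rw [hk]
    exact h.symm

/-- Centralizers of non-central elements are abelian, and an element normalizing such a centralizer
moves its generator to one of at most two places. -/
structure CAHyp (G : Type*) [Group G] : Prop where
  ca : ∀ g : G, g ∉ Subgroup.center G → ∀ x y : G, Commute x g → Commute y g → Commute x y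
  na : ∀ g : G, g ∉ Subgroup.center G → ∀ x y : G, Commute (x * g * x⁻¹) g →
    Commute (y * g * y⁻¹) g → ¬ Commute x g → ¬ Commute y g → x * g * x⁻¹ = y * g * y⁻¹

theorem conj_not_mem_center {g : G} (hg : g ∉ Subgroup.center G) (x : G) :
    x * g * x⁻¹ ∉ Subgroup.center G := by
  intro h
  apply hg
  have h2 := (inferInstance : (Subgroup.center G).Normal).conj_mem _ h x⁻¹
  simpa [mul_assoc] using h2

theorem center_le_cent (g : G) : Subgroup.center G ≤ cent g :=
  Subgroup.center_le_centralizer _

theorem cent_eq_of_commute (h : CAHyp G) {g k : G} (hg : g ∉ Subgroup.center G)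
    (hk : k ∉ Subgroup.center G) (hkg : Commute k g) : cent k = cent g := by
  ext x
  rw [mem_cent, mem_cent]
  constructor
  · intro hx
    exact h.ca k hk x g hx hkg.symm
  · intro hx
    exact h.ca g hg x k hx hkg

theorem commute_conj_iff (x a b : G) : Commute (x * a * x⁻¹) b ↔ Commute a (x⁻¹ * b * x) := by
  have := Commute.conj_iff (a := a) (b := x⁻¹ * b * x) x
  rw [← this]
  have e : x * (x⁻¹ * b * x) * x⁻¹ = b := by group
  rw [e]

theorem mem_normalizer_cent_iff (h : CAHyp G) {g : G} (hg : g ∉ Subgroup.center G) (x : G) :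
    x ∈ Subgroup.normalizer (cent g : Set G) ↔ Commute (x * g * x⁻¹) g := by
  constructor
  · intro hx
    have hgg : g ∈ cent g := mem_cent.2 (Commute.refl g)
    exact mem_cent.1 ((Subgroup.mem_normalizer_iff.1 hx g).1 hgg)
  · intro hx
    have hg' := conj_not_mem_center hg x
    have hc : cent (x * g * x⁻¹) = cent g := cent_eq_of_commute h hg hg' hx
    rw [Subgroup.mem_normalizer_iff]
    intro y
    constructor
    · intro hy
      rw [← hc, mem_cent, Commute.conj_iff]
      exact mem_cent.1 hy
    · intro hy
      rw [← hc, mem_cent, Commute.conj_iff] at hy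
      exact mem_cent.2 hy

theorem card_normalizer_cent (h : CAHyp G) [Finite G] {g : G} (hg : g ∉ Subgroup.center G) :
    Nat.card (Subgroup.normalizer (cent g : Set G)) = Nat.card (cent g) ∨
      Nat.card (Subgroup.normalizer (cent g : Set G)) = 2 * Nat.card (cent g) := by
  classical
  set A := cent g with hA
  set N := Subgroup.normalizer (A : Set G) with hN
  have hAN : A ≤ N := Subgroup.le_normalizer
  have hcardA : Nat.card (A.subgroupOf N) = Nat.card A :=
    Nat.card_congr (Subgroup.subgroupOfEquivOfLe hAN).toEquiv
  have hmul := Subgroup.card_mul_index (A.subgroupOf N)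
  by_cases hall : ∀ a ∈ N, a ∈ A
  · left
    have : N = A := le_antisymm hall hAN
    rw [this]
  · right
    push Not at hall
    obtain ⟨a, haN, haA⟩ := hall
    have hidx : (A.subgroupOf N).index = 2 := by
      rw [Subgroup.index_eq_two_iff]
      refine ⟨⟨a, haN⟩, ?_⟩
      intro b
      rw [Subgroup.mem_subgroupOf, Subgroup.mem_subgroupOf]
      by_cases hb : (b : G) ∈ A
      · right
        refine ⟨hb, ?_⟩
        intro hba
        apply haA
        have : (b : G)⁻¹ * ((b : G) * a) ∈ A := A.mul_mem (A.inv_mem hb) hba
        simpa using this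
      · left
        refine ⟨?_, hb⟩
        show (b : G) * a ∈ A
        have hbN : (b : G)⁻¹ ∈ N := N.inv_mem b.2
        have hbA : ¬ Commute (b : G)⁻¹ g := by
          intro hc
          apply hb
          have : (b : G)⁻¹ ∈ A := mem_cent.2 hc
          simpa using A.inv_mem this
        have haA' : ¬ Commute a g := fun hc => haA (mem_cent.2 hc)
        have e := h.na g hg a (b : G)⁻¹ ((mem_normalizer_cent_iff h hg a).1 haN)
          ((mem_normalizer_cent_iff h hg _).1 hbN) haA' hbA
        rw [inv_inv] at e
        rw [mem_cent]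
        have e2 : (b : G) * a * g = g * ((b : G) * a) := by
          have : (b : G) * (a * g * a⁻¹) * a = (b : G) * ((b : G)⁻¹ * g * b) * a := by rw [e]
          calc (b : G) * a * g = (b : G) * (a * g * a⁻¹) * a := by group
            _ = (b : G) * ((b : G)⁻¹ * g * b) * a := this
            _ = g * ((b : G) * a) := by group
        exact e2
    rw [hidx, hcardA] at hmul
    rw [← hmul, mul_comm]


section Count

variable [Fintype G]

open Classical in
/-- The non-central elements. -/
noncomputable def nonCentral (G : Type*) [Group G] [Fintype G] : Finset G :=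
  univ.filter (fun g => g ∉ Subgroup.center G)

open Classical in
/-- The non-central elements conjugate into the centralizer of `g`. -/
noncomputable def tset (g : G) : Finset G :=
  (nonCentral G).filter (fun h => ∃ x : G, Commute (x * h * x⁻¹) g)

theorem mem_nonCentral {g : G} : g ∈ nonCentral G ↔ g ∉ Subgroup.center G := by
  classical
  unfold nonCentral
  simp

theorem mem_tset {g h : G} :
    h ∈ tset g ↔ h ∉ Subgroup.center G ∧ ∃ x : G, Commute (x * h * x⁻¹) g := by
  classical
  unfold tset
  rw [Finset.mem_filter, mem_nonCentral]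

open Classical in
theorem card_filter_commute (g : G) :
    ((nonCentral G).filter (fun h => Commute h g)).card =
      Nat.card (cent g) - Nat.card (Subgroup.center G) := by
  have h1 : Nat.card (cent g) = (univ.filter (fun h : G => Commute h g)).card := by
    rw [Nat.card_eq_fintype_card]
    exact Fintype.card_of_subtype _ (fun x => by simp [mem_cent])
  have h2 : Nat.card (Subgroup.center G) =
      (univ.filter (fun h : G => h ∈ Subgroup.center G)).card := by
    rw [Nat.card_eq_fintype_card]
    exact Fintype.card_of_subtype _ (fun x => by simp)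
  have h3 : (univ.filter (fun h : G => Commute h g)).card =
      ((nonCentral G).filter (fun h => Commute h g)).card +
        (univ.filter (fun h : G => h ∈ Subgroup.center G)).card := by
    rw [← Finset.card_union_of_disjoint]
    · congr 1
      ext x
      simp only [Finset.mem_filter, Finset.mem_univ, true_and, Finset.mem_union, mem_nonCentral]
      constructor
      · intro hx
        by_cases hz : x ∈ Subgroup.center G
        · right; exact hz
        · left; exact ⟨hz, hx⟩
      · rintro (⟨_, hx⟩ | hz)
        · exact hx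
        · exact mem_cent.1 (center_le_cent g hz)
    · rw [Finset.disjoint_left]
      intro x hx hx'
      simp only [Finset.mem_filter, Finset.mem_univ, true_and, mem_nonCentral] at hx hx'
      exact hx.1 hx'
  rw [h1, h2, h3]
  omega

open Classical in
theorem card_filter_conj_commute (g x : G) :
    ((nonCentral G).filter (fun h => Commute (x * h * x⁻¹) g)).card =
      Nat.card (cent g) - Nat.card (Subgroup.center G) := by
  rw [← card_filter_commute g]
  apply Finset.card_nbij' (fun h => x * h * x⁻¹) (fun h => x⁻¹ * h * x)
  · intro h hh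
    simp only [Finset.coe_filter, Set.mem_ofPred_eq, mem_nonCentral] at hh ⊢
    exact ⟨conj_not_mem_center hh.1 x, hh.2⟩
  · intro h hh
    simp only [Finset.coe_filter, Set.mem_ofPred_eq, mem_nonCentral] at hh ⊢
    refine ⟨?_, ?_⟩
    · have := conj_not_mem_center hh.1 x⁻¹
      simpa using this
    · have e : x * (x⁻¹ * h * x) * x⁻¹ = h := by group
      rw [e]; exact hh.2
  · intro h _
    show x⁻¹ * (x * h * x⁻¹) * x = h
    group
  · intro h _
    show x * (x⁻¹ * h * x) * x⁻¹ = h
    group

open Classical in
theorem card_filter_normalizer (hyp : CAHyp G) {g h x₀ : G} (hg : g ∉ Subgroup.center G)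
    (hh : h ∉ Subgroup.center G) (hx₀ : Commute (x₀ * h * x₀⁻¹) g) :
    (univ.filter (fun x : G => Commute (x * h * x⁻¹) g)).card =
      Nat.card (Subgroup.normalizer (cent g : Set G)) := by
  have h1 : Nat.card (Subgroup.normalizer (cent g : Set G)) =
      (univ.filter (fun y : G => y ∈ Subgroup.normalizer (cent g : Set G))).card := by
    rw [Nat.card_eq_fintype_card]
    exact Fintype.card_of_subtype _ (fun x => by simp)
  rw [h1]
  set h₀ := x₀ * h * x₀⁻¹ with hh₀
  have hh₀Z : h₀ ∉ Subgroup.center G := conj_not_mem_center hh x₀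
  have hc : cent h₀ = cent g := cent_eq_of_commute hyp hg hh₀Z hx₀
  have key : ∀ y : G, y ∈ Subgroup.normalizer (cent g : Set G) ↔ Commute (y * h₀ * y⁻¹) g := by
    intro y
    rw [← hc, mem_normalizer_cent_iff hyp hh₀Z, ← mem_cent, ← mem_cent, hc]
  apply Finset.card_nbij' (fun x => x * x₀⁻¹) (fun y => y * x₀)
  · intro x hx
    simp only [Finset.coe_filter, Finset.mem_univ, true_and, Set.mem_ofPred_eq] at hx ⊢
    rw [key]
    have e : x * x₀⁻¹ * h₀ * (x * x₀⁻¹)⁻¹ = x * h * x⁻¹ := by rw [hh₀]; group
    rw [e]; exact hx
  · intro y hy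
    simp only [Finset.coe_filter, Finset.mem_univ, true_and, Set.mem_ofPred_eq] at hy ⊢
    rw [key] at hy
    have e : y * x₀ * h * (y * x₀)⁻¹ = y * h₀ * y⁻¹ := by rw [hh₀]; group
    rw [e]; exact hy
  · intro x _
    show x * x₀⁻¹ * x₀ = x
    group
  · intro y _
    show y * x₀ * x₀⁻¹ = y
    group

/-- The double count: `#T_g · #N(C(g)) = #G · (#C(g) - #Z)`. -/
theorem card_tset_mul (hyp : CAHyp G) {g : G} (hg : g ∉ Subgroup.center G) :
    (tset g).card * Nat.card (Subgroup.normalizer (cent g : Set G)) =
      Nat.card G * (Nat.card (cent g) - Nat.card (Subgroup.center G)) := by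
  classical
  have hdc := Finset.sum_card_bipartiteAbove_eq_sum_card_bipartiteBelow
    (fun (x h : G) => Commute (x * h * x⁻¹) g) (s := (univ : Finset G)) (t := nonCentral G)
  have hL : ∑ a ∈ (univ : Finset G),
      (Finset.bipartiteAbove (fun (x h : G) => Commute (x * h * x⁻¹) g) (nonCentral G) a).card =
      Nat.card G * (Nat.card (cent g) - Nat.card (Subgroup.center G)) := by
    have hc : ∀ x ∈ (univ : Finset G),
        (Finset.bipartiteAbove (fun (x h : G) => Commute (x * h * x⁻¹) g) (nonCentral G) x).card =
          Nat.card (cent g) - Nat.card (Subgroup.center G) :=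
      fun x _ => card_filter_conj_commute g x
    rw [Finset.sum_congr rfl hc, Finset.sum_const,
      Finset.card_univ, smul_eq_mul, ← Nat.card_eq_fintype_card (α := G)]
  have hR : ∑ b ∈ nonCentral G,
      (Finset.bipartiteBelow (fun (x h : G) => Commute (x * h * x⁻¹) g) univ b).card =
      (tset g).card * Nat.card (Subgroup.normalizer (cent g : Set G)) := by
    have : ∀ b ∈ nonCentral G,
        (Finset.bipartiteBelow (fun (x h : G) => Commute (x * h * x⁻¹) g) univ b).card =
        if (∃ x : G, Commute (x * b * x⁻¹) g) then
          Nat.card (Subgroup.normalizer (cent g : Set G)) else 0 := by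
      intro b hb
      rw [mem_nonCentral] at hb
      split_ifs with hex
      · obtain ⟨x₀, hx₀⟩ := hex
        exact card_filter_normalizer hyp hg hb hx₀
      · rw [Finset.card_eq_zero, Finset.eq_empty_iff_forall_notMem]
        intro x hx
        simp only [Finset.bipartiteBelow, Finset.mem_filter, Finset.mem_univ, true_and] at hx
        exact hex ⟨x, hx⟩
    rw [Finset.sum_congr rfl this, ← Finset.sum_filter, Finset.sum_const, smul_eq_mul]
    rfl
  rw [← hR, ← hdc, hL]


theorem self_mem_tset {g : G} (hg : g ∉ Subgroup.center G) : g ∈ tset g := by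
  rw [mem_tset]
  refine ⟨hg, 1, ?_⟩
  simp

theorem tset_eq_of_mem (hyp : CAHyp G) {g h : G} (hg : g ∉ Subgroup.center G)
    (hh : h ∈ tset g) : tset h = tset g := by
  rw [mem_tset] at hh
  obtain ⟨hhZ, x, hx⟩ := hh
  have hh'Z : x * h * x⁻¹ ∉ Subgroup.center G := conj_not_mem_center hhZ x
  ext k
  rw [mem_tset, mem_tset]
  constructor
  · rintro ⟨hk, y, hy⟩
    refine ⟨hk, x * y, ?_⟩
    have h1 : Commute (x * (y * k * y⁻¹) * x⁻¹) (x * h * x⁻¹) := (Commute.conj_iff x).2 hy
    have h2 := hyp.ca (x * h * x⁻¹) hh'Z _ _ h1 hx.symm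
    have e : x * y * k * (x * y)⁻¹ = x * (y * k * y⁻¹) * x⁻¹ := by group
    rw [e]
    exact h2
  · rintro ⟨hk, y, hy⟩
    refine ⟨hk, x⁻¹ * y, ?_⟩
    have h1 := hyp.ca g hg _ _ hy hx
    have h2 : Commute (x⁻¹ * (y * k * y⁻¹) * x⁻¹⁻¹) (x⁻¹ * (x * h * x⁻¹) * x⁻¹⁻¹) :=
      (Commute.conj_iff x⁻¹).2 h1
    have e1 : x⁻¹ * y * k * (x⁻¹ * y)⁻¹ = x⁻¹ * (y * k * y⁻¹) * x⁻¹⁻¹ := by group
    have e2 : x⁻¹ * (x * h * x⁻¹) * x⁻¹⁻¹ = h := by group
    rw [e1]
    rw [e2] at h2
    exact h2

theorem card_nonCentral : (nonCentral G).card = Nat.card G - Nat.card (Subgroup.center G) := by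
  classical
  have h2 : Nat.card (Subgroup.center G) =
      (univ.filter (fun h : G => h ∈ Subgroup.center G)).card := by
    rw [Nat.card_eq_fintype_card]
    exact Fintype.card_of_subtype _ (fun x => by simp)
  have h3 := Finset.card_filter_add_card_filter_not (s := (univ : Finset G))
    (fun h : G => h ∈ Subgroup.center G)
  rw [Finset.card_univ, ← Nat.card_eq_fintype_card (α := G)] at h3
  unfold nonCentral
  rw [h2]
  omega

/-- The non-central elements are partitioned by the sets `tset g`. -/
theorem exists_partition (hyp : CAHyp G) :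
    ∃ I : Finset (Finset G), (∀ T ∈ I, ∃ g : G, g ∉ Subgroup.center G ∧ T = tset g) ∧
      ∑ T ∈ I, T.card = Nat.card G - Nat.card (Subgroup.center G) := by
  classical
  refine ⟨(nonCentral G).image tset, ?_, ?_⟩
  · intro T hT
    rw [Finset.mem_image] at hT
    obtain ⟨g, hg, rfl⟩ := hT
    exact ⟨g, mem_nonCentral.1 hg, rfl⟩
  · rw [← card_nonCentral, Finset.card_eq_sum_card_image tset (nonCentral G)]
    apply Finset.sum_congr rfl
    intro T hT
    rw [Finset.mem_image] at hT
    obtain ⟨g, hg, rfl⟩ := hT
    rw [mem_nonCentral] at hg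
    have hfe : (nonCentral G).filter (fun a => tset a = tset g) = tset g := by
      ext a
      rw [Finset.mem_filter, mem_nonCentral]
      constructor
      · rintro ⟨ha, he⟩
        rw [← he]
        exact self_mem_tset ha
      · intro ha
        exact ⟨(mem_tset.1 ha).1, tset_eq_of_mem hyp hg ha⟩
    rw [hfe]

end Count

end Cfsg.Agent.Lib.Helper39.PrimTwo
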