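import Mathlib

/-!
# The Diophantine analysis for finite primitive linear groups of degree two
-/

set_option autoImplicit false

namespace Cfsg.Agent.Lib.Helper39.PrimTwo

/-- Facts about a single term. -/
theorem term_facts {n k a e : ℕ} (h1 : n = k * e * a) (he : e = 1 ∨ e = 2) (ha : 2 ≤ a)
    (hk : 3 ≤ k * e) :
    ∃ m, m = k * a ∧ k * (a - 1) = m - k ∧ 2 * k ≤ m ∧
      ((e = 1 ∧ n = m ∧ 3 ≤ k) ∨ (e = 2 ∧ n = 2 * m ∧ 2 ≤ k)) := by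
  refine ⟨k * a, rfl, ?_, ?_, ?_⟩
  · rw [Nat.mul_sub, mul_one]
  · nlinarith
  · rcases he with rfl | rfl
    · left
      refine ⟨rfl, ?_, ?_⟩
      · rw [h1]; ring
      · omega
    · right
      refine ⟨rfl, ?_, ?_⟩
      · rw [h1]; ring
      · omega

/-- One class with trivial automizer and one with automizer of order two. -/
theorem pair_core {m k₁ k₂ a₁ a₂ : ℕ} (h1 : k₁ * a₁ = 2 * m) (h2 : k₂ * a₂ = m)
    (ha₁ : 2 ≤ a₁) (ha₂ : 2 ≤ a₂) (hk₂ : 2 ≤ k₂) (hsum : k₁ + k₂ = m + 1) : m = 6 := by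
  have hb1 : a₁ ≤ 3 := by
    by_contra hcon
    have h4 : k₁ * 4 ≤ k₁ * a₁ := Nat.mul_le_mul_left k₁ (by omega)
    have h5 : k₂ * 2 ≤ k₂ * a₂ := Nat.mul_le_mul_left k₂ ha₂
    omega
  interval_cases a₁
  · omega
  · have hb2 : a₂ ≤ 2 := by
      by_contra hcon
      have h5 : k₂ * 3 ≤ k₂ * a₂ := Nat.mul_le_mul_left k₂ (by omega)
      omega
    interval_cases a₂
    omega

/-- Three classes with automizer of order two, the first two of small order. -/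
theorem triple_aux {m k₁ k₂ k₃ a₂ a₃ : ℕ} (h1 : k₁ * 2 = m) (h2 : k₂ * a₂ = m)
    (h3 : k₃ * a₃ = m) (ha₂ : 2 ≤ a₂) (ha₂' : a₂ ≤ 3) (ha₃ : 2 ≤ a₃)
    (hk₂ : 2 ≤ k₂) (hk₃ : 2 ≤ k₃) (hsum : k₁ + k₂ + k₃ = m + 1) :
    m = 6 ∨ m = 12 ∨ m = 30 := by
  interval_cases a₂
  · omega
  · have hb3 : a₃ ≤ 5 := by
      by_contra hcon
      have h5 : k₃ * 6 ≤ k₃ * a₃ := Nat.mul_le_mul_left k₃ (by omega)
      omega
    interval_cases a₃ <;> omega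

/-- Three classes with automizer of order two. -/
theorem triple_core {m k₁ k₂ k₃ a₁ a₂ a₃ : ℕ} (h1 : k₁ * a₁ = m) (h2 : k₂ * a₂ = m)
    (h3 : k₃ * a₃ = m) (ha₁ : 2 ≤ a₁) (ha₂ : 2 ≤ a₂) (ha₃ : 2 ≤ a₃)
    (hk₁ : 2 ≤ k₁) (hk₂ : 2 ≤ k₂) (hk₃ : 2 ≤ k₃) (hsum : k₁ + k₂ + k₃ = m + 1) :
    m = 6 ∨ m = 12 ∨ m = 30 := by
  -- two classes with at most three elements each, one of them with two
  have key : ∀ {k₁ k₂ k₃ a₁ a₂ a₃ : ℕ}, k₁ * a₁ = m → k₂ * a₂ = m → k₃ * a₃ = m →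
      2 ≤ a₁ → 2 ≤ a₂ → 2 ≤ a₃ → 2 ≤ k₁ → 2 ≤ k₂ → 2 ≤ k₃ → k₁ + k₂ + k₃ = m + 1 → a₁ = 2 →
      m = 6 ∨ m = 12 ∨ m = 30 := by
    intro k₁ k₂ k₃ a₁ a₂ a₃ h1 h2 h3 ha₁ ha₂ ha₃ hk₁ hk₂ hk₃ hsum ha
    subst ha
    by_cases hc : a₂ ≤ 3
    · exact triple_aux h1 h2 h3 ha₂ hc ha₃ hk₂ hk₃ hsum
    · by_cases hc' : a₃ ≤ 3
      · exact triple_aux h1 h3 h2 ha₃ hc' ha₂ hk₃ hk₂ (by omega)
      · exfalso
        have h5 : k₂ * 4 ≤ k₂ * a₂ := Nat.mul_le_mul_left k₂ (by omega)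
        have h6 : k₃ * 4 ≤ k₃ * a₃ := Nat.mul_le_mul_left k₃ (by omega)
        omega
  by_cases c1 : a₁ = 2
  · exact key h1 h2 h3 ha₁ ha₂ ha₃ hk₁ hk₂ hk₃ hsum c1
  · by_cases c2 : a₂ = 2
    · exact key h2 h1 h3 ha₂ ha₁ ha₃ hk₂ hk₁ hk₃ (by omega) c2
    · by_cases c3 : a₃ = 2
      · exact key h3 h1 h2 ha₃ ha₁ ha₂ hk₃ hk₁ hk₂ (by omega) c3
      · exfalso
        have h4 : k₁ * 3 ≤ k₁ * a₁ := Nat.mul_le_mul_left k₁ (by omega)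
        have h5 : k₂ * 3 ≤ k₂ * a₂ := Nat.mul_le_mul_left k₂ (by omega)
        have h6 : k₃ * 3 ≤ k₃ * a₃ := Nat.mul_le_mul_left k₃ (by omega)
        omega


/-- The Diophantine analysis. -/
theorem dioph {ι : Type*} (I : Finset ι) (k a e : ι → ℕ) (n : ℕ) (hn : 2 ≤ n)
    (h : ∀ i ∈ I, n = k i * e i * a i ∧ (e i = 1 ∨ e i = 2) ∧ 2 ≤ a i ∧ 3 ≤ k i * e i)
    (hsum : ∑ i ∈ I, k i * (a i - 1) = n - 1) : n = 12 ∨ n = 24 ∨ n = 60 := by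
  classical
  have hfacts : ∀ i ∈ I, ∃ m, m = k i * a i ∧ k i * (a i - 1) = m - k i ∧ 2 * k i ≤ m ∧
      ((e i = 1 ∧ n = m ∧ 3 ≤ k i) ∨ (e i = 2 ∧ n = 2 * m ∧ 2 ≤ k i)) := by
    intro i hi
    obtain ⟨h1, h2, h3, h4⟩ := h i hi
    exact term_facts h1 h2 h3 h4
  have hterm : ∀ i ∈ I, n ≤ 4 * (k i * (a i - 1)) := by
    intro i hi
    obtain ⟨m, -, h2, h3, h4⟩ := hfacts i hi
    rw [h2]
    omega
  have hcard : I.card ≤ 3 := by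
    by_contra hcon
    have h1 : I.card • n ≤ ∑ i ∈ I, 4 * (k i * (a i - 1)) :=
      Finset.card_nsmul_le_sum I _ n hterm
    rw [← Finset.mul_sum, hsum, smul_eq_mul] at h1
    have h2 : 4 * n ≤ I.card * n := Nat.mul_le_mul_right n (by omega)
    omega
  have hc : I.card = 0 ∨ I.card = 1 ∨ I.card = 2 ∨ I.card = 3 := by omega
  rcases hc with hc | hc | hc | hc
  · rw [Finset.card_eq_zero] at hc
    rw [hc, Finset.sum_empty] at hsum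
    omega
  · rw [Finset.card_eq_one] at hc
    obtain ⟨i, rfl⟩ := hc
    rw [Finset.sum_singleton] at hsum
    obtain ⟨m, -, h2, h3, h4⟩ := hfacts i (Finset.mem_singleton_self i)
    omega
  · rw [Finset.card_eq_two] at hc
    obtain ⟨i, j, hij, rfl⟩ := hc
    rw [Finset.sum_pair hij] at hsum
    obtain ⟨m, hm, h2, h3, h4⟩ := hfacts i (by simp)
    obtain ⟨m', hm', h2', h3', h4'⟩ := hfacts j (by simp)
    obtain ⟨-, -, hai, -⟩ := h i (by simp)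
    obtain ⟨-, -, haj, -⟩ := h j (by simp)
    rcases h4 with ⟨-, hn1, hk1⟩ | ⟨-, hn1, hk1⟩ <;> rcases h4' with ⟨-, hn2, hk2⟩ | ⟨-, hn2, hk2⟩
    · omega
    · -- `e i = 1`, `e j = 2`
      have : m' = 6 := pair_core (m := m') (k₁ := k i) (k₂ := k j) (a₁ := a i) (a₂ := a j)
        (by omega) hm'.symm hai haj hk2 (by omega)
      omega
    · have : m = 6 := pair_core (m := m) (k₁ := k j) (k₂ := k i) (a₁ := a j) (a₂ := a i)
        (by omega) hm.symm haj hai hk1 (by omega)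
      omega
    · omega
  · rw [Finset.card_eq_three] at hc
    obtain ⟨i, j, l, hij, hil, hjl, rfl⟩ := hc
    rw [Finset.sum_insert (by simp [hij, hil]), Finset.sum_pair hjl] at hsum
    obtain ⟨m, hm, h2, h3, h4⟩ := hfacts i (by simp)
    obtain ⟨m', hm', h2', h3', h4'⟩ := hfacts j (by simp)
    obtain ⟨m'', hm'', h2'', h3'', h4''⟩ := hfacts l (by simp)
    obtain ⟨-, -, hai, -⟩ := h i (by simp)
    obtain ⟨-, -, haj, -⟩ := h j (by simp)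
    obtain ⟨-, -, hal, -⟩ := h l (by simp)
    rcases h4 with ⟨-, hn1, hk1⟩ | ⟨-, hn1, hk1⟩ <;>
      rcases h4' with ⟨-, hn2, hk2⟩ | ⟨-, hn2, hk2⟩ <;>
      rcases h4'' with ⟨-, hn3, hk3⟩ | ⟨-, hn3, hk3⟩
    any_goals omega
    have hmm : m' = m := by omega
    have hmm' : m'' = m := by omega
    have := triple_core (m := m) (k₁ := k i) (k₂ := k j) (k₃ := k l) (a₁ := a i) (a₂ := a j)
      (a₃ := a l) hm.symm (by omega) (by omega) hai haj hal hk1 hk2 hk3 (by omega)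
    omega

end Cfsg.Agent.Lib.Helper39.PrimTwo
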