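import Mathlib
import Cfsg.Agent.Lib.Helper39.PrimTwoA
import Cfsg.Agent.Lib.Helper39.PrimTwoB

/-!
# Finite groups of two by two complex matrices satisfy `CAHyp`
-/

set_option autoImplicit false
set_option linter.style.haveILetI false

namespace Cfsg.Agent.Lib.Helper39.PrimTwo

/-- The matrix form of a representation on `Fin 2 → ℂ`. -/
noncomputable def matHom {G : Type*} [Group G] (ρ : Representation ℂ G (Fin 2 → ℂ)) :
    G →* Matrix (Fin 2) (Fin 2) ℂ where
  toFun g := LinearMap.toMatrix' (ρ g)
  map_one' := by rw [map_one]; exact LinearMap.toMatrix'_one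
  map_mul' g h := by rw [map_mul]; exact LinearMap.toMatrix'_mul _ _

theorem trace_matHom {G : Type*} [Group G] (ρ : Representation ℂ G (Fin 2 → ℂ)) (g : G) :
    (matHom ρ g).trace = ρ.character g := by
  unfold Representation.character
  rw [LinearMap.trace_eq_matrix_trace ℂ (Pi.basisFun ℂ (Fin 2)) (ρ g),
    LinearMap.toMatrix_eq_toMatrix']
  rfl

theorem trace_one_two : (1 : Matrix (Fin 2) (Fin 2) ℂ).trace = 2 := by
  rw [Matrix.trace_one]
  simp

variable {G : Type*} [Group G]

theorem det_conj_hom (μ : G →* Matrix (Fin 2) (Fin 2) ℂ) (x g : G) :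
    (μ (x * g * x⁻¹)).det = (μ g).det := by
  rw [map_mul, map_mul, Matrix.det_mul, Matrix.det_mul, mul_right_comm, ← Matrix.det_mul,
    ← map_mul, mul_inv_cancel, map_one, Matrix.det_one, one_mul]

theorem trace_conj_hom (μ : G →* Matrix (Fin 2) (Fin 2) ℂ) (x g : G) :
    (μ (x * g * x⁻¹)).trace = (μ g).trace := by
  rw [map_mul, Matrix.trace_mul_comm, ← map_mul, ← mul_assoc, inv_mul_cancel, one_mul]

theorem not_scalar_of_not_mem_center (μ : G →* Matrix (Fin 2) (Fin 2) ℂ)
    (hμ : Function.Injective μ) {g : G} (hg : g ∉ Subgroup.center G) :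
    ¬ ∃ c : ℂ, μ g = c • (1 : Matrix (Fin 2) (Fin 2) ℂ) := by
  rintro ⟨c, hc⟩
  apply hg
  rw [Subgroup.mem_center_iff]
  intro x
  apply hμ
  rw [map_mul, map_mul, hc, Matrix.mul_smul, Matrix.smul_mul, Matrix.mul_one, Matrix.one_mul]

theorem disc2_ne_zero_of_not_mem_center [Finite G] (μ : G →* Matrix (Fin 2) (Fin 2) ℂ)
    (hμ : Function.Injective μ) {g : G} (hg : g ∉ Subgroup.center G) : disc2 (μ g) ≠ 0 := by
  apply disc2_ne_zero_of_pow_eq_one (orderOf_pos g)
  · rw [← map_pow, pow_orderOf_eq_one, map_one]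
  · exact not_scalar_of_not_mem_center μ hμ hg

/-- A finite group of two by two complex matrices satisfies `CAHyp`. -/
theorem caHyp_of_injective [Finite G] (μ : G →* Matrix (Fin 2) (Fin 2) ℂ)
    (hμ : Function.Injective μ) : CAHyp G := by
  constructor
  · intro g hg x y hx hy
    have hd := disc2_ne_zero_of_not_mem_center μ hμ hg
    have h1 : μ x * μ g = μ g * μ x := by rw [← map_mul, ← map_mul, hx.eq]
    have h2 : μ y * μ g = μ g * μ y := by rw [← map_mul, ← map_mul, hy.eq]
    have h3 := commute_of_commute hd h1 h2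
    apply hμ
    rw [map_mul, map_mul, h3]
  · intro g hg x y hx hy hnx hny
    have hd := disc2_ne_zero_of_not_mem_center μ hμ hg
    have key : ∀ w : G, Commute (w * g * w⁻¹) g → ¬ Commute w g →
        μ (w * g * w⁻¹) = (μ g).trace • (1 : Matrix (Fin 2) (Fin 2) ℂ) - μ g := by
      intro w hw hnw
      have h1 : μ (w * g * w⁻¹) * μ g = μ g * μ (w * g * w⁻¹) := by
        rw [← map_mul, ← map_mul, hw.eq]
      rcases eq_or_eq_of_commute hd h1 (trace_conj_hom μ w g) (det_conj_hom μ w g) with h | h
      · exfalso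
        apply hnw
        have h2 : w * g * w⁻¹ = g := hμ h
        have h3 : w * g = g * w := by
          calc w * g = w * g * w⁻¹ * w := by group
            _ = g * w := by rw [h2]
        exact h3
      · exact h
    apply hμ
    rw [key x hx hnx, key y hy hny]

end Cfsg.Agent.Lib.Helper39.PrimTwo
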