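import Mathlib
import Cfsg.Agent.Lib.Helper39.PrimTwoB
import Cfsg.Agent.Lib.Helper39.PrimTwoC

/-!
# The index of the centre of a group satisfying `CAHyp`
-/

set_option autoImplicit false
set_option linter.style.haveILetI false

namespace Cfsg.Agent.Lib.Helper39.PrimTwo

open Finset

variable {G : Type*} [Group G] [Fintype G]

theorem per_class (hyp : CAHyp G)
    (h2 : ∀ g : G, g ∉ Subgroup.center G → (cent g).index ≠ 2) {g : G}
    (hg : g ∉ Subgroup.center G) :
    ∃ k a e : ℕ, (Subgroup.center G).index = k * e * a ∧ (e = 1 ∨ e = 2) ∧ 2 ≤ a ∧ 3 ≤ k * e ∧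
      (tset g).card = Nat.card (Subgroup.center G) * (k * (a - 1)) := by
  classical
  set z := Nat.card (Subgroup.center G) with hz
  set n := (Subgroup.center G).index with hn
  have hzpos : 0 < z := Nat.card_pos
  have hN : n * z = Nat.card G := Subgroup.index_mul_card _
  set A := cent g with hA
  set NA := Subgroup.normalizer (A : Set G) with hNA
  obtain ⟨a, ha⟩ : z ∣ Nat.card A := Subgroup.card_dvd_of_le (center_le_cent g)
  have hNAcard := card_normalizer_cent hyp hg
  have hk : NA.index * Nat.card NA = Nat.card G := Subgroup.index_mul_card _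
  have hAi : A.index * Nat.card A = Nat.card G := Subgroup.index_mul_card _
  have hT := card_tset_mul hyp hg
  rw [← hA, ← hNA, ← hz] at hT
  rw [← hA, ← hNA] at hNAcard
  have hNApos : 0 < Nat.card NA := Nat.card_pos
  have hApos : 0 < Nat.card A := Nat.card_pos
  have ha2 : 2 ≤ a := by
    rcases Nat.lt_or_ge a 2 with h | h
    · exfalso
      interval_cases a
      · rw [mul_zero] at ha
        omega
      · rw [mul_one] at ha
        have h3 : Subgroup.center G = A :=
          Subgroup.eq_of_le_of_card_ge (center_le_cent g) (le_of_eq ha)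
        apply hg
        rw [h3]
        exact mem_cent.2 (Commute.refl g)
    · exact h
  have hAi1 : A.index ≠ 1 := by
    intro h
    rw [Subgroup.index_eq_one] at h
    apply hg
    rw [Subgroup.mem_center_iff]
    intro x
    have h3 : x ∈ A := by rw [h]; trivial
    exact (mem_cent.1 h3).eq
  have hAi2 := h2 g hg
  rw [← hA] at hAi2
  have hAi0 : A.index ≠ 0 := Subgroup.index_ne_zero_of_finite
  have hsub : z * a - z = z * (a - 1) := by rw [Nat.mul_sub_one]
  obtain ⟨e, he, hcN⟩ : ∃ e : ℕ, (e = 1 ∨ e = 2) ∧ Nat.card NA = e * Nat.card A := by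
    rcases hNAcard with h | h
    · exact ⟨1, Or.inl rfl, by rw [h, one_mul]⟩
    · exact ⟨2, Or.inr rfl, h⟩
  refine ⟨NA.index, a, e, ?_, he, ha2, ?_, ?_⟩
  · apply Nat.eq_of_mul_eq_mul_right hzpos
    rw [hN, ← hk, hcN, ha]
    ring
  · have h3 : A.index = NA.index * e := by
      apply Nat.eq_of_mul_eq_mul_right hApos
      rw [hAi, ← hk, hcN]
      ring
    rw [← h3]
    omega
  · apply Nat.eq_of_mul_eq_mul_right hNApos
    rw [hT, ← hk, ha, hsub]
    ring

/-- A group satisfying `CAHyp`, not abelian, in which no centralizer of a non-central element has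
index two, has a centre of index `12`, `24` or `60`. -/
theorem index_center_of_caHyp (hyp : CAHyp G) (hnc : Subgroup.center G ≠ ⊤)
    (h2 : ∀ g : G, g ∉ Subgroup.center G → (cent g).index ≠ 2) :
    (Subgroup.center G).index = 12 ∨ (Subgroup.center G).index = 24 ∨
      (Subgroup.center G).index = 60 := by
  classical
  obtain ⟨I, hI, hsum⟩ := exists_partition hyp
  set z := Nat.card (Subgroup.center G) with hz
  set n := (Subgroup.center G).index with hn
  have hzpos : 0 < z := Nat.card_pos
  have hN : n * z = Nat.card G := Subgroup.index_mul_card _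
  have hper : ∀ T : Finset G, T ∈ I → ∃ k a e : ℕ, n = k * e * a ∧ (e = 1 ∨ e = 2) ∧ 2 ≤ a ∧
      3 ≤ k * e ∧ T.card = z * (k * (a - 1)) := by
    intro T hT
    obtain ⟨g, hg, rfl⟩ := hI T hT
    exact per_class hyp h2 hg
  choose! k a e hkae using hper
  have hn0 : n ≠ 0 := Subgroup.index_ne_zero_of_finite
  have hn1 : n ≠ 1 := by
    intro h
    rw [hn, Subgroup.index_eq_one] at h
    exact hnc h
  have hn2 : 2 ≤ n := by omega
  apply dioph I k a e n hn2
  · intro T hT
    obtain ⟨h1, h2', h3, h4, -⟩ := hkae T hT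
    exact ⟨h1, h2', h3, h4⟩
  · apply Nat.eq_of_mul_eq_mul_left hzpos
    rw [Finset.mul_sum, Nat.mul_sub_one, mul_comm z n, hN, ← hsum]
    apply Finset.sum_congr rfl
    intro T hT
    exact ((hkae T hT).2.2.2.2).symm

end Cfsg.Agent.Lib.Helper39.PrimTwo
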