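import Mathlib
import Cfsg.Prelude.Def_Characters
import Cfsg.Agent.Lib.Helper3.CharOps
import Cfsg.Agent.Lib.Helper3.Induced
import Cfsg.Agent.Lib.Helper25.Ind
import Cfsg.Agent.Lib.Helper75.Constituent
import Cfsg.Agent.Lib.Helper79.Abelian

/-!
# An irreducible character of degree two is induced from any abelian subgroup of index two
-/

set_option autoImplicit false
set_option linter.style.haveILetI false

open Cfsg

namespace Cfsg.Agent.Lib.Helper39.PrimTwo

open Cfsg.Agent.Lib.Helper3
open scoped ComplexConjugate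

/-- A character with nonzero degree has an irreducible constituent. -/
theorem exists_constituent_of_ne_zero {A : Type*} [Group A] [Fintype A] {ψ : A → ℂ}
    (hψ : IsCharacter A ψ) (h1 : ψ 1 ≠ 0) : ∃ θ : IrrCharacter A, classInner ψ (θ : A → ℂ) ≠ 0 := by
  classical
  haveI : Finite (IrrCharacter A) := irrCharacter_finite
  haveI := Fintype.ofFinite (IrrCharacter A)
  obtain ⟨m, hm, hdec⟩ := IsCharacter.exists_mult hψ
  by_contra hcon
  push Not at hcon
  apply h1
  have h0 : ∀ θ : IrrCharacter A, (m θ : ℂ) = 0 := fun θ => by rw [← hm θ]; exact hcon θ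
  rw [hdec]
  simp [h0]

theorem indFun_one_eq {G : Type*} [Group G] [Fintype G] (N : Subgroup G) (ϑ : N → ℂ) :
    indFun N ϑ 1 = (N.index : ℂ) * ϑ 1 := by
  rw [Cfsg.Agent.Lib.Helper25.indFun_apply]
  have h1 : ∀ x : G, extendByZero N ϑ (x⁻¹ * 1 * x) = ϑ 1 := by
    intro x
    have hmem : x⁻¹ * 1 * x ∈ N := by simp
    rw [Cfsg.Agent.Lib.Helper25.extendByZero_of_mem N ϑ hmem]
    congr 1
    apply Subtype.ext
    simp
  rw [Finset.sum_congr rfl (fun x _ => h1 x), Finset.sum_const, Finset.card_univ,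
    ← Nat.card_eq_fintype_card, nsmul_eq_mul, ← Subgroup.card_mul_index N]
  have hN : (Nat.card N : ℂ) ≠ 0 := by exact_mod_cast Nat.card_pos.ne'
  push_cast
  field_simp

/-- An irreducible character of degree two is induced from any abelian subgroup of index two. -/
theorem induced_of_abelian_index_two {G : Type*} [Group G] [Fintype G] {χ : G → ℂ}
    (hχ : IsIrrCharacter G χ) (h2 : χ 1 = 2) (A : Subgroup G) [IsMulCommutative A]
    (hA : A.index = 2) : ∃ θ : A → ℂ, IsCharacter A θ ∧ χ = indFun A θ := by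
  classical
  haveI : Fintype A := Fintype.ofFinite A
  have hres : IsCharacter A (fun a : A => χ a) :=
    IsCharacter.restrict (IsIrrCharacter.isCharacter hχ) A
  have hres1 : (fun a : A => χ a) 1 ≠ 0 := by
    show χ ((1 : A) : G) ≠ 0
    rw [Subgroup.coe_one, h2]
    norm_num
  obtain ⟨θ, hθ⟩ := exists_constituent_of_ne_zero hres hres1
  have hθ1 : (θ : A → ℂ) 1 = 1 := Cfsg.Agent.Lib.Helper79.irr_one_eq_one_of_comm θ
  have hθc : IsCharacter A (θ : A → ℂ) := IsIrrCharacter.isCharacter θ.2
  have hind : IsCharacter G (indFun A (θ : A → ℂ)) := isCharacter_indFun A hθc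
  have hfr := Cfsg.Agent.Lib.Helper25.frobenius_reciprocity A (θ : A → ℂ) χ
    (IsCharacter.isClassFunction (IsIrrCharacter.isCharacter hχ))
  have hne : classInner (indFun A (θ : A → ℂ)) χ ≠ 0 := by
    rw [hfr, classInner_conj_symm]
    intro h0
    apply hθ
    have := congrArg conj h0
    simpa using this
  have hdeg : indFun A (θ : A → ℂ) 1 = χ 1 := by
    rw [indFun_one_eq, hA, hθ1, h2]
    norm_num
  have heq := Cfsg.Agent.Lib.Helper75.eq_of_constituent_of_degree_le hind hχ hne (by rw [hdeg])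
  exact ⟨(θ : A → ℂ), hθc, heq.symm⟩

end Cfsg.Agent.Lib.Helper39.PrimTwo
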