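import Cfsg.Agent.Lib.Helper74.FS5
import Cfsg.Agent.Lib.Helper16.Schur

set_option autoImplicit false

/-! Frobenius–Schur: a character afforded by a real representation has indicator `1`. -/

namespace Cfsg.Agent.Lib.Helper39.RealRep

open Matrix Cfsg.Agent.Lib.Helper74
open scoped ComplexConjugate

section Gen
variable {G : Type*} [Group G] [Fintype G] {n : ℕ} (ρ : Representation ℂ G (Fin n → ℂ))

/-- version of `exists_form_of_real` only assuming the space of invariant forms is a line -/
theorem exists_form_of_finrank_one (hfr : Module.finrank ℂ (invForms ρ) = 1) :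
    ∃ M₀ : Matrix (Fin n) (Fin n) ℂ, M₀ ≠ 0 ∧ M₀ ∈ invForms ρ ∧
      (∀ M ∈ invForms ρ, ∃ a : ℂ, M = a • M₀) ∧ M₀ᵀ = fsInd ρ • M₀ := by
  obtain ⟨v, hv0, hv⟩ := finrank_eq_one_iff'.mp hfr
  set M₀ : Matrix (Fin n) (Fin n) ℂ := v.1 with hM₀
  have hM₀0 : M₀ ≠ 0 := by
    intro h
    apply hv0
    exact Subtype.ext h
  have hspan : ∀ M ∈ invForms ρ, ∃ a : ℂ, M = a • M₀ := by
    intro M hM
    obtain ⟨c, hc⟩ := hv ⟨M, hM⟩
    exact ⟨c, (congrArg Subtype.val hc).symm⟩
  obtain ⟨c, hc⟩ := hspan _ (transpose_mem_invForms ρ v.2)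
  have hTP : transposeLin ∘ₗ avgForm ρ = c • avgForm ρ := by
    apply LinearMap.ext
    intro M
    obtain ⟨a, ha⟩ := hspan _ (avgForm_mem ρ M)
    rw [LinearMap.comp_apply, transposeLin_apply, LinearMap.smul_apply, ha, Matrix.transpose_smul,
      hc, smul_comm]
  have htr : fsInd ρ = c := by
    unfold fsInd
    rw [← trace_transpose_avgForm, hTP, map_smul, (avgForm_isProj ρ).trace, hfr, Nat.cast_one,
      smul_eq_mul, mul_one]
  refine ⟨M₀, hM₀0, v.2, hspan, ?_⟩
  rw [htr]; exact hc

/-- the averaged standard form is symmetric -/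
theorem avgForm_one_transpose : (avgForm ρ 1)ᵀ = avgForm ρ 1 := by
  rw [avgForm_apply, Matrix.transpose_smul, Matrix.transpose_sum]
  congr 1
  apply Finset.sum_congr rfl
  intro g _
  rw [Matrix.mul_one, Matrix.transpose_mul, Matrix.transpose_transpose]

theorem fsInd_eq_one_of_avgForm_one_ne_zero (hfr : Module.finrank ℂ (invForms ρ) = 1)
    (hne : avgForm ρ 1 ≠ 0) : fsInd ρ = 1 := by
  obtain ⟨M₀, hM₀0, hM₀, hspan, hT⟩ := exists_form_of_finrank_one ρ hfr
  obtain ⟨a, ha⟩ := hspan _ (avgForm_mem ρ 1)
  have ha0 : a ≠ 0 := by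
    intro h
    apply hne
    rw [ha, h, zero_smul]
  have h1 := avgForm_one_transpose ρ
  rw [ha, Matrix.transpose_smul, hT, smul_comm] at h1
  have h2 : (fsInd ρ - 1) • (a • M₀) = 0 := by
    rw [sub_smul, one_smul, h1, sub_self]
  rcases smul_eq_zero.mp h2 with h | h
  · exact sub_eq_zero.mp h
  · rcases smul_eq_zero.mp h with h | h
    · exact absurd h ha0
    · exact absurd h hM₀0

end Gen

section Real
variable {G : Type*} [Group G] {n : ℕ} (ρR : Representation ℝ G (Fin n → ℝ))

/-- the real matrix of `ρR g` -/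
noncomputable def realMat (g : G) : Matrix (Fin n) (Fin n) ℝ := LinearMap.toMatrix' (ρR g)

theorem realMat_mul (g h : G) : realMat ρR (g * h) = realMat ρR g * realMat ρR h := by
  unfold realMat
  rw [map_mul, Module.End.mul_eq_comp, LinearMap.toMatrix'_comp]

theorem realMat_one : realMat ρR 1 = 1 := by
  unfold realMat
  rw [map_one, Module.End.one_eq_id, LinearMap.toMatrix'_id]

theorem trace_realMat (g : G) : (realMat ρR g).trace = LinearMap.trace ℝ (Fin n → ℝ) (ρR g) := by
  unfold realMat
  rw [LinearMap.trace_eq_matrix_trace ℝ (Pi.basisFun ℝ (Fin n)), LinearMap.toMatrix_eq_toMatrix']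

/-- complexification of a real matrix representation -/
noncomputable def complexify : Representation ℂ G (Fin n → ℂ) where
  toFun g := Matrix.toLin' ((realMat ρR g).map Complex.ofRealHom)
  map_one' := by
    rw [realMat_one, Matrix.map_one _ (map_zero _) (map_one _), Matrix.toLin'_one]
    rfl
  map_mul' g h := by
    rw [realMat_mul, Matrix.map_mul, Matrix.toLin'_mul]
    rfl

theorem repMat_complexify (g : G) :
    repMat (complexify ρR) g = (realMat ρR g).map Complex.ofRealHom := by
  unfold repMat complexify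
  exact LinearMap.toMatrix'_toLin' _

theorem complexify_character (g : G) :
    (complexify ρR).character g = ((LinearMap.trace ℝ (Fin n → ℝ) (ρR g) : ℝ) : ℂ) := by
  rw [← trace_repMat, repMat_complexify, ← trace_realMat]
  unfold Matrix.trace
  rw [Complex.ofReal_sum]
  rfl

variable [Fintype G]

theorem avgForm_complexify_diag (i : Fin n) :
    avgForm (complexify ρR) 1 i i =
      (((Nat.card G : ℝ)⁻¹ * ∑ g : G, ∑ k : Fin n, realMat ρR g k i * realMat ρR g k i : ℝ) : ℂ) := by
  rw [avgForm_apply, Matrix.smul_apply, Matrix.sum_apply, smul_eq_mul]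
  push_cast
  congr 1
  apply Finset.sum_congr rfl
  intro g _
  rw [Matrix.mul_one, Matrix.mul_apply]
  apply Finset.sum_congr rfl
  intro k _
  rw [Matrix.transpose_apply, repMat_complexify]
  rfl

theorem avgForm_complexify_ne_zero (hn : n ≠ 0) : avgForm (complexify ρR) 1 ≠ 0 := by
  intro h
  have i : Fin n := ⟨0, Nat.pos_of_ne_zero hn⟩
  have h1 := avgForm_complexify_diag ρR i
  rw [h, Matrix.zero_apply] at h1
  have h2 : (0 : ℝ) < (Nat.card G : ℝ)⁻¹ *
      ∑ g : G, ∑ k : Fin n, realMat ρR g k i * realMat ρR g k i := by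
    apply mul_pos
    · apply inv_pos.mpr
      exact_mod_cast Nat.card_pos
    · apply Finset.sum_pos'
      · intro g _
        apply Finset.sum_nonneg
        intro k _
        exact mul_self_nonneg _
      · refine ⟨1, Finset.mem_univ _, ?_⟩
        apply Finset.sum_pos'
        · intro k _
          exact mul_self_nonneg _
        · refine ⟨i, Finset.mem_univ _, ?_⟩
          rw [realMat_one, Matrix.one_apply_eq]
          norm_num
  have h3 := (Complex.ofReal_eq_zero.mp h1.symm)
  rw [h3] at h2
  exact lt_irrefl _ h2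

/-- main theorem of this file -/
theorem fs_eq_one_of_real_rep {χ : G → ℂ} (hχ : Cfsg.IsIrrCharacter G χ)
    (h : ∀ g : G, ((LinearMap.trace ℝ (Fin n → ℝ) (ρR g) : ℝ) : ℂ) = χ g) :
    (Nat.card G : ℂ)⁻¹ * ∑ s : G, χ (s * s) = 1 := by
  have hchar : (complexify ρR).character = χ := by
    funext g
    rw [complexify_character, h]
  have hreal : ∀ g : G, conj (χ g) = χ g := by
    intro g
    rw [← h g, Complex.conj_ofReal]
  have hfr : Module.finrank ℂ (invForms (complexify ρR)) = 1 := by
    have h1 := finrank_invForms (complexify ρR)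
    have h2 : Cfsg.classInner χ χ = 1 := by
      rw [Cfsg.Agent.Lib.Helper3.classInner_irr hχ hχ, if_pos rfl]
    unfold Cfsg.classInner at h2
    simp only [hreal] at h2
    rw [hchar, h2] at h1
    exact_mod_cast h1
  have hn : n ≠ 0 := by
    intro hn
    subst hn
    obtain ⟨m, ρ, hirr, hρ⟩ := hχ
    have hm := Cfsg.Agent.Lib.Helper16.dim_ne_zero ρ hirr
    have h1 : χ 1 = m := by
      rw [← hρ, Representation.char_one, Module.finrank_fin_fun]
    have h2 : χ 1 = 0 := by
      rw [← hchar, Representation.char_one, Module.finrank_fin_fun]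
      simp
    rw [h2] at h1
    exact hm (by exact_mod_cast h1.symm)
  have := fsInd_eq_one_of_avgForm_one_ne_zero (complexify ρR) hfr (avgForm_complexify_ne_zero ρR hn)
  unfold fsInd at this
  rw [hchar] at this
  exact this

end Real

end Cfsg.Agent.Lib.Helper39.RealRep
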