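import Cfsg.Agent.Lib.Helper39.RealRepA

set_option autoImplicit false
set_option linter.unusedSectionVars false

/-! Frobenius–Schur: matrix lemmas for the converse (indicator `1` ⇒ real representation). -/

namespace Cfsg.Agent.Lib.Helper39.RealRep

open Matrix
open scoped ComplexConjugate ComplexOrder

section Cj
variable {n : ℕ}

/-- entrywise complex conjugation -/
def cj (M : Matrix (Fin n) (Fin n) ℂ) : Matrix (Fin n) (Fin n) ℂ := M.map (starRingEnd ℂ)

theorem cj_apply (M : Matrix (Fin n) (Fin n) ℂ) (i j : Fin n) : cj M i j = conj (M i j) := rfl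

theorem cj_mul (M N : Matrix (Fin n) (Fin n) ℂ) : cj (M * N) = cj M * cj N := Matrix.map_mul

theorem cj_one : cj (1 : Matrix (Fin n) (Fin n) ℂ) = 1 :=
  Matrix.map_one _ (map_zero _) (map_one _)

theorem cj_cj (M : Matrix (Fin n) (Fin n) ℂ) : cj (cj M) = M := by
  ext i j
  simp [cj_apply]

theorem cj_add (M N : Matrix (Fin n) (Fin n) ℂ) : cj (M + N) = cj M + cj N := by
  ext i j
  simp [cj_apply]

theorem cj_sub (M N : Matrix (Fin n) (Fin n) ℂ) : cj (M - N) = cj M - cj N := by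
  ext i j
  simp [cj_apply]

theorem cj_smul (c : ℂ) (M : Matrix (Fin n) (Fin n) ℂ) : cj (c • M) = conj c • cj M := by
  ext i j
  simp [cj_apply]

theorem cj_transpose (M : Matrix (Fin n) (Fin n) ℂ) : cj Mᵀ = Mᴴ := by
  ext i j
  simp [cj_apply]

theorem cj_conjTranspose (M : Matrix (Fin n) (Fin n) ℂ) : cj Mᴴ = Mᵀ := by
  ext i j
  simp [cj_apply]

theorem cj_eq (M : Matrix (Fin n) (Fin n) ℂ) : cj M = Mᴴᵀ := by
  ext i j
  simp [cj_apply]

theorem cj_inv (M : Matrix (Fin n) (Fin n) ℂ) : cj M⁻¹ = (cj M)⁻¹ := by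
  rw [cj_eq, cj_eq, conjTranspose_nonsing_inv, transpose_nonsing_inv]

theorem cj_eq_self_iff (M : Matrix (Fin n) (Fin n) ℂ) :
    cj M = M ↔ (M.map Complex.re).map Complex.ofRealHom = M := by
  constructor
  · intro h
    ext i j
    have := congrFun (congrFun h i) j
    rw [cj_apply] at this
    simp only [Matrix.map_apply, Complex.ofRealHom_eq_coe]
    exact (Complex.conj_eq_iff_re.mp this)
  · intro h
    rw [← h]
    ext i j
    simp [cj_apply]

end Cj

section Mat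
variable {G : Type*} [Group G] [Fintype G] {n : ℕ} (A : G → Matrix (Fin n) (Fin n) ℂ)

/-- the averaged standard Hermitian form -/
def hermSum : Matrix (Fin n) (Fin n) ℂ := ∑ g : G, (A g)ᴴ * A g

theorem hermSum_posDef (hA1 : A 1 = 1) : (hermSum A).PosDef := by
  classical
  unfold hermSum
  rw [← Finset.add_sum_erase Finset.univ _ (Finset.mem_univ (1 : G))]
  apply Matrix.PosDef.add_posSemidef
  · rw [hA1, conjTranspose_one, Matrix.one_mul]
    exact Matrix.PosDef.one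
  · apply Matrix.posSemidef_sum
    intro g _
    exact Matrix.posSemidef_conjTranspose_mul_self _

theorem hermSum_inv (hAm : ∀ g h, A (g * h) = A g * A h) (g : G) :
    (A g)ᴴ * hermSum A * A g = hermSum A := by
  unfold hermSum
  rw [Matrix.mul_sum, Matrix.sum_mul]
  rw [← Fintype.sum_equiv (Equiv.mulRight g) (fun x => (A (x * g))ᴴ * A (x * g))
    (fun x => (A x)ᴴ * A x) (fun x => rfl)]
  apply Finset.sum_congr rfl
  intro x _
  rw [hAm, Matrix.conjTranspose_mul]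
  simp only [Matrix.mul_assoc]

variable (hA1 : A 1 = 1) (hAm : ∀ g h, A (g * h) = A g * A h)

include hA1 hAm in
theorem A_inv_mul (g : G) : A g⁻¹ * A g = 1 := by
  rw [← hAm, inv_mul_cancel, hA1]

include hA1 hAm in
theorem A_mul_inv (g : G) : A g * A g⁻¹ = 1 := by
  rw [← hAm, mul_inv_cancel, hA1]

include hA1 hAm in
theorem herm_comm {H : Matrix (Fin n) (Fin n) ℂ} (hH : ∀ g, (A g)ᴴ * H * A g = H) (g : G) :
    H * A g = (A g⁻¹)ᴴ * H := by
  calc H * A g = ((A g⁻¹)ᴴ * H * A g⁻¹) * A g := by rw [hH g⁻¹]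
    _ = (A g⁻¹)ᴴ * H * (A g⁻¹ * A g) := by simp only [Matrix.mul_assoc]
    _ = (A g⁻¹)ᴴ * H := by rw [A_inv_mul A hA1 hAm, Matrix.mul_one]

include hA1 hAm in
theorem sym_comm {S : Matrix (Fin n) (Fin n) ℂ} (hS : ∀ g, (A g)ᵀ * S * A g = S) (g : G) :
    S * A g = (A g⁻¹)ᵀ * S := by
  calc S * A g = ((A g⁻¹)ᵀ * S * A g⁻¹) * A g := by rw [hS g⁻¹]
    _ = (A g⁻¹)ᵀ * S * (A g⁻¹ * A g) := by simp only [Matrix.mul_assoc]
    _ = (A g⁻¹)ᵀ * S := by rw [A_inv_mul A hA1 hAm, Matrix.mul_one]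

include hA1 hAm in
theorem inv_herm_comm {H : Matrix (Fin n) (Fin n) ℂ} (hHu : IsUnit H.det)
    (hH : ∀ g, (A g)ᴴ * H * A g = H) (g : G) :
    A g * H⁻¹ = H⁻¹ * (A g⁻¹)ᴴ := by
  calc A g * H⁻¹ = H⁻¹ * (H * A g) * H⁻¹ := by
        rw [← Matrix.mul_assoc, Matrix.nonsing_inv_mul H hHu, Matrix.one_mul]
    _ = H⁻¹ * ((A g⁻¹)ᴴ * H) * H⁻¹ := by rw [herm_comm A hA1 hAm hH g]
    _ = H⁻¹ * (A g⁻¹)ᴴ * (H * H⁻¹) := by simp only [Matrix.mul_assoc]
    _ = H⁻¹ * (A g⁻¹)ᴴ := by rw [Matrix.mul_nonsing_inv H hHu, Matrix.mul_one]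

include hA1 hAm in
/-- the antilinear structure map `K = H⁻¹ * conj S` is equivariant -/
theorem K_equivariant {H S : Matrix (Fin n) (Fin n) ℂ} (hHu : IsUnit H.det)
    (hH : ∀ g, (A g)ᴴ * H * A g = H) (hS : ∀ g, (A g)ᵀ * S * A g = S) (g : G) :
    A g * (H⁻¹ * cj S) = (H⁻¹ * cj S) * cj (A g) := by
  have h1 : cj S * cj (A g) = (A g⁻¹)ᴴ * cj S := by
    rw [← cj_mul, sym_comm A hA1 hAm hS g, cj_mul, cj_transpose]
  calc A g * (H⁻¹ * cj S) = (A g * H⁻¹) * cj S := by rw [Matrix.mul_assoc]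
    _ = H⁻¹ * (A g⁻¹)ᴴ * cj S := by rw [inv_herm_comm A hA1 hAm hHu hH g]
    _ = H⁻¹ * ((A g⁻¹)ᴴ * cj S) := by rw [Matrix.mul_assoc]
    _ = H⁻¹ * (cj S * cj (A g)) := by rw [h1]
    _ = (H⁻¹ * cj S) * cj (A g) := by rw [Matrix.mul_assoc]

/-- `K * conj K` commutes with the representation -/
theorem KK_comm {K : Matrix (Fin n) (Fin n) ℂ} (hK : ∀ g, A g * K = K * cj (A g)) (g : G) :
    (K * cj K) * A g = A g * (K * cj K) := by
  have h2 : cj (A g) * cj K = cj K * A g := by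
    rw [← cj_mul, hK g, cj_mul, cj_cj]
  calc (K * cj K) * A g = K * (cj K * A g) := by rw [Matrix.mul_assoc]
    _ = K * (cj (A g) * cj K) := by rw [h2]
    _ = (K * cj (A g)) * cj K := by rw [Matrix.mul_assoc]
    _ = (A g * K) * cj K := by rw [hK g]
    _ = A g * (K * cj K) := by rw [Matrix.mul_assoc]

end Mat

end Cfsg.Agent.Lib.Helper39.RealRep
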