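import Cfsg.Agent.Lib.Helper39.RealRepB

set_option autoImplicit false
set_option linter.unusedSectionVars false

/-! Frobenius–Schur: positivity of the scalar `K * conj K`, and Hilbert 90 for matrices. -/

namespace Cfsg.Agent.Lib.Helper39.RealRep

open Matrix Polynomial
open scoped ComplexConjugate ComplexOrder

section Pos
variable {n : ℕ}

/-- if `K = H⁻¹ * conj S` with `H` positive definite and `S` symmetric invertible, and
`K * conj K` is a scalar, then that scalar is a positive real. -/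
theorem scalar_pos (hn : n ≠ 0) {H S : Matrix (Fin n) (Fin n) ℂ} (hH : H.PosDef) (hST : Sᵀ = S)
    (hSu : IsUnit S.det) {lam : ℂ} (hlam : (H⁻¹ * cj S) * cj (H⁻¹ * cj S) = lam • 1) :
    ∃ r : ℝ, 0 < r ∧ lam = (r : ℂ) := by
  have : Nonempty (Fin n) := ⟨⟨0, Nat.pos_of_ne_zero hn⟩⟩
  have hHu : IsUnit H.det := (Matrix.isUnit_iff_isUnit_det H).mp hH.isUnit
  have hcjS : cj S = Sᴴ := by
    rw [← cj_transpose, hST]
  have hcjH : cj H = Hᵀ := by
    rw [cj_eq, hH.isHermitian.eq]
  have hinj : Function.Injective S.mulVec := by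
    rw [Matrix.mulVec_injective_iff_isUnit]
    exact (Matrix.isUnit_iff_isUnit_det S).mpr hSu
  have hPD : (Sᴴ * (Hᵀ)⁻¹ * S).PosDef :=
    Matrix.PosDef.conjTranspose_mul_mul_same hH.transpose.inv hinj
  have h1 : lam • H = Sᴴ * (Hᵀ)⁻¹ * S := by
    calc lam • H = H * (lam • 1) := by rw [Matrix.mul_smul, Matrix.mul_one]
      _ = H * ((H⁻¹ * cj S) * cj (H⁻¹ * cj S)) := by rw [hlam]
      _ = (H * H⁻¹) * cj S * cj (H⁻¹ * cj S) := by simp only [Matrix.mul_assoc]
      _ = cj S * cj (H⁻¹ * cj S) := by rw [Matrix.mul_nonsing_inv H hHu, Matrix.one_mul]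
      _ = Sᴴ * (Hᵀ)⁻¹ * S := by
          rw [cj_mul, cj_cj, cj_inv, hcjH, hcjS, Matrix.mul_assoc]
  have h2 : lam * H.trace = (Sᴴ * (Hᵀ)⁻¹ * S).trace := by
    rw [← h1, Matrix.trace_smul, smul_eq_mul]
  have ha := hH.trace_pos
  have hb := hPD.trace_pos
  rw [← h2] at hb
  set a := H.trace with ha_def
  have ha' := Complex.pos_iff.mp ha
  have hb' := Complex.pos_iff.mp hb
  have haeq : a = (a.re : ℂ) := by
    apply Complex.ext
    · rw [Complex.ofReal_re]
    · rw [Complex.ofReal_im]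
      exact ha'.2.symm
  have hane : a ≠ 0 := ne_of_gt ha
  refine ⟨(lam * a).re / a.re, div_pos hb'.1 ha'.1, ?_⟩
  have hbeq : lam * a = ((lam * a).re : ℂ) := by
    apply Complex.ext
    · rw [Complex.ofReal_re]
    · rw [Complex.ofReal_im]
      exact hb'.2.symm
  rw [Complex.ofReal_div, ← haeq, ← hbeq]
  field_simp

end Pos

section H90
variable {n : ℕ}

/-- the polynomial matrix `(1 + K) + X • (I • (1 - K))` -/
noncomputable def polyMat (K : Matrix (Fin n) (Fin n) ℂ) : Matrix (Fin n) (Fin n) ℂ[X] :=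
  (1 + K).map C + (X : ℂ[X]) • (Complex.I • (1 - K)).map C

theorem polyMat_eval (K : Matrix (Fin n) (Fin n) ℂ) (z : ℂ) :
    (polyMat K).det.eval z = (1 + K + (z * Complex.I) • (1 - K)).det := by
  have h := RingHom.map_det (Polynomial.evalRingHom z) (polyMat K)
  rw [Polynomial.coe_evalRingHom] at h
  rw [h]
  congr 1
  ext i j
  simp [polyMat, mul_assoc]

theorem polyMat_det_ne_zero (K : Matrix (Fin n) (Fin n) ℂ) : (polyMat K).det ≠ 0 := by
  intro h
  have h1 := polyMat_eval K (-Complex.I)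
  rw [h, Polynomial.eval_zero] at h1
  have h2 : (1 + K + (-Complex.I * Complex.I) • (1 - K)) = (2 : ℂ) • (1 : Matrix (Fin n) (Fin n) ℂ) := by
    rw [neg_mul, Complex.I_mul_I, neg_neg, one_smul, two_smul]
    abel
  rw [h2, Matrix.det_smul, Matrix.det_one, mul_one] at h1
  exact (pow_ne_zero _ (two_ne_zero)) h1.symm

/-- Hilbert 90 for a matrix with `K * conj K = 1` -/
theorem hilbert90 {K : Matrix (Fin n) (Fin n) ℂ} (hK : K * cj K = 1) :
    ∃ P : Matrix (Fin n) (Fin n) ℂ, IsUnit P.det ∧ K * cj P = P := by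
  obtain ⟨t, ht⟩ : ∃ t : ℕ, (polyMat K).det.eval (t : ℂ) ≠ 0 := by
    by_contra hcon
    push Not at hcon
    apply polyMat_det_ne_zero K
    apply Polynomial.eq_zero_of_infinite_isRoot
    apply Set.Infinite.mono (s := Set.range (Nat.cast : ℕ → ℂ))
    · rintro _ ⟨t, rfl⟩
      exact hcon t
    · exact Set.infinite_range_of_injective Nat.cast_injective
  rw [polyMat_eval] at ht
  refine ⟨1 + K + ((t : ℂ) * Complex.I) • (1 - K), isUnit_iff_ne_zero.mpr ht, ?_⟩
  have hc : conj ((t : ℂ) * Complex.I) = -((t : ℂ) * Complex.I) := by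
    simp
  rw [cj_add, cj_add, cj_smul, cj_sub, cj_one, hc]
  rw [Matrix.mul_add, Matrix.mul_add, Matrix.mul_smul, Matrix.mul_sub, Matrix.mul_one, hK]
  rw [neg_smul, smul_sub, smul_sub]
  abel

end H90

section Final
variable {G : Type*} {n : ℕ} (A : G → Matrix (Fin n) (Fin n) ℂ)

/-- conjugating by the Hilbert 90 matrix makes the representation real -/
theorem real_of_hilbert90 {K P : Matrix (Fin n) (Fin n) ℂ} (hK : ∀ g, A g * K = K * cj (A g))
    (hPu : IsUnit P.det) (hP : K * cj P = P) (g : G) :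
    cj (P⁻¹ * A g * P) = P⁻¹ * A g * P := by
  have h1 : P * (P⁻¹ * A g * P) = A g * P := by
    rw [← Matrix.mul_assoc, ← Matrix.mul_assoc, Matrix.mul_nonsing_inv P hPu, Matrix.one_mul]
  have h2 : P * cj (P⁻¹ * A g * P) = P * (P⁻¹ * A g * P) := by
    calc P * cj (P⁻¹ * A g * P) = K * cj P * cj (P⁻¹ * A g * P) := by rw [hP]
      _ = K * cj (P * (P⁻¹ * A g * P)) := by rw [cj_mul P, Matrix.mul_assoc]
      _ = K * cj (A g * P) := by rw [h1]
      _ = (K * cj (A g)) * cj P := by rw [cj_mul, Matrix.mul_assoc]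
      _ = (A g * K) * cj P := by rw [hK g]
      _ = A g * (K * cj P) := by rw [Matrix.mul_assoc]
      _ = A g * P := by rw [hP]
      _ = P * (P⁻¹ * A g * P) := by rw [h1]
  have h3 := congrArg (fun M => P⁻¹ * M) h2
  simp only [← Matrix.mul_assoc] at h3
  rw [Matrix.nonsing_inv_mul P hPu] at h3
  simp only [Matrix.one_mul, Matrix.mul_assoc] at h3
  rw [Matrix.mul_assoc]
  exact h3

end Final

end Cfsg.Agent.Lib.Helper39.RealRep
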