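import Cfsg.Agent.Lib.Helper75.GaloisCyc
import Cfsg.Agent.Lib.Helper75.GaloisNorm
import Cfsg.Agent.Lib.Helper75.GaloisTwist
import Cfsg.Agent.Lib.Helper3.CharOps
import Cfsg.Agent.Lib.Helper3.Degree

/-!
# Schur's bound, part A: Galois invariance of `p`-rational characters on `p`-elements
-/

set_option autoImplicit false

namespace Cfsg.Agent.Lib.Helper39

open Cfsg

section SchurBoundA

/-- A ring automorphism of `ℂ` fixing `ζ` fixes `ℚ(ζ)` pointwise. -/
theorem ringEquiv_fix_adjoin (σ : ℂ ≃+* ℂ) (ζ : ℂ) (hζ : σ ζ = ζ) {z : ℂ}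
    (hz : z ∈ IntermediateField.adjoin ℚ ({ζ} : Set ℂ)) : σ z = z := by
  induction hz using IntermediateField.adjoin_induction with
  | mem x hx => rw [Set.mem_singleton_iff.mp hx]; exact hζ
  | algebraMap q => simp
  | add x y _ _ hx hy => rw [map_add, hx, hy]
  | inv x _ hx => rw [map_inv₀, hx]
  | mul x y _ _ hx hy => rw [map_mul, hx, hy]

theorem exp_two_pi_div_pow (r : ℕ) (hr : 0 < r) :
    Complex.exp (2 * Real.pi * Complex.I / r) ^ r = 1 := by
  rw [← Complex.exp_nat_mul]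
  have hr' : (r : ℂ) ≠ 0 := by exact_mod_cast hr.ne'
  have : (r : ℂ) * (2 * Real.pi * Complex.I / r) = 2 * Real.pi * Complex.I := by
    field_simp
  rw [this, Complex.exp_two_pi_mul_I]

variable {G : Type*} [Group G] [Finite G]

/-- A `p`-rational character takes the same value at `x` and `x ^ j` for a `p`-element `x` and
`j` prime to `p`. -/
theorem char_pow_eq_of_prat {p : ℕ} (hp : p.Prime) {χ : G → ℂ} (hχ : IsCharacter G χ)
    {r : ℕ} (hr : 0 < r) (hpr : ¬ p ∣ r)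
    (hrat : ∀ g : G, χ g ∈ IntermediateField.adjoin ℚ
      ({Complex.exp (2 * Real.pi * Complex.I / r)} : Set ℂ))
    {x : G} {a : ℕ} (hx : x ^ p ^ a = 1) {j : ℕ} (hj : Nat.Coprime j p) :
    χ (x ^ j) = χ x := by
  have hcop : Nat.Coprime (p ^ (a + 1)) r :=
    Nat.Coprime.pow_left _ ((Nat.Prime.coprime_iff_not_dvd hp).mpr hpr)
  obtain ⟨k, hk1, hk2⟩ := Nat.chineseRemainder hcop j 1
  have hx' : x ^ p ^ (a + 1) = 1 := by rw [pow_succ, pow_mul, hx, one_pow]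
  set N := p ^ (a + 1) * r with hN
  have hNpos : 0 < N := Nat.mul_pos (pow_pos hp.pos _) hr
  have hkN : Nat.Coprime k N := by
    apply Nat.Coprime.mul_right
    · have h1 : Nat.gcd k (p ^ (a + 1)) = Nat.gcd j (p ^ (a + 1)) := hk1.gcd_eq
      have h2 : Nat.Coprime j (p ^ (a + 1)) := Nat.Coprime.pow_right _ hj
      unfold Nat.Coprime
      rw [h1]; exact h2
    · have h1 : Nat.gcd k r = Nat.gcd 1 r := hk2.gcd_eq
      unfold Nat.Coprime
      rw [h1]; simp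
  obtain ⟨σ, hσ⟩ := Cfsg.Agent.Lib.Helper75.exists_ringEquiv_pow_rootsOfUnity N k hNpos hkN
  set ζ := Complex.exp (2 * Real.pi * Complex.I / r) with hζdef
  have hζr : ζ ^ r = 1 := exp_two_pi_div_pow r hr
  have hζN : ζ ^ N = 1 := by rw [hN, mul_comm, pow_mul, hζr, one_pow]
  have hσζ : σ ζ = ζ := by
    rw [hσ ζ hζN, pow_eq_pow_mod k hζr]
    have : k % r = 1 % r := hk2
    rw [this, ← pow_eq_pow_mod 1 hζr, pow_one]
  have hxk : x ^ k = x ^ j := by
    rw [pow_eq_pow_mod k hx', pow_eq_pow_mod j hx']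
    have : k % p ^ (a + 1) = j % p ^ (a + 1) := hk1
    rw [this]
  have hxN : x ^ N = 1 := by rw [hN, pow_mul, hx', one_pow]
  have hfix : σ (χ x) = χ x := ringEquiv_fix_adjoin σ ζ hσζ (hrat x)
  obtain ⟨n, ρ, rfl⟩ := hχ
  have := Cfsg.Agent.Lib.Helper75.ringEquiv_character_eq_pow ρ σ N k hσ x hxN
  rw [← hxk, ← this, hfix]

/-- A `p`-rational character takes rational integer values at `p`-elements. -/
theorem char_int_of_prat {p : ℕ} (hp : p.Prime) {χ : G → ℂ} (hχ : IsCharacter G χ)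
    {r : ℕ} (hr : 0 < r) (hpr : ¬ p ∣ r)
    (hrat : ∀ g : G, χ g ∈ IntermediateField.adjoin ℚ
      ({Complex.exp (2 * Real.pi * Complex.I / r)} : Set ℂ))
    {x : G} {a : ℕ} (hx : x ^ p ^ a = 1) : ∃ z : ℤ, (z : ℂ) = χ x := by
  apply Cfsg.Agent.Lib.Helper75.exists_int_eq_of_forall_ringEquiv_eq (χ x)
    (Cfsg.Agent.Lib.Helper3.IsCharacter.isIntegral hχ x)
  intro τ
  have hx' : x ^ p ^ (a + 1) = 1 := by rw [pow_succ, pow_mul, hx, one_pow]
  obtain ⟨j, hjN, hτ⟩ := Cfsg.Agent.Lib.Helper75.exists_pow_of_ringEquiv τ (p ^ (a + 1))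
    (pow_pos hp.pos _)
  have hjp : Nat.Coprime j p := (Nat.coprime_pow_right_iff (Nat.succ_pos a) j p).mp hjN
  have h1 := char_pow_eq_of_prat hp hχ hr hpr hrat hx hjp
  obtain ⟨n, ρ, rfl⟩ := hχ
  rw [Cfsg.Agent.Lib.Helper75.ringEquiv_character_eq_pow ρ τ (p ^ (a + 1)) j hτ x hx', h1]

end SchurBoundA

end Cfsg.Agent.Lib.Helper39
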