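import Cfsg.Agent.Lib.Helper39.SchurBoundB

/-!
# Schur's bound, part C: values of a `p`-rational character at `p`-elements
-/

set_option autoImplicit false

namespace Cfsg.Agent.Lib.Helper39

open Cfsg

section SchurBoundC

variable {G : Type*} [Group G] [Finite G]

/-- The value of a `p`-rational character at a `p`-element is congruent to the degree modulo
`p`. -/
theorem int_dvd_char_sub_degree {p : ℕ} (hp : p.Prime) {χ : G → ℂ} (hχ : IsCharacter G χ)
    {r : ℕ} (hr : 0 < r) (hpr : ¬ p ∣ r)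
    (hrat : ∀ g : G, χ g ∈ IntermediateField.adjoin ℚ
      ({Complex.exp (2 * Real.pi * Complex.I / r)} : Set ℂ)) :
    ∀ (a : ℕ) (x : G), x ^ p ^ a = 1 → ∀ z d : ℤ, (z : ℂ) = χ x → (d : ℂ) = χ 1 →
      (p : ℤ) ∣ z - d := by
  intro a
  induction a with
  | zero =>
    intro x hx z d hz hd
    rw [pow_zero, pow_one] at hx
    subst hx
    have : z = d := by
      have : (z : ℂ) = (d : ℂ) := by rw [hz, hd]
      exact_mod_cast this
    rw [this, sub_self]; exact dvd_zero _
  | succ a ih =>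
    intro x hx z d hz hd
    have hx' : (x ^ p) ^ p ^ a = 1 := by rw [← pow_mul, ← pow_succ']; exact hx
    obtain ⟨z₂, hz₂⟩ := char_int_of_prat hp hχ hr hpr hrat hx'
    have h1 := ih (x ^ p) hx' z₂ d hz₂ hd
    have h2 := int_dvd_sub_of_char hp hχ x z z₂ hz hz₂
    have : z - d = (z - z₂) + (z₂ - d) := by ring
    rw [this]; exact dvd_add h2 h1

/-- Upper bound. -/
theorem char_int_le_degree {χ : G → ℂ} (hχ : IsCharacter G χ) (x : G) (z d : ℤ)
    (hz : (z : ℂ) = χ x) (hd : (d : ℂ) = χ 1) : z ≤ d ∧ (z = d → χ x = χ 1) := by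
  obtain ⟨h1, h2⟩ := Cfsg.Agent.Lib.Helper25.char_re_le hχ x
  rw [← hz, ← hd] at h1 h2
  simp only [Complex.intCast_re] at h1 h2
  refine ⟨by exact_mod_cast h1, fun h => ?_⟩
  rw [← hz, ← hd, h]

/-- Lower bound: `(p - 1) χ(x) + χ(1) ≥ 0` for a `p`-element `x`. -/
theorem char_lower_bound {p : ℕ} (hp : p.Prime) {χ : G → ℂ} (hχ : IsCharacter G χ)
    {r : ℕ} (hr : 0 < r) (hpr : ¬ p ∣ r)
    (hrat : ∀ g : G, χ g ∈ IntermediateField.adjoin ℚ
      ({Complex.exp (2 * Real.pi * Complex.I / r)} : Set ℂ))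
    {x : G} {a : ℕ} (hx : x ^ p ^ a = 1) (z d : ℤ) (hz : (z : ℂ) = χ x) (hd : (d : ℂ) = χ 1) :
    0 ≤ ((p : ℤ) - 1) * z + d := by
  classical
  have hp1 : (1 : ℤ) ≤ p := by exact_mod_cast hp.one_lt.le
  have hd0 : 0 ≤ d := by
    obtain ⟨m, ρ, rfl⟩ := hχ
    have h1 : ρ.character 1 = (m : ℂ) := by
      rw [Representation.char_one]; simp
    rw [h1] at hd
    have : d = (m : ℤ) := by exact_mod_cast hd
    rw [this]; positivity
  by_cases hx1 : x = 1
  · subst hx1
    have : z = d := by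
      have : (z : ℂ) = (d : ℂ) := by rw [hz, hd]
      exact_mod_cast this
    rw [this]
    nlinarith
  -- order of x
  obtain ⟨k, hka, hk⟩ := (Nat.dvd_prime_pow hp).mp (orderOf_dvd_of_pow_eq_one hx)
  have hk0 : k ≠ 0 := by
    rintro rfl
    rw [pow_zero, orderOf_eq_one_iff] at hk
    exact hx1 hk
  obtain ⟨k', rfl⟩ := Nat.exists_eq_succ_of_ne_zero hk0
  set M := p ^ k' with hM
  have hN : orderOf x = p * M := by rw [hk, pow_succ']
  have hMpos : 0 < M := pow_pos hp.pos _
  -- integer values on powers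
  have hex : ∀ j : ℕ, ∃ w : ℤ, (w : ℂ) = χ (x ^ j) := fun j =>
    char_int_of_prat hp hχ hr hpr hrat
      (show (x ^ j) ^ p ^ a = 1 by rw [← pow_mul, mul_comm, pow_mul, hx, one_pow])
  choose w hw using hex
  have hwle : ∀ j, w j ≤ d := fun j => (char_int_le_degree hχ (x ^ j) (w j) d (hw j) hd).1
  have hwcop : ∀ j, ¬ p ∣ j → w j = z := by
    intro j hj
    have hjp : Nat.Coprime j p :=
      Nat.Coprime.symm ((Nat.Prime.coprime_iff_not_dvd hp).mpr hj)
    have := char_pow_eq_of_prat hp hχ hr hpr hrat hx hjp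
    have h2 : (w j : ℂ) = (z : ℂ) := by rw [hw j, this, hz]
    exact_mod_cast h2
  -- the sum over the cyclic group is non-negative
  obtain ⟨n, α, hα, hval⟩ := exists_eigenvalues hχ x
  have hsum : ∃ c : ℕ, ∑ j ∈ Finset.range (p * M), w j = (c : ℤ) := by
    refine ⟨(Finset.univ.filter (fun i => α i = 1)).card * (p * M), ?_⟩
    have : ((∑ j ∈ Finset.range (p * M), w j : ℤ) : ℂ) =
        (((Finset.univ.filter (fun i => α i = 1)).card * (p * M) : ℕ) : ℂ) := by
      push_cast
      have h1 : ∀ j ∈ Finset.range (p * M), (w j : ℂ) = ∑ i, α i ^ j := fun j _ => by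
        rw [hw j, hval j]
      rw [Finset.sum_congr rfl h1, Finset.sum_comm]
      have h2 : ∀ i ∈ (Finset.univ : Finset (Fin n)), ∑ j ∈ Finset.range (p * M), α i ^ j =
          if α i = 1 then ((p * M : ℕ) : ℂ) else 0 := fun i _ => by
        apply sum_range_pow_of_pow_eq_one
        rw [← hN]; exact hα i
      rw [Finset.sum_congr rfl h2, Finset.sum_ite, Finset.sum_const, Finset.sum_const_zero,
        add_zero, nsmul_eq_mul]
      push_cast; ring
    exact_mod_cast this
  obtain ⟨c, hc⟩ := hsum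
  rw [sum_range_mul_split p M hp.pos w] at hc
  have h1 : ∑ q ∈ Finset.range M, w (p * q) ≤ M * d := by
    have := Finset.sum_le_card_nsmul (Finset.range M) (fun q => w (p * q)) d
      (fun q _ => hwle _)
    rw [Finset.card_range, nsmul_eq_mul] at this
    exact this
  have h2 : ∑ j ∈ (Finset.range (p * M)).filter (fun j => ¬ p ∣ j), w j =
      ((p : ℤ) * M - M) * z := by
    rw [Finset.sum_congr rfl (fun j hj => hwcop j (Finset.mem_filter.mp hj).2),
      Finset.sum_const, nsmul_eq_mul, card_filter_not_dvd p M hp.pos]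
  rw [h2] at hc
  have h3 : 0 ≤ (M : ℤ) * (((p : ℤ) - 1) * z + d) := by
    have : (0 : ℤ) ≤ c := by positivity
    nlinarith
  have hMpos' : (0 : ℤ) < M := by exact_mod_cast hMpos
  exact nonneg_of_mul_nonneg_right h3 hMpos'

end SchurBoundC

end Cfsg.Agent.Lib.Helper39
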