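import Cfsg.Agent.Lib.Helper39.TwoTransChar
import Mathlib.GroupTheory.Sylow

/-!
# Groups of order 60: the action on the Sylow 5-subgroups
-/

set_option autoImplicit false

namespace Cfsg.Agent.Lib.Helper39

open Cfsg MulAction

section Sixty

variable {S : Type*} [Group S] [Finite S]

/-- A Sylow 5-subgroup of a group of order 60 has order 5. -/
theorem card_sylow_five_of_sixty (h : Nat.card S = 60) [Fact (Nat.Prime 5)] (P : Sylow 5 S) :
    Nat.card P = 5 := by
  have h1 := P.card_eq_multiplicity
  rw [h] at h1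
  have h2 : (60 : ℕ).factorization 5 = 1 := by
    have : (60 : ℕ) = 5 ^ 1 * 12 := by norm_num
    rw [this, Nat.factorization_mul (by norm_num) (by norm_num),
      Nat.Prime.factorization_pow (by norm_num)]
    simp
    rw [Nat.factorization_eq_zero_of_not_dvd (by norm_num)]
  rw [h1, h2, pow_one]

/-- The number of Sylow 5-subgroups of a group of order 60 is 1 or 6. -/
theorem card_sylow_five_eq (h : Nat.card S = 60) [Fact (Nat.Prime 5)] :
    Nat.card (Sylow 5 S) = 1 ∨ Nat.card (Sylow 5 S) = 6 := by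
  obtain ⟨P⟩ : Nonempty (Sylow 5 S) := Sylow.nonempty
  have h1 : Nat.card (Sylow 5 S) ≡ 1 [MOD 5] := card_sylow_modEq_one 5 S
  have h2 : Nat.card (Sylow 5 S) ∣ (P : Subgroup S).index := P.card_dvd_index
  have h3 : (P : Subgroup S).index = 12 := by
    have := (P : Subgroup S).card_mul_index
    rw [card_sylow_five_of_sixty h P, h] at this
    omega
  rw [h3] at h2
  have h4 : Nat.card (Sylow 5 S) ≤ 12 := Nat.le_of_dvd (by norm_num) h2
  unfold Nat.ModEq at h1
  interval_cases (Nat.card (Sylow 5 S)) <;> simp_all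

/-- In a group of order 60 with six Sylow 5-subgroups the action on them is doubly transitive. -/
theorem sylow_five_two_transitive (h : Nat.card S = 60) [Fact (Nat.Prime 5)]
    (h6 : Nat.card (Sylow 5 S) = 6) (P Q P' Q' : Sylow 5 S) (hPQ : P ≠ Q) (hPQ' : P' ≠ Q') :
    ∃ g : S, g • P = P' ∧ g • Q = Q' := by
  classical
  obtain ⟨g₁, hg₁⟩ := MulAction.exists_smul_eq S P P'
  set Q₁ := g₁ • Q with hQ₁
  have hQ₁P' : Q₁ ≠ P' := by
    intro hcon
    rw [hQ₁, ← hg₁] at hcon
    exact hPQ (MulAction.injective g₁ hcon).symm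
  -- orbits of `P'` on the other Sylow subgroups
  have key : ∀ R : Sylow 5 S, R ≠ P' →
      MulAction.orbit (P' : Subgroup S) R = {R' : Sylow 5 S | R' ≠ P'} := by
    intro R hR
    have hsub : MulAction.orbit (P' : Subgroup S) R ⊆ {R' : Sylow 5 S | R' ≠ P'} := by
      rintro R' ⟨x, rfl⟩ hcon
      apply hR
      have hx : (x : S) • P' = P' := Sylow.smul_eq_iff_mem_normalizer.mpr
        (Subgroup.le_normalizer x.2)
      have : (x : S) • R = (x : S) • P' := by rw [hx]; exact hcon
      exact MulAction.injective (x : S) this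
    have hfin : ({R' : Sylow 5 S | R' ≠ P'} : Set (Sylow 5 S)).Finite := Set.toFinite _
    apply Set.eq_of_subset_of_ncard_le hsub _ hfin
    have hcompl : ({R' : Sylow 5 S | R' ≠ P'} : Set (Sylow 5 S)).ncard = 5 := by
      have : ({R' : Sylow 5 S | R' ≠ P'} : Set (Sylow 5 S)) = ({P'} : Set (Sylow 5 S))ᶜ := by
        ext; simp
      rw [this, Set.ncard_compl, Set.ncard_singleton, h6]
    rw [hcompl]
    have hdvd : (MulAction.orbit (P' : Subgroup S) R).ncard ∣ 5 := by
      have hd := Subgroup.index_dvd_card (MulAction.stabilizer (P' : Subgroup S) R)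
      rw [card_sylow_five_of_sixty h P', MulAction.index_stabilizer] at hd
      exact hd
    have hne1 : (MulAction.orbit (P' : Subgroup S) R).ncard ≠ 1 := by
      intro h1
      apply hR
      have hfix : R ∈ MulAction.fixedPoints (P' : Subgroup S) (Sylow 5 S) := by
        rw [MulAction.mem_fixedPoints]
        intro x
        obtain ⟨a, ha⟩ := Set.ncard_eq_one.mp h1
        have hx : x • R ∈ MulAction.orbit (P' : Subgroup S) R := ⟨x, rfl⟩
        have hR' : R ∈ MulAction.orbit (P' : Subgroup S) R := MulAction.mem_orbit_self R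
        rw [ha, Set.mem_singleton_iff] at hx hR'
        rw [hx, hR']
      have hle : (P' : Subgroup S) ≤ R := (P'.2.sylow_mem_fixedPoints_iff).mp hfix
      exact (Sylow.ext (P'.3 R.2 hle)).symm ▸ rfl
    have : (MulAction.orbit (P' : Subgroup S) R).ncard = 1 ∨
        (MulAction.orbit (P' : Subgroup S) R).ncard = 5 :=
      (Nat.dvd_prime (by norm_num)).mp hdvd
    rcases this with h1 | h5
    · exact absurd h1 hne1
    · exact h5.ge
  have hQ' : Q' ∈ MulAction.orbit (P' : Subgroup S) Q₁ := by
    rw [key Q₁ hQ₁P']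
    exact hPQ'.symm
  obtain ⟨x, hx⟩ := hQ'
  refine ⟨(x : S) * g₁, ?_, ?_⟩
  · rw [mul_smul, hg₁]
    exact Sylow.smul_eq_iff_mem_normalizer.mpr (Subgroup.le_normalizer x.2)
  · rw [mul_smul]
    exact hx

/-- A simple group of order 60 has an irreducible character of degree 5. -/
theorem exists_irr_degree_five_of_simple [IsSimpleGroup S] (h : Nat.card S = 60) :
    ∃ χ : S → ℂ, IsIrrCharacter S χ ∧ χ 1 = 5 := by
  classical
  have : Fact (Nat.Prime 5) := ⟨by norm_num⟩
  have : Fintype S := Fintype.ofFinite S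
  have : Fintype (Sylow 5 S) := Fintype.ofFinite _
  have h6 : Nat.card (Sylow 5 S) = 6 := by
    rcases card_sylow_five_eq h with h1 | h6
    · exfalso
      obtain ⟨P⟩ : Nonempty (Sylow 5 S) := Sylow.nonempty
      have hss : Subsingleton (Sylow 5 S) := (Nat.card_eq_one_iff_unique.mp h1).1
      have hn : (P : Subgroup S).Normal := Sylow.normal_of_subsingleton P
      have hc := card_sylow_five_of_sixty h P
      rcases hn.eq_bot_or_eq_top with hb | ht
      · rw [hb] at hc; simp at hc
      · rw [ht, Subgroup.card_top, h] at hc; omega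
    · exact h6
  obtain ⟨χ, hχ, hχ1⟩ := exists_irr_of_two_transitive (G := S) (Ω := Sylow 5 S)
    (fun P Q P' Q' hPQ hPQ' => sylow_five_two_transitive h h6 P Q P' Q' hPQ hPQ')
    (by rw [← Nat.card_eq_fintype_card, h6]; norm_num)
  refine ⟨χ, hχ, ?_⟩
  rw [hχ1, ← Nat.card_eq_fintype_card, h6]; norm_num

end Sixty

end Cfsg.Agent.Lib.Helper39
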