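import Cfsg.Agent.Lib.Helper41.StnDefs

/-! # Sm hive (S2086, Schur multiplier of `PSL_n(q)`), owner helper39: shared definitions.

`St_n(K)` (helper41's `St K n`) is centrally closed: every central extension `φ : Y → St_n(K)` splits.
Here: chosen lifts, commutators of lifts, Milnor's elements `s_ij(t)`. -/

set_option autoImplicit false

namespace Cfsg.Agent.Lib.Helper39.Sm

open Cfsg.Agent.Lib.Helper41.Stn
open scoped commutatorElement

section grp
variable {Y S : Type*} [Group Y] [Group S]

/-- a chosen lift of `x` along the surjection `φ` -/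
noncomputable def lft (φ : Y →* S) (hφ : Function.Surjective φ) (x : S) : Y := Function.surjInv hφ x

theorem map_lft (φ : Y →* S) (hφ : Function.Surjective φ) (x : S) : φ (lft φ hφ x) = x :=
  Function.surjInv_eq hφ x

/-- the commutator of (chosen) lifts of `x` and `y`; for a central extension it does not depend on
the lifts (`cm_eq`) -/
noncomputable def cm (φ : Y →* S) (hφ : Function.Surjective φ) (x y : S) : Y :=
  ⁅lft φ hφ x, lft φ hφ y⁆

end grp

section st
variable {K : Type*} [Field K] {n : ℕ} {Y : Type*} [Group Y]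

/-- an index different from `i` and `j` (exists as soon as `3 ≤ n`, see `third_ne`) -/
noncomputable def third (i j : Fin n) : Fin n :=
  if h : ∃ k : Fin n, k ≠ i ∧ k ≠ j then Classical.choose h else i

theorem third_ne (hn : 3 ≤ n) (i j : Fin n) : third i j ≠ i ∧ third i j ≠ j := by
  have hex : ∃ k : Fin n, k ≠ i ∧ k ≠ j := by
    by_cases h0 : (i : ℕ) ≠ 0 ∧ (j : ℕ) ≠ 0
    · exact ⟨⟨0, by omega⟩, fun h => h0.1 (by rw [← h]), fun h => h0.2 (by rw [← h])⟩
    · by_cases h1 : (i : ℕ) ≠ 1 ∧ (j : ℕ) ≠ 1
      · exact ⟨⟨1, by omega⟩, fun h => h1.1 (by rw [← h]), fun h => h1.2 (by rw [← h])⟩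
      · refine ⟨⟨2, by omega⟩, fun h => ?_, fun h => ?_⟩
        · have : (i : ℕ) = 2 := by rw [← h]
          omega
        · have : (j : ℕ) = 2 := by rw [← h]
          omega
  unfold third
  rw [dif_pos hex]
  exact Classical.choose_spec hex

/-- the "key lemma" property: lifts of commuting root elements commute -/
def LA (φ : Y →* St K n) : Prop :=
  ∀ {i j k l : Fin n}, i ≠ j → k ≠ l → i ≠ l → j ≠ k → ∀ (t u : K) {a b : Y},
    φ a = xx i j t → φ b = xx k l u → Commute a b

/-- Milnor's lift of `x_ij(t)` through the auxiliary index `h`: `[lift x_ih(1), lift x_hj(t)]` -/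
noncomputable def sm (φ : Y →* St K n) (hφ : Function.Surjective φ) (i j h : Fin n) (t : K) : Y :=
  cm φ hφ (xx i h 1) (xx h j t)

/-- the canonical lift `s_ij(t)` -/
noncomputable def ss (φ : Y →* St K n) (hφ : Function.Surjective φ) (i j : Fin n) (t : K) : Y :=
  sm φ hφ i j (third i j) t

end st

end Cfsg.Agent.Lib.Helper39.Sm
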