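import Cfsg.Agent.Lib.Helper39.Sm_NLA3core
import Cfsg.Agent.Lib.Helper44.Sm_NSPAN
import Cfsg.Agent.Lib.Helper49.Sm_NT1

/-! # Sm hive (S2086, owner helper39), leaf N-LA3: the key lemma `LA φ` for `n = 3`, `|K| ≠ 2, 4`. -/

set_option autoImplicit false

namespace Cfsg.Agent.Lib.Helper39.Sm

open Cfsg.Agent.Lib.Helper41.Stn
open scoped commutatorElement

variable {K : Type*} [Field K] {n : ℕ} {Y : Type*} [Group Y] (φ : Y →* St K n)
  (hφ : Function.Surjective φ)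

theorem la_of_three [Finite K] (hn : n = 3) (h2 : Nat.card K ≠ 2) (h4 : Nat.card K ≠ 4)
    (hφ : Function.Surjective φ) (hc : φ.ker ≤ Subgroup.center Y) : LA φ := by
  obtain ⟨c, hc0, hc1⟩ := nspan_exists_cube_ne_one (K := K) h2 h4
  have hn3 : 3 ≤ n := by omega
  have e1 : ∀ {i j h : Fin n}, i ≠ j → h ≠ i → h ≠ j → ∀ t u : K,
      cm φ hφ (xx i j t) (xx i h u) = 1 :=
    fun hij hhi hhj t u => fcm_eq_one_first φ hφ hn3 hc hij hhi hhj hc0 hc1 t u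
  have e2 : ∀ {i j h : Fin n}, i ≠ j → h ≠ i → h ≠ j → ∀ t u : K,
      cm φ hφ (xx i j t) (xx h j u) = 1 :=
    fun hij hhi hhj t u => fcm_eq_one_second φ hφ hn3 hc hij hhi hhj hc0 hc1 t u
  exact @nla3_core K _ n Y _ φ hφ hn hc e1 e2

end Cfsg.Agent.Lib.Helper39.Sm
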