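import Cfsg.Agent.Lib.Helper39.Sm_L
import Cfsg.Agent.Lib.Helper88.Sm_MMAP
import Cfsg.Agent.Lib.Helper53.Sm_MADD
import Cfsg.Agent.Lib.Helper39.Sm_NLA3
import Cfsg.Agent.Lib.Helper25.Sm_NR3

/-! # Sm hive (S2086): N-ASM `splits_three` - `St_3(K)` is centrally closed (`|K| ≠ 2, 4`) (helper39) -/

set_option autoImplicit false

namespace Cfsg.Agent.Lib.Helper39.Sm

open Cfsg.Agent.Lib.Helper41.Stn
open scoped commutatorElement

variable {K : Type*} [Field K] {n : ℕ} {Y : Type*} [Group Y] (φ : Y →* St K n)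
  (hφ : Function.Surjective φ)

theorem nasm_fin3 : ∀ (x y z w : Fin 3), x ≠ z → x ≠ w → y ≠ z → y ≠ w → z ≠ w → x = y := by decide

theorem nasm_map_ss (hn : 3 ≤ n) {i j : Fin n} (hij : i ≠ j) (t : K) : φ (ss φ hφ i j t) = xx i j t := by
  obtain ⟨h1, h2⟩ := third_ne hn i j
  exact map_sm φ hφ hij h1 h2 t

theorem splits_three [Finite K] (hn : n = 3) (h2 : Nat.card K ≠ 2) (h4 : Nat.card K ≠ 4)
    (hφ : Function.Surjective φ) (hc : φ.ker ≤ Subgroup.center Y) :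
    ∃ τ : St K n →* Y, φ.comp τ = MonoidHom.id (St K n) := by
  have hn3 : 3 ≤ n := by omega
  have hLA : LA φ := la_of_three φ hn h2 h4 hφ hc
  refine exists_section_of_rels φ (ss φ hφ) ?_ ?_ ?_ ?_
  · intro i j t hij
    exact nasm_map_ss φ hφ hn3 hij t
  · intro i j t u hij
    obtain ⟨h1, h2'⟩ := third_ne hn3 i j
    exact sm_add φ hφ hc hLA hij h1 h2' t u
  · intro i j k l t u hij hkl hil hjk
    exact (hLA hij hkl hil hjk t u (nasm_map_ss φ hφ hn3 hij t) (nasm_map_ss φ hφ hn3 hkl u)).eq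
  · intro i j l t u hij hjl hil
    have hth : third i l = j := by
      obtain ⟨h1, h2'⟩ := third_ne hn3 i l
      subst hn
      exact nasm_fin3 _ _ _ _ h1 h2' hij.symm hjl hil
    have e1 : ss φ hφ i j t * ss φ hφ j l u * (ss φ hφ i j t)⁻¹ * (ss φ hφ j l u)⁻¹ =
        ⁅ss φ hφ i j t, ss φ hφ j l u⁆ := (commutatorElement_def _ _).symm
    rw [e1, ← cm_eq φ hφ hc (nasm_map_ss φ hφ hn3 hij t) (nasm_map_ss φ hφ hn3 hjl u),
      gcm_eq φ hφ hn3 h2 h4 hc hLA hij hjl hil t u]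
    unfold ss sm
    rw [hth]

end Cfsg.Agent.Lib.Helper39.Sm
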