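import Cfsg.Agent.Lib.Helper2.SmCC4
import Cfsg.Agent.Lib.Helper39.Sm_NASM

/-! # Sm hive (S2086): `St_n(K)` is centrally closed, `n ≥ 3`, `(n, |K|) ≠ (3,2), (3,4), (4,2)` (assembly, helper39)

`n ≥ 5`: Milnor's Theorem 5.10 (helper2, `cc_splits_five`); `n = 4`: the same with the key lemma for four distinct
indices from the torus / Weyl group (`la_of_four`); `n = 3`: `splits_three`. -/

set_option autoImplicit false

namespace Cfsg.Agent.Lib.Helper39.Sm

open Cfsg.Agent.Lib.Helper41.Stn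

variable {K : Type*} [Field K] {n : ℕ} {Y : Type*} [Group Y] (φ : Y →* St K n)

theorem liftComm_of_LA (h : LA φ) : LiftComm φ :=
  fun _ _ _ _ t u hij hkl hjk hil _ _ hy hz => (h hij hkl hil hjk t u hy hz).eq

theorem LA_of_liftComm (h : LiftComm φ) : LA φ :=
  fun {i j k l} hij hkl hil hjk t u _ _ ha hb => h i j k l t u hij hkl hjk hil _ _ ha hb

theorem St_centrally_closed [Finite K] (hn : 3 ≤ n)
    (hex : ¬ (n = 3 ∧ Nat.card K = 2) ∧ ¬ (n = 3 ∧ Nat.card K = 4) ∧ ¬ (n = 4 ∧ Nat.card K = 2))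
    (hφ : Function.Surjective φ) (hc : φ.ker ≤ Subgroup.center Y) :
    ∃ τ : St K n →* Y, φ.comp τ = MonoidHom.id (St K n) := by
  rcases Nat.lt_or_ge n 4 with h4 | h4
  · have h3 : n = 3 := by omega
    exact splits_three φ h3 (fun h => hex.1 ⟨h3, h⟩) (fun h => hex.2.1 ⟨h3, h⟩) hφ hc
  · rcases Nat.lt_or_ge n 5 with h5 | h5
    · have h4' : n = 4 := by omega
      have hK : 3 ≤ Nat.card K := by
        have h1 : 1 < Nat.card K := Finite.one_lt_card
        have h2 : Nat.card K ≠ 2 := fun h => hex.2.2 ⟨h4', h⟩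
        omega
      cases nonempty_fintype K
      have hK' : 3 ≤ Fintype.card K := by rw [← Nat.card_eq_fintype_card]; exact hK
      exact c4_splits h4 hK' φ hφ hc
    · exact cc_splits_five h5 φ hφ hc

end Cfsg.Agent.Lib.Helper39.Sm
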