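import Cfsg.Agent.Lib.Helper39.SmDefs
import Cfsg.Agent.Lib.Helper80.Stn_BASIC

/-! # Sm hive (S2086): leaf L `exists_section_of_rels` (helper39; modelled on helper2's `cc_gen_rels`) -/

set_option autoImplicit false

namespace Cfsg.Agent.Lib.Helper39.Sm

open Cfsg.Agent.Lib.Helper41.Stn
open scoped commutatorElement

variable {K : Type*} [Field K] {n : ℕ} {Y : Type*} [Group Y] (φ : Y →* St K n)

theorem exists_section_of_rels (s : Fin n → Fin n → K → Y)
    (hs : ∀ (i j : Fin n) (t : K), i ≠ j → φ (s i j t) = xx i j t)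
    (h1 : ∀ (i j : Fin n) (t u : K), i ≠ j → s i j t * s i j u = s i j (t + u))
    (h2 : ∀ (i j k l : Fin n) (t u : K), i ≠ j → k ≠ l → i ≠ l → j ≠ k →
      s i j t * s k l u = s k l u * s i j t)
    (h3 : ∀ (i j l : Fin n) (t u : K), i ≠ j → j ≠ l → i ≠ l →
      s i j t * s j l u * (s i j t)⁻¹ * (s j l u)⁻¹ = s i l (t * u)) :
    ∃ τ : St K n →* Y, φ.comp τ = MonoidHom.id (St K n) := by
  let f : Idx n × K → Y := fun a => s a.1.1.1 a.1.1.2 a.2
  have hrel : ∀ r ∈ rels K n, FreeGroup.lift f r = 1 := by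
    intro r hr
    rcases hr with (⟨a, t, u, rfl⟩ | ⟨a, b, t, u, e1, e2, rfl⟩) | ⟨a, b, h, t, u, e1, rfl⟩
    · simp only [map_mul, map_inv, FreeGroup.lift_apply_of, f]
      rw [h1 _ _ t u a.2, mul_inv_cancel]
    · simp only [map_mul, map_inv, FreeGroup.lift_apply_of, f]
      rw [h2 _ _ _ _ t u a.2 b.2 e1 e2]
      group
    · simp only [map_mul, map_inv, FreeGroup.lift_apply_of, f]
      obtain ⟨⟨i, j⟩, hij⟩ := a
      obtain ⟨⟨j', l⟩, hjl⟩ := b
      simp only at e1 hij hjl h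
      subst e1
      rw [h3 i j l t u hij hjl h, mul_inv_cancel]
  refine ⟨PresentedGroup.toGroup hrel, ?_⟩
  apply PresentedGroup.ext
  intro x
  rw [MonoidHom.comp_apply, PresentedGroup.toGroup.of, MonoidHom.id_apply]
  obtain ⟨⟨⟨i, j⟩, hij⟩, t⟩ := x
  show φ (s i j t) = _
  rw [hs i j t hij, basic_xx_of hij]

end Cfsg.Agent.Lib.Helper39.Sm
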