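import Cfsg.Agent.Lib.Helper39.SmDefs
import Cfsg.Agent.Lib.Helper80.Stn_BASIC
import Cfsg.Agent.Lib.Helper24.Sm_GCM
import Cfsg.Agent.Lib.Helper2.SmCC

/-! # Sm hive (S2086, owner helper39), leaf N-LA3 (core): the key lemma `LA φ` for `n = 3`, given the two
"shared index" vanishing statements (N-T1, N-T2) as hypotheses. -/

set_option autoImplicit false

namespace Cfsg.Agent.Lib.Helper39.Sm

open Cfsg.Agent.Lib.Helper41.Stn
open scoped commutatorElement

variable {K : Type*} [Field K] {n : ℕ} {Y : Type*} [Group Y] (φ : Y →* St K n)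
  (hφ : Function.Surjective φ)

theorem nla3_fin3 : ∀ (i j k l : Fin 3), i ≠ j → k ≠ l → i ≠ l → j ≠ k → k ≠ i → l ≠ j → False := by
  decide

theorem nla3_core (hn : n = 3) (hc : φ.ker ≤ Subgroup.center Y)
    (h1 : ∀ {i j h : Fin n}, i ≠ j → h ≠ i → h ≠ j → ∀ t u : K,
      cm φ hφ (xx i j t) (xx i h u) = 1)
    (h2 : ∀ {i j h : Fin n}, i ≠ j → h ≠ i → h ≠ j → ∀ t u : K,
      cm φ hφ (xx i j t) (xx h j u) = 1) : LA φ := by
  intro i j k l hij hkl hil hjk t u a b ha hb
  have hn3 : 3 ≤ n := by omega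
  by_cases hki : k = i
  · subst hki
    by_cases hlj : l = j
    · subst hlj
      obtain ⟨e1, e2⟩ := third_ne hn3 k l
      exact cc_liftComm_of_extra φ hφ hc t u hij hkl hjk hil ⟨third k l, e1, e2, e1, e2⟩ ha hb
    · have h := h1 hij hkl.symm hlj t u
      rw [cm_eq φ hφ hc ha hb] at h
      exact commutatorElement_eq_one_iff_commute.mp h
  · by_cases hlj : l = j
    · subst hlj
      have h := h2 hij hki hjk.symm t u
      rw [cm_eq φ hφ hc ha hb] at h
      exact commutatorElement_eq_one_iff_commute.mp h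
    · exfalso
      subst hn
      exact nla3_fin3 i j k l hij hkl hil hjk hki hlj

end Cfsg.Agent.Lib.Helper39.Sm
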