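import Mathlib

set_option autoImplicit false
set_option linter.unusedSimpArgs false
set_option linter.unusedVariables false
set_option linter.unnecessarySeqFocus false
set_option linter.unusedSectionVars false
set_option linter.style.haveILetI false

/-!
# Permutations all of whose nontrivial cycles have the same length
-/

namespace Cfsg.Agent.Lib.Helper39.Spec

open Equiv Finset

/-- if `τ ^ ℓ = 1` with `ℓ` prime and `τ` moves `v`, no proper power of `τ` fixes `v` -/
lemma pow_apply_ne_of_prime {X : Type*} (τ : Perm X) {ℓ : ℕ} (hℓ : ℓ.Prime) (hτ : τ ^ ℓ = 1)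
    {v : X} (hv : τ v ≠ v) {j : ℕ} (hj0 : 0 < j) (hjl : j < ℓ) : (τ ^ j) v ≠ v := by
  intro h
  have hcop : Nat.Coprime j ℓ :=
    Nat.Coprime.symm ((Nat.Prime.coprime_iff_not_dvd hℓ).mpr (Nat.not_dvd_of_pos_of_lt hj0 hjl))
  obtain ⟨m, -, hm⟩ := Nat.exists_mul_mod_eq_one_of_coprime hcop hℓ.one_lt
  have h1 : ((τ ^ j) ^ m) v = v := Equiv.Perm.pow_apply_eq_self_of_apply_eq_self h m
  rw [← pow_mul, pow_eq_pow_mod _ hτ, hm, pow_one] at h1
  exact hv h1

/-- a permutation all of whose nontrivial cycles have length `ℓ` -/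
theorem sign_of_uniform {X : Type*} [Fintype X] [DecidableEq X] (σ : Perm X) {ℓ : ℕ}
    (hℓ : 2 ≤ ℓ) (hσ : σ ^ ℓ = 1)
    (hfree : ∀ v, σ v ≠ v → ∀ j, j ∣ ℓ → 0 < j → j < ℓ → (σ ^ j) v ≠ v) :
    ∃ m : ℕ, σ.support.card = m * ℓ ∧ Perm.sign σ = (-1) ^ (m * (ℓ + 1)) := by
  have hall : ∀ n ∈ σ.cycleType, n = ℓ := by
    intro n hn
    have hdvd : n ∣ ℓ := (Perm.dvd_of_mem_cycleType hn).trans (orderOf_dvd_of_pow_eq_one hσ)
    have hn2 := Perm.two_le_of_mem_cycleType hn
    by_contra hne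
    have hlt : n < ℓ := lt_of_le_of_ne (Nat.le_of_dvd (by omega) hdvd) hne
    obtain ⟨c, τ, hστ, hd, hc, hcard⟩ := Perm.mem_cycleType_iff.mp hn
    obtain ⟨x, hx⟩ := hc.nonempty_support
    have hcx : c x ≠ x := Perm.mem_support.mp hx
    have hτx : τ x = x := by
      rcases hd x with h | h
      · exact absurd h hcx
      · exact h
    have hσx : σ x ≠ x := by
      rw [hστ, Perm.mul_apply, hτx]; exact hcx
    have hcn : c ^ n = 1 := by
      rw [← hcard, ← hc.orderOf]; exact pow_orderOf_eq_one c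
    have hσn : (σ ^ n) x = x := by
      rw [hστ, hd.commute.mul_pow, Perm.mul_apply,
        Equiv.Perm.pow_apply_eq_self_of_apply_eq_self hτx n, hcn]
      rfl
    exact hfree x hσx n hdvd (by omega) hlt hσn
  have hrep : σ.cycleType = Multiset.replicate (Multiset.card σ.cycleType) ℓ :=
    Multiset.eq_replicate_card.mpr hall
  refine ⟨Multiset.card σ.cycleType, ?_, ?_⟩
  · rw [← Perm.sum_cycleType, hrep, Multiset.sum_replicate, Multiset.card_replicate]
    simp
  · rw [Perm.sign_of_cycleType]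
    congr 1
    conv_lhs => rw [hrep]
    rw [Multiset.sum_replicate, Multiset.card_replicate]
    simp only [smul_eq_mul]
    ring

/-- a stable set on which a permutation of exponent `ℓ` acts freely has size divisible by `ℓ` -/
theorem dvd_card_of_free {X : Type*} [Fintype X] [DecidableEq X] (σ : Perm X) {ℓ : ℕ}
    (hℓ : 2 ≤ ℓ) (hσ : σ ^ ℓ = 1) (T : Finset X) (hT : ∀ v ∈ T, σ v ∈ T)
    (hfree : ∀ v ∈ T, ∀ j, j ∣ ℓ → 0 < j → j < ℓ → (σ ^ j) v ≠ v) : ℓ ∣ T.card := by
  have hTpow : ∀ (j : ℕ) (v : X), v ∈ T → (σ ^ j) v ∈ T := by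
    intro j
    induction j with
    | zero => intro v hv; simpa using hv
    | succ j ih =>
      intro v hv
      rw [pow_succ', Perm.mul_apply]
      exact hT _ (ih v hv)
  have hiff : ∀ x, σ x ∈ T ↔ x ∈ T := by
    intro x
    refine ⟨?_, hT x⟩
    · intro hx
      have h1 := hTpow (ℓ - 1) (σ x) hx
      have h2 : (σ ^ (ℓ - 1)) (σ x) = x := by
        rw [← Perm.mul_apply, ← pow_succ]
        have : ℓ - 1 + 1 = ℓ := by omega
        rw [this, hσ]; rfl
      rwa [h2] at h1
  set τ : Perm {x // x ∈ T} := σ.subtypePerm hiff with hτ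
  have hτpow : ∀ (j : ℕ) (v : {x // x ∈ T}), ((τ ^ j) v : X) = (σ ^ j) v := by
    intro j
    induction j with
    | zero => intro v; rfl
    | succ j ih =>
      intro v
      rw [pow_succ', Perm.mul_apply, pow_succ', Perm.mul_apply, ← ih v]
      rfl
  have hτℓ : τ ^ ℓ = 1 := by
    ext v
    rw [hτpow, hσ]; rfl
  have hτfree : ∀ v, ∀ j, j ∣ ℓ → 0 < j → j < ℓ → (τ ^ j) v ≠ v := by
    intro v j hjd hj0 hjl h
    apply hfree v.1 v.2 j hjd hj0 hjl
    rw [← hτpow, h]
  obtain ⟨m, hm, -⟩ := sign_of_uniform τ hℓ hτℓ (fun v _ => hτfree v)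
  have hsupp : τ.support = Finset.univ := by
    ext v
    simp only [Perm.mem_support, Finset.mem_univ, iff_true]
    have := hτfree v 1 (one_dvd _) (by omega) (by omega)
    simpa using this
  rw [hsupp, Finset.card_univ, Fintype.card_coe] at hm
  exact ⟨m, by rw [hm, mul_comm]⟩

end Cfsg.Agent.Lib.Helper39.Spec
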