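import Mathlib
import Cfsg.Agent.Lib.Helper39.SpecA

set_option autoImplicit false
set_option linter.unusedSimpArgs false
set_option linter.unusedVariables false
set_option linter.unnecessarySeqFocus false
set_option linter.unusedSectionVars false
set_option linter.style.haveILetI false

/-!
# Fixed space and complement of an endomorphism of finite order prime to the characteristic
-/

namespace Cfsg.Agent.Lib.Helper39.Spec

open Module QuadraticMap

variable {F V : Type*} [Field F] [AddCommGroup V] [Module F V]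

/-- isometries of a quadratic form, as endomorphisms -/
def IsIsom (Q : QuadraticForm F V) (y : Module.End F V) : Prop := ∀ v, Q (y v) = Q v

lemma IsIsom.polar {Q : QuadraticForm F V} {y : Module.End F V} (h : IsIsom Q y) (a b : V) :
    polar Q (y a) (y b) = polar Q a b := by
  unfold QuadraticMap.polar
  rw [← map_add, h, h, h]

lemma IsIsom.one (Q : QuadraticForm F V) : IsIsom Q (1 : Module.End F V) := fun _ => rfl

lemma IsIsom.mul {Q : QuadraticForm F V} {y y' : Module.End F V} (h : IsIsom Q y)
    (h' : IsIsom Q y') : IsIsom Q (y * y') := by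
  intro v
  rw [Module.End.mul_apply, h, h']

lemma IsIsom.pow {Q : QuadraticForm F V} {y : Module.End F V} (h : IsIsom Q y) (j : ℕ) :
    IsIsom Q (y ^ j) := by
  induction j with
  | zero => rw [pow_zero]; exact IsIsom.one Q
  | succ j ih => rw [pow_succ]; exact ih.mul h

/-- the fixed space -/
def fixS (y : Module.End F V) : Submodule F V := LinearMap.ker (y - 1)

lemma mem_fixS {y : Module.End F V} {v : V} : v ∈ fixS y ↔ y v = v := by
  unfold fixS
  rw [LinearMap.mem_ker, LinearMap.sub_apply, Module.End.one_apply, sub_eq_zero]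

/-- the sum of the powers -/
def avgS (y : Module.End F V) (m : ℕ) : Module.End F V := ∑ i ∈ Finset.range m, y ^ i

/-- the canonical complement of the fixed space -/
def cmpS (y : Module.End F V) (m : ℕ) : Submodule F V := LinearMap.ker (avgS y m)

lemma mem_cmpS {y : Module.End F V} {m : ℕ} {v : V} : v ∈ cmpS y m ↔ avgS y m v = 0 :=
  LinearMap.mem_ker

lemma mul_avgS {y : Module.End F V} {m : ℕ} (hy : y ^ m = 1) : y * avgS y m = avgS y m := by
  have h := mul_geom_sum y m
  rw [hy, sub_self, sub_mul, one_mul, sub_eq_zero] at h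
  exact h

lemma avgS_mem_fixS {y : Module.End F V} {m : ℕ} (hy : y ^ m = 1) (v : V) :
    avgS y m v ∈ fixS y := by
  rw [mem_fixS, ← Module.End.mul_apply, mul_avgS hy]

lemma pow_apply_of_mem_fixS {y : Module.End F V} {v : V} (hv : v ∈ fixS y) (j : ℕ) :
    (y ^ j) v = v := by
  induction j with
  | zero => rfl
  | succ j ih => rw [pow_succ, Module.End.mul_apply, mem_fixS.mp hv, ih]

lemma avgS_apply_of_mem_fixS {y : Module.End F V} {v : V} (hv : v ∈ fixS y) (m : ℕ) :
    avgS y m v = (m : F) • v := by
  unfold avgS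
  rw [LinearMap.sum_apply]
  simp only [pow_apply_of_mem_fixS hv]
  rw [Finset.sum_const, Finset.card_range, Nat.cast_smul_eq_nsmul]

lemma commute_avgS {y y' : Module.End F V} (h : Commute y y') (m : ℕ) :
    Commute (avgS y m) y' := by
  unfold avgS
  apply Commute.sum_left
  intro i _
  exact h.pow_left i

lemma map_fixS_of_commute {y y' : Module.End F V} (h : Commute y y') {v : V}
    (hv : v ∈ fixS y) : y' v ∈ fixS y := by
  rw [mem_fixS] at hv ⊢
  rw [← Module.End.mul_apply, h.eq, Module.End.mul_apply, hv]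

lemma map_cmpS_of_commute {y y' : Module.End F V} (h : Commute y y') {m : ℕ} {v : V}
    (hv : v ∈ cmpS y m) : y' v ∈ cmpS y m := by
  rw [mem_cmpS] at hv ⊢
  rw [← Module.End.mul_apply, (commute_avgS h m).eq, Module.End.mul_apply, hv, map_zero]

/-- the component in the fixed space -/
noncomputable def fixP (y : Module.End F V) (m : ℕ) (v : V) : V := (m : F)⁻¹ • avgS y m v

lemma fixP_mem {y : Module.End F V} {m : ℕ} (hy : y ^ m = 1) (v : V) : fixP y m v ∈ fixS y :=
  (fixS y).smul_mem _ (avgS_mem_fixS hy v)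

lemma sub_fixP_mem {y : Module.End F V} {m : ℕ} (hy : y ^ m = 1) (hm : (m : F) ≠ 0) (v : V) :
    v - fixP y m v ∈ cmpS y m := by
  rw [mem_cmpS, map_sub]
  unfold fixP
  rw [map_smul, avgS_apply_of_mem_fixS (avgS_mem_fixS hy v), smul_smul, inv_mul_cancel₀ hm,
    one_smul, sub_self]

lemma fixP_mem_of_stable {y : Module.End F V} {m : ℕ} {U : Submodule F V}
    (hU : ∀ a ∈ U, y a ∈ U) {v : V} (hv : v ∈ U) : fixP y m v ∈ U := by
  unfold fixP avgS
  apply U.smul_mem
  rw [LinearMap.sum_apply]
  apply U.sum_mem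
  intro i _
  have key : ∀ i : ℕ, (y ^ i) v ∈ U := by
    intro i
    induction i with
    | zero => simpa using hv
    | succ i ih => rw [pow_succ', Module.End.mul_apply]; exact hU _ ih
  exact key i

lemma fixS_inf_cmpS {y : Module.End F V} {m : ℕ} (hm : (m : F) ≠ 0) {v : V}
    (h1 : v ∈ fixS y) (h2 : v ∈ cmpS y m) : v = 0 := by
  rw [mem_cmpS, avgS_apply_of_mem_fixS h1] at h2
  rcases smul_eq_zero.mp h2 with h | h
  · exact absurd h hm
  · exact h

lemma fixP_eq_zero_of_mem_cmpS {y : Module.End F V} {m : ℕ} {v : V} (hv : v ∈ cmpS y m) :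
    fixP y m v = 0 := by
  unfold fixP
  rw [mem_cmpS.mp hv, smul_zero]

lemma fixP_eq_self_of_mem_fixS {y : Module.End F V} {m : ℕ} (hm : (m : F) ≠ 0) {v : V}
    (hv : v ∈ fixS y) : fixP y m v = v := by
  unfold fixP
  rw [avgS_apply_of_mem_fixS hv, smul_smul, inv_mul_cancel₀ hm, one_smul]

/-- the fixed space is orthogonal to its canonical complement -/
lemma polar_fixS_cmpS {Q : QuadraticForm F V} {y : Module.End F V} {m : ℕ} (hQ : IsIsom Q y)
    (hm : (m : F) ≠ 0) {a w : V} (ha : a ∈ fixS y) (hw : w ∈ cmpS y m) : polar Q a w = 0 := by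
  have h1 : polarBilin Q a (avgS y m w) = (m : F) * polar Q a w := by
    unfold avgS
    rw [LinearMap.sum_apply, map_sum]
    have : ∀ i ∈ Finset.range m, polarBilin Q a ((y ^ i) w) = polar Q a w := by
      intro i _
      rw [polarBilin_apply_apply]
      conv_lhs => rw [← pow_apply_of_mem_fixS ha i]
      exact (hQ.pow i).polar a w
    rw [Finset.sum_congr rfl this, Finset.sum_const, Finset.card_range, nsmul_eq_mul]
  rw [mem_cmpS.mp hw, map_zero] at h1
  rcases mul_eq_zero.mp h1.symm with h | h
  · exact absurd h hm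
  · exact h

end Cfsg.Agent.Lib.Helper39.Spec
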