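import Mathlib
import Cfsg.Agent.Lib.Helper39.SpecB

set_option autoImplicit false
set_option linter.unusedSimpArgs false
set_option linter.unusedVariables false
set_option linter.unnecessarySeqFocus false
set_option linter.unusedSectionVars false
set_option linter.style.haveILetI false

/-!
# An isometry of primitive prime order: its fixed space and its irreducible complement
-/

namespace Cfsg.Agent.Lib.Helper39.Spec

open Module QuadraticMap

variable {F V : Type*} [Field F] [AddCommGroup V] [Module F V]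

lemma pow_mem_of_stable {y : Module.End F V} {S : Submodule F V} (hS : ∀ v ∈ S, y v ∈ S)
    (j : ℕ) {v : V} (hv : v ∈ S) : (y ^ j) v ∈ S := by
  induction j with
  | zero => simpa using hv
  | succ j ih => rw [pow_succ', Module.End.mul_apply]; exact hS _ ih

/-- an endomorphism of prime order `ℓ` acting without nonzero fixed vectors on a stable
subspace: `ℓ` divides the number of nonzero vectors -/
theorem prime_dvd_card_sub_one [Finite F] [Module.Finite F V] {y : Module.End F V} {ℓ : ℕ}
    (hℓ : ℓ.Prime) (hy : y ^ ℓ = 1) (S : Submodule F V) (hS : ∀ v ∈ S, y v ∈ S)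
    (hfix : ∀ v ∈ S, y v = v → v = 0) : ℓ ∣ Nat.card F ^ finrank F S - 1 := by
  classical
  haveI : Finite V := Module.finite_of_finite F
  haveI : Fintype ↥S := Fintype.ofFinite _
  set f : ↥S → ↥S := fun v => ⟨y v, hS v v.2⟩ with hf
  have hinj : Function.Injective f := by
    intro a b hab
    have h1 : y (a : V) = y (b : V) := congrArg Subtype.val hab
    have h2 : ∀ v : V, (y ^ (ℓ - 1)) (y v) = v := by
      intro v
      rw [← Module.End.mul_apply, ← pow_succ]
      have : ℓ - 1 + 1 = ℓ := by have := hℓ.two_le; omega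
      rw [this, hy]; rfl
    apply Subtype.ext
    rw [← h2 a, ← h2 b, h1]
  set σ : Equiv.Perm ↥S := Equiv.ofBijective f (Finite.injective_iff_bijective.mp hinj) with hσ
  have hσpow : ∀ (j : ℕ) (v : ↥S), (((σ ^ j) v : ↥S) : V) = (y ^ j) (v : V) := by
    intro j
    induction j with
    | zero => intro v; rfl
    | succ j ih =>
      intro v
      rw [pow_succ', Equiv.Perm.mul_apply, pow_succ', Module.End.mul_apply, ← ih v]
      rfl
  have hσℓ : σ ^ ℓ = 1 := by
    ext v
    rw [hσpow, hy]; rfl
  set T : Finset ↥S := Finset.univ.filter (fun v : ↥S => v ≠ 0) with hT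
  have hstab : ∀ v ∈ T, σ v ∈ T := by
    intro v hv
    simp only [hT, Finset.mem_filter, Finset.mem_univ, true_and] at hv ⊢
    intro h0
    apply hv
    apply hinj
    show σ v = f 0
    rw [h0]
    apply Subtype.ext
    simp [hf]
  have hfree : ∀ v ∈ T, ∀ j, j ∣ ℓ → 0 < j → j < ℓ → (σ ^ j) v ≠ v := by
    intro v hv j _ hj0 hjl
    simp only [hT, Finset.mem_filter, Finset.mem_univ, true_and] at hv
    apply pow_apply_ne_of_prime σ hℓ hσℓ _ hj0 hjl
    intro h
    apply hv
    have h1 : y (v : V) = v := congrArg Subtype.val h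
    exact Subtype.ext (hfix v v.2 h1)
  have hdvd := dvd_card_of_free σ hℓ.two_le hσℓ T hstab hfree
  have hcardT : T.card = Fintype.card ↥S - 1 := by
    rw [hT, Finset.filter_ne' Finset.univ (0 : ↥S), Finset.card_erase_of_mem (Finset.mem_univ _),
      Finset.card_univ]
  have hcardS : Fintype.card ↥S = Nat.card F ^ finrank F S := by
    rw [← Nat.card_eq_fintype_card]
    exact Module.natCard_eq_pow_finrank
  rw [hcardT, hcardS] at hdvd
  exact hdvd

/-- arithmetic of a primitive prime divisor -/
lemma dvd_of_primitive {q r d : ℕ} (hq : 1 < q) (hr : r.Prime) (hd : 0 < d)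
    (hrd : r ∣ q ^ d - 1) (hprim : ∀ j, 0 < j → j < d → ¬ r ∣ q ^ j - 1) {m : ℕ}
    (hm : r ∣ q ^ m - 1) : d ∣ m := by
  haveI := Fact.mk hr
  have key : ∀ k : ℕ, ((q : ZMod r)) ^ k = 1 ↔ r ∣ q ^ k - 1 := by
    intro k
    have h1 : 1 ≤ q ^ k := Nat.one_le_pow _ _ (by omega)
    rw [← (ZMod.natCast_eq_zero_iff (q ^ k - 1) r), Nat.cast_sub h1, Nat.cast_pow, Nat.cast_one,
      sub_eq_zero]
  have ho : orderOf (q : ZMod r) = d := by
    have h1 : orderOf (q : ZMod r) ∣ d := orderOf_dvd_of_pow_eq_one ((key d).mpr hrd)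
    have hpos : 0 < orderOf (q : ZMod r) := Nat.pos_of_dvd_of_pos h1 hd
    by_contra hne
    have hlt : orderOf (q : ZMod r) < d := lt_of_le_of_ne (Nat.le_of_dvd hd h1) hne
    exact hprim _ hpos hlt ((key _).mp (pow_orderOf_eq_one _))
  rw [← ho]
  exact orderOf_dvd_of_pow_eq_one ((key m).mpr hm)

/-- the hypotheses on the isometry `x` of primitive prime order `r` -/
structure XData [Finite F] (Q : QuadraticForm F V) (x : Module.End F V) (r d : ℕ) : Prop where
  isom : IsIsom Q x
  prime : r.Prime
  pow : x ^ r = 1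
  ne_one : x ≠ 1
  rF : (r : F) ≠ 0
  dpos : 0 < d
  dvd : ∀ m, r ∣ Nat.card F ^ m - 1 → d ∣ m
  dim : finrank F V < 2 * d

namespace XData

variable [Finite F] [Module.Finite F V] {Q : QuadraticForm F V} {x : Module.End F V} {r d : ℕ}

lemma stable_cmp (h : XData Q x r d) : ∀ v ∈ cmpS x r, x v ∈ cmpS x r :=
  fun v hv => map_cmpS_of_commute (Commute.refl x) hv

lemma fix_cmp (h : XData Q x r d) : ∀ v ∈ cmpS x r, x v = v → v = 0 :=
  fun v hv hxv => fixS_inf_cmpS h.rF (mem_fixS.mpr hxv) hv

lemma isCompl (h : XData Q x r d) : IsCompl (fixS x) (cmpS x r) := by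
  constructor
  · rw [Submodule.disjoint_def]
    intro v h1 h2
    exact fixS_inf_cmpS h.rF h1 h2
  · rw [codisjoint_iff, eq_top_iff]
    intro v _
    rw [Submodule.mem_sup]
    exact ⟨fixP x r v, fixP_mem h.pow v, v - fixP x r v, sub_fixP_mem h.pow h.rF v, by abel⟩

lemma cmp_ne_bot (h : XData Q x r d) : cmpS x r ≠ ⊥ := by
  intro hbot
  apply h.ne_one
  ext v
  have h1 := sub_fixP_mem h.pow h.rF v
  rw [hbot, Submodule.mem_bot, sub_eq_zero] at h1
  have h2 := fixP_mem h.pow v
  rw [← h1] at h2
  rw [mem_fixS.mp h2]; rfl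

/-- a nonzero `x`-stable subspace of the complement is everything -/
lemma finrank_stable (h : XData Q x r d) (S : Submodule F V) (hSW : S ≤ cmpS x r)
    (hS : ∀ v ∈ S, x v ∈ S) (hne : S ≠ ⊥) : d ≤ finrank F S := by
  have h1 := prime_dvd_card_sub_one h.prime h.pow S hS
    (fun v hv hxv => h.fix_cmp v (hSW hv) hxv)
  have h2 := h.dvd _ h1
  have hpos : 0 < finrank F S := by
    rw [Module.finrank_pos_iff]
    exact (Submodule.nontrivial_iff_ne_bot).mpr hne
  exact Nat.le_of_dvd hpos h2

lemma finrank_cmp (h : XData Q x r d) : finrank F (cmpS x r) = d := by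
  have h1 := prime_dvd_card_sub_one h.prime h.pow (cmpS x r) h.stable_cmp h.fix_cmp
  obtain ⟨c, hc⟩ := h.dvd _ h1
  have hpos : 0 < finrank F (cmpS x r) := by
    rw [Module.finrank_pos_iff]
    exact (Submodule.nontrivial_iff_ne_bot).mpr h.cmp_ne_bot
  have hle : finrank F (cmpS x r) ≤ finrank F V := Submodule.finrank_le _
  have hdim := h.dim
  have hc1 : c = 1 := by
    rcases Nat.lt_or_ge c 1 with h' | h'
    · have : c = 0 := by omega
      rw [this, mul_zero] at hc
      omega
    · rcases Nat.lt_or_ge c 2 with h'' | h''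
      · omega
      · have : d * 2 ≤ d * c := Nat.mul_le_mul_left d h''
        omega
  rw [hc, hc1, mul_one]

lemma finrank_fix (h : XData Q x r d) : finrank F (fixS x) + d = finrank F V := by
  rw [← h.finrank_cmp]
  exact Submodule.finrank_add_eq_of_isCompl h.isCompl

/-- anything commuting with `x` and fixing a nonzero vector of the complement fixes it
pointwise -/
lemma fix_of_fix (h : XData Q x r d) {y : Module.End F V} (hc : Commute y x) {w : V}
    (hw : w ∈ cmpS x r) (hw0 : w ≠ 0) (hyw : y w = w) : ∀ w' ∈ cmpS x r, y w' = w' := by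
  set S : Submodule F V := cmpS x r ⊓ fixS y with hS
  have hSW : S ≤ cmpS x r := inf_le_left
  have hstab : ∀ v ∈ S, x v ∈ S := by
    intro v hv
    rw [hS, Submodule.mem_inf] at hv ⊢
    exact ⟨h.stable_cmp v hv.1, map_fixS_of_commute hc hv.2⟩
  have hne : S ≠ ⊥ := by
    intro hbot
    have : w ∈ S := by
      rw [hS, Submodule.mem_inf]
      exact ⟨hw, mem_fixS.mpr hyw⟩
    rw [hbot, Submodule.mem_bot] at this
    exact hw0 this
  have h1 := h.finrank_stable S hSW hstab hne
  have h2 : S = cmpS x r := by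
    apply Submodule.eq_of_le_of_finrank_le hSW
    rw [h.finrank_cmp]
    exact h1
  intro w' hw'
  rw [← h2, hS, Submodule.mem_inf] at hw'
  exact mem_fixS.mp hw'.2

/-- an element of order `p` (the characteristic) commuting with `x` is trivial on the
complement -/
lemma unipotent_fix (h : XData Q x r d) {p : ℕ} (hp : p.Prime) (hpq : p ∣ Nat.card F)
    {u : Module.End F V} (hc : Commute u x) (hu : u ^ p = 1) : ∀ w ∈ cmpS x r, u w = w := by
  by_cases hex : ∃ w ∈ cmpS x r, w ≠ 0 ∧ u w = w
  · obtain ⟨w, hw, hw0, huw⟩ := hex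
    exact h.fix_of_fix hc hw hw0 huw
  · exfalso
    push Not at hex
    have h1 := prime_dvd_card_sub_one hp hu (cmpS x r)
      (fun v hv => map_cmpS_of_commute hc.symm hv)
      (fun v hv huv => by
        by_contra hv0
        exact hex v hv hv0 huv)
    rw [h.finrank_cmp] at h1
    have h2 : p ∣ Nat.card F ^ d := dvd_pow hpq (by have := h.dpos; omega)
    have h3 : 1 ≤ Nat.card F ^ d := Nat.one_le_pow _ _ Nat.card_pos
    have h4 : p ∣ 1 := by
      have := (Nat.dvd_sub h2 h1)
      rwa [Nat.sub_sub_self h3] at this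
    exact hp.one_lt.ne' (Nat.dvd_one.mp h4)

end XData

end Cfsg.Agent.Lib.Helper39.Spec
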