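import Mathlib
import Cfsg.Agent.Lib.Helper39.SpecC

set_option autoImplicit false
set_option linter.unusedSimpArgs false
set_option linter.unusedVariables false
set_option linter.unnecessarySeqFocus false
set_option linter.unusedSectionVars false
set_option linter.style.haveILetI false

/-!
# Unipotent isometries of small spaces; the fixed space dichotomy on a three dimensional space
-/

namespace Cfsg.Agent.Lib.Helper39.Spec

open Module QuadraticMap

variable {F V : Type*} [Field F] [AddCommGroup V] [Module F V]

/-- an element of order `p` (the characteristic) has a nonzero fixed vector in any nonzero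
stable subspace -/
lemma exists_fixed_of_char [Finite F] [Module.Finite F V] {p : ℕ} (hp : p.Prime)
    (hpq : p ∣ Nat.card F) {u : Module.End F V} (hu : u ^ p = 1) (S : Submodule F V)
    (hS : ∀ v ∈ S, u v ∈ S) (hne : S ≠ ⊥) : ∃ e ∈ S, e ≠ 0 ∧ u e = e := by
  by_contra hex
  push Not at hex
  have h1 := prime_dvd_card_sub_one hp hu S hS
    (fun v hv huv => by
      by_contra hv0
      exact hex v hv hv0 huv)
  have hpos : 0 < finrank F S := by
    rw [Module.finrank_pos_iff]
    exact (Submodule.nontrivial_iff_ne_bot).mpr hne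
  have h2 : p ∣ Nat.card F ^ finrank F S := dvd_pow hpq (by omega)
  have h3 : 1 ≤ Nat.card F ^ finrank F S := Nat.one_le_pow _ _ Nat.card_pos
  have h4 : p ∣ 1 := by
    have := (Nat.dvd_sub h2 h1)
    rwa [Nat.sub_sub_self h3] at this
  exact hp.one_lt.ne' (Nat.dvd_one.mp h4)

/-- a unipotent isometry of a nondegenerate space of dimension at most two is trivial -/
theorem unipotent_trivial_small [Finite F] [Module.Finite F V] (h2 : (2 : F) ≠ 0)
    {Q : QuadraticForm F V} {u : Module.End F V} (hu : IsIsom Q u) {p : ℕ} (hp : p.Prime)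
    (hpq : p ∣ Nat.card F) (hup : u ^ p = 1) (S : Submodule F V) (hS : ∀ v ∈ S, u v ∈ S)
    (hnd : ∀ s ∈ S, (∀ s' ∈ S, polar Q s s' = 0) → s = 0) (hdim : finrank F S ≤ 2) :
    ∀ s ∈ S, u s = s := by
  by_cases hS0 : S = ⊥
  · intro s hs
    rw [hS0, Submodule.mem_bot] at hs
    rw [hs, map_zero]
  obtain ⟨e, heS, he0, hue⟩ := exists_fixed_of_char hp hpq hup S hS hS0
  by_cases hQe : Q e = 0
  · -- `e` is singular
    have hee : polar Q e e = 0 := by rw [polar_self, hQe, smul_zero]
    obtain ⟨f₀, hf₀S, hf₀⟩ : ∃ f₀ ∈ S, polar Q e f₀ ≠ 0 := by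
      by_contra hno
      push Not at hno
      exact he0 (hnd e heS hno)
    set f : V := (polar Q e f₀)⁻¹ • f₀ with hf
    have hfS : f ∈ S := S.smul_mem _ hf₀S
    have hef : polar Q e f = 1 := by
      rw [hf, polar_smul_right, smul_eq_mul, inv_mul_cancel₀ hf₀]
    have hli : LinearIndependent F ![e, f] := by
      rw [LinearIndependent.pair_iff]
      intro s t hst
      have h1 : polar Q e (s • e + t • f) = t := by
        rw [polar_add_right, polar_smul_right, polar_smul_right, hee, hef]
        simp
      rw [hst] at h1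
      have ht : t = 0 := by
        rw [← h1]; simp [polar]
      rw [ht, zero_smul, add_zero] at hst
      rcases smul_eq_zero.mp hst with h | h
      · exact ⟨h, ht⟩
      · exact absurd h he0
    have hspan : Submodule.span F {e, f} = S := by
      apply Submodule.eq_of_le_of_finrank_le
      · rw [Submodule.span_le]
        intro v hv
        rcases hv with rfl | rfl
        · exact heS
        · exact hfS
      · have h1 := finrank_span_eq_card hli
        have h2' : Set.range ![e, f] = {e, f} := by
          ext v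
          simp only [Set.mem_range, Set.mem_insert_iff, Set.mem_singleton_iff]
          constructor
          · rintro ⟨i, rfl⟩
            fin_cases i
            · left; rfl
            · right; rfl
          · rintro (rfl | rfl)
            · exact ⟨0, rfl⟩
            · exact ⟨1, rfl⟩
        rw [h2'] at h1
        rw [h1]
        simpa using hdim
    have hufS : u f ∈ S := hS f hfS
    rw [← hspan, Submodule.mem_span_pair] at hufS
    obtain ⟨α, β, hαβ⟩ := hufS
    have hβ : β = 1 := by
      have h1 : polar Q e (u f) = 1 := by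
        conv_lhs => rw [← hue]
        rw [hu.polar, hef]
      rw [← hαβ, polar_add_right, polar_smul_right, polar_smul_right, hee, hef] at h1
      simpa using h1
    have hα : α = 0 := by
      have h1 : Q (u f) = Q f := hu f
      rw [← hαβ, hβ, one_smul] at h1
      have h3 : Q (α • e + f) = Q (α • e) + Q f + polar Q (α • e) f := by
        unfold QuadraticMap.polar; ring
      rw [h3, QuadraticMap.map_smul, hQe, polar_smul_left, hef] at h1
      simp only [smul_eq_mul, mul_zero, zero_add, mul_one] at h1
      linear_combination h1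
    have huf : u f = f := by
      rw [← hαβ, hα, hβ]; simp
    intro s hs
    rw [← hspan, Submodule.mem_span_pair] at hs
    obtain ⟨a, b, rfl⟩ := hs
    rw [map_add, map_smul, map_smul, hue, huf]
  · -- `e` is nonsingular
    have hee : polar Q e e ≠ 0 := by
      rw [polar_self, two_smul, ← two_mul]
      exact mul_ne_zero h2 hQe
    set S' : Submodule F V := S ⊓ LinearMap.ker (polarBilin Q e) with hS'
    have hmemS' : ∀ v, v ∈ S' ↔ v ∈ S ∧ polar Q e v = 0 := by
      intro v
      rw [hS', Submodule.mem_inf, LinearMap.mem_ker, polarBilin_apply_apply]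
    have hS'stab : ∀ v ∈ S', u v ∈ S' := by
      intro v hv
      rw [hmemS'] at hv ⊢
      refine ⟨hS v hv.1, ?_⟩
      conv_lhs => rw [← hue]
      rw [hu.polar, hv.2]
    have hlt : S' < S := by
      refine lt_of_le_of_ne inf_le_left ?_
      intro heq
      have : e ∈ S' := by rw [heq]; exact heS
      exact hee ((hmemS' e).mp this).2
    have hdim' : finrank F S' ≤ 1 := by
      have := Submodule.finrank_lt_finrank_of_lt hlt
      omega
    have hfixS' : ∀ s' ∈ S', u s' = s' := by
      by_cases hS'0 : S' = ⊥
      · intro s hs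
        rw [hS'0, Submodule.mem_bot] at hs
        rw [hs, map_zero]
      obtain ⟨d, hdS', hd0, hud⟩ := exists_fixed_of_char hp hpq hup S' hS'stab hS'0
      have hpos : 0 < finrank F S' := by
        rw [Module.finrank_pos_iff]
        exact (Submodule.nontrivial_iff_ne_bot).mpr hS'0
      have hone : finrank F S' = 1 := by omega
      have hd0' : (⟨d, hdS'⟩ : ↥S') ≠ 0 := by
        intro h
        exact hd0 (congrArg Subtype.val h)
      have hall := (finrank_eq_one_iff_of_nonzero' (⟨d, hdS'⟩ : ↥S') hd0').mp hone
      intro s' hs'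
      obtain ⟨c, hc⟩ := hall ⟨s', hs'⟩
      have hc' : c • d = s' := congrArg Subtype.val hc
      rw [← hc', map_smul, hud]
    intro s hs
    set α : F := polar Q e s / polar Q e e with hα
    have hs' : s - α • e ∈ S' := by
      rw [hmemS']
      refine ⟨S.sub_mem hs (S.smul_mem _ heS), ?_⟩
      rw [polar_sub_right, polar_smul_right, smul_eq_mul, hα]
      field_simp
      ring
    have h1 := hfixS' _ hs'
    rw [map_sub, map_smul, hue] at h1
    have : u s = (s - α • e) + α • e := by rw [← h1]; abel
    rw [this]; abel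

/-- the fixed space dichotomy: on a nondegenerate three dimensional space carrying a
nontrivial unipotent isometry `u`, a semisimple isometry commuting with `u` fixes nothing
or everything -/
theorem fix_dichotomy [Finite F] [Module.Finite F V] (h2 : (2 : F) ≠ 0)
    {Q : QuadraticForm F V} (U : Submodule F V) (hUdim : finrank F U = 3)
    (hUnd : ∀ a ∈ U, (∀ b ∈ U, polar Q a b = 0) → a = 0)
    {u y : Module.End F V} (hu : IsIsom Q u) (hy : IsIsom Q y) (hc : Commute y u)
    (hUu : ∀ a ∈ U, u a ∈ U) (hUy : ∀ a ∈ U, y a ∈ U) {p : ℕ} (hp : p.Prime)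
    (hpq : p ∣ Nat.card F) (hup : u ^ p = 1) {m : ℕ} (hym : y ^ m = 1) (hm : (m : F) ≠ 0)
    (hne : ∃ a ∈ U, u a ≠ a) :
    (∀ a ∈ U, y a = a → a = 0) ∨ (∀ a ∈ U, y a = a) := by
  set E : Submodule F V := U ⊓ fixS y with hE
  set E' : Submodule F V := U ⊓ cmpS y m with hE'
  have hdec : ∀ a ∈ U, fixP y m a ∈ E ∧ a - fixP y m a ∈ E' := by
    intro a ha
    have h1 : fixP y m a ∈ U := fixP_mem_of_stable hUy ha
    exact ⟨Submodule.mem_inf.mpr ⟨h1, fixP_mem hym a⟩,
      Submodule.mem_inf.mpr ⟨U.sub_mem ha h1, sub_fixP_mem hym hm a⟩⟩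
  have horth : ∀ a ∈ E, ∀ b ∈ E', polar Q a b = 0 := by
    intro a ha b hb
    exact polar_fixS_cmpS hy hm (Submodule.mem_inf.mp ha).2 (Submodule.mem_inf.mp hb).2
  by_cases hE0 : E = ⊥
  · left
    intro a ha hya
    have : a ∈ E := Submodule.mem_inf.mpr ⟨ha, mem_fixS.mpr hya⟩
    rw [hE0, Submodule.mem_bot] at this
    exact this
  by_cases hE'0 : E' = ⊥
  · right
    intro a ha
    have h1 := (hdec a ha).2
    rw [hE'0, Submodule.mem_bot, sub_eq_zero] at h1
    have h3 := (Submodule.mem_inf.mp (hdec a ha).1).2
    rw [← h1] at h3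
    exact mem_fixS.mp h3
  exfalso
  have hinf : E ⊓ E' = ⊥ := by
    rw [eq_bot_iff]
    intro v hv
    rw [Submodule.mem_inf] at hv
    rw [Submodule.mem_bot]
    exact fixS_inf_cmpS hm (Submodule.mem_inf.mp hv.1).2 (Submodule.mem_inf.mp hv.2).2
  have hsup : E ⊔ E' = U := by
    apply le_antisymm
    · exact sup_le inf_le_left inf_le_left
    · intro a ha
      rw [Submodule.mem_sup]
      exact ⟨fixP y m a, (hdec a ha).1, a - fixP y m a, (hdec a ha).2, by abel⟩
  have hdims : finrank F E + finrank F E' = 3 := by
    have := Submodule.finrank_sup_add_finrank_inf_eq E E'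
    rw [hsup, hinf, finrank_bot, hUdim] at this
    omega
  have hposE : 0 < finrank F E := by
    rw [Module.finrank_pos_iff]
    exact (Submodule.nontrivial_iff_ne_bot).mpr hE0
  have hposE' : 0 < finrank F E' := by
    rw [Module.finrank_pos_iff]
    exact (Submodule.nontrivial_iff_ne_bot).mpr hE'0
  have hEstab : ∀ v ∈ E, u v ∈ E := by
    intro v hv
    rw [hE, Submodule.mem_inf] at hv ⊢
    exact ⟨hUu v hv.1, map_fixS_of_commute hc hv.2⟩
  have hE'stab : ∀ v ∈ E', u v ∈ E' := by
    intro v hv
    rw [hE', Submodule.mem_inf] at hv ⊢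
    exact ⟨hUu v hv.1, map_cmpS_of_commute hc hv.2⟩
  have hEnd : ∀ s ∈ E, (∀ s' ∈ E, polar Q s s' = 0) → s = 0 := by
    intro s hs hs'
    apply hUnd s (Submodule.mem_inf.mp hs).1
    intro b hb
    have hb1 := (hdec b hb).1
    have hb2 := (hdec b hb).2
    have : b = fixP y m b + (b - fixP y m b) := by abel
    rw [this, polar_add_right, hs' _ hb1, horth s hs _ hb2, add_zero]
  have hE'nd : ∀ s ∈ E', (∀ s' ∈ E', polar Q s s' = 0) → s = 0 := by
    intro s hs hs'
    apply hUnd s (Submodule.mem_inf.mp hs).1
    intro b hb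
    have hb1 := (hdec b hb).1
    have hb2 := (hdec b hb).2
    have : b = fixP y m b + (b - fixP y m b) := by abel
    rw [this, polar_add_right, hs' _ hb2, polar_comm, horth _ hb1 s hs, add_zero]
  have h1 := unipotent_trivial_small h2 hu hp hpq hup E hEstab hEnd (by omega)
  have h1' := unipotent_trivial_small h2 hu hp hpq hup E' hE'stab hE'nd (by omega)
  obtain ⟨a, ha, hua⟩ := hne
  apply hua
  have : a = fixP y m a + (a - fixP y m a) := by abel
  rw [this, map_add, h1 _ (hdec a ha).1, h1' _ (hdec a ha).2]

end Cfsg.Agent.Lib.Helper39.Spec
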