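import Mathlib

set_option autoImplicit false
set_option linter.unusedSimpArgs false
set_option linter.unusedVariables false
set_option linter.unnecessarySeqFocus false
set_option linter.unusedSectionVars false
set_option linter.style.haveILetI false

/-!
# Two determinant facts for isometries
-/

namespace Cfsg.Agent.Lib.Helper39.Spec

open Module Matrix

/-- an isometry of determinant one in odd dimension fixes a nonzero vector -/
theorem exists_fixed_vector_of_odd {κ : Type*} [Fintype κ] [DecidableEq κ] {F : Type*} [Field F]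
    (h2 : (2 : F) ≠ 0) (hodd : Odd (Fintype.card κ)) (G M : Matrix κ κ F) (hG : G.det ≠ 0)
    (hM : Mᵀ * G * M = G) (hdet : M.det = 1) : ∃ v : κ → F, v ≠ 0 ∧ M *ᵥ v = v := by
  have hunit : IsUnit M.det := by rw [hdet]; exact isUnit_one
  have hMM : M * M⁻¹ = 1 := Matrix.mul_nonsing_inv M hunit
  have h1 : Mᵀ * G = G * M⁻¹ := by
    calc Mᵀ * G = Mᵀ * G * (M * M⁻¹) := by rw [hMM, mul_one]
      _ = (Mᵀ * G * M) * M⁻¹ := by simp only [mul_assoc]
      _ = G * M⁻¹ := by rw [hM]
  have h3 : (M - 1) = M * (1 - M⁻¹) := by rw [mul_sub, mul_one, hMM]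
  have h4 : G * (1 - M⁻¹) = (1 - Mᵀ) * G := by rw [mul_sub, sub_mul, mul_one, one_mul, h1]
  have h5 : (1 - M⁻¹).det = (1 - Mᵀ).det := by
    have := congrArg Matrix.det h4
    rw [Matrix.det_mul, Matrix.det_mul, mul_comm] at this
    exact mul_right_cancel₀ hG this
  have h6 : (1 - Mᵀ).det = (1 - M).det := by
    rw [← Matrix.det_transpose (1 - M), Matrix.transpose_sub, Matrix.transpose_one]
  have h7 : (1 - M).det = -(M - 1).det := by
    have : (1 - M) = -(M - 1) := by abel
    rw [this, Matrix.det_neg, hodd.neg_one_pow]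
    ring
  have h8 : (M - 1).det = -(M - 1).det := by
    conv_lhs => rw [h3, Matrix.det_mul, hdet, one_mul, h5, h6, h7]
  have hd0 : (M - 1).det = 0 := by
    have : (2 : F) * (M - 1).det = 0 := by linear_combination h8
    rcases mul_eq_zero.mp this with h | h
    · exact absurd h h2
    · exact h
  obtain ⟨v, hv0, hv⟩ := Matrix.exists_mulVec_eq_zero_iff.mpr hd0
  refine ⟨v, hv0, ?_⟩
  rw [Matrix.sub_mulVec, Matrix.one_mulVec, sub_eq_zero] at hv
  exact hv

/-- the determinant of a map acting as `-1` and `1` on complementary subspaces -/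
theorem det_of_neg_pos {F V : Type*} [Field F] [AddCommGroup V] [Module F V]
    [Module.Finite F V] {U W : Submodule F V} (h : IsCompl U W) (z : Module.End F V)
    (hU : ∀ a ∈ U, z a = -a) (hW : ∀ w ∈ W, z w = w) :
    LinearMap.det z = (-1) ^ finrank F U := by
  set e := Submodule.prodEquivOfIsCompl U W h with he
  set f : Module.End F (↥U × ↥W) := LinearMap.prodMap ((-1 : F) • LinearMap.id) LinearMap.id
    with hf
  have hz : z = (e : (↥U × ↥W) →ₗ[F] V) ∘ₗ f ∘ₗ (e.symm : V →ₗ[F] (↥U × ↥W)) := by
    apply LinearMap.ext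
    intro v
    obtain ⟨p, rfl⟩ := e.surjective v
    simp only [LinearMap.coe_comp, LinearEquiv.coe_coe, Function.comp_apply,
      LinearEquiv.symm_apply_apply]
    rw [he, Submodule.coe_prodEquivOfIsCompl', Submodule.coe_prodEquivOfIsCompl', map_add,
      hU _ p.1.2, hW _ p.2.2, hf]
    simp
  rw [hz, LinearMap.det_conj, hf, LinearMap.det_prodMap, LinearMap.det_smul, LinearMap.det_id,
    LinearMap.det_id, mul_one, mul_one]

end Cfsg.Agent.Lib.Helper39.Spec
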