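import Mathlib

set_option autoImplicit false
set_option linter.unusedSimpArgs false
set_option linter.unusedVariables false
set_option linter.unnecessarySeqFocus false
set_option linter.unusedSectionVars false
set_option linter.style.haveILetI false

/-!
# The final arithmetic contradiction
-/

namespace Cfsg.Agent.Lib.Helper39.Spec

lemma two_pow_dvd_of_odd_mul {a q m Y : ℕ} (hq : Odd q) (hY : Odd Y)
    (h : 2 ^ (a + 1) ∣ q * (m * Y)) : 2 ^ (a + 1) ∣ m := by
  have c1 : Nat.Coprime (2 ^ (a + 1)) q :=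
    Nat.Coprime.pow_left _ (Nat.coprime_two_left.mpr hq)
  have c2 : Nat.Coprime (2 ^ (a + 1)) Y :=
    Nat.Coprime.pow_left _ (Nat.coprime_two_left.mpr hY)
  have h1 := c1.dvd_of_dvd_mul_left h
  exact c2.dvd_of_dvd_mul_right h1

theorem arith_contra (q P r a A B X : ℕ) (hq : Odd q) (hP : Odd P) (hP2 : 2 ≤ P)
    (hr : r.Prime) (hr1 : r ∣ P ^ 2 - 1) (hr2 : ¬ r ∣ P - 1) (hrq : ¬ r ∣ q)
    (ha : ¬ 2 ^ (a + 1) ∣ P + 1)
    (hA : A = q ^ 2 * P ^ 2 + q * P ∨ A + q * P = q ^ 2 * P ^ 2)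
    (hB : B = q ^ 2 + q ∨ B + q = q ^ 2) (hX : X + B = A) (hrX : r ∣ X)
    (h2X : 2 ^ (a + 1) ∣ X) : False := by
  have hP1 : 1 ≤ P := by omega
  have hPP : 1 ≤ P ^ 2 := Nat.one_le_pow _ _ hP1
  have hq1 : 1 ≤ q := hq.pos
  have hrP : ¬ r ∣ q * (P - 1) := by
    intro h
    rcases (Nat.Prime.dvd_mul hr).mp h with h' | h'
    · exact hrq h'
    · exact hr2 h'
  have hbig : r ∣ q ^ 2 * (P ^ 2 - 1) := dvd_mul_of_dvd_right hr1 _
  rcases hA with hA | hA <;> rcases hB with hB | hB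
  · -- (+,+)
    have hXe : X = q ^ 2 * (P ^ 2 - 1) + q * (P - 1) := by
      zify [hPP, hP1] at hA hB hX ⊢
      linear_combination hX + hA - hB
    rw [hXe] at hrX
    exact hrP ((Nat.dvd_add_right hbig).mp hrX)
  · -- (+,-)
    have hYodd : Odd (q * (P - 1) + 1) := by
      have : Even (P - 1) := by
        obtain ⟨t, ht⟩ := hP
        exact ⟨t, by omega⟩
      exact Even.add_one (this.mul_left q)
    have hXe : X = q * ((P + 1) * (q * (P - 1) + 1)) := by
      zify [hPP, hP1] at hA hB hX ⊢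
      linear_combination hX + hA - hB
    rw [hXe] at h2X
    exact ha (two_pow_dvd_of_odd_mul hq hYodd h2X)
  · -- (-,+)
    have hge : 1 ≤ q * (P - 1) := Nat.one_le_iff_ne_zero.mpr (by
      have : 1 ≤ P - 1 := by omega
      positivity)
    have hYodd : Odd (q * (P - 1) - 1) := by
      have : Even (P - 1) := by
        obtain ⟨t, ht⟩ := hP
        exact ⟨t, by omega⟩
      have hev : Even (q * (P - 1)) := this.mul_left q
      obtain ⟨s, hs⟩ := hev
      exact ⟨s - 1, by omega⟩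
    have hXe : X = q * ((P + 1) * (q * (P - 1) - 1)) := by
      zify [hPP, hP1, hge] at hA hB hX ⊢
      linear_combination hX + hA - hB
    rw [hXe] at h2X
    exact ha (two_pow_dvd_of_odd_mul hq hYodd h2X)
  · -- (-,-)
    have hXe : X + q * (P - 1) = q ^ 2 * (P ^ 2 - 1) := by
      zify [hPP, hP1] at hA hB hX ⊢
      linear_combination hX + hA - hB
    rw [← hXe] at hbig
    exact hrP ((Nat.dvd_add_right hrX).mp hbig)

end Cfsg.Agent.Lib.Helper39.Spec
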