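import Mathlib
import Cfsg.Agent.Lib.Helper39.SpecB
import Cfsg.Agent.Lib.Helper39.SpecF
import Cfsg.Agent.Lib.Helper37.SpinorNorm
import Cfsg.Agent.Lib.Helper37.OrthStruct
import Cfsg.Agent.Lib.Helper37.OmegaRank

set_option autoImplicit false
set_option linter.unusedSimpArgs false
set_option linter.unusedVariables false
set_option linter.unnecessarySeqFocus false
set_option linter.unusedSectionVars false
set_option linter.style.haveILetI false

/-!
# The linear representation of the isometry group of a coordinate quadratic form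
-/

namespace Cfsg.Agent.Lib.Helper39.Spec

open Module Matrix QuadraticMap
open Cfsg.Agent.Lib.Helper37

variable {κ : Type} [Fintype κ] [DecidableEq κ] {F : Type*} [Field F]

/-- the linear representation of the isometry group -/
noncomputable def rho (Q : (κ → F) → F) :
    ↥(Cfsg.isometryGroup F Q) →* Module.End F (κ → F) where
  toFun g := Matrix.toLin' (toMat Q g)
  map_one' := by rw [map_one]; exact Matrix.toLin'_one
  map_mul' a b := by rw [map_mul, Matrix.toLin'_mul]; rfl

lemma rho_apply (Q : (κ → F) → F) (g : ↥(Cfsg.isometryGroup F Q)) (v : κ → F) :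
    rho Q g v = ((g : Matrix.GeneralLinearGroup κ F) : Matrix κ κ F) *ᵥ v := rfl

lemma rho_injective (Q : (κ → F) → F) : Function.Injective (rho Q) := by
  intro a b h
  apply toMat_injective
  exact Matrix.toLin'.injective h

lemma rho_isom (Q : QuadraticForm F (κ → F)) (g : ↥(Cfsg.isometryGroup F ⇑Q)) :
    IsIsom Q (rho ⇑Q g) :=
  fun v => (mem_isometryGroup_iff' _ g.1).mp g.2 v

lemma det_rho (Q : (κ → F) → F) (g : ↥(Cfsg.isometryGroup F Q)) :
    LinearMap.det (rho Q g) = (toMat Q g).det :=
  LinearMap.det_toLin' _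

lemma gram_conj {G M : Matrix κ κ F}
    (h : ∀ u w, Matrix.toBilin' G (M *ᵥ u) (M *ᵥ w) = Matrix.toBilin' G u w) :
    Mᵀ * G * M = G := by
  apply Matrix.toBilin'.injective
  rw [← Matrix.toBilin'_comp]
  refine LinearMap.ext₂ (fun u w => ?_)
  rw [LinearMap.BilinForm.comp_apply, Matrix.toLin'_apply, Matrix.toLin'_apply]
  exact h _ _

/-- an element of `Ω` of an odd-dimensional nondegenerate space fixes a nonzero vector -/
theorem exists_fixed_of_mem_omega (h2 : (2 : F) ≠ 0) (Q : QuadraticForm F (κ → F))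
    (hQ : (polarBilin Q).Nondegenerate) (hodd : Odd (Fintype.card κ))
    (g : ↥(Cfsg.isometryGroup F ⇑Q)) (hg : g ∈ Cfsg.Omega F ⇑Q) :
    ∃ v : κ → F, v ≠ 0 ∧ rho ⇑Q g v = v := by
  have hGram := isGram_of_quadraticForm h2 Q
  have hGdet := det_ne_zero_of_nondegenerate Q hQ
  have hdet := det_eq_one_of_mem_omega ⇑Q ⟨g, hg⟩
  have hconj := gram_conj (fun u w => hGram.isometry_bilin (toMat ⇑Q g)
    (fun u => (mem_isometryGroup_iff' _ g.1).mp g.2 u) u w)
  exact exists_fixed_vector_of_odd h2 hodd _ (toMat ⇑Q g) hGdet hconj hdet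

lemma det_rho_of_mem_omega (Q : (κ → F) → F) (g : ↥(Cfsg.isometryGroup F Q))
    (hg : g ∈ Cfsg.Omega F Q) : LinearMap.det (rho Q g) = 1 := by
  rw [det_rho]
  exact det_eq_one_of_mem_omega Q ⟨g, hg⟩

end Cfsg.Agent.Lib.Helper39.Spec
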