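import Mathlib
import Cfsg.Agent.Lib.Helper39.SpecE
import Cfsg.Agent.Lib.Helper39.SpecF

set_option autoImplicit false
set_option linter.unusedSimpArgs false
set_option linter.unusedVariables false
set_option linter.unnecessarySeqFocus false
set_option linter.unusedSectionVars false
set_option linter.style.haveILetI false

/-!
# The structure of a 2-element commuting with `x` and with a unipotent element
-/

namespace Cfsg.Agent.Lib.Helper39.Spec

open Module QuadraticMap

variable {F V : Type*} [Field F] [AddCommGroup V] [Module F V]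

theorem core_structure [Finite F] [Module.Finite F V] (h2 : (2 : F) ≠ 0)
    {Q : QuadraticForm F V} {x : Module.End F V} {r d : ℕ} (hD : XData Q x r d)
    (hU3 : finrank F (fixS x) = 3)
    (hUnd : ∀ a ∈ fixS x, (∀ b ∈ fixS x, polar Q a b = 0) → a = 0)
    {p : ℕ} (hp : p.Prime) (hpq : p ∣ Nat.card F)
    {u t : Module.End F V} (hu : IsIsom Q u) (ht : IsIsom Q t) (hux : Commute u x)
    (htx : Commute t x) (htu : Commute t u) (hup : u ^ p = 1) (hu1 : u ≠ 1)
    {a : ℕ} (ha : 1 ≤ a) (hta : t ^ (2 ^ a) = 1) (hz1 : t ^ (2 ^ (a - 1)) ≠ 1)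
    (hdetz : LinearMap.det (t ^ (2 ^ (a - 1))) = 1) (hfixt : ∃ v, v ≠ 0 ∧ t v = v) :
    (∀ b ∈ fixS x, t b = b) ∧ (∀ v, (t ^ (2 ^ (a - 1))) v = v → v ∈ fixS x) := by
  set z : Module.End F V := t ^ (2 ^ (a - 1)) with hzdef
  have hzz : z ^ 2 = 1 := by
    rw [hzdef, ← pow_mul, ← pow_succ]
    have : a - 1 + 1 = a := by omega
    rw [this, hta]
  have hzzv : ∀ v, z (z v) = v := by
    intro v
    rw [← Module.End.mul_apply, ← pow_two, hzz]; rfl
  have hzx : Commute z x := htx.pow_left _
  have hzu : Commute z u := htu.pow_left _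
  have hz : IsIsom Q z := ht.pow _
  have hUu : ∀ b ∈ fixS x, u b ∈ fixS x := fun b hb => map_fixS_of_commute hux.symm hb
  have hUz : ∀ b ∈ fixS x, z b ∈ fixS x := fun b hb => map_fixS_of_commute hzx.symm hb
  have hUt : ∀ b ∈ fixS x, t b ∈ fixS x := fun b hb => map_fixS_of_commute htx.symm hb
  have hWz : ∀ w ∈ cmpS x r, z w ∈ cmpS x r := fun w hw => map_cmpS_of_commute hzx.symm hw
  have huW : ∀ w ∈ cmpS x r, u w = w := hD.unipotent_fix hp hpq hux hup
  have hdecU : ∀ v, fixP x r v ∈ fixS x := fun v => fixP_mem hD.pow v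
  have hdecW : ∀ v, v - fixP x r v ∈ cmpS x r := fun v => sub_fixP_mem hD.pow hD.rF v
  have hne : ∃ b ∈ fixS x, u b ≠ b := by
    by_contra hno
    push Not at hno
    apply hu1
    ext v
    have : v = fixP x r v + (v - fixP x r v) := by abel
    rw [this, map_add, hno _ (hdecU v), huW _ (hdecW v)]
    rfl
  have h2F : ((2 : ℕ) : F) ≠ 0 := by exact_mod_cast h2
  have h2aF : ((2 ^ a : ℕ) : F) ≠ 0 := by
    rw [Nat.cast_pow]
    exact pow_ne_zero _ h2F
  -- `z` is `-1` on the complement
  have hzW : ∀ w ∈ cmpS x r, z w = -w := by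
    by_cases hex : ∃ w ∈ cmpS x r, w ≠ 0 ∧ z w = w
    · exfalso
      obtain ⟨w, hw, hw0, hzw⟩ := hex
      have hzW1 : ∀ w ∈ cmpS x r, z w = w := hD.fix_of_fix hzx hw hw0 hzw
      rcases fix_dichotomy h2 (fixS x) hU3 hUnd hu hz hzu hUu hUz hp hpq hup hzz h2F hne
        with h | h
      · have hzU : ∀ b ∈ fixS x, z b = -b := by
          intro b hb
          have h1 : z (b + z b) = b + z b := by
            rw [map_add, hzzv]; abel
          have h3 := h _ ((fixS x).add_mem hb (hUz b hb)) h1
          exact (eq_neg_of_add_eq_zero_right h3)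
        have hdet := det_of_neg_pos hD.isCompl z hzU hzW1
        rw [hdetz, hU3] at hdet
        apply h2
        have : (1 : F) = -1 := by
          calc (1 : F) = (-1) ^ 3 := hdet
            _ = -1 := by norm_num
        linear_combination this
      · apply hz1
        ext v
        have : v = fixP x r v + (v - fixP x r v) := by abel
        rw [this, map_add, h _ (hdecU v), hzW1 _ (hdecW v)]
        rfl
    · push Not at hex
      intro w hw
      have h1 : z (w + z w) = w + z w := by
        rw [map_add, hzzv]; abel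
      have h3 : w + z w = 0 := by
        by_contra h0
        exact hex _ ((cmpS x r).add_mem hw (hWz w hw)) h0 h1
      exact (eq_neg_of_add_eq_zero_right h3)
  -- vectors fixed by `z` lie in the fixed space of `x`
  have hzfix : ∀ v, z v = v → v ∈ fixS x := by
    intro v hzv
    set b := fixP x r v with hb
    set w := v - b with hw
    have hbU : b ∈ fixS x := hdecU v
    have hwW : w ∈ cmpS x r := hdecW v
    have hv : v = b + w := by rw [hw]; abel
    have h1 : z b - b = w + w := by
      have := hzv
      rw [hv, map_add, hzW w hwW] at this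
      have e : z b - b = (z b + -w) - (b + w) + (w + w) := by abel
      rw [e, this]; abel
    have h3 : w + w ∈ fixS x := by
      rw [← h1]
      exact (fixS x).sub_mem (hUz b hbU) hbU
    have h4 : w + w ∈ cmpS x r := (cmpS x r).add_mem hwW hwW
    have h5 : w + w = 0 := fixS_inf_cmpS hD.rF h3 h4
    have h6 : w = 0 := by
      have : (2 : F) • w = 0 := by rw [two_smul]; exact h5
      rcases smul_eq_zero.mp this with h | h
      · exact absurd h h2
      · exact h
    rw [hv, h6, add_zero]
    exact hbU
  refine ⟨?_, hzfix⟩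
  obtain ⟨v, hv0, htv⟩ := hfixt
  have hzv : z v = v := pow_apply_of_mem_fixS (mem_fixS.mpr htv) _
  have hvU := hzfix v hzv
  rcases fix_dichotomy h2 (fixS x) hU3 hUnd hu ht htu hUu hUt hp hpq hup hta h2aF hne
    with h | h
  · exact absurd (h v hvU htv) hv0
  · exact h

end Cfsg.Agent.Lib.Helper39.Spec
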