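import Mathlib
import Cfsg.Agent.Lib.Helper39.SpecA
import Cfsg.Agent.Lib.Helper39.SpecH

set_option autoImplicit false
set_option linter.unusedSimpArgs false
set_option linter.unusedVariables false
set_option linter.unnecessarySeqFocus false
set_option linter.unusedSectionVars false
set_option linter.style.haveILetI false

/-!
# The sign computation on a level set
-/

namespace Cfsg.Agent.Lib.Helper39.Spec

open Module Matrix QuadraticMap
open Cfsg.Agent.Lib.Helper37

theorem sign_contra {κ : Type} [Fintype κ] [DecidableEq κ] {F : Type*} [Field F] [Fintype F]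
    [DecidableEq F] (Q : QuadraticForm F (κ → F)) (U : Submodule F (κ → F))
    (τ ξ : ↥(Cfsg.isometryGroup F ⇑Q)) (a r : ℕ) (ha : 1 ≤ a) (hr : r.Prime)
    (hτa : τ ^ (2 ^ a) = 1) (hξr : ξ ^ r = 1) (hτΩ : τ ∈ Cfsg.Omega F ⇑Q)
    (htU : ∀ b ∈ U, rho ⇑Q τ b = b)
    (hzfix : ∀ v, rho ⇑Q (τ ^ (2 ^ (a - 1))) v = v → v ∈ U)
    (hξU : ∀ v, rho ⇑Q ξ v = v ↔ v ∈ U) (c : F) :
    ∃ X : ℕ, X + Nat.card {b : ↥U // Q (b : κ → F) = c} = Nat.card {v : κ → F // Q v = c} ∧
      r ∣ X ∧ 2 ^ (a + 1) ∣ X := by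
  classical
  set σ := levelPerm ⇑Q c τ with hσ
  set σx := levelPerm ⇑Q c ξ with hσx
  have hσa : σ ^ (2 ^ a) = 1 := by rw [hσ, ← map_pow, hτa, map_one]
  have hσxr : σx ^ r = 1 := by rw [hσx, ← map_pow, hξr, map_one]
  have hσapply : ∀ (j : ℕ) (v : {v : κ → F // Q v = c}),
      ((σ ^ j) v).1 = rho ⇑Q (τ ^ j) v.1 := by
    intro j v
    rw [hσ, ← map_pow]; rfl
  have hσxapply : ∀ (j : ℕ) (v : {v : κ → F // Q v = c}),
      ((σx ^ j) v).1 = rho ⇑Q (ξ ^ j) v.1 := by
    intro j v
    rw [hσx, ← map_pow]; rfl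
  have hpowfix : ∀ (h : ↥(Cfsg.isometryGroup F ⇑Q)) (v : κ → F) (j : ℕ),
      rho ⇑Q h v = v → rho ⇑Q (h ^ j) v = v := by
    intro h v j hv
    rw [map_pow]
    exact pow_apply_of_mem_fixS (mem_fixS.mpr hv) j
  have hfixiff : ∀ v : {v : κ → F // Q v = c}, σ v = v ↔ v.1 ∈ U := by
    intro v
    constructor
    · intro h
      have h1 : rho ⇑Q τ v.1 = v.1 := by
        have := congrArg Subtype.val h
        exact this
      exact hzfix _ (hpowfix τ v.1 _ h1)
    · intro h
      apply Subtype.ext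
      exact htU _ h
  have h2a : 2 ≤ 2 ^ a := by
    calc 2 = 2 ^ 1 := by norm_num
      _ ≤ 2 ^ a := Nat.pow_le_pow_right (by norm_num) ha
  have hfree : ∀ v, σ v ≠ v → ∀ j, j ∣ 2 ^ a → 0 < j → j < 2 ^ a → (σ ^ j) v ≠ v := by
    intro v hv j hjd hj0 hjl hfix
    apply hv
    rw [hfixiff]
    obtain ⟨i, hia, rfl⟩ := (Nat.dvd_prime_pow Nat.prime_two).mp hjd
    have hi : i ≤ a - 1 := by
      by_contra hcon
      have : i = a := by omega
      rw [this] at hjl
      exact lt_irrefl _ hjl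
    have h1 : rho ⇑Q (τ ^ (2 ^ i)) v.1 = v.1 := by
      rw [← hσapply, hfix]
    have h3 := hpowfix (τ ^ (2 ^ i)) v.1 (2 ^ (a - 1 - i)) h1
    rw [← pow_mul, ← pow_add] at h3
    have : i + (a - 1 - i) = a - 1 := by omega
    rw [this] at h3
    exact hzfix _ h3
  obtain ⟨m, hm, hsign⟩ := sign_of_uniform σ h2a hσa hfree
  have hs1 : Equiv.Perm.sign σ = 1 := signChar_eq_one_of_mem_omega ⇑Q c τ hτΩ
  have hmeven : Even m := by
    rw [hs1] at hsign
    have h1 := (neg_one_pow_eq_one_iff_even _).mp hsign.symm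
    rcases Nat.even_mul.mp h1 with h | h
    · exact h
    · exfalso
      have hev : Even (2 ^ a) := (Nat.even_pow' (by omega)).mpr even_two
      have := (Nat.even_add_one.mp h)
      exact this hev
  refine ⟨σ.support.card, ?_, ?_, ?_⟩
  · have hsupp : σ.support = Finset.univ.filter (fun v : {v : κ → F // Q v = c} => v.1 ∉ U) := by
      ext v
      rw [Equiv.Perm.mem_support, Finset.mem_filter]
      simp only [Finset.mem_univ, true_and]
      rw [not_iff_not]
      exact hfixiff v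
    have hB : Nat.card {b : ↥U // Q (b : κ → F) = c} =
        (Finset.univ.filter (fun v : {v : κ → F // Q v = c} => v.1 ∈ U)).card := by
      rw [← Fintype.card_subtype, ← Nat.card_eq_fintype_card]
      apply Nat.card_congr
      exact
        { toFun := fun b => ⟨⟨b.1.1, b.2⟩, b.1.2⟩
          invFun := fun v => ⟨⟨v.1.1, v.2⟩, v.1.2⟩
          left_inv := fun b => rfl
          right_inv := fun v => rfl }
    rw [hB, hsupp, Nat.card_eq_fintype_card, ← Finset.card_univ, add_comm]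
    exact Finset.card_filter_add_card_filter_not (fun v : {v : κ → F // Q v = c} => v.1 ∈ U)
  · apply dvd_card_of_free σx hr.two_le hσxr σ.support
    · intro v hv
      rw [Equiv.Perm.mem_support, Ne, hfixiff] at hv ⊢
      intro hx
      apply hv
      have h1 : rho ⇑Q (ξ ^ (r - 1)) (σx v).1 = v.1 := by
        show rho ⇑Q (ξ ^ (r - 1)) (rho ⇑Q ξ v.1) = v.1
        rw [← Module.End.mul_apply, ← map_mul, ← pow_succ]
        have : r - 1 + 1 = r := by have := hr.two_le; omega
        rw [this, hξr, map_one]; rfl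
      have h3 : rho ⇑Q ξ (σx v).1 = (σx v).1 := (hξU _).mpr hx
      rw [hpowfix ξ _ (r - 1) h3] at h1
      rw [← h1]; exact hx
    · intro v hv j hjd hj0 hjl hfix
      rw [Equiv.Perm.mem_support, Ne, hfixiff] at hv
      apply hv
      rcases (Nat.dvd_prime hr).mp hjd with rfl | rfl
      · rw [pow_one] at hfix
        have h1 : rho ⇑Q ξ v.1 = v.1 := congrArg Subtype.val hfix
        exact (hξU _).mp h1
      · exact absurd hjl (lt_irrefl _)
  · obtain ⟨s, hs⟩ := hmeven
    rw [hm, hs, pow_succ]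
    exact ⟨s, by ring⟩

end Cfsg.Agent.Lib.Helper39.Spec
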