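import Mathlib
import Cfsg.Agent.Lib.Helper39.SpecD
import Cfsg.Agent.Lib.Helper39.SpecG
import Cfsg.Agent.Lib.Helper39.SpecI
import Cfsg.Agent.Lib.Helper39.SpecJ
import Cfsg.Agent.Lib.Helper39.TwoRkJ
import Cfsg.Agent.S2904

set_option autoImplicit false
set_option linter.unusedSimpArgs false
set_option linter.unusedVariables false
set_option linter.unnecessarySeqFocus false
set_option linter.unusedSectionVars false
set_option linter.style.haveILetI false
set_option maxHeartbeats 1600000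

/-!
# `Ω_{2n+1}(q)` has no element of order `p (q^(n-1) + 1)`
-/

namespace Cfsg.Agent.Lib.Helper39.Spec

open Module Matrix QuadraticMap
open Cfsg.Agent.Lib.Helper37 Cfsg.Agent.Lib.Helper43 Cfsg.Agent.Lib.Helper39.TwoRk

theorem no_element_omega {F : Type*} [Field F] [Fintype F] (hodd : Odd (Fintype.card F))
    (n : ℕ) (hn : 3 ≤ n) (p : ℕ) [Fact p.Prime] [CharP F p]
    (g : ↥(Cfsg.isometryGroup F ⇑(oddForm n F))) (hg : g ∈ Cfsg.Omega F ⇑(oddForm n F)) :
    orderOf g ≠ p * (Fintype.card F ^ (n - 1) + 1) := by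
  classical
  intro hord
  obtain ⟨k, rfl⟩ : ∃ k, n = k + 1 := ⟨n - 1, by omega⟩
  simp only [Nat.add_sub_cancel] at hord
  have hk : 2 ≤ k := by omega
  set q := Fintype.card F with hq
  have h2 : (2 : F) ≠ 0 := by
    rw [two_ne_zero_iff_odd_card]
    exact Nat.odd_iff.mp hodd
  have hnd := odd_nondeg (k + 1) F h2
  have hp : p.Prime := Fact.out
  have hpq : p ∣ q := (CharP.cast_eq_zero_iff F p q).mp (FiniteField.cast_card_eq_zero F)
  have hpq' : p ∣ Nat.card F := by rw [Nat.card_eq_fintype_card]; exact hpq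
  have hq2 : 2 ≤ q := Fintype.one_lt_card
  have hq3 : 3 ≤ q := by
    obtain ⟨s, hs⟩ := hodd
    omega
  -- the primitive prime divisor
  obtain ⟨r, hr, hrd, hprim⟩ := Cfsg.Agent.S2904.result q (2 * k) (by omega) (by omega)
    (by intro h; omega) (by intro h; omega)
  set P := q ^ k with hP
  have hP2 : 2 ≤ P := by
    calc 2 ≤ q := hq2
      _ = q ^ 1 := (pow_one q).symm
      _ ≤ q ^ k := Nat.pow_le_pow_right (by omega) (by omega)
  have hPodd : Odd P := hodd.pow
  have hPP : P ^ 2 = q ^ (2 * k) := by rw [hP, ← pow_mul, mul_comm]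
  have hr_k : ¬ r ∣ P - 1 := hprim k (by omega) (by omega)
  have hr1 : r ∣ P ^ 2 - 1 := by rw [hPP]; exact hrd
  have hrN : r ∣ P + 1 := by
    have h1 : P ^ 2 - 1 = (P + 1) * (P - 1) := by
      have key : ∀ P' : ℕ, (P' + 1) ^ 2 - 1 = (P' + 1 + 1) * (P' + 1 - 1) := by
        intro P'
        simp only [Nat.add_sub_cancel]
        have : (P' + 1) ^ 2 = (P' + 1 + 1) * P' + 1 := by ring
        omega
      have h0 : P = (P - 1) + 1 := by omega
      rw [h0]
      exact key _
    rw [h1] at hr1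
    rcases (Nat.Prime.dvd_mul hr).mp hr1 with h | h
    · exact h
    · exact absurd h hr_k
  have hrq : ¬ r ∣ q := by
    intro h
    have h1 : r ∣ q ^ (2 * k) := dvd_pow h (by omega)
    have h3 : 1 ≤ q ^ (2 * k) := Nat.one_le_pow _ _ (by omega)
    have h4 : r ∣ 1 := by
      have := Nat.dvd_sub h1 hrd
      rwa [Nat.sub_sub_self h3] at this
    exact hr.one_lt.ne' (Nat.dvd_one.mp h4)
  have hrp : r ≠ p := by
    rintro rfl
    exact hrq hpq
  have hrF : (r : F) ≠ 0 := by
    intro h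
    have h1 := (CharP.cast_eq_zero_iff F p r).mp h
    exact hrp ((Nat.prime_dvd_prime_iff_eq hp hr).mp h1).symm
  -- the 2-part of `N`
  set N := P + 1 with hN
  have hNpos : 0 < N := by omega
  obtain ⟨a, N', hN'odd, hNa⟩ := Nat.exists_eq_two_pow_mul_odd (n := N) (by omega)
  have hNeven : Even N := hPodd.add_one
  have ha : 1 ≤ a := by
    by_contra hcon
    have ha0 : a = 0 := by omega
    rw [ha0, pow_zero, one_mul] at hNa
    rw [hNa] at hNeven
    exact (Nat.not_even_iff_odd.mpr hN'odd) hNeven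
  have ha_not : ¬ 2 ^ (a + 1) ∣ P + 1 := by
    intro h
    rw [← hN, hNa, pow_succ] at h
    have h1 : 2 ∣ N' := by
      have := Nat.dvd_of_mul_dvd_mul_left (by positivity) h
      exact this
    exact (Nat.not_even_iff_odd.mpr hN'odd) (even_iff_two_dvd.mpr h1)
  have hN'pos : 0 < N' := hN'odd.pos
  obtain ⟨s, hs⟩ := hrN
  have hspos : 0 < s := by
    rcases Nat.eq_zero_or_pos s with h | h
    · rw [h, mul_zero] at hs; omega
    · exact h
  have hgM : g ^ (p * N) = 1 := by rw [← hord]; exact pow_orderOf_eq_one g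
  -- the elements
  set ξ := g ^ (p * s) with hξ
  set υ := g ^ N with hυ
  set τ := g ^ (p * N') with hτ
  have hξr : ξ ^ r = 1 := by
    rw [hξ, ← pow_mul, ← hgM]
    congr 1
    rw [hs]; ring
  have hξ1 : ξ ≠ 1 := by
    intro h
    have h1 := orderOf_dvd_of_pow_eq_one h
    rw [hord] at h1
    have h3 := Nat.le_of_dvd (Nat.mul_pos hp.pos hspos) h1
    rw [hs] at h3
    have : p * s * 2 ≤ p * (r * s) := by
      have := hr.two_le
      nlinarith [Nat.mul_pos hp.pos hspos]
    have hps : 0 < p * s := Nat.mul_pos hp.pos hspos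
    omega
  have hυp : υ ^ p = 1 := by
    rw [hυ, ← pow_mul, ← hgM]
    congr 1
    ring
  have hυ1 : υ ≠ 1 := by
    intro h
    have h1 := orderOf_dvd_of_pow_eq_one h
    rw [hord] at h1
    have h3 := Nat.le_of_dvd hNpos h1
    have := hp.two_le
    nlinarith
  have hτa : τ ^ (2 ^ a) = 1 := by
    rw [hτ, ← pow_mul, ← hgM]
    congr 1
    rw [hNa]; ring
  have hτz : τ ^ (2 ^ (a - 1)) ≠ 1 := by
    intro h
    rw [hτ, ← pow_mul] at h
    have h1 := orderOf_dvd_of_pow_eq_one h
    rw [hord, hNa] at h1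
    have hp0 : 0 < p := hp.pos
    have h3 := Nat.le_of_dvd (by positivity) h1
    have h4 : 2 ^ a = 2 * 2 ^ (a - 1) := by
      rw [← pow_succ']
      congr 1
      omega
    rw [h4] at h3
    have h5 : 0 < p * N' * 2 ^ (a - 1) := by positivity
    nlinarith
  have hξΩ : ξ ∈ Cfsg.Omega F ⇑(oddForm (k + 1) F) := Subgroup.pow_mem _ hg _
  have hτΩ : τ ∈ Cfsg.Omega F ⇑(oddForm (k + 1) F) := Subgroup.pow_mem _ hg _
  have hcomm : ∀ e e' : ℕ, Commute (rho ⇑(oddForm (k + 1) F) (g ^ e)) (rho ⇑(oddForm (k + 1) F) (g ^ e')) := by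
    intro e e'
    show rho ⇑(oddForm (k + 1) F) (g ^ e) * rho ⇑(oddForm (k + 1) F) (g ^ e') = rho ⇑(oddForm (k + 1) F) (g ^ e') * rho ⇑(oddForm (k + 1) F) (g ^ e)
    rw [← map_mul, ← map_mul, ← pow_add, ← pow_add, add_comm e e']
  have hcard : Fintype.card (II (k + 1)) = 2 * k + 3 := by
    simp [II, Fintype.card_sum]
    ring
  have hfr : finrank F (II (k + 1) → F) = 2 * k + 3 := by
    rw [Module.finrank_fintype_fun_eq_card, hcard]
  have hD : XData (oddForm (k + 1) F) (rho ⇑(oddForm (k + 1) F) ξ) r (2 * k) :=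
    { isom := rho_isom (oddForm (k + 1) F) ξ
      prime := hr
      pow := by rw [← map_pow, hξr, map_one]
      ne_one := fun h => hξ1 (rho_injective _ (h.trans (map_one _).symm))
      rF := hrF
      dpos := by omega
      dvd := fun m hm => dvd_of_primitive (by omega) hr (by omega) hrd hprim
        (by rwa [Nat.card_eq_fintype_card] at hm)
      dim := by rw [hfr]; omega }
  set U := fixS (rho ⇑(oddForm (k + 1) F) ξ) with hU
  have hU3 : finrank F U = 3 := by
    have := hD.finrank_fix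
    rw [hfr, ← hU] at this
    omega
  have hUnd : ∀ a ∈ U, (∀ b ∈ U, polar (oddForm (k + 1) F) a b = 0) → a = 0 := by
    intro a haU hab
    apply hnd.1 a
    intro v
    show polar (oddForm (k + 1) F) a v = 0
    have hv : v = fixP (rho ⇑(oddForm (k + 1) F) ξ) r v + (v - fixP (rho ⇑(oddForm (k + 1) F) ξ) r v) := by abel
    rw [hv, polar_add_right, hab _ (fixP_mem hD.pow v),
      polar_fixS_cmpS hD.isom hD.rF haU (sub_fixP_mem hD.pow hD.rF v), add_zero]
  have hcardodd : Odd (Fintype.card (II (k + 1))) := by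
    rw [hcard]
    exact ⟨k + 1, by ring⟩
  obtain ⟨htU, hzfix⟩ := core_structure h2 hD hU3 hUnd hp hpq' (u := rho ⇑(oddForm (k + 1) F) υ)
    (t := rho ⇑(oddForm (k + 1) F) τ) (rho_isom (oddForm (k + 1) F) υ) (rho_isom (oddForm (k + 1) F) τ) (hcomm _ _) (hcomm _ _) (hcomm _ _)
    (by rw [← map_pow, hυp, map_one])
    (fun h => hυ1 (rho_injective _ (h.trans (map_one _).symm))) ha
    (by rw [← map_pow, hτa, map_one])
    (by
      rw [← map_pow]
      exact fun h => hτz (rho_injective _ (h.trans (map_one _).symm)))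
    (by
      rw [← map_pow]
      exact det_rho_of_mem_omega _ _ (Subgroup.pow_mem _ hτΩ _))
    (exists_fixed_of_mem_omega h2 (oddForm (k + 1) F) hnd hcardodd τ hτΩ)
  obtain ⟨X, hXAB, hrX, h2X⟩ := sign_contra (oddForm (k + 1) F) U τ ξ a r ha hr hτa hξr hτΩ htU
    (by
      intro v hv
      rw [map_pow] at hv
      exact hzfix v hv)
    (fun v => mem_fixS.symm) 1
  have hA := card_level_odd h2 (oddForm (k + 1) F) hnd (k + 1) (by rw [hfr]; ring) 1 one_ne_zero
  have hB := card_level_odd h2 ((oddForm (k + 1) F).comp U.subtype) (nondegenerate_comp_subtype (oddForm (k + 1) F) U hUnd) 1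
    (by rw [hU3]) 1 one_ne_zero
  have hBeq : Nat.card {y : ↥U // ((oddForm (k + 1) F).comp U.subtype) y = 1} =
      Nat.card {b : ↥U // (oddForm (k + 1) F) (b : II (k + 1) → F) = 1} := rfl
  rw [hBeq] at hB
  refine arith_contra q P r a _ _ X hodd hPodd hP2 hr hr1 hr_k hrq ha_not ?_ ?_ hXAB hrX h2X
  · have e1 : q ^ (2 * (k + 1)) = q ^ 2 * P ^ 2 := by rw [hPP]; ring
    have e2 : q ^ (k + 1) = q * P := by rw [hP]; ring
    rw [← hq, e1, e2] at hA
    exact hA
  · have e1 : q ^ (2 * 1) = q ^ 2 := by norm_num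
    have e2 : q ^ 1 = q := pow_one q
    rw [← hq, e1, e2] at hB
    exact hB

end Cfsg.Agent.Lib.Helper39.Spec
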