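import Mathlib
import Cfsg.Agent.Lib.Helper39.SpecL

set_option autoImplicit false
set_option linter.unusedSimpArgs false
set_option linter.unusedVariables false
set_option linter.unnecessarySeqFocus false
set_option linter.unusedSectionVars false
set_option linter.style.haveILetI false
set_option maxHeartbeats 800000

/-!
# `PSp_{2n}(q)` has an element of order `p (q^(n-1) + 1)`
-/

namespace Cfsg.Agent.Lib.Helper39.Spec

open Module Matrix

theorem exists_PSp_element_aux {F : Type*} [Field F] [Fintype F]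
    (hodd : Odd (Fintype.card F)) (k : ℕ) (hk : 2 ≤ k) (p : ℕ) [Fact p.Prime] [CharP F p]
    (K : Type*) [Field K] [Algebra F K] [FiniteDimensional F K] [Finite K]
    (hfrK : finrank F K = 2 * k) (σ : K ≃ₐ[F] K)
    (hσ : ∀ x : K, σ x = x ^ (Fintype.card F ^ k)) :
    ∃ x : Cfsg.PSp (k + 1) F, orderOf x = p * (Fintype.card F ^ k + 1) := by
  classical
  set q := Fintype.card F with hq
  have hp : p.Prime := Fact.out
  have hqc : Nat.card F = q := Nat.card_eq_fintype_card
  have hq2 : 2 ≤ q := Fintype.one_lt_card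
  have hq3 : 3 ≤ q := by
    obtain ⟨s, hs⟩ := hodd
    omega
  have h2 : (2 : F) ≠ 0 := by
    intro h
    have h1 : ((2 : ℕ) : F) = 0 := by exact_mod_cast h
    have h3 := (CharP.cast_eq_zero_iff F p 2).mp h1
    have h4 : p = 2 := (Nat.prime_dvd_prime_iff_eq hp Nat.prime_two).mp h3
    have hpq : p ∣ q := (CharP.cast_eq_zero_iff F p q).mp (FiniteField.cast_card_eq_zero F)
    rw [h4] at hpq
    exact (Nat.not_even_iff_odd.mpr hodd) (even_iff_two_dvd.mpr hpq)
  have hpq : p ∣ q := (CharP.cast_eq_zero_iff F p q).mp (FiniteField.cast_card_eq_zero F)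
  set P := q ^ k with hP
  have hP9 : 9 ≤ P := by
    calc 9 = 3 ^ 2 := by norm_num
      _ ≤ q ^ 2 := Nat.pow_le_pow_left hq3 2
      _ ≤ q ^ k := Nat.pow_le_pow_right (by omega) hk
  have hcardK : Nat.card K = P * P := by
    rw [Module.natCard_eq_pow_finrank (K := F) (V := K), hfrK, hqc, hP, two_mul, pow_add]
  haveI : Fintype K := Fintype.ofFinite K
  have hσσ : ∀ x, σ (σ x) = x := by
    intro x
    rw [hσ, hσ, ← pow_mul, ← hcardK, Nat.card_eq_fintype_card]
    exact FiniteField.pow_card x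
  -- the element `lam`
  have hcardU : Nat.card Kˣ = (P - 1) * (P + 1) := by
    rw [Nat.card_units, hcardK]
    obtain ⟨P', hP'⟩ : ∃ P', P = P' + 1 := ⟨P - 1, by omega⟩
    rw [hP']
    simp only [Nat.add_sub_cancel]
    have : (P' + 1) * (P' + 1) = P' * (P' + 1 + 1) + 1 := by ring
    omega
  obtain ⟨g, hg⟩ := IsCyclic.exists_ofOrder_eq_natCard (α := Kˣ)
  have hlamU : orderOf (g ^ (P - 1)) = P + 1 := by
    rw [orderOf_pow_of_dvd (by omega) (by rw [hg, hcardU]; exact dvd_mul_right _ _), hg, hcardU]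
    exact Nat.mul_div_cancel_left _ (by omega)
  set lam : K := ((g ^ (P - 1) : Kˣ) : K) with hlam
  have hlamo : orderOf lam = P + 1 := by rw [hlam, orderOf_units, hlamU]
  have hlam1 : lam * σ lam = 1 := by
    rw [hσ, ← pow_succ', ← hlamo]
    exact pow_orderOf_eq_one lam
  set γ : K := lam - σ lam with hγ
  have hγσ : σ γ = -γ := by
    rw [hγ, map_sub, hσσ]; ring
  have hγ0 : γ ≠ 0 := by
    intro h
    have h1 : lam = σ lam := sub_eq_zero.mp h
    rw [← h1] at hlam1
    have h3 : lam ^ 2 = 1 := by rw [pow_two]; exact hlam1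
    have h4 := orderOf_dvd_of_pow_eq_one h3
    rw [hlamo] at h4
    have := Nat.le_of_dvd (by norm_num) h4
    omega
  have hcop : Nat.Coprime p (P + 1) := by
    rw [Nat.Prime.coprime_iff_not_dvd hp]
    intro h
    have h1 : p ∣ P := dvd_pow hpq (by omega)
    have h3 : p ∣ 1 := (Nat.dvd_add_right h1).mp h
    exact hp.one_lt.ne' (Nat.dvd_one.mp h3)
  refine exists_PSp_of_isometry (omV σ γ) (omV_alt σ γ h2 hσσ hγσ)
    (omV_nondeg σ γ h2 hσσ hγσ hγ0) (k + 1) (by omega) ?_ (TV lam) (omV_inv σ γ lam hlam1)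
    (p * (P + 1)) ?_ (TV_pow_ne_neg_one lam h2)
  · rw [Module.finrank_prod, Module.finrank_prod, Module.finrank_self, hfrK]
    ring
  · intro j
    rw [TV_pow_eq_one_iff lam p j, ← orderOf_dvd_iff_pow_eq_one, hlamo]
    constructor
    · rintro ⟨h1, h3⟩
      exact Nat.Coprime.mul_dvd_of_dvd_of_dvd hcop h3 h1
    · intro h
      exact ⟨dvd_trans (dvd_mul_left _ _) h, dvd_trans (dvd_mul_right _ _) h⟩

theorem exists_PSp_element {F : Type*} [Field F] [Fintype F] (hodd : Odd (Fintype.card F))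
    (n : ℕ) (hn : 3 ≤ n) (p : ℕ) [Fact p.Prime] [CharP F p] :
    ∃ x : Cfsg.PSp n F, orderOf x = p * (Fintype.card F ^ (n - 1) + 1) := by
  obtain ⟨k, rfl⟩ : ∃ k, n = k + 1 := ⟨n - 1, by omega⟩
  simp only [Nat.add_sub_cancel]
  have hk : 2 ≤ k := by omega
  haveI : NeZero (2 * k) := ⟨by omega⟩
  refine exists_PSp_element_aux hodd k hk p (FiniteField.Extension F p (2 * k))
    (FiniteField.finrank_extension F p (2 * k)) ((FiniteField.Extension.frob F p (2 * k)) ^ k) ?_
  intro x
  rw [FiniteField.Extension.frob_iterate_apply, Nat.card_eq_fintype_card]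

end Cfsg.Agent.Lib.Helper39.Spec
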