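import Cfsg.Agent.Lib.Helper39.StnBru_HX

/-! # Stn hive (S2401), sub-hive BINJ (helper73), leaf BINJ-BSPLIT (helper39): `B = U · H`. -/

set_option autoImplicit false

namespace Cfsg.Agent.Lib.Helper41.Stn

open Matrix

variable {K : Type*} [Field K] {n : ℕ}

/-- BINJ-BSPLIT. -/
theorem BB_split (hn : 3 ≤ n) {b : St K n} (hb : b ∈ BB K n) :
    ∃ u ∈ UU K n, ∃ h ∈ HH K n, b = u * h := BB_eq hn hb

end Cfsg.Agent.Lib.Helper41.Stn
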