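import Cfsg.Agent.Lib.Helper41.StnDefs
import Cfsg.Agent.Lib.Helper39.SLPerfect

/-! # Stn hive (S2401), leaf STN-SURJ: a standard homomorphism `St_n(K) → SL_n(K)` is surjective
(helper39).  The range contains every transvection, and transvections generate `SL_n(K)`. -/

set_option autoImplicit false

namespace Cfsg.Agent.Lib.Helper41.Stn

open Matrix

variable {K : Type*} [Field K] {n : ℕ}

/-- STN-SURJ. -/
theorem std_surjective (φ : St K n →* SpecialLinearGroup (Fin n) K) (hφ : IsStd φ) :
    Function.Surjective φ := by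
  rw [← MonoidHom.range_eq_top]
  apply Cfsg.Agent.Lib.Helper39.SLPerfect.eq_top_of_transvection_mem
  intro i j hij c
  refine ⟨PresentedGroup.of (⟨(i, j), hij⟩, c), ?_⟩
  apply Subtype.ext
  rw [hφ, Matrix.SpecialLinearGroup.transvection_coe]
  rfl

end Cfsg.Agent.Lib.Helper41.Stn
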