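import Mathlib
import Cfsg.Prelude.Def_Sz

set_option autoImplicit false
set_option linter.unusedSimpArgs false
set_option linter.unusedTactic false
set_option linter.unreachableTactic false

namespace Cfsg.Agent.Lib.Helper39.SzLaw

open Matrix Polynomial

section mats
variable {R : Type*} [CommRing R]

/-- lower root element. -/
def Lm (c d : R) : Matrix (Fin 4) (Fin 4) R := !![1,0,0,0; 0,1,0,0; c,0,1,0; d,c,0,1]
/-- upper root element. -/
def Um (c d : R) : Matrix (Fin 4) (Fin 4) R := !![1,0,c,d; 0,1,0,c; 0,0,1,0; 0,0,0,1]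

theorem Lm_mul (c d c' d' : R) : Lm c d * Lm c' d' = Lm (c + c') (d + d') := by
  ext i j
  fin_cases i <;> fin_cases j <;> simp [Lm, Matrix.mul_apply, Fin.sum_univ_four]

theorem Um_mul (c d c' d' : R) : Um c d * Um c' d' = Um (c + c') (d + d') := by
  ext i j
  fin_cases i <;> fin_cases j <;> simp [Um, Matrix.mul_apply, Fin.sum_univ_four] <;> try ring

theorem Lm_zero : Lm (0 : R) 0 = 1 := by
  ext i j
  fin_cases i <;> fin_cases j <;> simp [Lm]

theorem Um_zero : Um (0 : R) 0 = 1 := by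
  ext i j
  fin_cases i <;> fin_cases j <;> simp [Um]

theorem Lm_sq (h2 : (2 : R) = 0) (c d : R) : Lm c d * Lm c d = 1 := by
  rw [Lm_mul, ← two_mul, ← two_mul, h2, zero_mul, zero_mul, Lm_zero]

theorem Um_sq (h2 : (2 : R) = 0) (c d : R) : Um c d * Um c d = 1 := by
  rw [Um_mul, ← two_mul, ← two_mul, h2, zero_mul, zero_mul, Um_zero]

/-- as units. -/
def LG (h2 : (2 : R) = 0) (c d : R) : GL (Fin 4) R := ⟨Lm c d, Lm c d, Lm_sq h2 c d, Lm_sq h2 c d⟩
/-- as units. -/
def UG (h2 : (2 : R) = 0) (c d : R) : GL (Fin 4) R := ⟨Um c d, Um c d, Um_sq h2 c d, Um_sq h2 c d⟩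

theorem LG_coe (h2 : (2 : R) = 0) (c d : R) : ((LG h2 c d : GL (Fin 4) R) : Matrix (Fin 4) (Fin 4) R) = Lm c d := rfl
theorem UG_coe (h2 : (2 : R) = 0) (c d : R) : ((UG h2 c d : GL (Fin 4) R) : Matrix (Fin 4) (Fin 4) R) = Um c d := rfl
theorem LG_inv (h2 : (2 : R) = 0) (c d : R) : (LG h2 c d)⁻¹ = LG h2 c d := rfl
theorem UG_inv (h2 : (2 : R) = 0) (c d : R) : (UG h2 c d)⁻¹ = UG h2 c d := rfl

theorem Lm_map {S : Type*} [CommRing S] (φ : R →+* S) (c d : R) :
    (Lm c d).map φ = Lm (φ c) (φ d) := by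
  ext i j
  fin_cases i <;> fin_cases j <;> simp [Lm]

theorem Um_map {S : Type*} [CommRing S] (φ : R →+* S) (c d : R) :
    (Um c d).map φ = Um (φ c) (φ d) := by
  ext i j
  fin_cases i <;> fin_cases j <;> simp [Um]

end mats

section sz
variable {F : Type*} [Field F]

theorem LG_mem_Sp4 (h2 : (2 : F) = 0) (c d : F) : LG h2 c d ∈ Cfsg.Lie.Sp4 F := by
  intro u v
  show Cfsg.Lie.altForm4 (Lm c d *ᵥ u) (Lm c d *ᵥ v) = _
  simp only [Cfsg.Lie.altForm4, Lm, Matrix.mulVec, dotProduct, Fin.sum_univ_four, Matrix.of_apply,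
    Matrix.cons_val', Matrix.cons_val_zero, Matrix.cons_val_one, Matrix.cons_val_fin_one]
  simp
  linear_combination (d * u 0 * v 0 + c * u 0 * v 1 + c * u 1 * v 0) * h2

theorem UG_mem_Sp4 (h2 : (2 : F) = 0) (c d : F) : UG h2 c d ∈ Cfsg.Lie.Sp4 F := by
  intro u v
  show Cfsg.Lie.altForm4 (Um c d *ᵥ u) (Um c d *ᵥ v) = _
  simp only [Cfsg.Lie.altForm4, Um, Matrix.mulVec, dotProduct, Fin.sum_univ_four, Matrix.of_apply,
    Matrix.cons_val', Matrix.cons_val_zero, Matrix.cons_val_one, Matrix.cons_val_fin_one]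
  simp
  linear_combination (d * u 3 * v 3 + c * u 2 * v 3 + c * u 3 * v 2) * h2

theorem star4_Lm (h2 : (2 : F) = 0) (e : ℕ) (he : e ≠ 0) (c : F) (hc : (c ^ e) ^ e = c ^ 2) :
    Cfsg.Lie.star4 (Lm c (c ^ e)) = (Lm c (c ^ e)).map (fun x => x ^ e) := by
  have hneg : ∀ x : F, -x = x := fun x => by linear_combination (-x) * h2
  ext p r
  fin_cases p <;> fin_cases r <;>
    simp [Cfsg.Lie.star4, Cfsg.Lie.pairOf, Lm, he, hc, sq, hneg]

theorem star4_Um (h2 : (2 : F) = 0) (e : ℕ) (he : e ≠ 0) (c : F) (hc : (c ^ e) ^ e = c ^ 2) :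
    Cfsg.Lie.star4 (Um c (c ^ e)) = (Um c (c ^ e)).map (fun x => x ^ e) := by
  have hneg : ∀ x : F, -x = x := fun x => by linear_combination (-x) * h2
  ext p r
  fin_cases p <;> fin_cases r <;>
    simp [Cfsg.Lie.star4, Cfsg.Lie.pairOf, Um, he, hc, sq, hneg]

end sz


section iota
variable {S : Type*} [CommRing S]

/-- corner embedding of 2x2 matrices at positions 0,3. -/
def iotaM (A : Matrix (Fin 2) (Fin 2) S) : Matrix (Fin 4) (Fin 4) S :=
  !![A 0 0, 0, 0, A 0 1; 0, 1, 0, 0; 0, 0, 1, 0; A 1 0, 0, 0, A 1 1]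

theorem iotaM_mul (A B : Matrix (Fin 2) (Fin 2) S) : iotaM (A * B) = iotaM A * iotaM B := by
  ext i j
  fin_cases i <;> fin_cases j <;>
    simp [iotaM, Matrix.mul_apply, Fin.sum_univ_four, Fin.sum_univ_two]

theorem iotaM_one : iotaM (1 : Matrix (Fin 2) (Fin 2) S) = 1 := by
  ext i j
  fin_cases i <;> fin_cases j <;> simp [iotaM]

/-- corner embedding as a monoid hom from SL₂. -/
def iotaHom : SpecialLinearGroup (Fin 2) S →* Matrix (Fin 4) (Fin 4) S where
  toFun A := iotaM (A : Matrix (Fin 2) (Fin 2) S)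
  map_one' := by rw [Matrix.SpecialLinearGroup.coe_one, iotaM_one]
  map_mul' A B := by rw [Matrix.SpecialLinearGroup.coe_mul, iotaM_mul]

/-- corner embedding into GL₄. -/
def iotaGL : SpecialLinearGroup (Fin 2) S →* GL (Fin 4) S := iotaHom.toHomUnits

theorem iotaGL_coe (A : SpecialLinearGroup (Fin 2) S) :
    ((iotaGL A : GL (Fin 4) S) : Matrix (Fin 4) (Fin 4) S) = iotaM (A : Matrix (Fin 2) (Fin 2) S) := rfl

theorem iotaGL_eq_one {A : SpecialLinearGroup (Fin 2) S} (h : iotaGL A = 1) :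
    (A : Matrix (Fin 2) (Fin 2) S) 0 1 = 0 ∧ (A : Matrix (Fin 2) (Fin 2) S) 1 0 = 0 ∧
      (A : Matrix (Fin 2) (Fin 2) S) 0 0 - (A : Matrix (Fin 2) (Fin 2) S) 1 1 = 0 := by
  have h1 : iotaM (A : Matrix (Fin 2) (Fin 2) S) = 1 := by
    rw [← iotaGL_coe, h]; rfl
  have e03 := congrFun (congrFun h1 0) 3
  have e30 := congrFun (congrFun h1 3) 0
  have e00 := congrFun (congrFun h1 0) 0
  have e33 := congrFun (congrFun h1 3) 3
  simp [iotaM] at e03 e30 e00 e33
  refine ⟨e03, e30, ?_⟩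
  rw [e00, e33, sub_self]

end iota


section degs
variable {F : Type*} [Field F]

/-- bidegree bound. -/
def B2 (d : ℕ) (P : F[X][X]) : Prop := P.natDegree ≤ d ∧ ∀ n, (P.coeff n).natDegree ≤ d

theorem B2.mono {d d' : ℕ} {P : F[X][X]} (h : B2 d P) (hd : d ≤ d') : B2 d' P :=
  ⟨h.1.trans hd, fun n => (h.2 n).trans hd⟩

theorem B2_zero (d : ℕ) : B2 d (0 : F[X][X]) := ⟨by simp, fun n => by simp⟩

theorem B2_C {d : ℕ} (p : F[X]) (hp : p.natDegree ≤ d) : B2 d (C p : F[X][X]) := by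
  refine ⟨by simp, fun n => ?_⟩
  rw [Polynomial.coeff_C]
  split_ifs
  · exact hp
  · simp

theorem B2_one (d : ℕ) : B2 d (1 : F[X][X]) := by
  have := B2_C (d := d) (1 : F[X]) (by simp)
  simpa using this

theorem B2_X_pow {d k : ℕ} (hk : k ≤ d) : B2 d (X ^ k : F[X][X]) := by
  refine ⟨(Polynomial.natDegree_X_pow_le k).trans hk, fun n => ?_⟩
  rw [Polynomial.coeff_X_pow]
  split_ifs <;> simp

theorem B2.add {d : ℕ} {P Q : F[X][X]} (hP : B2 d P) (hQ : B2 d Q) : B2 d (P + Q) := by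
  refine ⟨(Polynomial.natDegree_add_le P Q).trans (max_le hP.1 hQ.1), fun n => ?_⟩
  rw [Polynomial.coeff_add]
  exact (Polynomial.natDegree_add_le _ _).trans (max_le (hP.2 n) (hQ.2 n))

theorem B2.sum {ι : Type*} {d : ℕ} (s : Finset ι) (f : ι → F[X][X]) (h : ∀ k ∈ s, B2 d (f k)) :
    B2 d (∑ k ∈ s, f k) := by
  classical
  induction s using Finset.induction_on with
  | empty => simpa using B2_zero d
  | insert a s ha ih =>
    rw [Finset.sum_insert ha]
    exact (h a (Finset.mem_insert_self a s)).add (ih fun k hk => h k (Finset.mem_insert_of_mem hk))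

theorem B2.mul {d d' : ℕ} {P Q : F[X][X]} (hP : B2 d P) (hQ : B2 d' Q) : B2 (d + d') (P * Q) := by
  refine ⟨Polynomial.natDegree_mul_le_of_le hP.1 hQ.1, fun n => ?_⟩
  rw [Polynomial.coeff_mul]
  apply Polynomial.natDegree_sum_le_of_forall_le
  intro x _
  exact Polynomial.natDegree_mul_le_of_le (hP.2 _) (hQ.2 _)

theorem B2.sub_one {d : ℕ} {P : F[X][X]} (hP : B2 d P) : B2 d (P - 1) := by
  refine ⟨(Polynomial.natDegree_sub_le P 1).trans (max_le hP.1 (by simp)), fun n => ?_⟩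
  rw [Polynomial.coeff_sub]
  refine (Polynomial.natDegree_sub_le _ _).trans (max_le (hP.2 n) ?_)
  exact (B2_one d).2 n

/-- matrix bidegree bound. -/
def MB (d : ℕ) (M : Matrix (Fin 4) (Fin 4) F[X][X]) : Prop := ∀ i j, B2 d (M i j)

theorem MB_one : MB 0 (1 : Matrix (Fin 4) (Fin 4) F[X][X]) := by
  intro i j
  rw [Matrix.one_apply]
  split_ifs
  · exact B2_one 0
  · exact B2_zero 0

theorem MB.mul {d d' : ℕ} {M N : Matrix (Fin 4) (Fin 4) F[X][X]} (hM : MB d M) (hN : MB d' N) :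
    MB (d + d') (M * N) := by
  intro i j
  rw [Matrix.mul_apply]
  exact B2.sum _ _ (fun k _ => (hM i k).mul (hN k j))

theorem MB.mono {d d' : ℕ} {M : Matrix (Fin 4) (Fin 4) F[X][X]} (h : MB d M) (hd : d ≤ d') : MB d' M :=
  fun i j => (h i j).mono hd

end degs


section nonvan
variable {F : Type*} [Field F]

theorem exists_ev_ne_zero [Fintype F] (P : F[X][X]) (hP : P ≠ 0) (D e : ℕ) (hB : B2 D P)
    (hDe : D < e) (hcard : D + e * D < Fintype.card F) :
    ∃ a : F, (P.map (evalRingHom a)).eval (a ^ e) ≠ 0 := by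
  set Q : F[X] := P.eval (X ^ e : F[X]) with hQ
  have hQeval : ∀ a : F, Q.eval a = (P.map (evalRingHom a)).eval (a ^ e) := by
    intro a
    rw [Polynomial.eval_map, hQ]
    have := Polynomial.hom_eval₂ P (RingHom.id F[X]) (evalRingHom a) (X ^ e : F[X])
    simpa using this
  have hQsum : Q = ∑ j ∈ Finset.range (P.natDegree + 1), P.coeff j * (X ^ (e * j) : F[X]) := by
    rw [hQ, Polynomial.eval_eq_sum_range]
    apply Finset.sum_congr rfl
    intro j _
    rw [← pow_mul]
  have hQdeg : Q.natDegree ≤ D + e * D := by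
    rw [hQsum]
    apply Polynomial.natDegree_sum_le_of_forall_le
    intro j hj
    have hjD : j ≤ D := by
      have := Finset.mem_range.mp hj
      have := hB.1
      omega
    refine (Polynomial.natDegree_mul_le_of_le (hB.2 j) (Polynomial.natDegree_X_pow_le _)).trans ?_
    have : e * j ≤ e * D := Nat.mul_le_mul_left e hjD
    omega
  have hQne : Q ≠ 0 := by
    set J := P.natDegree with hJ
    have hlead : P.coeff J ≠ 0 := by
      rw [hJ]
      exact Polynomial.leadingCoeff_ne_zero.mpr hP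
    set d₀ := (P.coeff J).natDegree with hd₀
    intro h0
    have hc : Q.coeff (e * J + d₀) = (P.coeff J).leadingCoeff := by
      rw [hQsum, Polynomial.finsetSum_coeff, Finset.sum_eq_single J]
      · rw [Polynomial.coeff_mul_X_pow', if_pos (Nat.le_add_right _ _), Nat.add_sub_cancel_left]
        rfl
      · intro j hj hjJ
        have hjlt : j < J := by
          have := Finset.mem_range.mp hj
          omega
        rw [Polynomial.coeff_mul_X_pow']
        split_ifs with hle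
        · apply Polynomial.coeff_eq_zero_of_natDegree_lt
          have h1 := hB.2 j
          have h2 : e * (j + 1) ≤ e * J := Nat.mul_le_mul_left e hjlt
          have h3 : e * (j + 1) = e * j + e := by ring
          omega
        · rfl
      · intro h
        exact absurd (Finset.mem_range.mpr (Nat.lt_succ_self J)) h
    rw [h0, Polynomial.coeff_zero] at hc
    exact Polynomial.leadingCoeff_ne_zero.mpr hlead hc.symm
  obtain ⟨a, ha⟩ := Polynomial.exists_eval_ne_zero_of_natDegree_lt_card Q hQne (by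
    rw [Cardinal.mk_fintype]
    exact_mod_cast (by omega : Q.natDegree < Fintype.card F))
  exact ⟨a, by rw [← hQeval]; exact ha⟩

end nonvan


end Cfsg.Agent.Lib.Helper39.SzLaw
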