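import Cfsg.Agent.Lib.Helper3.PermChar
import Cfsg.Agent.Lib.Helper38.SL2Irr
import Cfsg.Agent.Lib.Helper3.OddOrder

/-!
# The irreducible character of degree `n - 1` of a doubly transitive group
-/

set_option autoImplicit false

namespace Cfsg.Agent.Lib.Helper39

open Cfsg
open scoped ComplexConjugate

section TwoTransChar

variable {G : Type*} [Group G] [Fintype G] {Ω : Type*} [Fintype Ω] [DecidableEq Ω] [MulAction G Ω]

omit [Fintype G] in
/-- Fixed points on the product. -/
theorem card_fixedBy_prod (g : G) :
    Fintype.card (MulAction.fixedBy (Ω × Ω) g) = Fintype.card (MulAction.fixedBy Ω g) ^ 2 := by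
  classical
  rw [sq, ← Fintype.card_prod]
  apply Fintype.card_congr
  refine
    { toFun := fun x => (⟨x.1.1, ?_⟩, ⟨x.1.2, ?_⟩)
      invFun := fun y => ⟨(y.1.1, y.2.1), ?_⟩
      left_inv := fun x => by ext <;> rfl
      right_inv := fun y => by ext <;> rfl }
  · have := x.2
    rw [MulAction.mem_fixedBy] at this ⊢
    exact congrArg Prod.fst this
  · have := x.2
    rw [MulAction.mem_fixedBy] at this ⊢
    exact congrArg Prod.snd this
  · rw [MulAction.mem_fixedBy]
    have h1 := y.1.2
    have h2 := y.2.2
    rw [MulAction.mem_fixedBy] at h1 h2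
    exact Prod.ext h1 h2

omit [Fintype G] [DecidableEq Ω] in
theorem transitive_of_two_transitive
    (h2 : ∀ a b c d : Ω, a ≠ b → c ≠ d → ∃ g : G, g • a = c ∧ g • b = d)
    (hcard : 2 ≤ Fintype.card Ω) (a c : Ω) : ∃ g : G, g • a = c := by
  have hnt : Nontrivial Ω := Fintype.one_lt_card_iff_nontrivial.mp hcard
  obtain ⟨b, hb⟩ := exists_ne a
  obtain ⟨d, hd⟩ := exists_ne c
  obtain ⟨g, hg, _⟩ := h2 a b c d hb.symm hd.symm
  exact ⟨g, hg⟩

omit [Fintype G] in
/-- A doubly transitive group has exactly two orbits on ordered pairs. -/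
theorem card_orbits_prod_of_two_transitive
    (h2 : ∀ a b c d : Ω, a ≠ b → c ≠ d → ∃ g : G, g • a = c ∧ g • b = d)
    (hcard : 2 ≤ Fintype.card Ω) [Fintype (Quotient (MulAction.orbitRel G (Ω × Ω)))] :
    Fintype.card (Quotient (MulAction.orbitRel G (Ω × Ω))) = 2 := by
  classical
  have hnt : Nontrivial Ω := Fintype.one_lt_card_iff_nontrivial.mp hcard
  let f : Quotient (MulAction.orbitRel G (Ω × Ω)) → Bool :=
    Quotient.lift (fun x : Ω × Ω => decide (x.1 = x.2)) (by
      rintro x y hxy
      obtain ⟨g, rfl⟩ := hxy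
      simp only [Prod.smul_fst, Prod.smul_snd, decide_eq_decide]
      constructor
      · intro h; exact MulAction.injective g h
      · intro h; rw [h])
  have hbij : Function.Bijective f := by
    constructor
    · intro x y
      induction x using Quotient.inductionOn with | _ x => ?_
      induction y using Quotient.inductionOn with | _ y => ?_
      intro hxy
      simp only [f, Quotient.lift_mk, decide_eq_decide] at hxy
      apply Quotient.sound
      obtain ⟨a, b⟩ := x
      obtain ⟨c, d⟩ := y
      simp only at hxy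
      by_cases hab : a = b
      · have hcd : c = d := hxy.mp hab
        subst hab; subst hcd
        obtain ⟨g, hg⟩ := transitive_of_two_transitive h2 hcard c a
        exact ⟨g, by simp [hg]⟩
      · have hcd : c ≠ d := fun h => hab (hxy.mpr h)
        obtain ⟨g, hg1, hg2⟩ := h2 c d a b hcd hab
        exact ⟨g, by simp [hg1, hg2]⟩
    · intro b
      obtain ⟨x, y, hxy⟩ := exists_pair_ne Ω
      cases b with
      | true => exact ⟨Quotient.mk _ (x, x), by simp [f]⟩
      | false => exact ⟨Quotient.mk _ (x, y), by simp [f, hxy]⟩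
  rw [Fintype.card_congr (Equiv.ofBijective f hbij), Fintype.card_bool]

omit [Fintype G] [Fintype Ω] [DecidableEq Ω] in
theorem card_orbits_of_transitive (htr : ∀ a c : Ω, ∃ g : G, g • a = c) [Nonempty Ω]
    [Fintype (Quotient (MulAction.orbitRel G Ω))] :
    Fintype.card (Quotient (MulAction.orbitRel G Ω)) = 1 := by
  rw [Fintype.card_eq_one_iff]
  obtain ⟨a⟩ := ‹Nonempty Ω›
  refine ⟨Quotient.mk _ a, fun y => ?_⟩
  induction y using Quotient.inductionOn with | _ y => ?_
  apply Quotient.sound
  obtain ⟨g, hg⟩ := htr a y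
  exact ⟨g, hg⟩

/-- The permutation character. -/
noncomputable def permCharFun (G : Type*) [Group G] (Ω : Type*) [Fintype Ω] [DecidableEq Ω]
    [MulAction G Ω] : G → ℂ :=
  fun g => (Fintype.card (MulAction.fixedBy Ω g) : ℂ)

omit [Fintype G] in
theorem isCharacter_permCharFun : IsCharacter G (permCharFun G Ω) := by
  have := Cfsg.Agent.Lib.Helper3.isCharacter_character (Representation.ofMulAction ℂ G Ω)
  convert this using 1
  ext g
  rw [Cfsg.Agent.Lib.Helper3.ofMulAction_character]
  rfl

theorem sum_permCharFun_eq [Fintype (Quotient (MulAction.orbitRel G Ω))] :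
    ∑ g : G, permCharFun G Ω g =
      (Fintype.card (Quotient (MulAction.orbitRel G Ω)) : ℂ) * (Fintype.card G : ℂ) := by
  classical
  have := MulAction.sum_card_fixedBy_eq_card_orbits_mul_card_group G Ω
  unfold permCharFun
  rw [← Nat.cast_sum, ← Nat.cast_mul]
  exact_mod_cast this

/-- A doubly transitive group of degree `n` has an irreducible character of degree `n - 1`. -/
theorem exists_irr_of_two_transitive
    (h2 : ∀ a b c d : Ω, a ≠ b → c ≠ d → ∃ g : G, g • a = c ∧ g • b = d)
    (hcard : 2 ≤ Fintype.card Ω) :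
    ∃ χ : G → ℂ, IsIrrCharacter G χ ∧ χ 1 = (Fintype.card Ω : ℂ) - 1 := by
  classical
  have hnt : Nontrivial Ω := Fintype.one_lt_card_iff_nontrivial.mp hcard
  have hG : (Nat.card G : ℂ) ≠ 0 := by exact_mod_cast Nat.card_pos.ne'
  have hGc : (Nat.card G : ℂ) = (Fintype.card G : ℂ) := by rw [Nat.card_eq_fintype_card]
  have htr := transitive_of_two_transitive h2 hcard
  have hR : IsCharacter G (permCharFun G Ω) := isCharacter_permCharFun
  have hnorm : classInner (permCharFun G Ω) (permCharFun G Ω) = 2 := by
    unfold classInner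
    have h1 : ∀ g : G, permCharFun G Ω g * conj (permCharFun G Ω g) = permCharFun G (Ω × Ω) g := by
      intro g
      unfold permCharFun
      rw [Complex.conj_natCast, card_fixedBy_prod]
      push_cast; ring
    rw [Finset.sum_congr rfl (fun g _ => h1 g), sum_permCharFun_eq,
      card_orbits_prod_of_two_transitive h2 hcard, hGc]
    field_simp
    norm_num
  have hRL : classInner (permCharFun G Ω) (fun _ => (1 : ℂ)) = 1 := by
    unfold classInner
    simp only [map_one, mul_one]
    rw [sum_permCharFun_eq, card_orbits_of_transitive htr, hGc]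
    field_simp
    norm_num
  have hirr := Cfsg.Agent.Lib.Helper38.isIrr_sub_of_norm_two hR hnorm
    (Cfsg.Agent.Lib.Helper3.isIrrCharacter_one) hRL
  refine ⟨_, hirr, ?_⟩
  simp only [Pi.sub_apply, permCharFun]
  congr 2
  rw [← Fintype.card_congr (Equiv.Set.univ Ω)]
  apply Fintype.card_congr
  exact Equiv.setCongr (by ext x; simp)

end TwoTransChar

end Cfsg.Agent.Lib.Helper39
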